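import Cfsg.Agent.SporadicRecognition.CosetCertHyp
import Cfsg.Agent.SporadicRecognition.CosetCert
import Cfsg.Agent.ONType.TupRow
import Mathlib
import Cfsg.Agent.SporadicB.ON45Core
import Cfsg.Agent.S0242
import Cfsg.Agent.S0265
import Cfsg.Agent.S0813
import Cfsg.Agent.ONType.RepOrb
import Cfsg.Agent.ONType.SecondTuple
set_option linter.all false

-- part: ONType/TupCover
section
/-!
Consequences of a coset certificate: explicit words for the transversal, covering by live nodes, walks in the table.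
-/

set_option autoImplicit false

namespace Cfsg.Agent.ONType.TupCover

open Cfsg.Agent.SporadicRecognition.CosetCert Cfsg.Agent.SporadicRecognition.CosetCertHyp

/-- `f x` holds for all `x < k`. -/
noncomputable def allBelow (f : ℕ → Bool) (k : ℕ) : Bool :=
  Nat.rec (motive := fun _ => Bool) true (fun x ih => bif f x then ih else false) k

theorem allBelow_spec {f : ℕ → Bool} {k : ℕ} (h : allBelow f k = true) : ∀ x < k, f x = true := by
  induction k with
  | zero => intro x hx; omega
  | succ k ih =>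
    change (bif f k then allBelow f k else false) = true at h
    intro x hx
    cases hb : f k with
    | false => rw [hb] at h; simp at h
    | true =>
      rw [hb, cond_true] at h
      rcases Nat.lt_succ_iff_lt_or_eq.mp hx with h1 | rfl
      · exact ih h x h1
      · exact hb

variable (C : Cert)

/-- word of node `i`, followed by `acc` -/
noncomputable def tword (fuel : ℕ) : ℕ → List ℕ → List ℕ :=
  Nat.rec (motive := fun _ => ℕ → List ℕ → List ℕ) (fun _ acc => acc)
    (fun _ ih i acc =>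
      bif Nat.blt i C.N && Nat.blt 0 (Nat.mod (look C i (yOf C i)) C.B) &&
          Nat.blt (Nat.sub (Nat.mod (look C i (yOf C i)) C.B) 1) i && Nat.blt (yOf C i) C.k then
        ih (Nat.sub (Nat.mod (look C i (yOf C i)) C.B) 1) (C.inv (yOf C i) :: acc)
      else acc) fuel

theorem blt_iff {a b : ℕ} : Nat.blt a b = true ↔ a < b := by
  unfold Nat.blt
  rw [Nat.ble_eq]
  exact Iff.rfl

variable {G : Type*} [Group G] (H : Subgroup G) (g : ℕ → G)

theorem ev_tword (fuel : ℕ) : ∀ i acc, i ≤ fuel → ev g (tword C fuel i acc) = trans C g i * ev g acc := by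
  induction fuel with
  | zero =>
    intro i acc hi
    have hi0 : i = 0 := by omega
    subst hi0
    have h1 : trans C g 0 = 1 := (trans_isTrans C g).1
    rw [h1, one_mul]
    rfl
  | succ n ih =>
    intro i acc hi
    have hstep : tword C (n + 1) i acc =
      bif Nat.blt i C.N && Nat.blt 0 (Nat.mod (look C i (yOf C i)) C.B) &&
          Nat.blt (Nat.sub (Nat.mod (look C i (yOf C i)) C.B) 1) i && Nat.blt (yOf C i) C.k then
        tword C n (Nat.sub (Nat.mod (look C i (yOf C i)) C.B) 1) (C.inv (yOf C i) :: acc)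
      else acc := rfl
    rw [hstep]
    cases hb : (Nat.blt i C.N && Nat.blt 0 (Nat.mod (look C i (yOf C i)) C.B) &&
          Nat.blt (Nat.sub (Nat.mod (look C i (yOf C i)) C.B) 1) i && Nat.blt (yOf C i) C.k) with
    | false =>
      rw [cond_false]
      have h1 : trans C g i = 1 := by
        rw [Cfsg.Agent.SporadicRecognition.CosetCert.trans, dif_neg]
        rintro ⟨h1, h2, h3, h4⟩
        rw [blt_iff.2 h1, blt_iff.2 h2, blt_iff.2 (show Nat.sub (Nat.mod (look C i (yOf C i)) C.B) 1 < i from h3),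
          blt_iff.2 h4] at hb
        simp at hb
      rw [h1, one_mul]
    | true =>
      rw [cond_true]
      rw [Bool.and_eq_true, Bool.and_eq_true, Bool.and_eq_true] at hb
      obtain ⟨⟨⟨h1, h2⟩, h3⟩, h4⟩ := hb
      have h1 := blt_iff.1 h1
      have h2 := blt_iff.1 h2
      have h3 : Nat.mod (look C i (yOf C i)) C.B - 1 < i := blt_iff.1 h3
      have h4 := blt_iff.1 h4
      have h5 : trans C g i = trans C g (Nat.mod (look C i (yOf C i)) C.B - 1) * g (C.inv (yOf C i)) := by
        conv_lhs => rw [Cfsg.Agent.SporadicRecognition.CosetCert.trans, dif_pos ⟨h1, h2, h3, h4⟩]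
      rw [h5, mul_assoc, ← ev_cons]
      exact ih _ _ (by show Nat.mod (look C i (yOf C i)) C.B - 1 ≤ n; omega)

/-- all letters of the words of the nodes are smaller than `k` -/
theorem tword_lt (hinv : ∀ x, x < C.k → C.inv x < C.k) (fuel : ℕ) : ∀ i acc, (∀ y ∈ acc, y < C.k) →
    ∀ y ∈ tword C fuel i acc, y < C.k := by
  induction fuel with
  | zero => intro i acc h; exact h
  | succ n ih =>
    intro i acc h
    have hstep : tword C (n + 1) i acc =
      bif Nat.blt i C.N && Nat.blt 0 (Nat.mod (look C i (yOf C i)) C.B) &&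
          Nat.blt (Nat.sub (Nat.mod (look C i (yOf C i)) C.B) 1) i && Nat.blt (yOf C i) C.k then
        tword C n (Nat.sub (Nat.mod (look C i (yOf C i)) C.B) 1) (C.inv (yOf C i) :: acc)
      else acc := rfl
    rw [hstep]
    cases hb : (Nat.blt i C.N && Nat.blt 0 (Nat.mod (look C i (yOf C i)) C.B) &&
          Nat.blt (Nat.sub (Nat.mod (look C i (yOf C i)) C.B) 1) i && Nat.blt (yOf C i) C.k) with
    | false => rw [cond_false]; exact h
    | true =>
      rw [cond_true]
      rw [Bool.and_eq_true] at hb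
      have h4 := blt_iff.1 hb.2
      apply ih
      intro y hy
      rcases List.mem_cons.1 hy with rfl | hy
      · exact hinv _ h4
      · exact h y hy

/-- word of node `i` -/
noncomputable def nword (i : ℕ) : List ℕ := tword C C.N i []

theorem ev_nword {i : ℕ} (hi : i < C.N) : ev g (nword C i) = trans C g i := by
  have := ev_tword C g C.N i [] hi.le
  rw [ev_nil, mul_one] at this
  exact this

/-- the node is not live -/
noncomputable def dead (i : ℕ) : Bool := not (Nat.beq (look C i C.k) C.mask)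

/-- Check a property of all live nodes. -/
noncomputable def allLive (Q : ℕ → List ℕ → Bool) : Bool :=
  allBelow (fun i => bif dead C i then true else Q i (nword C i)) C.N

variable {C H g} in
theorem covered (hyp : Hyp C H g) {n : ℕ} (hP : Part C 0 C.N n) :
    (∀ a ∈ Subgroup.closure (g '' {x | x < C.k}), ∃ l < C.N, dead C l = false ∧ Rel H a (ev g (nword C l))) ∧
    (∀ w : List ℕ, (∀ x ∈ w, x ≤ C.k) → ∀ i j, i < C.N → walkS C (C.mask - 1) w i = j + 1 →
      j < C.N ∧ Rel H (ev g (nword C i) * ev g w) (ev g (nword C j))) := by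
  obtain ⟨S, hS, hP⟩ := hP
  have ht := trans_isTrans C g
  have hall : ∀ i x, i < C.N → x ≤ C.k → look C i x = C.mask ∨ ∃ q, main C i x q = true := by
    intro i x hi hx
    rcases hP i (Nat.zero_le _) hi with ⟨h, _⟩ | h
    · rcases hx.lt_or_eq with h1 | h1
      · exact Or.inr (h.2 x h1)
      · subst h1; exact Or.inl h.1
    · rcases hx.lt_or_eq with h1 | h1
      · exact h.2.2 x h1
      · subst h1; exact Or.inr h.2.1
  have hgood := good_of_checks C H g (trans C g) hyp ht hall
  have hlive : ∀ i, i < C.N → ∃ l < C.N, LiveOK C l ∧ Rel H (trans C g i) (trans C g l) := by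
    intro i
    induction i using Nat.strong_induction_on with
    | _ i ih =>
      intro hi
      rcases hP i (Nat.zero_le _) hi with ⟨h, h'⟩ | h
      · exact ⟨i, hi, h, Rel.refl _⟩
      · obtain ⟨h1, ⟨q, hq⟩, h3⟩ := h
        have hg := hgood i C.k hi le_rfl ⟨q, hq⟩
        have hq' := hq
        unfold main at hq'
        obtain ⟨j, hj, _⟩ := rec_false_eq hq'
        obtain ⟨h4, h5⟩ := hg j hj
        rw [hyp.hk, mul_one] at h5
        obtain ⟨l, hlN, hl2, hl3⟩ := ih j (by omega) h4
        exact ⟨l, hlN, hl2, h5.trans hl3⟩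
  have hmul : ∀ l, l < C.N → LiveOK C l → ∀ x, x < C.k → ∃ l' < C.N, LiveOK C l' ∧
      Rel H (trans C g l * g x) (trans C g l') := by
    intro l hl hl2 x hx
    obtain ⟨q, hq⟩ := hl2.2 x hx
    have hg := hgood l x hl hx.le ⟨q, hq⟩
    have hq' := hq
    unfold main at hq'
    obtain ⟨j, hj, _⟩ := rec_false_eq hq'
    obtain ⟨h4, h5⟩ := hg j hj
    obtain ⟨l', h7, h8, h9⟩ := hlive j h4
    exact ⟨l', h7, h8, h5.trans h9⟩
  refine ⟨?_, ?_⟩
  · intro a ha
    have hmain : ∃ l < C.N, LiveOK C l ∧ Rel H a (trans C g l) := by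
      refine Subgroup.closure_induction_right (p := fun a _ => ∃ l < C.N, LiveOK C l ∧ Rel H a (trans C g l))
        ?_ ?_ ?_ ha
      · obtain ⟨l, h2, h3, h4⟩ := hlive 0 hyp.hN
        rw [ht.1] at h4
        exact ⟨l, h2, h3, h4⟩
      · rintro a _ b ⟨x, hx, rfl⟩ ⟨l, h2, h3, h4⟩
        obtain ⟨l', h6, h7, h8⟩ := hmul l h2 h3 x hx
        exact ⟨l', h6, h7, (h4.mul _).trans h8⟩
      · rintro a _ b ⟨x, hx, rfl⟩ ⟨l, h2, h3, h4⟩
        obtain ⟨hx1, hx2⟩ := hyp.hinv x hx
        have : (g x)⁻¹ = g (C.inv x) := (eq_inv_of_mul_eq_one_right hx2).symm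
        rw [this]
        obtain ⟨l', h6, h7, h8⟩ := hmul l h2 h3 _ hx1
        exact ⟨l', h6, h7, (h4.mul _).trans h8⟩
    obtain ⟨l, h1, h2, h4⟩ := hmain
    refine ⟨l, h1, ?_, ?_⟩
    · unfold dead
      rw [h2.1, Nat.beq_refl]
      rfl
    · rw [ev_nword C g h1]
      exact h4
  · intro w hw i j hi hj
    have hb : ∀ i x, i < C.N → x ≤ C.k → look C i x ≤ C.mask - 1 → Good C H g (trans C g) i x := by
      intro i x hi hx hle j' hj'
      have hmain : ∃ q, main C i x q = true := by
        rcases hall i x hi hx with h | h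
        · -- then mask = 0
          have h0 : C.mask = 0 := by omega
          rw [h0] at h
          rw [h] at hj'
          have h00 : Nat.mod 0 C.B = 0 := Nat.zero_mod _
          omega
        · exact h
      exact hgood i x hi hx hmain j' hj'
    obtain ⟨h1, h2⟩ := walkS_sound C H g (trans C g) hyp.hk (C.mask - 1) hb w hw i j hi hj
    refine ⟨h1, ?_⟩
    rw [ev_nword C g hi, ev_nword C g h1]
    exact h2

variable {C H g} in
/-- Every element of the group is, modulo `H`, a node word satisfying the check. -/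
theorem exists_word (hyp : Hyp C H g) {n : ℕ} (hP : Part C 0 C.N n) {Q : ℕ → List ℕ → Bool}
    (hQ : allLive C Q = true) {a : G} (ha : a ∈ Subgroup.closure (g '' {x | x < C.k})) :
    ∃ l < C.N, Q l (nword C l) = true ∧ Rel H a (ev g (nword C l)) := by
  obtain ⟨l, h1, h2, h3⟩ := (covered hyp hP).1 a ha
  refine ⟨l, h1, ?_, h3⟩
  have := allBelow_spec hQ l h1
  rw [h2] at this
  exact this

end Cfsg.Agent.ONType.TupCover
end

-- part: ONType/TupTData
section
set_option autoImplicit false
set_option maxRecDepth 100000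

namespace Cfsg.Agent.ONType.TupTData

open Cfsg.Agent.SporadicRecognition.CosetCert

noncomputable def t0 : Tr := (.N 176 (.N 80 (.N 32 (.N 16 (.L 0xfffff0c02e0bc2d03e050b82c1fffff0b42b0b02a0ac2903a050fffff03204038050a8280a4273fffff0a02609c2502e04098241fffff094230902208c2102a040fffff07e1e02603088200841f2fffff0220307c1e0781d0741c3fffff0701b06c1a0681901e030fffff05a1601a0206418060172fffff016020581605415050143fffff04c130481201202044111fffff0360e00e010401003c0f2fffff00a010340e0300d02c0c3fffff0280b0240a00601020091fffff01c080180701406002010fffff0100500c040080300402f) (.L 0xfffff1785a174590860b170581fffff16c5716856164550820b0fffff07a0a0800b1605415c533fffff15852154510760a150501fffff14c4f1484e1444d0720a0fffff1364a06e091404c13c4b2fffff06a091344a1304912c483fffff128471244606609120451fffff11c441184306208114421fffff1104110c401083f05e080fffff0560705c081043e1003d3fffff0fc3c0f83b052070f43a1fffff0f0390ec380e83704e070fffff0da3404a060e4360e0352fffff046060d8340d4330d0323fffff0cc310c8300c42f042060)) (.N 48 (.L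 0xfffff0c6112427f23e7e2367d3fffff22a7c2267b0c2112027a13ec25fffff0be101fe791fa7823ea260ba10ffffffffff1f6773fffff1f2761ee751ea740b610040c221dc710b20f1e6731e272240e230ae0f1da711d670fffff3fffff1d26f1ce6e0aa0f1ca6d120e1effffffffff0a60e1c66c121816fffff1c26bfffff0a20e0fffff1b46809e0d1be6a1ba692fffff09a0d1b2681ae671aa663fffff1a6651a26419e630960d0fffff192600920c19a62196612fffff08e0c1906018c5f1885e3fffff1845d1805c08a0c17c5b1) (.N 64 (.L 0x4343910a17fffff2fca1fffff3fffff2f8a02f49f106172ec9e121c34ffffffffff10216fffff121a0efffffffffffffff0fe160fffff2d89b0fa152e49d2dc9c2fffff0f6152d69b2d29a2ce993fffff2ca982c6972c2960f2150fffff2b4930ee142be952ba942fffff0ea142b2932aa922a6913fffff2a29029e8f0e6142968e1fffff2928d28a8c0e2132868b1fffff2828a27e8927a880de130fffff0d6120dc1321e1624e7f3fffff2768726e860d21226a851fffff266842628325e820ce120fffff2447f0ca1125a81252802) (.L 0xfffff39ac0396bf390be14e1d0fffff37abb14a1c388bd380bc2fffff1461c378bb374ba370b93fffff36cb8368b71421c364b61fffff360b535cb413e1b358b31fffff354b22fea1350b113a1b0fffff1321a1381b2047a20a283fffff34cb0348af12e1a344ae1fffff340ad2ac9233cac12a1a0fffff2127a12619336ab332aa2fffff122192227a32ca9328a83fffff2307b22c7c2487f11e19044c3b312a511a18320a7318a6244e3c11618310a5ffffffffff3fffff30ca4308a3304a211218043638fffff10e17ffffffffff2))))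 (.N 128 (.N 96 (.L 0x4140f18e22fffffffffffffff3fffff2387d4c08018a22506d51fffff502d44fed3418c8186220fffff47a29182214fad24f6d12fffff17e21404294f2d04eecf3fffff4249c31aa63e2ce17a2104a6513dccd17620ffffffffff24a852172203dacdfffff28c8c3fffff3d6cc3d2cb3ccca16e2004904efffff16a1f3c4c93bcc8248e4f1661ffffffffffffffff3fffff3b8c73b4c61621f3b0c512100effffffffff15e1efffff120c4afffffffffffffff15a1e0fffff3a4c21561d3acc43a8c32fffff1521d3a2c239ec1270863) (.N 112 (.L 0x4166225480fffff1d42afffff14025cfffff1d029ffffffffff24785d1cc29fffffffffffffff3fffff4c6992de9c4ca7c1c82902084afffffffffffffff1c4280216081c027fffffffffffffff3fffff53ae2536e11bc262e69d1fffff2ee9e46a8e532e01b82603e8101b0251b626ffffffffff3fffff52edf52ade1ac253f8a71fffff32ea943e9e526dd1a8250fffff4762c1a424522dc51edb2fffff1a0244002c51ada516d93fffff408bd3c6c919c244427c1fffff3ceca4a07d19823512d81fffff50ed750ad6382bc194230) (.L 0xfffff4c25f2567042058250310fffff240302463124a4524c343fffff54ae453ee323c3048a551fffff4a26223a5f41e50234300fffff22e452282f4c86d444632fffff2242f232454725b470743fffff22046214472064a2002f03f267ffffffffff1fc2e322a713f0662988effffffffff1f82e03ee69338abffffffffff1f42d03fe64fffff1f02cffffffffff2474651ec2cfffffffffffffff3fffff47ec938abd1e82c3e4ce14125f392befffff1e42bfffff14105effffffffff3bec81e02b040a0c1d82a1de2bffffffffff3)))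 (.N 144 (.L 0xfffff4483f2a0375def25d6f12fffff29c374603f5cef05c6ef3fffff46c6929a783fc4629437048486fffff29036ffffffffff24b68728836ffffffffff28e593fffff5a0eb5b0ec4ce4b2843604e483fffff28035ffffffffff24e08427c35fffffffffffffff3fffff558e5568e6278354d2491fffff4ba36274335c2ee4b8522fffff26c33486365beed272513fffff5aeec59eeb4d648268330fffff4e23526432592ea58ae92fffff260324e63557ee8576e73fffff566e6556e525c324da4c1fffff540e354ce4258314824d1) (.N 160 (.L 0x45e8ffffff2f63fffffffffff2446902f23ffffffffffffffff3fffff440662f0693fa472ea3f0fffff638fe634ff2e23c2e86a1fffff2e06d4225b63f002da3c0454182d43bfffffffffffffff3fffff632ff62efe2d03b458671fffff4565b4c46d61efd2cc3b0fffff45c422c83a616fc60efb2fffff2c43a46842606fa5fef93fffff594ea584e82c03a430471fffff43c4b43a482bc395faf81fffff5f6f75f2f658ce92b8390432172b0382b639ffffffffff3fffff2ae484644b2a8385eef51fffff5eaf45e6f3578e72a4380) (.L 0xfffff4ea4c34a4964f02544e32fffff346494de4c64701550e434d088fffffffffffffff34249042aa1fffff33e48ffffffffff24d485ffffffffff33a48fffff13f49effffffffff33447fffff142e96fffffffffffffff3304703f68effffffffff32a46fffff1426a2fffffffffffffff3264604529affffffffff31e443247914509931c5bffffffffff31644044a1530e4331444ffffffffff346697fffff30a42ffffffffff245a9830642fffffffffffffff3fffff580e8598ea30242428461438953004b42c482fa40fffff1)))))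 (.N 256 (.N 208 (.N 192 (.L 0xfffff4b05839850600f95d0f02fffff394504b458610fb5e0f2341a7dffffffffff38e50fffff1fffff38c74406633864f677061fffff6670366d043846137e4f048c1f3764e37c4fffffffffff3fffff49a63498743724e65f051fffff65b04657034965e36e4e0fffff49e5536a4d5c8ef618fc2fffff3664d4be555d8f1608fa348081fffffffffffffff3624d04dcaffffff35e4cffffffffff24e8b035a4cfffffffffffffff34d882fffffffffffffff3564c046292fffff3524bffffffffff24cc8bffffffffff34e4bfffff1) (.L 0xfffff6ab0e69f0d4f05c5b4ec1fffff6970c68f0b570e64ec5c046e7bffffffffff3e05b3e67414a41d3d8593de5affffffffff34b2bffffff3d458ffffffffff24aec03d058fffffffffffffff341c80ffffffffff3ca58fffff1494ba3c86347c743c257fffff1492b9ffffffffff3c0723ba5704bcb7fffff3b655ffffffffff249cb83b255fffffffffffffff34887efffffffffffffff3ae550fffff68b0a687093aa526510214ac8cfffffffffffffff3a65204aa203a051fffffffffffffff3fffff6830867f0739c51649011)) (.N 224 (.L 0xfffff6f9177011853069620fd1fffff62a6a52c6770b1a6b10e2fffff528676266a707196a50d3fffff6ff186f71752466641001fffff6e9156f1165206556ce61fffff6bd106d1125a8eb51c650fffff6ef166e7155186455ce51fffff6cd126c1105b8ec514640fffff6d9136e11466105510620670d3fffff50c61ffffffffff2668d450861fffffffffffffff3fffff6df146d713679065045f0fffff66a615005e6cb126c7112fffff4fc5e672616bb106b70f3fffff6a10d6ad0e4f85d5a4eb1fffff6910b6990c560e54f45d0)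 (.N 240 (.L 0xfffff79f2678f255cc8f5d2c01fffff78324777235cab85c48f0fffff75921769225c0877211c1fffff76722757215bc867111b1fffff5b28b5ac855bad95b6d02fffff59c855a28b5aadb5a6d23fffff59aa2596965908474f201fffff72f1d7351e58e94588840fffff58696582a257c8373f1f1fffff7331e7271d57a91574830fffff56a8856482572cf56edc2fffff5548255a88562d155eda3fffff54e815487e71f1c552af2fffff53c7e5428170f1b546b03624defffff5386affffffffff2628df5346afffffffffffffff3) (.L 0xfffff8192f8253063c9c642dd1fffff6369d6309a837327a9262fffff62c9a63a9d82f31795253fffff823308172f61c99622e01fffff7f92d8092e6149861ab81fffff7b9287d12a612bf60c980fffff8072e7f72d6049760ab71fffff7cd2a7bd28602c05fc970fffff7d92b7e92c7411f5f8950748f3fffff5f494ffffffffff2744f45f094fffffffffffffff3fffff7e72c7d72b751205ec920fffff746945e8917cb2a7c3292fffff5e49174a947b7287af273fffff791257a1265dc905e2bf1fffff77923785245dab75d4900)))) (.N 304 (.N 272 (.L 0xfffff6c2d96bedb6b8d3851341fffff8833a87f3976d226b4d30fffff6aed26a8d07291d6b2df2fffff69cd06a2d27391e6a6de3fffff69ad1694cf86d3775d212fffff68ccf692d18793877122371907fffff688c4ffffffffff271508684c4fffffffffffffff3fffff716c4680c17b12777d232fffff67cc171ac47c529789243fffff869378753867ad5674bd0fffff8733886737662d865cba0fffff66ebc658b97992585f362fffff654b9664bc7a526857353fffff8413384d3464cb0652c41fffff84b3483f33644af64ac11)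 (.N 288 (.L 0xfffff8d1458dd46752f574cea0fffff8db468cf45742f873ce80fffff736e9730e773b0d8c7442fffff724e772ce972b0e8b7433fffff8a1418ad4271ce4722ee1fffff8ab4289f4170ce3712ed1fffff89b408973f708df7e12b1fffff8933e88f3d704de7ed2c1fffff702e06fcdd859357fd2d2fffff6f4dd6fae0861368112e3fffff6f2dc6ecda7dd2b81d2f2fffff6e4da6eadc7f12c829303fffff6e2d86dcd58012d831312fffff6d4d56dad880d2e839323fffff6d2db6ced96c8d4845331fffff88b3c8873b761216c4d40) (.L 0xfffff82700820fd8b94382b152fffff814fd81b008c94481f163fffff80afc804fa80f13813172fffff7f4fa7fafc803147ff183fffff7eaf87e4f57f3157ef192fffff7d4f57daf87df167e31a3fffff7d2fb7cef97c8f48a5411fffff8f747903487c7077c0f40fffff7bef97bafb7b4f38b1421fffff901488e7477b3087acf30fffff7a2f279cf07a7037aaff2fffff78cf0792f279b04796fe3fffff786f1780ef8d54578b072fffff774ef77af18e14677f083fffff76aee764ed76f0f7730b2fffff754ed75aee7631175f0c3))) (.N 320 (.L 0x8bd3dfffff8991affffffffff28c13e8951afffffffffffffff3fffff8c31a891198ed4793f4d2fffff88d198bf1a9074894b4e38f139fffff88911fffff8e94728fb3a88511fffffffffffffff3fffff8fd118810f9174990b482fffff87d0f8f5119234a8f3473fffff877068710587b0b92b4b2fffff8650586b0686f0c9334c3fffff93b4d9474e8631785d040fffff9454e9394d85b18855030fffff84f02849019314c853102fffff83d01843029294b847123fffff9134991f4a834ff83b131fffff91d4a9114982cfe833141)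 (.N 336 (.L 0xfffff993559a3569574295d451fffff9a1569915594f41955461fffff949369433597f5394d3d2fffff9373593d3698b549413e3fffff97b539875492f34935371fffff98554979539273392d381fffff9213291b3192539967512fffff90f31915329193a973523fffff905298ff279093d90d3a2fffff8e5278f9298ef3e8eb3c3fffff8df208d91f8e3239534f2fffff8cd1f8d3208d72495b503fffff9635196f528cb2f8c51e0fffff96d52961518bb308b51d0fffff8af1c8a91b959508b3282fffff89d1b8a31c9514f8a72a3) (.L 0xfffff9a55099f4f9ad519a9532fffff98f4f9955099d52999543fffff9894c9834b98d4d997552fffff9774b97d4c9814e9a7563fffff9714496b4399b55975492fffff95f43965449ab569694a3))))))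
noncomputable def tree : Tr := t0

noncomputable def wtree : WT := (.N 27 (.N 13 (.N 6 (.N 3 (.N 1 (.L 3 [2,2,2]) (.N 2 (.L 1 [3,3,0,1,0,1,0,1,0]) (.L 4 [1,0,1,0,1,0,2,2,1,0]))) (.N 4 (.L 4 [1,0,1,0,1,0,1,3,3,0]) (.N 5 (.L 3 [2,1,0,1,0,1,0,1,0]) (.L 4 [2,1,0,1,0,1,0,1,0,2])))) (.N 9 (.N 7 (.L 4 [3,3,0,1,0,1,0,1,0,1]) (.N 8 (.L 2 [0,1,0,1,0,1,0,1,3]) (.L 3 [1,3,0,3,0,1,0,2,0]))) (.N 11 (.N 10 (.L 1 [0,1,0,1,0,1,0,2,2]) (.L 0 [2,2,1,0,1,0,1,0,1])) (.N 12 (.L 0 [3,1,3,1,0,1,2,1,2]) (.L 3 [0,2,1,3,0,3,0,1,0]))))) (.N 20 (.N 16 (.N 14 (.L 2 [0,3,0,1,0,2,0,2,1]) (.N 15 (.L 2 [0,1,0,2,0,2,1,3,0]) (.L 0 [1,2,1,2,0,3,1,3,1]))) (.N 18 (.N 17 (.L 3 [0,3,1,3,1,0,1,2,1]) (.L 1 [0,2,0,2,1,3,0,3,0])) (.N 19 (.L 2 [1,0,1,2,1,2,0,3,1]) (.L 3 [1,2,0,3,1,3,1,0,1])))) (.N 23 (.N 21 (.L 0 [1,0,1,3,3,0,1,0,1]) (.N 22 (.L 4 [0,1,0,1,0,1,0,1,3,3]) (.L 4 [3,0,1,0,1,0,1,0,1,3]))) (.N 25 (.N 24 (.L 2 [3,0,1,0,1,0,1,0,1]) (.L 4 [1,0,1,0,1,0,1,0,2,2])) (.N 26 (.L 4 [1,3,1,0,1,2,1,2,0,3]) (.L 4 [1,0,1,3,3,0,1,0,1,0]))))))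 (.N 41 (.N 34 (.N 30 (.N 28 (.L 0 [1,0,2,0,2,1,3,0,3]) (.N 29 (.L 4 [2,0,2,1,3,0,3,0,1,0]) (.L 4 [2,2,2,2]))) (.N 32 (.N 31 (.L 2 [3,3,3]) (.L 4 [1,3,3,0,1,0,1,0,1,0])) (.N 33 (.L 4 [2,1,3,0,3,0,1,0,2,0]) (.L 4 [1,0,1,0,1,3,3,0,1,0])))) (.N 37 (.N 35 (.L 1 [3,0,3,0,1,0,2,0,2]) (.N 36 (.L 4 [0,1,2,1,2,0,3,1,3,1]) (.L 4 [0,1,0,2,2,1,0,1,0,1]))) (.N 39 (.N 38 (.L 4 [0,2,2,1,0,1,0,1,0,1]) (.L 3 [1,0,1,0,1,0,1,0,2])) (.N 40 (.L 0 [2,1,3,0,3,0,1,0,2]) (.L 0 [3,0,1,0,2,0,2,1,3]))))) (.N 48 (.N 44 (.N 42 (.L 0 [1,2,0,1,2,1,0,3,1,0,2]) (.N 43 (.L 1 [0,3,1,0,2,0,1,2,0,1,2]) (.L 0 [1,2,0,1,3,1,0,3,1,0,3]))) (.N 46 (.N 45 (.L 1 [0,3,0,1,2,0,1,3,1,0,3]) (.L 0 [1,0,1,0,1,0,1,3,3])) (.N 47 (.L 1 [2,0,1,3,1,0,3,1,0,3,0]) (.L 0 [3,0,1,2,0,1,3,1,0,3,1])))) (.N 51 (.N 49 (.L 1 [0,1,0,1,0,1,3,3,0]) (.N 50 (.L 0 [1,0,1,0,1,0,2,2,1]) (.L 4 [3,3,3,3]))) (.N 53 (.N 52 (.L 2 [1,3,1,0,1,2,1,2,0]) (.L 1 [3,1,0,1,2,1,2,0,3])) (.N 54 (.L 1 [0,1,2,1,2,0,3,1,3]) (.L 4 [0,3,1,3,1,0,1,2,1,2])))))))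

noncomputable def stree : ST := (.L 4 [] [])

noncomputable def C : Cert where
  data := tree
  lm := 15
  rb := 104
  fb := 20
  mask := 1048575
  B := 512
  k := 4
  N := 342
  inv := fun x => bif Nat.beq x 0 then 0 else bif Nat.beq x 1 then 1 else bif Nat.beq x 2 then 3 else bif Nat.beq x 3 then 2 else x
  words := wtree
  subs := stree

def rels : List (List Nat) := [[2,2,2,2], [0,1,0,1,0,1,0,1,3,3], [0,1,2,1,2,0,3,1,3,1], [1,0,2,0,2,1,3,0,3,0], [3,0,1,2,0,1,3,1,0,3,1,0]]

def subw : List (List Nat) := []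

end Cfsg.Agent.ONType.TupTData
end

-- part: ONType/TupTChk0
section
set_option autoImplicit false
set_option maxRecDepth 100000

namespace Cfsg.Agent.ONType.TupTChk0

open Cfsg.Agent.SporadicRecognition.CosetCert Cfsg.Agent.ONType.TupTData

theorem c0 : Part C 0 64 55 := runChunk_sound C 55 (by decide +kernel : runChunk C 13 8191 0x80000040000010008002002000000000200000000000000010018004004002000800800400200100080040010018004004002000800800400200100080020020010008002002001000800400100080087a8002001000800200200100080040010018004004002000800800400200100080020020000004004002000800000000200100080040010018004004002000800800400000100080020020000000002002000000800000100180040040020008008004002001000800400100180040040020008008004002001000800200200100080020020010008004001000800800400200100080020020010008004001001800400400200080080040020010008002002001000800200200100080040010008008004002001000800200200100080040010018004004002000800800400200100080040010010008002002001000800400100080080040020010008002002001000800400100180040040020008008004002001000800400100180040040020008008004002001000800200200180040040020008008004002001000800200200100080040010010008004002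 25 33554431 0x920b1380000000000cc4c150700000000000000000000000000000000000000000000000000000000000000000000000000000000000000019c1e6ece0f27000000059c09c2ce06e000000522483839a8dc000000000000000000000000000000000000000000000000000000000000000000000000000000000000000000000000000000000000000000000000000000000000000000000000000000000000000000000000000000000000000000000000000000000000000000000000000000000000000000000 0 64 = 56)

theorem c1 : Part C 64 128 40 := runChunk_sound C 40 (by decide +kernel : runChunk C 13 8191 0x1000992800100080080040a30010008002c4400100097a8001001000444600200080099a8cd4001800800400100000000020f30618000000001081800000000100000040000000008000000000001048c002143099800000200000000002260010008008000000041800000200000000040000000008000000000001038c0040010000000000001000800000000000100080020f306185cc0040010008008000000001000800278408185cc0040013a200040040020009d50004002001048c0021b309985cc0020020010008226001000800000000004185cc0020020010008e2800136a00040040020009b90004002001038c004001001800400000000080080000b3001000800400100000040040020008000000000001000800200200000000020000000000000001001800400400200080080040b300100080040010018004004002000800800400200100080020020010008002002001034c00400100080080266b40010008002002001034c0040010218004004002000800800400200181cc1260010018004004002000800800000000100080040010000004000000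 25 33554431 0x482d17241683928b01c0000a60001d6000000108a85c84540e00018622148b80005980003ac00000000001300001580000000000000000ab000000000000000000000000000000000000000000002a10938000000000000000000000000000000071984e38cc370000005d078dee83c4e000000270e8b80000d80000000000000000000000000000000000000000000000000000000000000000000000000000000000000001452138a290dc000001241637 64 64 = 41)

theorem c2 : Part C 128 192 35 := runChunk_sound C 35 (by decide +kernel : runChunk C 13 8191 0x65200045c62f3000b2d06062f3000000000200000105cc002002001078c0040010008008000000642321000200200100098e800162a00045c60a3000b1905c60a300000000000010000004000000000800000000000000000000010000004000000000000000200059a0004004273000ad10004283000000000000100000040000000000000002000000000000200000000000000010000000002000000000000000100000000020020010000000001000800800000000000040000000008000000000081834c002a740012b1000200000000040000000008000000000001000954800100181cc00200200105cc00400100080000000000010008002a6452a078c0040015120004004002000a8d0004002081834c002a945022810002002001000822600100080080000000012c5000200200100082260014f20004004002000a7d0004002001000950800100000040000000008000000002131878d60800100000040000000008000000000131878c002ad445a00040048b4000a31000400200100095680014420004004002000a2500040020010008002b24131878c002b54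 25 33554431 0x178e46e000000000000000061800000000000000000000000000003ec0001660000b1800069800032c000236000000000000000048600019600012b341d8dc00034cee653700001b1d10c5ce8860e0001560000b30000158000000703f170000b30000158000000000000000000218e89c00000000000000000000000000000000000000000000000618000000000000000000000000000000000020300010300000000000a600016300000000000000000000000000000000000000000000000000 128 64 = 36)

theorem c3 : Part C 192 256 46 := runChunk_sound C 46 (by decide +kernel : runChunk C 13 8191 0x131878c002002001000400428300080080042730010008002002131878c002002081834c0040010010008002002081834c004001131878c6060010000004000000000800000000000100086060017aa0004004002000bd90004002131878c002002131878c00400100100080020020010008004001131878c0023130010008002313001000400400200080080040020010008002002001078c00400100100080020020010008004001001000400400200080080040020010004004002000800800400200000040000000008000000000131878c0023137020004004283000b8500042730010008002313131878c0022b3081834c5460010010008002293081834c586001131878c6060010000004000000000800000000000100086060016aa0004004002000b590004002131878c002293131878c54600100100080022d3001000858600100000000020020008008000000000000400000000080000000000000000002000001078c002000000000000400100000040000000008000000000000000000000100100080020f30000000000001000800000000000100080020f3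 25 33554431 0xc980002c6000000000000000000000000000000000000000000000000000000000000000000000000000000000000000000000000000000000000000000000000000a60001d6000000000000000000000000000000000000000000000000000000000000c980002c60000000000000000000000000000000000000000000000038c0001560000b30000159bcc26e9a56174d2b0380005980002c60002160000002c1441d64a04e000000 192 64 = 47)

theorem c4 : Part C 256 320 58 := runChunk_sound C 58 (by decide +kernel : runChunk C 13 8191 0x400000000080000000009f20004446273000cfd06861b3000000400027300080000000009d20004446283000ced06873b400100040040a300080080040a3131878c004001001000800400100100040040020008008004002131878c00200200100080020020010004026002000800802600200100040040020008008004002001000400400200080080040020010008002273041878c00400100100080022830010008004001001000400400200080080040020010004446002000800868600200100040040020008008004002131878c004001001000800400100100040040020008ccc004002131878c0020020010008002002001000800229300100080021b3001000402627300080080262830010004446273000800868628300100044460f300080086860f300100080022730010008546001001000800228300100086a60010010004446002000800868600200100044462730008008686283000000400000000080000000008420004226273000c250226283131878c0040010010008004001001000444600200085cc686002131878c0020020010008002002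 25 33554431 0xb300007580000000000000001b1800075800000000000000000000000000000000000000000000000000000000000000000000000000000000000000000000000000000000000000000000000000000000000000000000000000000000000000000000000000000000000000000000000000000000000000000000000000000000000000000000000000000000000000000000000000000000000000000000000000000000000000064c00005600000000000000000000000000000000000000000000000000 256 64 = 59)

theorem c5 : Part C 320 342 22 := runChunk_sound C 22 (by decide +kernel : runChunk C 13 8191 0x100040040020008008004002001000400427300080080041b300100044460020008008686002131878c002002001000800200200100044460020008008686002131878c0020020010008002002001000400427300080080041b30010004004002000800800400200100040040a300080080040a3131878c004001001000800400100100040040020008008004002 25 33554431 0 320 22 = 23)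

theorem all : Part C 0 342 256 := (((((c0).append C c1).append C c2).append C c3).append C c4).append C c5

end Cfsg.Agent.ONType.TupTChk0
end

-- part: ONType/TupTAll
section
set_option autoImplicit false
set_option maxRecDepth 100000

namespace Cfsg.Agent.ONType.TupTAll

open Cfsg.Agent.SporadicRecognition.CosetCert Cfsg.Agent.ONType.TupTData

theorem part : Part C 0 C.N 256 := Cfsg.Agent.ONType.TupTChk0.all

end Cfsg.Agent.ONType.TupTAll
end

-- part: ONType/TupT0
section
/-!
The subgroup generated by `c, d, g` in the presented O'Nan group (order at most 256): centralisers.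
-/

set_option autoImplicit false
set_option maxRecDepth 100000

namespace Cfsg.Agent.ONType.TupT0

open Cfsg.Spor Cfsg.Spor.ON Cfsg.Agent.SporadicB.ONHom Cfsg.Agent.SporadicB.ON45Word
  Cfsg.Agent.ONType.TupRow Cfsg.Agent.ONType.TupCover

open Cfsg.Agent.SporadicRecognition.CosetCert (ev ev_nil ev_cons ev_append Hyp Rel walkS)
open Cfsg.Agent.SporadicRecognition.CosetCertHyp (hyp_of_checks)

/-- the group generated by `c, d, g` -/
def T0 : Subgroup ON := Subgroup.closure (gJ '' {x | x < TupTData.C.k})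

theorem rels_one (hs : IsSimpleGroup ON) : ∀ r ∈ TupTData.rels, ev gJ r = 1 := by
  intro r hr
  have h : TupTData.rels.all (fun r => eqJ r []) = true := by decide +kernel
  exact eqJ_spec hs (List.all_eq_true.1 h r hr)

theorem hinv (hs : IsSimpleGroup ON) (x : ℕ) (hx : x < TupTData.C.k) :
    TupTData.C.inv x < TupTData.C.k ∧ gJ x * gJ (TupTData.C.inv x) = 1 := by
  have hx4 : x < 4 := hx
  have h : eqJ [0, 0] [] = true := by decide +kernel
  have h2 : eqJ [1, 1] [] = true := by decide +kernel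
  have h := eqJ_spec hs h
  have h2 := eqJ_spec hs h2
  simp only [ev_cons, ev_nil, mul_one] at h h2
  interval_cases x
  · exact ⟨by decide, h⟩
  · exact ⟨by decide, h2⟩
  · exact ⟨by decide, mul_inv_cancel _⟩
  · exact ⟨by decide, inv_mul_cancel _⟩

theorem hypT (hs : IsSimpleGroup ON) : Hyp TupTData.C ⊥ gJ :=
  hyp_of_checks ⊥ gJ TupTData.C TupTData.rels TupTData.subw rfl (hinv hs) (rels_one hs)
    (fun s h => absurd h (List.not_mem_nil)) (by decide +kernel)

/-- Every element of `T0` is a node word satisfying the check. -/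
theorem exists_T0 (hs : IsSimpleGroup ON) {Q : ℕ → List ℕ → Bool} (hQ : allLive TupTData.C Q = true) {t : ON}
    (ht : t ∈ T0) : ∃ l < TupTData.C.N, Q l (nword TupTData.C l) = true ∧ t = ev gJ (nword TupTData.C l) := by
  obtain ⟨l, h1, h2, h3⟩ := exists_word (hypT hs) TupTAll.part hQ ht
  refine ⟨l, h1, h2, ?_⟩
  have h4 : t * (ev gJ (nword TupTData.C l))⁻¹ ∈ (⊥ : Subgroup ON) := h3
  rw [Subgroup.mem_bot, mul_inv_eq_one] at h4
  exact h4

def isIn (ex : List (List ℕ)) (w : List ℕ) : Bool := ex.any fun v => v == w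

theorem isIn_spec {ex : List (List ℕ)} {w : List ℕ} (h : isIn ex w = true) : w ∈ ex := by
  obtain ⟨v, hv, h1⟩ := List.any_eq_true.1 h
  have : v = w := by simpa using h1
  rw [← this]; exact hv

def exA : List (List ℕ) := [[], [1], [2, 1, 3], [1, 2, 1, 3], [2, 1, 3, 1], [1, 2, 1, 3, 1],
  [2, 1, 2, 1, 2, 1, 2], [0, 2, 0, 2, 0, 2, 0, 3]]

theorem comm_b (hs : IsSimpleGroup ON) {t : ON} (ht : t ∈ T0) (h : t * on .b = on .b * t) :
    ∃ w ∈ exA, t = ev gJ w := by
  have hQ : allLive TupTData.C (fun _ w => isIn exA w || neJ (w ++ [6]) (6 :: w)) = true := by decide +kernel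
  obtain ⟨l, -, h1, h2⟩ := exists_T0 hs hQ ht
  rcases Bool.or_eq_true_iff.1 h1 with h3 | h3
  · exact ⟨_, isIn_spec h3, h2⟩
  · exfalso
    apply neJ_spec h3
    rw [ev_append, ev_cons, ev_cons, ev_nil, mul_one, ← h2]
    exact h

def exB : List (List ℕ) := [[0], [1, 0, 1], [0, 2, 0, 2, 0, 2, 0, 2]]

theorem braid_b (hs : IsSimpleGroup ON) {t : ON} (ht : t ∈ T0) (htt : t * t = 1)
    (h : t * on .b * t = on .b * t * on .b) : ∃ w ∈ exB, t = ev gJ w := by
  have hQ : allLive TupTData.C (fun _ w => isIn exB w || neJ (w ++ w) [] || neJ (w ++ 6 :: w) (6 :: (w ++ [6]))) =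
    true := by decide +kernel
  obtain ⟨l, -, h1, h2⟩ := exists_T0 hs hQ ht
  rcases Bool.or_eq_true_iff.1 h1 with h3 | h3
  · rcases Bool.or_eq_true_iff.1 h3 with h3 | h3
    · exact ⟨_, isIn_spec h3, h2⟩
    · exfalso
      apply neJ_spec h3
      rw [ev_append, ev_nil, ← h2]
      exact htt
  · exfalso
    apply neJ_spec h3
    rw [ev_append, ev_cons, ev_cons, ev_append, ev_cons, ev_nil, mul_one, ← h2, ← mul_assoc, ← mul_assoc]
    exact h

def exA3 : List (List ℕ) := [[], [1, 2, 1, 3], [2, 1, 3, 1], [0, 1, 2, 0, 1], [0, 2, 1, 0, 1],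
  [0, 2, 1, 0, 2, 1, 3], [1, 2, 0, 2, 1, 0, 3], [0, 2, 0, 2, 0, 2, 0, 3]]

theorem comm_b3 (hs : IsSimpleGroup ON) {t : ON} (ht : t ∈ T0) (h : t * b3 = b3 * t) :
    ∃ w ∈ exA3, t = ev gJ w := by
  have hQ : allLive TupTData.C (fun _ w => isIn exA3 w || neJ (w ++ [8]) (8 :: w)) = true := by decide +kernel
  obtain ⟨l, -, h1, h2⟩ := exists_T0 hs hQ ht
  rcases Bool.or_eq_true_iff.1 h1 with h3 | h3
  · exact ⟨_, isIn_spec h3, h2⟩
  · exfalso
    apply neJ_spec h3
    rw [ev_append, ev_cons, ev_cons, ev_nil, mul_one, ← h2]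
    exact h

def exB3 : List (List ℕ) := [[0, 2, 2], [0, 2, 0, 3, 0], [0, 2, 0, 2, 0, 2, 0, 2]]

theorem braid_b3 (hs : IsSimpleGroup ON) {t : ON} (ht : t ∈ T0) (htt : t * t = 1)
    (h : t * b3 * t = b3 * t * b3) : ∃ w ∈ exB3, t = ev gJ w := by
  have hQ : allLive TupTData.C (fun _ w => isIn exB3 w || neJ (w ++ w) [] || neJ (w ++ 8 :: w) (8 :: (w ++ [8]))) =
    true := by decide +kernel
  obtain ⟨l, -, h1, h2⟩ := exists_T0 hs hQ ht
  rcases Bool.or_eq_true_iff.1 h1 with h3 | h3
  · rcases Bool.or_eq_true_iff.1 h3 with h3 | h3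
    · exact ⟨_, isIn_spec h3, h2⟩
    · exfalso
      apply neJ_spec h3
      rw [ev_append, ev_nil, ← h2]
      exact htt
  · exfalso
    apply neJ_spec h3
    rw [ev_append, ev_cons, ev_cons, ev_append, ev_cons, ev_nil, mul_one, ← h2, ← mul_assoc, ← mul_assoc]
    exact h

def exV : List (List ℕ) := [[], [2, 2], [0, 2, 0, 2, 0, 2, 0, 2], [0, 2, 0, 2, 0, 2, 0, 3]]

theorem comm_cd (hs : IsSimpleGroup ON) {t : ON} (ht : t ∈ T0) (h : t * on .c = on .c * t)
    (h' : t * on .d = on .d * t) : ∃ w ∈ exV, t = ev gJ w := by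
  have hQ : allLive TupTData.C (fun _ w => isIn exV w || neJ (w ++ [0]) (0 :: w) || neJ (w ++ [1]) (1 :: w)) =
    true := by decide +kernel
  obtain ⟨l, -, h1, h2⟩ := exists_T0 hs hQ ht
  rcases Bool.or_eq_true_iff.1 h1 with h3 | h3
  · rcases Bool.or_eq_true_iff.1 h3 with h3 | h3
    · exact ⟨_, isIn_spec h3, h2⟩
    · exfalso
      apply neJ_spec h3
      rw [ev_append, ev_cons, ev_cons, ev_nil, mul_one, ← h2]
      exact h
  · exfalso
    apply neJ_spec h3
    rw [ev_append, ev_cons, ev_cons, ev_nil, mul_one, ← h2]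
    exact h'

theorem comm_cd2 (hs : IsSimpleGroup ON) {t : ON} (ht : t ∈ T0) (h : t * on .c = on .c * t)
    (h' : t * SecondTuple.d2 = SecondTuple.d2 * t) : ∃ w ∈ exV, t = ev gJ w := by
  have hQ : allLive TupTData.C (fun _ w => isIn exV w || neJ (w ++ [0]) (0 :: w) || neJ (w ++ [9]) (9 :: w)) =
    true := by decide +kernel
  obtain ⟨l, -, h1, h2⟩ := exists_T0 hs hQ ht
  rcases Bool.or_eq_true_iff.1 h1 with h3 | h3
  · rcases Bool.or_eq_true_iff.1 h3 with h3 | h3
    · exact ⟨_, isIn_spec h3, h2⟩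
    · exfalso
      apply neJ_spec h3
      rw [ev_append, ev_cons, ev_cons, ev_nil, mul_one, ← h2]
      exact h
  · exfalso
    apply neJ_spec h3
    rw [ev_append, ev_cons, ev_cons, ev_nil, mul_one, ← h2]
    exact h'

theorem not_conj (hs : IsSimpleGroup ON) {t : ON} (ht : t ∈ T0) (h : t * on .c = on .c * t)
    (h' : on .d * t = t * SecondTuple.d2) : False := by
  have hQ : allLive TupTData.C (fun _ w => neJ (w ++ [0]) (0 :: w) || neJ (1 :: w) (w ++ [9])) =
    true := by decide +kernel
  obtain ⟨l, -, h1, h2⟩ := exists_T0 hs hQ ht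
  rcases Bool.or_eq_true_iff.1 h1 with h3 | h3
  · apply neJ_spec h3
    rw [ev_append, ev_cons, ev_cons, ev_nil, mul_one, ← h2]
    exact h
  · apply neJ_spec h3
    rw [ev_append, ev_cons, ev_cons, ev_nil, mul_one, ← h2]
    exact h'

def exSq : List (ℕ × List ℕ) := [(0, []), (13, [2, 2]), (228, [0, 1, 2, 0, 1, 2]), (249, [0, 2, 1, 0, 2, 1]),
  (229, [0, 1, 2, 0, 1, 3]), (326, [0, 2, 0, 2, 0, 2, 0, 2]), (327, [0, 2, 0, 2, 0, 2, 0, 3]),
  (251, [0, 2, 1, 0, 3, 1])]

theorem squares (hs : IsSimpleGroup ON) {t : ON} (ht : t ∈ T0) (h : (t * t) * (t * t) = 1) :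
    ∃ p ∈ exSq, t * t = ev gJ p.2 := by
  have hQ : allLive TupTData.C (fun l w => neJ ((w ++ w) ++ (w ++ w)) [] ||
    exSq.any fun p => Nat.beq (walkS TupTData.C (TupTData.C.mask - 1) w l) (p.1 + 1)) = true := by decide +kernel
  have hE : (exSq.all fun p => Nat.blt p.1 TupTData.C.N && nword TupTData.C p.1 == p.2) = true := by decide +kernel
  obtain ⟨l, h0, h1, h2⟩ := exists_T0 hs hQ ht
  rcases Bool.or_eq_true_iff.1 h1 with h3 | h3
  · exfalso
    apply neJ_spec h3
    rw [ev_append, ev_append, ev_nil, ← h2]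
    exact h
  · obtain ⟨p, hp, h4⟩ := List.any_eq_true.1 h3
    have h5 := List.all_eq_true.1 hE p hp
    rw [Bool.and_eq_true] at h5
    have h6 : nword TupTData.C p.1 = p.2 := by simpa using h5.2
    refine ⟨p, hp, ?_⟩
    have hlt : ∀ x ∈ nword TupTData.C l, x ≤ TupTData.C.k := fun x hx =>
      (tword_lt TupTData.C (fun x hx => (hinv hs x hx).1) TupTData.C.N l [] (by simp) x hx).le
    obtain ⟨h7, h8⟩ := (covered (hypT hs) TupTAll.part).2 (nword TupTData.C l) hlt l p.1 h0
      (Nat.eq_of_beq_eq_true h4)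
    have h9 : ev gJ (nword TupTData.C l) * ev gJ (nword TupTData.C l) * (ev gJ (nword TupTData.C p.1))⁻¹ ∈
      (⊥ : Subgroup ON) := h8
    rw [Subgroup.mem_bot, mul_inv_eq_one, ← h2, h6] at h9
    exact h9

/-! ### Commutation with `a` and `f` -/

theorem a_eq (hs : IsSimpleGroup ON) : ev gJ [0, 2, 0, 2, 0, 2, 0, 2] = on .a := by
  have h : eqJ [0, 2, 0, 2, 0, 2, 0, 2] [5] = true := by decide +kernel
  have := eqJ_spec hs h
  rwa [ev_cons _ 5, ev_nil, mul_one] at this

theorem f_eq (hs : IsSimpleGroup ON) : ev gJ [0, 2, 0, 2, 0, 2, 0, 3] = on .f := by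
  have h : eqJ [0, 2, 0, 2, 0, 2, 0, 3] [7] = true := by decide +kernel
  have := eqJ_spec hs h
  rwa [ev_cons _ 7, ev_nil, mul_one] at this

theorem gg_eq (hs : IsSimpleGroup ON) : ev gJ [2, 2] = on .a * on .f := by
  have h : eqJ [2, 2] [5, 7] = true := by decide +kernel
  have := eqJ_spec hs h
  rwa [ev_cons _ 5, ev_cons _ 7, ev_nil, mul_one] at this

/-- words in the first four letters are in `T0` -/
theorem ev_mem (w : List ℕ) (hw : ∀ x ∈ w, x < 4) : ev gJ w ∈ T0 := by
  induction w with
  | nil => rw [ev_nil]; exact T0.one_mem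
  | cons x w ih =>
    rw [ev_cons]
    refine T0.mul_mem (Subgroup.subset_closure ⟨x, hw x (by simp), rfl⟩) (ih fun y hy => hw y (by simp [hy]))

theorem a_mem (hs : IsSimpleGroup ON) : on .a ∈ T0 := by
  rw [← a_eq hs]; exact ev_mem _ (by decide)

theorem f_mem (hs : IsSimpleGroup ON) : on .f ∈ T0 := by
  rw [← f_eq hs]; exact ev_mem _ (by decide)

theorem c_mem : on .c ∈ T0 := Subgroup.subset_closure ⟨0, by show 0 < 4; decide, rfl⟩
theorem d_mem : on .d ∈ T0 := Subgroup.subset_closure ⟨1, by show 1 < 4; decide, rfl⟩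
theorem g_mem : on .g ∈ T0 := Subgroup.subset_closure ⟨2, by show 2 < 4; decide, rfl⟩

theorem comm_of_gens {x : ON} (hc : on .c * x = x * on .c) (hd : on .d * x = x * on .d)
    (hg : on .g * x = x * on .g) {t : ON} (ht : t ∈ T0) : t * x = x * t := by
  have hle : T0 ≤ Subgroup.centralizer {x} := by
    unfold T0
    rw [Subgroup.closure_le]
    rintro _ ⟨y, hy, rfl⟩
    have hy4 : y < 4 := hy
    rw [SetLike.mem_coe, Subgroup.mem_centralizer_singleton_iff]
    interval_cases y
    · exact hc
    · exact hd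
    · exact hg
    · show (on .g)⁻¹ * x = x * (on .g)⁻¹
      rw [inv_mul_eq_iff_eq_mul, ← mul_assoc, hg, mul_assoc, mul_inv_cancel, mul_one]
  exact Subgroup.mem_centralizer_singleton_iff.1 (hle ht)

theorem comm_a (hs : IsSimpleGroup ON) {t : ON} (ht : t ∈ T0) : t * on .a = on .a * t := by
  have h1 : eqJ [0, 5] [5, 0] = true := by decide +kernel
  have h2 : eqJ [1, 5] [5, 1] = true := by decide +kernel
  have h3 : eqJ [2, 5] [5, 2] = true := by decide +kernel
  have h1 := eqJ_spec hs h1
  have h2 := eqJ_spec hs h2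
  have h3 := eqJ_spec hs h3
  simp only [ev_cons, ev_nil, mul_one] at h1 h2 h3
  exact comm_of_gens h1 h2 h3 ht

theorem comm_f (hs : IsSimpleGroup ON) {t : ON} (ht : t ∈ T0) : t * on .f = on .f * t := by
  have h1 : eqJ [0, 7] [7, 0] = true := by decide +kernel
  have h2 : eqJ [1, 7] [7, 1] = true := by decide +kernel
  have h3 : eqJ [2, 7] [7, 2] = true := by decide +kernel
  have h1 := eqJ_spec hs h1
  have h2 := eqJ_spec hs h2
  have h3 := eqJ_spec hs h3
  simp only [ev_cons, ev_nil, mul_one] at h1 h2 h3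
  exact comm_of_gens h1 h2 h3 ht

theorem card_T0_le (hs : IsSimpleGroup ON) : Finite T0 ∧ Nat.card T0 ≤ 256 := by
  have := Cfsg.Agent.SporadicRecognition.CosetCert.card_closure_le TupTData.C ⊥ gJ (hypT hs) TupTAll.part
  rw [Subgroup.card_bot, mul_one] at this
  exact this

end Cfsg.Agent.ONType.TupT0
end

-- part: ONType/TupKData
section
set_option autoImplicit false
set_option maxRecDepth 100000

namespace Cfsg.Agent.ONType.TupKData

open Cfsg.Agent.SporadicRecognition.CosetCert

noncomputable def t0 : Tr := (.N 208 (.N 96 (.N 48 (.N 16 (.L 0xfffffe0900c811a1881c82b0458600890bc0580287fffff01500807f0b80f21681dc2c03384c0710ad41b20281bc2a013809ffffffffffffffffffffffe80d80180da14ffffff0118080260140d61401a427303a80806609bffffffffffffffffe021013fffff8ffffff03204a0620900c01181782202e04201f0103fffff81602000d8060540780940d01001700f00c9fffffc0ac0f814c1e02303201900c0a20e813c1c2fffffe04d06c0920d005c0302283204306006c099ffffff00b00e03f05c07a0b00ec1500a0060390507fffff804c060080040320480520700480600e8149fffffc06a0980c41201281a00e00805e0880b4102fffffe02b03c0500700300201201a022030040059ffffff00580601c0280340480600800a80e0090083fffff80180100880c00f01401a02002002005006bfffffc00e0100140100200200300400400800401f)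 (.N 32 (.L 0xfffffe0570280b41004704b08c8941011080b2102ffffff02a8121151242262404444707e88210b11941be047fffff029013ffffffffffffffffffffffe80c405bffffffffffffffffffffffc0a004ffffff1fffffe0840b810c15032c2e07281e08507009c0487fffff02601010911420e2204144307987e0910c941bc04ffffff02401004b02bfffffffffff03d05a80db02bfffffffffff0220100470241761f02f80d306002bffffffffffffffffffffffe042023fffff8ffffff08008403e01c1c60a8388160208140ac0e93fffff83f04107502a0b70f80780383140907b0805fffffc1e41f83a41601d00e0b60f81661e82c43c3fffffe0ae0ec1561d029c390518700a10dc0700387fffff01a00a07d0b413e1b02042e04b86803702141ac0202643501800bfffffc066037fffff04706280c901412c1a7fffff04a067fffffc05c02ffffff1) (.L 0x73847fffffffffff822810fffffffffffffffff9ffffff09c0a40ef08424226049c4d0440200d00e47fffff820c1c03f01e08204c1980e02002e06704680e1073fffff81f013fffffe07803ffffff81ec1a206a855fffffffffff81d80ffffffffffffffffff9834822fffffffffffffffff81cc10fffffe07003c01b80981b80e04383809d0d7ffffffffffffffffea0cd0340d806fffffffffffffffffffffffffffff506081bffffffffffffffffffffffe06a037fffff882f419fffffffffffc1681efffffffffffe06803400e80781940cffffffffffffffffffffffffffffebfffffc0c60584d85109a0a010f11825a2704c44f506d021fffffc0c205fffffffffffffffffffffffa7fffff08608c0eb0881d008017c0b09489a0cf0b8bfffff84c04f07604605d02c1a608047c4c04d06a7fffffc2582703c02f09209a11e1300b6058318381)))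 (.N 64 (.L 0xfffffe17618c1f01e05745c0b18ba0fa0f01ea0b07fffff07882a1721882e03085b86007a03616c17d41ba0bfffffffffffe0b50541700b02f01905c86e60bf023ffffffffffffffffffffffc1640affffff1fffffe16a1781ee2005805d0ad0b80f91001600a87fffff05682815716c2aa2d054c590a50ac0af0ed41c81bffffff055029ffffffffffffffffffffffe9fffffc29e2c03b83805486e0a60501841c03442f2fffffe14d15c1da1c82881405286e0c30e418e109ffffff0a48ac0e60501481c02a0390500280ba0f841c007fffffffffffffffffc13c09fffffffffffe40d403c130097ffffffffffe09c0abfffff826c225065026095047ffffffffffffffffffffffffffffa83200dfffffffffffffffff824c11fffffffffffcbfffff823c100a18aa13e1502782984e452049036a0d702ffffff823010fffffffffffffffffffffff4) (.N 80 (.L 0xfffffe20021432e2306685109984a20f2183242497fffff0978441fd2143dc4207a4830ef0fe1320957fffff84ac210f29041e32043603904b8250f0900bfffffc35a3904984c09405e12308425411856c5c2fffffe1dd1fc24a2684742109105e1200882ca2e987e84a0d98e7fffffffffff846c20fffffffffffcbfffff87407e08d09411808039c3e87307c0e48f67fffffc22e2284501f0e30f41bd1d830233864c504fffffe1911ac38a3d06e47508903e1c31e43823c17fffff0df8ee1bc1d82200f86e0750db0e81b21ccffffff8434230cb0a010e0943322886b07208503e1fffffc22c2484201b0c78d61a41b82e6310510554fffffe1aa1c432a3586806d0830361a81c03463717fffff0d30de1a21b82080d867c6d0ce8d818e1acffffff83fc1708188418c1a8312348408200c30d0bfffffc1f60b0600670bf0cc17c1941fc0f85e8645)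 (.L 0xfffffe29f2cc5385905b43f14c1622962c0528579ffffff13f14e2902b851c568a24ac14395616b0fc3fffff85a43c1429542832a45025405dc6313e94ebfffffc4f25305885c0b208015f0f02d02e05984c2fffffe2772942c22e85643c0af0801671742b8269ffffff1231261560ec4e65189a89f12212615816d3fffff89d4a41391462662782a81d89c0a21371425fffffc4d85009a49f0a90762652784c64e89849c3fffffe14e0e44b64d89649a12b93215115c4a64c2ffffff0a607025125c49e4b0934950a80b02492517fffff85203712192624124847e48852c3b11d920bfffffc28e288508321178a6228234438450514454fffffe1411504622988908c09e86423623c2802997fffff11511c22723427619088c8c11091613f150ffffff84dc2f10d91421922442e4404e83210a90ebfffffc28c2a84d4250cc08c19b1403cc4107f8854)))) (.N 144 (.N 112 (.L 0x1b28c23023405f0367ffffffffffe1a71105fc6788758480d2887ffffffffffffffffffffffffffffd43b2227fffff0d0887ffffffffffffffffffffffe81d8117fffffffffff0cf087fffffffffffffffff31ba0c02fa3385ec66fffffffffffe19c10c5e8660875c43fffffe194113fffff864045fffffe18d10c05ca34fffffffffffffffffc316217ffffffffffe5fffffc5e4658628690c40842e61085e0650bb4c93fffffe23c24030e340ba8c81741902e231c30a2107fffff0c20c417f1045ba628b14790c10922cc2fd3fffff8b80c616e18a2d23042fa208b68c416c1865fffffc5a8610b08790bd8822d1304580238b3cc03fffffe2ab2e05965f8af0be15d17a2b82f02f22087fffff0ba8802b22ec5605d0ab8b90bc0bc2aa2e17fffff860c670b887e2a62d853a5905d04514895c9fffffc5505b8a94b614c96216f0fc5465a8a84b42)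 (.N 128 (.L 0xfffffe24a2506846f0cf8dd19c1b833636c3c02707fffff0ee09832e3686586c8c84d80ef89e2bd2f943f039873c4a0e98f1fffffffffffffffff0e90f4a1fb083fffffffffff0e6895fffffffffffffffff31ad8d230b34bfffff8c7cd7fffffe1cb12bfffff8ffffff0f89081ca1ec4644708b08e18e1ac1c812803ee23ffffff0e2091fffffc38e24ffffff0e88fc837c1985f8360b0465fffffe316354384240c48d41fffffe1d51e03a83f076c710f98ee30d34c3802407fffff0df08e20c1c43e83c081c7316a9841ef21143ec247fffff0dd88fffffffffffffffffffffffe81f5127fffffffffff0db88e1ba123fffffffffff315f8cbffffffffffffffffffffffe1b511ffffff8ffffff0da0961f91e040c3b8828711851a41b111c3fffff86b84d10810c1af1385884106ac461841a23fffffc352220834771058e61da1e06066807a8835) (.L 0xfffffe23d1a076e760ed4eb1d99d43af3a44742b012948911b91e23922c71e457fffff11a8a83a93a07fffff88a45311a11c22d1ec4663d8e78e511591ca230153fffff889853fffffffffffffffffffffff41170abfffffffffff8888531128a9fffffffffff98e5088fffffe23823ffffffffffff1100a63902b47fffff887c8210d0a43a739c71c478874551c41c69fffffc518448e98e71cd1c8218148748730a28ac2fffffe39d39472e478858521cc9c839614c72a569ffffff12a13038738c70a710dc4cc1c19c2214148058c40ffffff1088e421220bfffff883850fffffe3fffffc4022807f04f1011062042106626d07fc514fffffe1f21ec412418814850f689e34a3803e03b97fffff0f61062082103d027880c851911b01eb1c4ffffff88788a0f209c2c31c842643079c511a19bc9fffffc6666d0b24721641041e213858e280d18df2)))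 (.N 176 (.N 160 (.L 0xfffffe26b1648808f10f91d21e23842b4588748da9c485afffffe268167fffff90d519213a2a41f44d0e202d90e11a2192322641644ce2d10c11821722e65d42448548b109915fffffffffffc4c42cffffff1fffffe42245083c8990711220d2224184404c02c87fffff12f92e25a16082887102d0a12e92e3ff4193fffff90590f209a1c4074244b02c10450d207a185fffffc81a8590290a12b0b0406424808841009073fffffe25521c7fc830ff1051fd2083f640c4a42c07fffff12f13625015c7e2808f9cfd12e1363dc3e53fffff8fd1021f82023e43f049c2b8fb9001f61fe5fffffc7d47f0f98fd1260ae3e33f07c27d8f7cfa3fffffe24b2007b67c8f64f81eb9ee3d33d84902b87fffff1238b624215879e7a0f14f01228b63b83b13fffff8f44f51e71e83c13bc4802b0f30f31e51e45fffffc790788f10f011f0ac3c03bc77c770ef0ed3) (.L 0x1bb087ffffffffffffffffffffffe295183fffff8ffffff26b28a3792d06f0438e34e32662882931803fffff9329431478be3ac3a0956569305411490c49fffffc990a10ea8e825615c28d17c970a00e448b2fffffe4b34fc954568a205f25495c4b14fc516449ffffff23a2624be50496ea012c13f1430be4a14f87fffff8ad4bb1420bc49b4f09189c0accbb23f2689fffffc93a9e92693c24426e2821789309d92593a2fffffe48e4e49169c0a005e243a6e4854d89029a9ffffff13f8be47d4d08f69991dd32239a6227c1783fffff89e05d236a604234508d69789eca5233a5cbfffffc4ec2e11952d231a584614ac4f453116d2a5fffffe2741688b294915d2822aa4e4504948a69329c4c59fffffe2711688668cfffffffffffe4494890a4249113d25fffffffffffc89a9209bc5afffffe3fffffc896919121222232424444808848f89b45a0))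 (.N 192 (.L 0xfffffe5565786266a15315d2a32b854456c59c3287fffff2a02b42ca1906545e8c90be29bab02cd19d3fffff91a12e19397a3252fc5763214c55715f0fe5fffffca7cac8ca0be15c8c83292fca56ab0cbcda3fffffe4f3524a6cac14c1572952ac2b7190a4caa8ffffff15b1542b118ca2ca994215015a1544fd5313fffff94655428a2a650553c55e319350a92862a45fffffca14a8941d501568c650453ca04a714014d3fffffe2ac1909f8a613e94b27b2944f25245523187fffff1538c23643089d8a40cecd31b18e233937146d0367fffff1520c3ffffffffffffffffffffffe8367113ffffffffffffffffffffffc54430ffffff1fffffe4e651c6d2660e28e31c990e4da5185403080ddc7914f0c1ffffffffffffffffffffffffffffd46e630ffffff14d8c1ffffffffffffffffffffffe837218bfffffffffff14b8c029a187fffffffffff3) (.L 0x1b116e3011c060c617ffffffffffe3041c7fffffa8d98b4fffffe300333ffffffffffffffffe2fd1c005f63c8be46cffffffffffffffffffffffffffffea2f71c3fffff8bd46cfffffffffffffffffffffff41ba95ffffffc5fe678dc087fffffffffffc5e63607fffff1788d235f34c6c26113b8b71af0e657759946b8257ffffffffffffffffffffff8bbc69fffffe3fffffcaeab28bb8c92b92c856e590ad2b18bb0690fffffe5675885d2640b9c681758d05645846a26b1ffffff1d81d22e331cac4b09581611708d02e431c4700300b7c66ffffffffffffffffffffffffffffea37b197fffff8b6c6618c9aa2de19ffffffffffff41bf891ffffffffffffffffffffffe2d919bfffff8ffffff2ae2c0381300a94ae153d5d2ac2be2d71983fffff8b4c651829a04f034c6c0658b587719f9baa37d19ffffff8c5cd51680cbfffffffffffffffff3)))))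 (.N 304 (.N 256 (.N 224 (.L 0x1a99b234c35869c6c0d40dafffffe349213fffff8ffffff2d4ade348344af0b3161968293aaa3452043fffff969d6e1a090036c3706d46e96616b1a21049fffffcb46b68db8dc1b59bc33d200b20b50d00c22fffffe59f5b06de6e8cdc801b69bc58c5a46745b9ffffff1ea1ec5955acb1eb5162d6919a90052e5587fffff8cd0811968fe35836069e700cc88519817a9fffffc6ae6b0d58d81aa9b432b1fc6a84215455d2fffffe32636069a700c807f1ac9b432320ca8eae18d6842fffffffffffffffff8c787cfffffffffffcbfffff8d2ce018e9ac554394742728c6c7b1a9190237a107fffff8c60c118a8f231a317fffffffffff31bf187fffffc628607ffffffffffffffffc6223c87fffff1871a63103486785b93bcc21860f05885a046ba65ffffff1879a7fffffffffff8c2473fffffe3fffffc8b8950d1cdf2c1ad057a598afab38c1c720) (.N 240 (.L 0x38b125fffffc786488f1893fffffe5d727cc0cc021c4493305305fffffc77e488f08922e693c5cb5dccba62cfffffffffffffffffffffff8ef491fffffe3fffffcc10c09815802fcafe5f75f8bdcbe8eec910fffffe3ba3b076c4817a97b2f0af05bd5d077249a7fffff2f62f85e95ecb8cbb8ed0902e72e65e55e8bfffff978d792f02f03b2240b8abb970d762dfaea7fffffc7626396f1742db2e65b45c875c4816c5711253959fffffc75656ffffff1d695dfffffc750478129888fffffe3a5227ffffffffffffffffffffffd09502a7ffffffffffffffffffffff8e8c89fffffe3fffffc738440e80e51d11ac55335873e4715c1645252115fffffffffff8e60881cd913fffffffffff9ffffff2d6ae038621c718578e2cb425127c38922907245a7ffffffffffffffffc70843fffffffffffe5fffffc7ee8192b93e26fa8c4cf5107044392fd411)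 (.L 0x36a93467f6b0cf6d5fffffffffffe3ed25bfffff8ffffff33cb546756a4ce6d419c5a7337b4c3eb2583fffff8fa495336b4a66b690cd2d19995a1333b44a78825bfffff8f94951f412ffffffffffff99759e43c712ffffffffffff8f8895fffffffffffffffff99bb899332343fffffffffff9989a01f012bfffffc7fffff99819f32e33c65a674cb0ce19599b1ef12a1fffffcca4cd0f6894327330645650c76c88f74974fffffe650664c9acc1905931ec12864b65cc92cb17fffff323b2a6446507ac4a19019331f32451e550ffffff8f54db31d322638640c6cc78f489431a31c3fffffc7a04918c18d31731862a62ca485218998a538b923fffffc79a497ffffffffffffffffcc44c4214885afffffffffffffffffffffff1e5925fffffc7fffff989189310b105fc5f8bf4bf9875871e49241fffffc78e48985586309b0a611610bb0501835835))) (.N 272 (.L 0xfffffe5db4b0df2e79bd5ce370b9a417270bb4750ffffff20a934511474dbee614411e36ca044f75294f084c9b75cb209135fffffffffff9b6101367b9286d425bffffffffffffffffffffffc8204d7fffff1fffffe6d1728d9ce49b31c836538e6c871881c4d07fffff2061326c6714d88e21b09c335c37c6c07094f064d1af9c1204933fffffffffff9ad5bd356374878126cd78e07fffff20293240826bfffff9ae9bf337692a6b76f8d68de9ac9bcfffffe403267fffff8ffffff3573766ab6e8d52dc9a9db8352b6e4012643fffff9a7db61fe93069d6d4d28d91a29b02001369fffffc9049a9a71b53473623fb260d34da1a59b32fffffe4e4518d26d90fe498346b624e751c93c9e9ffffff1fc1c26896c0d0ed793a5471fa9306856b87fffff8fcc9630d30a6836b4c30c31a01ac23c264a78b257fffff8fbc96fffffe3f225ccf8d599d9a94)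 (.N 288 (.L 0x2fa225fffffffffff910ca1fffffffffffffffff9ffffff3b83ba723440dcce69bd9ce2209425e73ac7fffff9da9dc21f94050f43cea2ec9859863a13ac9fffffceceed94490f3a63b043d280db6c29d59da23c4a1ffffffce9cec90eca03a5bb1fffffce8aeb9ffffff3833a4741758e16a694355239fbaa4392800e1c4990dc9efffffffffffffffff982d82fffffea7140effffff90c49e21b13e43428ffffff97711942e61dfffffffffffffffffffffffe42f27bfffff897409effffffffffffffffffffffffffffe42d2780bac7890a49dfffffffffffffffff90b0a0fffffea5d53c3fffff90949dfffffffffffc8504fffffff4fffffe421270e76ea1ce1d321214c5de4b0e0ae929c60a1fffffe41d270e00e812513937db9e42027d3fffff9c0dd1380ba05f52848364e1bddce37fba05fffffcd2ed992493920c9385f3284dc8e697c9393) (.L 0xfffffe4714b48d8531cf1d43ee22846f4b5072f527fffff3ed3be7d94508d4531ce5d33f62568427acffffff91a4be41c3d48327a4c4ec520b9e823314c1fffffc8e0981190a53f52567e34b08dc981f85e14fffffe5c05d4fce959f912d23114a5dd45104cf397fffff4033cc7e84b08c0529fa52d3f5a5e800794ffffff9174d13f33c27f17888be931fe9e422d14a1fffffced88f1160a43e3a4e7323f8c62c69fbde243d31fdfffffffffffffffff22b149fffffffffff97fffff3e230a7283f88a8521f1929315b167f678cffffff9de5de3f73c445e4a8fc0f09f79e022914805233d489c517ffffffffffffffffc8a2527fffff52900adfffffffffff9130a2fffffffffffffffff9ffffff2251427cf77ca38aa1cd9963b8bba7787794e324e7fffff223943ffffffffffffffffffffffe85f1447ffffffffffffffffe445287fffff923d392))))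 (.N 352 (.N 320 (.L 0xfffffe8767d09769f930d4125b1564b92b4974a017fffff25a1584bc50095e559315412591584b54fcffffffa1c9f32569c24cd5109c2a3128ce32501561fffffc938549ed1b34093cc773774a34aa127d0453ae151fffffc93254fffffffffffe51554ffffffa134cbafffffffffffffffffffffff24b953fffffc7fffff9349443e1a6a60e60d0d6f9135d4524a952072044891a54124511249a27fffffcc00a892412153ad953fffffc914547ffffffffffffffffffffffa1d68aafffffffffffc90c541224a9fffffffffffccc065cfffffffffffffffffffffff9210a8fffffe3fffffc906829f093a4343e47a760d0c4f89200a80fffffe85c7c08f8539ead323dfa668537b88fe5527fffff42d3de7bd4c8f7c9a11e8a7426bda7bb614bfffff9f25c63de26647629cf589a1f01ca23ca047fffffc8ea55a149ee4263da6d27288e453a121ec1) (.N 336 (.L 0x3af975fffffca0c5cfffffffffffffffffffffffa1d78bbfffffffffffca065cfffffffffffffffffccc04547ffffffffffffffffffffff9404b9fffffe3fffffd1ad021d81523b13ac70a46d1a50193fcb90fffffe8cc8089f65c1d19d73ac3b48bf7fc9fc5da7fffff46540274975cf3aa613e4b845cbfc74f764bfffffa31a003abbb44f52e0f2ca622d5fd27c21e7fffffc9e85e22f9ff45c3fc8b47f49e25c22c9fc1276997fffffffffffffffff27596ffffffffffff97fffff27296881f6bc9d481a091b02742085a05b17fffff938d0426e2884e24f89c0709364b426f2883fffffc9aa57a195f14553f68a27e89b09d1575605fffffe4d14e89b6a31340e126727c4cb2bc9baa30ffffff26495c85d7c0d5edda261f943ebea5415697fffff931cad43cbe88907e1110fba1ddf44413ecbfffffd0f8fa92f4ab26327e4c4500984571300e14)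 (.L 0xfffffe55b30d2970da50e1a424bd893c864abca2affffff49dc3255a56d22308a45e122ab9868f18207fffff9554c049ac3092f85d2570b247e132d22dabfffffd24b0a95395c2a818654b301237091548d92fffffe922850a9aae9514c02a498690f844a906c1ffffff48f42655957d229092432112a19808e881c7fffff94fcbf467c0490a84121107a3f60b2a1286bfffffca7a5ea4120e48141a9008311f30516a96f5fffffe8fc82ca6a5e14f15629d2ae5382fcb00b3a7fffff417bd0533558a72ac14bcbc29917c5965acbfffffa3e20a29a2ae5292f0a76ac14b0bd2969b67fffffd1e90495f9674754108e281ca506f9494bc0fffffe5182e8f62cb1f49df28ea4651b4f4a3e7ba9d74b9fffffe5132ebfffff945cbbfffffffffffd3fffffa37a063b0a9a50e46cec8eb2362052859741fffffca125c9b89cd37e39e726440c029c97fd7e5))) (.N 384 (.N 368 (.L 0xfffffe5ac38cd44db270a364e046a8737ccb5eb72ffffff2d41be9ba8d137119a6da3247ac125ab5657fffff9698de329b349b08c535118262e292d72e0bfffffcb446ea68a2f4d045c99e8b530f1416955e5fffffe59e3713291626422b4c745498189cb42a3affffff4c545259436cb3ab4966d6a2cc9bc59755d3fffffa61a282c92d259a5acb1c6d9644dd486c225fffffd30113964d6a2c51b659c5acb1a6e2466123fffffe97b898b0ab3161cdf2c11a28e381cb126997fffff3fdbc857f5551cb03a3b6082be1a25815607fffffa5b6222c22d057b344af26fa3be082bb1961fffffcae864a5e2254bb44897088d2d310a5b2225fffffe8837d8adeb215b4c92b9992962880ae2729ffffff4b444256a58d2c9102582202b419256c5847fffff9598c84aec3e95b8792b30ea55a1c49342abfffffd2ab0e1585612af98e56331caca6415ad633)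 (.L 0x38e9e5fffffcc0876fffffffffffffffffffffffa7fffff4b8c4672f5f8bf67917e0ed4f7c8272d734bfffffa7da433982fe5f63b4bfa79278e402ff2a27fffffd3e5211ccd874f4c829e2900bda7697c1731fffffe5eb3ad3b91fa76a3e4ec47a9c98e1116fba9c70eafffffe5e83afffffffffffffffffffffffd0bcc8ffffffffffffffffffffffffffffff2f21d61fffffcbc475275a3c4ea4769d28e938b1ba73239538d9d7fffffcbbe757ffffffffffffffffcdf4e7a1c54ecfffffffffffcb8875171ceb2e4ae25ca3bccba2b97ffffffffffffffffffffff9708eafffffe25d9440b82967ffffffffffffffffffffff96f8ea038d2e3fffffcb7674fffffffffffffffffffffffa7fffff4e447072c5c8b70b896d4e92e79d65ef5f4bfffffa71237395ae65b33a4b74b89748ea30f30e7fffffcb64b89c88e92dcae45b75ccb90bb96c0e90)) (.N 400 (.L 0xfffffea63951028c920599131b9ec8103e13071397fffff52fca681e640c6a7b20759140e1eea59948ffffffa94651521ca0a3f93d46f27289e4d3199ec1fffffcedac318bcf543831672a42cc6494a0cde943dba17fffffffffffffffff3169ebfffffffffff97fffff3a9bb270d42cc527aa1bd8d31624ea1f930ffffffa84a4841b3d26284b907af5286e4b3129ea1fffffcc4679285e4a50ac929f990d41d23a84648538f1dbfffffcc40797ffffffffffffffffffffffa7fffff506c8e7345f53cb2027b24130e1e461f5c87fffff9db98d30a1e261940907ec2985d1e436be49fffffcf8a93986d0242030c6123c4db48e9ee93323d2205fffffffffff9840f1fffffffffffffffff9ffffff4fec888697c8f509a983d3a457bf660c3c40e1e2d9824efffffffffffffffffffffffffffffebfffffcc0e76a81e4650048a8867d93e72127f2445)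 (.L 0x378a13fffffffffff9984fbfffffffffffcd20d89ffffff32f9f4a9798552b3025f6265454baa9197d4f1a7fffffff32d9f5fffffcefcef7fffff32f1fa9fffffcf38931e6d9c3cd1fe6593e95092e1e65232fffffea8d978ef8ef195cfa3d51fea7a96cfa0ef9ffffff544cbaa4f6994ff2e29e65b32a9f4a3d9387fffff9944f932a2dc9ae8c136718a9a25535036cbfffffcc9e7c29d65a539cb29cf8e54c92a25ce2353d79effffffcc987c7ffffffffffffffffffffffa203d90fffffffffffffffffffffff3251f1fffffc7fffff9ba1cd3d82a873548cfa8ef9ba9b33241f01fffffcc8c7ba9c658537caea6d9594c129a37e0653d71f1fffffcc867bfffffffffffffffffffffffa1eb4f9fffffffffffcc7e7b9908f8fffffffffffcd036c7ffffff409b21fffffd034c898f4f7fffffe3fffffd4cf2a98e4f640cb24815640c787ca912504))))))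
noncomputable def t1 : Tr := (.N 624 (.N 512 (.N 464 (.N 432 (.L 0xfffffeaad994d1081a08d47410b5e68b41945126a7fffff431be282051d044d81a190340c20a9958b0bfffffaaa664516c9a7cc6a954131a91a5034220607a33c7ffffffffffffffffe68240bfffffffffff236ba1e67e403ffffffffffffffffe68140bfffffa9b590efffffe67a403fffffffffff33ea03fffffd3fffff99e0ff54dcc6a2a934f9ad728e24e3e538ca7933ebfffff99d0ff3bdbbdfffffffffff99dd0143d4b39fffffffffffffffff3391fffffffffffff91e619dfffffffffffcce07ffffffffffffffffffcffffffa8ee4e527336a7c96d5052e19b8ff52049e272749ffffff99b0fefffffffffffffffffffffff4398a53fffffffffffffffff3351fdfffffffffff91e94a4fffffffffffccd07f7ffffffffffffffffcffffffaa4a5f3fbbc6801795056f3aa66623331fc06f242ccc67dfffffffffffffffffffffffffffff5) (.N 448 (.L 0x3c012e6bb427ffffffffffffffffffffffffffffa9bcdb1ffffffffffffffffffffffffffffe6b94240de07f1ad908ffffffffffffffffffffffffffffea6ef3f7fffff9acd08fffffffffffffffffffffff43760affffffffffffffffff358a11fffffffffff97fffff356a0e8997e50bef81ac143579cd4afc9ad4f0e867fffff35520fffffffffffffffffffffffe9fffffd112fb9ec9b83d12186a841d5a7349e85dd2fffffeac49a0f66dc9a99073dca18abe9a101af31ffffff5794d4aa671959934aaee6835220eaa598c7fffff9a7906351ae0ab799d567332aba65350b34a786413fffff9a6d05fffffffffffffffffffffff440bb5fffffffffffffffffffffffe699417fffff8ffffff34c2227b54f4eeaeea02de6375b2c6954140f0a82ffffff349209ffffffffffffffffffffffe878241bfffffffffff34620868f417fffff9a45a03)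 (.L 0x390a23ffffffffffffffffffffffffffffcdfc8901c7d1ffffffe6f8443fffff9bf551fffffffffffd0e48a8fffffffffffffffffcde8887ffffffffffe5fffffcdd2cb1b8d513702206e747cdca889cb97f33c8941fffffffffffffffff36f21ffffffffffff91e310b36e21c76876fffffffffffffffffffffffd7fffff9b410c4283da6d34c50aef71f0532463c00a78a41ffffff9b350cfffffffffffffffffffffff43dc371fffffffffffffffff365a19fffffffffff91e81b9fffffffffffcd92867ffffffffffe79e774ffffff9f2132553b6eac09a159f349b1d0c3e5b54270c62ffffff9b150bfffffffffffffffffffffff4394b1bfffffffffffffffff361a17fffffffffff91ed8f5fffffffffffcd8285fffffffffffffffffcffffffabf66b5104988457ace10e92c026c35fa160754470d7a857ffffffffffffffffffffffffffff5))) (.N 480 (.L 0xfffffea87971635391ff5e458a4e27dd499625380ffffff3ebba87ce48cfaacb1f4d54403bcc7d16710f2ad39de9263beb3877f67bfffffffffff3bba461fffffcede8fa025e63ba27a7766ccee4919e7dc753b5a5276947bffffffffffffffffffffffffffffa9e518b3b323bffffffffffffffffffffffffffffd4f2ea5fffffffffffe759533fffffffffff3aaa3a0792474ea4c59d351cfffffffffffffffff9d414b43c823dfffffffffff9d291cfffffffffffffffff99e3d4afffffe74852ffffff9d1d4cfffffe7444703fffffa4b2163a0236765548ec6a6ac2e6f3a1a3c9fffffd60736ac2a6f469c068db814e7c8dac226e13ec25e7d677ce748a7fffff39ea61fffffffffffa1f6d30fffffffffffffffff9cdd14fffffffffffcbfffff9c1d1b421bd6709709449262c0a6d38222807252a0e04897ffffffffffffffffffffffffffff5)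 (.N 496 (.L 0xfffffe85b4d10bca1a26df9430376b71a0119b012ffffff42ca66af59a90fefaadd68044fbf29ab8c17fffffadc280428a628587290acf6a151344a24349fffffd13cfca13dca42abdc84b4c509c99adaa7f2fffffeb649f92930d2129604a8436b5c9f508e9887fffff49842e844749445262119c25ab4f88414bc3fffffa4160e41ba5c83e629078f4ad1e7a41d2609fffffd69d3da0d58a41dbd48314b967f3ca0d18d2fffffe83055d68d3d2cfa7950e49682d4b96793c0ffffff4e6c72828795058d120a9e359a4ee8254b03fffffa0152b4053ba80c6cd0229ea021df407370bfffffd32315a09de74023c680268965d3b1ffd2b0fffffe7fc59d63138ac76723ff3c07f94a96593a8ffffff4d4c607f8689052f3a00de55944e87f549c3fffffac8a733f6a4c7f4784fe4952c6e723f82529fffffd37b1a1f952a3efa4c7f378962b389f892d3) (.L 0xfffffe8c55296d73fae56855a9cf6bb7a29190e52ffffff5e25188bd525188fea309fe460298b5f9f53fffffaf028b45dbfa8c17fd16ea4a2e94b5dcd145fffffd76d4522f1fe459a928c37fd16ca52ec2893fffffebaca216bb3eae8a874a0c32946869162a487fffff5cd50c8ac7e915cf8a2a545458306b92a14bfffffa299f2455bf68a151514ef8a291f25a8cf67fffffd13af6a269bb44ba8689c7c1140f7ae32843fffffead69a5124fba251f4447a848967dd3bb1f97fffff4453728917e110ea12235f444abf088c5f0ffffffa21164502c8a885605415232e1a83440a841fffffd0f6a0adce8057bcd48807bd0fca1aaaa645fffffe8755010f4a12239f7449bf087850940322affffff438a7cab0995701412dea8143a2e0b659f97fffffa295fa43530686c4e90ce9aa28dfa43730c5fffffd0c8d7a199454543f48ad7ed0c29aa5321b1))))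 (.N 560 (.N 528 (.L 0xfffffec80aa57bd4931daa6484ab4c7aaa16f74097fffff63c54ebdba4520ead31d6a6639d4ab81a08ffffffa419ea481ab2c4083187f06b0e2a04ddc689fffffd8df52311e0c61f41c9015658674fb126572fffffec4ea3d88d06a3fd59620c1cc4ca798952b1ffffff47dab0bc7a318db51b1a6a247f2b4c65a857fffffa3dd5661ad40c2fa7d85b4f23e95952a4a2bfffffd1e6aab08e9d52b4a2c1da711ecb7aeb6885fffffec17a6d1d903a3b967474aaa8f05991e4af97fffff608d348eb8211c2aaa399674722d08e756cffffffa37552603d32bfda617f34bafd29647032abfffffd7e74b236a0346e3aab0f9bd1aea92ea6871fffffe8d55357cf4aaf969449442abe2a4d3ef21affffff5f0d268d981561b37a351d5468a9a93e8647fffffa32d4c4682b4bdda497b548af168c4673e0bfffffd192a5af5a905e951ebd0a3978345af2a8d5) (.N 544 (.L 0xfffffeb87a0d2c310257d634b2ac69635912cd101ffffff4af43e95c5899b55eb33eb966256cbf1a513fffffb372be66cd7accbae12b4b13356bc669d765fffffd9a35d333ab94ac2c4ccaae19915bb206a93fffffe9545859875b3306b565fd6895758997759affffff4a9c3094a5812a2f6253e1a5d3d0e94d7c53fffffb002984a43d894e86d284b0251dfc4a2bdc5fffffd274afae8e874a03f8b619f527ab024fe035fffffe95286d268af24e61649bc2ec9dabd34717a7fffff498bd693285926d0c24b95e64bd5ca8e978bfffffa4b5d6499c2e92a5792710c32ceb2591ce67fffffd248aeafb294494c08beba5591355a49d625fffffe92157195558b28ab05e6d1ac85aa92470a2ffffff48eab6c9cabd92d573252ad4902bcc90ab17fffffb222ab48b42291857d226ada4715d48d2d25fffffd90955245612485ab691257d220ae24396a3)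 (.L 0xfffffe9aa78d36318a69d6e4d6b34d8ab45358f79ffffff4d34589a15b58c716b16a2e6aad949a48613fffffb15e5663045ac5b8bd33eb6b5cad06b359e5fffffdac96731862e4ceadac628bd9235631c2a43fffffe9a58bd326b626722a4cbc56a5c94932cd7a7fffff4c93ca9998a933116263d6c6a4d8cabc9a0bfffffab5e594cd45698d5b13371634f6c5568cd27fffffd312b5a9aa556b059ad5eb31318b7356acb5fffffe9855a9aa965354ac96a85909885b5a9d63affffff4bfad2a5a949a856334eac54c12d89846417fffffa5e9685634c097e67d58730b04a9a4be44cbfffffd2f312a5dd65575446aeb891a0560b456c44fffffeae49255cb11abb2254baacacbcacd5c52d17fffff4b92feae68912deb2aba625674580974664ffffffa5b96668a588d12b0da156130629b4b5aca1fffffd2ceb1b406c1679d66ce4b012d4b2b37abf5))) (.N 592 (.N 576 (.L 0xfffffee16b813d520a7857d4f330e9e45f93cf201ffffff4f04789db5f1a5b1eb4ce3e6fddba9de7e13fffffb4ca1d698c7ad348fd3b2be37dadc7055be5fffffda551db4beba4ebaf8d2c8fdbdb6db70ad53fffffe9df8fd3aabcb43abe690476ddeb655b32ca7fffff695c7ad0faf9a431e274d796f3db0d22b0cbfffffb47e1e68f4769d15e5a3b1e374ad768e5847fffffd39cf3ab72594e8332add969c096f272d790fffffe9c75cdbf56eb7cadc6f65b69ca5f1bd36d2ffffff4e1ae4ddbb65bb36c3746d74e32f2cd6af17fffffae128255c4ceda66d9382b835c2826e4dac5fffffdb836aaad2664dfae0da46d96fb40b67ad43fffffe9be785372b7a8d632518466c24a753790727fffff517c9aa328c94631a26dd6f5294a2bfaa5cbfffffb662d3519c669b55bd4691a307a9c5ff5307fffffdb256926ca304da3349af5b9ac366abe66a2)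 (.L 0xfffffee62ba9484c729224e52549ea476b948ac8a7fffff72c5d2a4d9394972828f98e54e4c6a41698bfffffa8e9a652649ea366394932828e5aa51e3367fffffd45d19a8b1ae54f4c6a2b6a944cc728a5b01fffffebcba35442e12895d2511bd6e50ba143cc587fffff720dcab449e543af42d2e7a50d314e4eb9c7fffffa8664650b312aed90d5e124b8dee4722dcc9fffffd5c7122ba243577c94a146259c35fafa2952fffffea13629c897334a6bb69b552e40b95420c487fffff50630ee34b919ff5fb86ee0507b12dd7b5d7fffffa8624a503302a0b7d941322b8b6e35cfd0c9fffffd40722a811f650448c9ff605c4d712809f42fffffe9fe60d73b43383edf6e25aab9ba193f6c087fffff4faafcae79253f4c4abba4a70bdc09f88117fffffa7c57d7165c6e25b8971541a7d1817105c2bfffffd9cb6027ae404f6b0e9e85f53e0bfa7ba412)) (.N 608 (.L 0xfffffed17b1158f132b226154a33eeabbcd5953017fffff549b44d95b49d3778ba76ce7605eca9067c3fffffaa319c592ce6eb4bd5d5d7a3a8ef2547c2ebfffffd510cdb976e97535e6c14a69516cfb96ee95fffffea867815032daa0da653f336a85675a8f6317fffff7515e4a809714f0cda9f5a653db38d3bb14ffffffa9de5853a332ade8e55bf2cba1eef570c489fffffd5b1152b6e395704b4a72665cff772b6a3c2fffffea769694e0cab14a5662a4aee77bb58114ca7fffff74a5e2c509598ab2c29b995737dd8c48834bfffffb15a2e628caea6c6558a72c399eeb625c187fffffd4ccc8a9ae296c7da2db4b354d2cd3a42f05fffffea62641d0d77b9faee703dbca6566591755affffff52f31ee74bb5cdd76399aeb530b2ac30a7d7fffffb55eca52dc4ed3fb15a8b6329762c52c31e1fffffd4a0c730869c61353aa578254a719a9560a5)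 (.L 0xfffffef06c01df97fbb1ef777a5fceeabf5622f007fffff65a564b0975562102ac3a035863acee1bf13fffffad06797705f8bbea2976344ad3e7b583baa1fffffd608eaad5e7c5834d8e53ba1602e93b72fb1fffffeed5be5ca3742d667c582cdaaff709db17d0ffffff57f384b8da11d9f7c2d9e7e76a5f2afb6ec3fffffabc5b757b3deb77a015f0faabd1bb57d462bfffffd5aafc2b3a6856838cacb6dd5a8dcab4a2a2fffffeac56e159b34aae9b7560b8cabf6e157b159b68e35fffffeab98dbfffffaad9b6fffffffffffc9b4b1b7fffff55ac6aab26dbffffffffffffffffe7fffffd558d82ac5f36d9502db9a0955edb3b2af85fffffeaa86b9b3769b67ed46e75ace63ba9556faaffffff551cc2a9a6a9542d72a7e4d54ec9eaa46dd3fffffbb06f6594ce8b319d966f3baa61a2762dee3fffffd54531aa599f56144cac9981cb374b64ed24))))) (.N 720 (.N 672 (.N 640 (.L 0xfffffeb6f7b96e8faadd9ef5bc4d4b727c1b3369affffff5ebd20b6c8016dd3dae5e855d9d12b697b43fffffad8dec765df0b689ad71f423cdf065b33e6bfffffde6d832d79fc5b1432ba5a1d6b6f62d81ff1fffffec9aab96b136b956e85ad4d8b557ade63828ffffff5a6bd2b93a156a9002db67f5a84dcb527e97fffffb0eaa05a2bd0b4c92d6953cad21ea78fe069fffffd685372d0e4b5a4cf4b3d7a1680f4bbaefd2fffffed5bb2de3b81bb76fb79660af13c05676f407fffff702dbcb369d9671312cea74599bcef29c107fffffb532c659aceeb309d1665312cb5e5784e003fffffd8cd50bc3f01792608f0cc01e3981acade40fffffed8bb45655312ce677597cecb2778ddeb7f0ffffff590bc4b26979d657a3adef578be04b248597fffffbc5b0258cbc0b209c563cf22c71e277edfe9fffffd8554eac5de4589bc0b1f9c962cf0bc3b013)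 (.N 656 (.L 0xfffffebd89fd7ab00b17e8e62c51ef5bc2d9475827fffff627c18c5ca398b3482f46017b8e1abd4a38bfffffb5a6cf62ed1ebcf8058bd483dab0c5e9d1e7fffffd799263296b05e7428caeac5ef587af26010fffffebc37fd79105b6faa263ed50bc6809eed872ffffff5dfbfcf5fc2ded986bd8b0c5e1402f5dc2d7fffffaed5fd5ddd12ee5bf177b372ee2005dd3fcbfffffdeb585aef28a5d94dcee7bf17693faebdfd0fffffebab7f1ea1853d23095fb52cc02a6175d04affffff64fd5eba486574d3eae85fc5d4436baa814bfffffae65fb5cf488dc6b55c236fae72445d048cbfffffdc97732e527b5cc4feb96801dc77e2e45fb0fffffeca7ac171d35ae427e768df0f42c21716fc87fffff5c4440e2ab897132138c6e35c2becf3cc1c7fffffae0e366dbd02db89956fef9b5be365c141e5fffffdc1b6fb6da825bcbe6db39956fd1aadf2103) (.L 0xfffffec3b9e98690531169e61e53ec3983986f4e27fffff7dce2ec42a7987b5030ba0a61941ac3194cbfffffbdcf0d621d3ec2c8298895031360c73adda7fffffd85738b08a09614d38c2794584b1a3d470a4fffffefb3c5984128b0720961453ac1f8c986d501ffffff60b410fa7c55f3f8a3e6f1360cc44c1ba4d7fffffb04207753de6c15975cbf74b04e267c9e24bfffffd81f4ab01a06606d2ec0ba61e9784b026584fffffec018698094bb02a995fe40cc03a217ff1917fffff766df0c05a617f1033032997a9e14bfb8ccffffffafca057a7612bf7a21eaf852fd6067365d6bfffffd81d4caf9a045f542abefa51f1588afa6494fffffecb0ac57db0aafba955f2408f82c417e10f97fffff5f0406f89c45f03883236ab5f1c08c1aa6d5b5d07ffffff5efc21fffffd7b90131aaa2fffffe4db1843fffffffffff5ecc05fffffffffffffffff3)))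 (.N 688 (.L 0xfffffeca8a1194d46b2b2b1650c28ffdc819494817fffff65050ec9b84d9735935e2ae64f430d75b413fffffb2667c65b564d77abd92b09b2621780de465fffffdb1137b61eae649c26d86abdb0b0b4047223fffffef94c49ae76835f2286bf594c928b591f0987fffff643c24f87c4191d49be3b1164542ac8c9517fffffb20e11802e42ffcc81efd87b21a147b2e18bfffffd8ff0834e2bb69ac90e49b99fd78f320a1d56dd547fffffd8f95131fa8cfffffec79843fffff8ffffff63bc1eff3c7dadb67baf6a47ede38eb9bd55b61017ffffffffffec7483fffffffffffffffffe6dafa8bffffffffffffffffffffffd8e507ffffff1fffffec6e835acf67bafaa77f963efbac5d8e316affffff7f563cdbda89b794631b20b6ddc20fe4c74bfffffbf6b1c63dd50c6882db7f4631ae927eb6367fffffd8cf3abddf0e7e4e34fc7c65f838c31920b0) (.N 704 (.L 0xfffffece69059d559b38e21683582ce788d9d95b1ffffff670566e19b81c737233fa47671492cdd8841a371d336e1e688477fffffda1b1e7fffff685d84acef877fffffb3621efffffffffffffffffffffff467b56bffffffffffffffffffffffecd48799af1b8ffffff7fce3ed37aa5c8f7334a248812e48cd28781a611f33421d69747bffffffffffffffffffffffeacee87bfffffb3361dfffffffffffffffffffffff4676c3ffffffffffffb3261d66643dfffffffffff9b3eeb4fffffffffffffffffb3d2b6663c3bfffffc7fffffb31ab6661438cf5add9e35ab3161f675d809fffffdbab6bb3eab467856ccc08719f10f33de372fffffedf3b719f35ab2fa1c67ed6ccfc875bb96c9ffffff66fd7ece9b01a0960b3ca2165ec48cba8701b0956b2d66f65bd5dfffffd97157b2ca16fffffe3fffffd9634a32a614657d1acadac201190b2aeb14)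 (.L 0x6bfd93fffffdae95635e6cafffffed718b9aed578ffffff6b551cd68a91feb8fb5baa76b658ed658b83fffffb58e2d74bde2e9e97dd41693e631274ade2bfffffe0c595b636d16dacaad5f8a5ac518c1672a2fffffedad9d1b5966b576296d5caadaa8c20a7949ffffff6ae4f0e91bc20939441072781ce4cd598a43fffffb562526a9c50d7dab1af568355a2f7de62e9fffffdcd375b60eac6c1594d518a1b03173602af26bdd59fffffffffffb53e28fffffffffffffffff9ffffff7b1e18fbec5e05b92bf831c6b5d9ed4d8a03fffffb52e766a258ad46949a8313b52a2b6a44b85fffffdd0377350ec669cc4ed40949a7d1534f25b3fffffed18981a27113466c2692d86faac55a2d12a7fffff6d0da8d26b09a49623446227d0628d238ecbfffffbabef4693d86d09889a35623e731368657c7fffffda1160b40221683d80d05acda0712b876e04)))) (.N 768 (.N 736 (.L 0xfffffee15901c355fb8724771ddc8e1890dc3d60affffff707502e0cb55c254338424470a5aae098f83fffffb81a777425dce08951d1777b80e397f6e3c3fffffdc056cb7e6387005b6dfeb71bf91fc2272f4fffffedf4ad1bef6db7f6dd6f8c70df58fa12d9897fffff6f7db0df8b71bd71c37fedd6f747b091cc0ffffffb886e184465ef3fc1e1039737aada6f44701fffffdc036eb76a376f0daede4b61bbf1e3776b44fffffedf0b6dbc76bb796d96ec46ede68edc6b7217fffff6ea56ade2b61ba11bb782d96e9c74dd691cffffffbaeef56e5da8dcf991b9b69c1d72d6e446c1fffffdb811ab82edf6e2c88dc7a19c276fb70e3d5fffffeda2b0db956b36a2d36d04c906bcb1b3b1a87fffff6cbc64d9c991b996b369ed47da62cd9aa017fffffb646316cb4bee9fb39d3378c18f2b6ca4c2ada9b31b193a363acdfffffed90955b13187fffff1)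 (.N 752 (.L 0xffffff0c4cd5d2565c11b278266510d9cddd1f2a87fffff7475dae85951d196f3a2aee7444b4f84c413fffffba0ac5741dbce89bbdcfb2a3a02598146485fffffdd1b77b9ce5373e5d6e7abb1cf12c39da9e4ffffff0cdcd9ce375b9e6ed736ca6e7095de938497fffff735592e72bb1ccb29b9eeed7344ace6ba58ffffffb986507db62d072cb20f996b99264860e6abfffffdcaf27b97a5d730534ea9bcdcb530b9725d5fffffef7bc3dca53639526d72b4f8e4f9321779a0ffffff82164eeeebf5db37d42db3477fdfee4d92c3fffffb93285721c90e4aaa5c915dc2b7337234949fffffdc8525c2ab33815648ff0c79c7f243e8b141fffffee3eb8dc6723b8f2e071d57ee38929c6d6c27fffff71edc8e2b909c6541b8c2e271748d0a0cc93fffffb8a2e2714d06e2fb8dc4921389e4584165c5fffffdc456d427f3284de63092cc1c4770b87e420) (.L 0xfffffef059c1e4b823c2e75788e02f08bede153b2ffffff7ebe36efb9c1e097f3c0af77805ceefe9c93fffffc3d33a77cdeeef39c1e077fbbe2fa77b4e87fffffdddf7dbbb6e785ce68ef1be9dd3383bb2791ffffff0b3ccddbf373ba289773514ee4a15dc537a7fffff7785faf2dc15e4381bb7a78783e00edb9b43fffffc3c73985be68ef2bf5db573bbdefe76bcd81fffffddad363d0f08876670f39c19da735bf331a1fffffeecea5dd993f3b4a847684d70e5ce1d933287fffff7635eeefabf9e037fbb227085ee68ec49883fffffbb0a628336570d6cd9f2d893afe5f761dec3fffffdd796b3adaf475c4e6eb397a04591baeaa72fffffeeb0b09d6b7abab65e758ce7014c89fef8f9ffffff7d862aea8a69d5574ba965d7564c10d0cd8bfffffba865b78ce0501ec8e033913a925e81964abfffffdd272bba62ce74d5a4e9c97e19d9b3a5ace5)))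 (.N 800 (.N 784 (.L 0xffffff00ec85f0d55be33117c0526f83a51f0b7797fffff7be5d1003c81eff554033217bcd1af7dc3c7fffffc36b377bc542fcec65f958d432b357bad181fffffdee94f3dbb0c7b8616f6ba2dee547c01b212fffffef64b1dedb86bd868b7b4616f69a39ecd551ffffff7acd12f60a2decf863dbf0d7ae520f5ea2d7fffffc39b387a7d10f58a59ead84bd52977a953a9fffffdf2188bd36967aae14f47a21e994cbd2aec2ffffff000c81e897cbd1b06877670f41a11fa78c8ffffff79ee0f086cba11997bd02da79f60ef3ba0c3fffffbcd67d874670f3abe5e8b843ce27e86f66ebfffffe0a3943cbafb795cf0f30c0de69823cca7c3fffffefe7c75e4d803ca301791ceaf33c15e553b97fffff7e1630f1e9e1e5f82bc8afb78dceaf209e87fffffbc567278d5e5012c8a04191bc62737eee38bfffffe075933c4275789600f27c11e293c3c36710) (.L 0xffffff001c2200587c02b217fdd54ffeac1fff9017fffff7fd576ff4a9dfe3523fdacf81a64aff8bd0ffffffbfa6a3813648fefb9616399bfb2a97f75bcbfffffdfd1823f9b1b87066f03fc9a09d943f8ea30fffffefd9a8a05d92bf7ec77f0e2efdca9dfbd812ffffff7ec5fefe5c7607993438b37822e4efd5a883fffffc3e73b7e8632fcbc39f9150c153297e6df25fffffdfa98cbf471a7e3542fcfc3a0bd953f4b083fffffefc3c0e1859ac15b2982e654fc0a85f8b8b0ffffff7dc53efbfb1dfc58e40c3257ddd48fbdb297fffffbeca9c7dbdd507ecb60e1963ed6d37e2630bfffffdf6379be9a9b7d7e26fadc51f57623ea7114ffffff06ccb1f4989beb3157cf536fa1b0df477297fffff80b644fa5c51f354dbebb157ced850abcccffffffbe56ac86966cf97bda0d195be66ce7c95341fffffdf2384be22937c7d56f8dc41f174abea3154))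 (.N 816 (.L 0xffffff0a7cca12f98c24ee1852e65094cc21216d87fffff84ce63087b6a11f97423707845e5f08ab753fffffc4373d842e0f080b6a11d97c2132e841dc47fffffe0ef91c1e72c83edd507fc5a0e96b41ef281ffffff06dc520f196c1c716839dd506ab520df938ffffff830d9b067bda0d3894353368325a5065cad7fffffc1832a82de5305dc621919ac17f1982c59a1fffffe2059e416b2a86366b057c620ab8d414acc0ffffff050c1609793c136f082459704fc760f59697fffff821dcf04aca208165c11ef082263706ecb0ffffffc0ef0186e66f03ec7607b8dc0e2cb8756703fffffe06f9240bf1c818e2f02cb1e06b8fc0cef22ffffff036c9604f8f42bf33815dcb024aee053770ffffff83b65b01dc8a04381407ef2811deb01aab83fffffc05f1380e647018bca027814056f480855a1fffffe01f884012aa806e1f00bc8201358c01f0d4) (.L 0x1fffffe2199744433d88967b111cf621d9ec43f3d5ffffff101ca620f9e442739885e73104cee20d9d2ffffff87c6350fccee1fd9d44033a881e790fbce57fffffc3cefe87be750ffcee1fb9dc3db39882e78bfffffe1e17d43cb39885679108cf21eb9d43eb3b5ffffff0e7c2a1d38343bf08876df30e4be21d7930ffffff86de1d0ddc9a1c78dc3871d86c5e10dfc187fffffc332ec869e250d5cae1af7b433ef1868de6bfffffe18b78430f18864e550c7ca6197874302ea0ffffff0bfcd21717d42d6e785d5fb0bebde179741ffffff85a5f90a9b961658f42c3248575cd0acc4d3fffffc2a33084f5c30a6cc214998c28b32850dc69fffffe13597c26330851e6509cb8613b98c256dc0))))))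
noncomputable def tree : Tr := (.N 416 t0 t1)

noncomputable def wtree : WT := (.N 68 (.N 34 (.N 17 (.N 8 (.N 4 (.N 2 (.N 1 (.L 4 [3,0,3,0,3,0,3,0]) (.L 1 [5,1,5])) (.N 3 (.L 5 [0,5,0,5,0]) (.L 1 [4,1,4]))) (.N 6 (.N 5 (.L 5 [4,5,4,5,4]) (.L 5 [1,5,1])) (.N 7 (.L 0 [4,0,4]) (.L 3 [2,2,2])))) (.N 12 (.N 10 (.N 9 (.L 2 [4,2,4]) (.L 3 [4,3,4])) (.N 11 (.L 0 [3,0,5,3,0,3,0,5,3,5]) (.L 0 [5,0,5,0,5]))) (.N 14 (.N 13 (.L 4 [5,4,5,4,5]) (.L 3 [0,2,5,0,2,0,5,2,5,0])) (.N 15 (.L 6 [0,2,0,2,1,3,0,3,0,1]) (.N 16 (.L 0 [3,0,4,3,0,3,0,3]) (.L 4 [0,4,0])))))) (.N 25 (.N 21 (.N 19 (.N 18 (.L 5 [3,5,0,3,0,5,3,0,3,0]) (.L 2 [0,3,0,3,0,3,0,4])) (.N 20 (.L 3 [1,0,1,0,1,0,1,0,2]) (.L 2 [3,3,3]))) (.N 23 (.N 22 (.L 3 [0,3,1,3,1,0,1,2,1]) (.L 0 [2,2,1,0,1,0,1,0,1])) (.N 24 (.L 1 [3,3,0,1,0,1,0,1,0]) (.L 6 [1,0,1,0,1,0,1,3,3,0])))) (.N 29 (.N 27 (.N 26 (.L 6 [0,1,0,1,0,1,0,2,2,1]) (.L 1 [3,1,0,1,2,1,2,0,3])) (.N 28 (.L 6 [2,0,3,1,3,1,0,1,2,1]) (.L 0 [1,0,2,0,2,1,3,0,3]))) (.N 31 (.N 30 (.L 6 [1,0,1,2,1,2,0,3,1,3])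 (.L 6 [2,5,0,2,0,2,5,0,2,0,5])) (.N 32 (.L 0 [5,3,5,0,3,0,5,3,0,3]) (.N 33 (.L 0 [1,0,1,3,3,0,1,0,1]) (.L 6 [2,1,0,1,0,1,0,1,0,2]))))))) (.N 51 (.N 42 (.N 38 (.N 36 (.N 35 (.L 4 [1,4,1]) (.L 4 [0,2,0,2,0,2,0,2])) (.N 37 (.L 4 [3,4,2]) (.L 1 [0,1,0,1,0,1,3,3,0]))) (.N 40 (.N 39 (.L 3 [5,0,2,0,2,5,0,2,0,5]) (.L 1 [3,0,3,0,1,0,2,0,2])) (.N 41 (.L 4 [2,4,3]) (.L 1 [0,1,2,1,2,0,3,1,3])))) (.N 46 (.N 44 (.N 43 (.L 0 [3,0,5,3,5,0,3,0,5,3]) (.L 5 [2,5,0,2,0,2,5,0,2,0])) (.N 45 (.L 0 [2,4,0,2,0,2,0,2]) (.L 3 [4,0,2,0,2,0,2,0]))) (.N 48 (.N 47 (.L 0 [2,0,5,2,5,0,2,0,2,5]) (.L 0 [2,0,2,5,0,2,0,5,2,5])) (.N 49 (.L 6 [0,5,0,5,0,5]) (.N 50 (.L 2 [5,0,3,0,5,3,0,3,0,5]) (.L 5 [0,2,0,2,5,0,2,0,5,2])))))) (.N 59 (.N 55 (.N 53 (.N 52 (.L 0 [5,3,0,3,0,5,3,5,0,3]) (.L 5 [0,3,0,5,3,0,3,0,5,3])) (.N 54 (.L 2 [0,5,3,5,0,3,0,5,3,0]) (.L 6 [0,4,3,0,3,0,3,0,3]))) (.N 57 (.N 56 (.L 2 [0,3,0,5,3,5,0,3,0,5]) (.L 3 [0,2,0,2,4,0,2,0])) (.N 58 (.L 2 [0,3,0,4,3,0,3,0]) (.L 6 [5,0,2,0,2,5,0,2,0,5,2])))) (.N 63 (.N 61 (.N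 60 (.L 3 [0,5,2,5,0,2,0,2,5,0]) (.L 0 [2,1,3,0,3,0,1,0,2])) (.N 62 (.L 6 [3,0,3,0,1,0,2,0,2,1]) (.L 3 [1,2,0,3,1,3,1,0,1]))) (.N 65 (.N 64 (.L 6 [2,4,3,4]) (.L 0 [1,0,1,0,2,2,1,0,1])) (.N 66 (.L 6 [3,0,1,0,1,0,1,0,1,3]) (.N 67 (.L 6 [4,1,4,1]) (.L 6 [5,1,5,1])))))))) (.N 102 (.N 85 (.N 76 (.N 72 (.N 70 (.N 69 (.L 1 [2,0,3,1,3,1,0,1,2]) (.L 2 [0,1,0,2,0,2,1,3,0])) (.N 71 (.L 0 [5,2,5,0,2,0,2,5,0,2]) (.L 2 [0,3,0,1,0,2,0,2,1]))) (.N 74 (.N 73 (.L 6 [5,0,3,0,5,3,0,3,0,5,3]) (.L 6 [0,3,0,1,0,2,0,2,1,3])) (.N 75 (.L 2 [1,0,1,2,1,2,0,3,1]) (.L 6 [2,1,2,0,3,1,3,1,0,1])))) (.N 80 (.N 78 (.N 77 (.L 3 [0,2,1,3,0,3,0,1,0]) (.L 0 [4,3,0,3,0,3,0,3])) (.N 79 (.L 6 [3,3,3,3]) (.L 6 [3,0,4,3,0,3,0,3,0]))) (.N 82 (.N 81 (.L 3 [0,2,0,2,0,2,4,0]) (.L 1 [0,1,0,1,3,3,0,1,0])) (.N 83 (.L 6 [0,1,0,1,0,1,0,1,3,3]) (.N 84 (.L 2 [0,1,0,1,0,1,0,1,3]) (.L 5 [0,1,2,5,0,1,2,5,0,1,2,5,0,1,2,5,0,1,2])))))) (.N 93 (.N 89 (.N 87 (.N 86 (.L 0 [1,0,1,0,1,0,2,2,1]) (.L 0 [1,0,1,0,1,0,1,3,3])) (.N 88 (.L 5 [3,0,3,0,5,3,5,0,3,0])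 (.L 6 [2,5,0,1,2,5,0,1,2,5,0,1,2,5,0,1,2,5,0,1]))) (.N 91 (.N 90 (.L 0 [1,0,1,0,1,3,3,0,1]) (.L 6 [5,0,1,2,5,0,1,2,5,0,1,2,5,0,1,2,5,0,1,2])) (.N 92 (.L 1 [0,1,0,1,0,2,2,1,0]) (.L 0 [2,0,2,0,2,0,2,4])))) (.N 97 (.N 95 (.N 94 (.L 2 [0,3,0,3,0,4,3,0]) (.L 1 [0,1,0,1,0,1,0,2,2])) (.N 96 (.L 6 [1,3,3,0,1,0,1,0,1,0]) (.L 6 [2,2,1,0,1,0,1,0,1,0]))) (.N 99 (.N 98 (.L 6 [3,1,0,1,2,1,2,0,3,1]) (.L 0 [3,1,3,1,0,1,2,1,2])) (.N 100 (.L 6 [2,2,2,2]) (.N 101 (.L 1 [0,2,0,2,1,3,0,3,0]) (.L 2 [0,5,3,0,3,0,5,3,5,0]))))))) (.N 119 (.N 110 (.N 106 (.N 104 (.N 103 (.L 5 [0,2,0,5,2,5,0,2,0,2]) (.L 6 [3,0,3,0,3,0,3,0,4])) (.N 105 (.L 6 [0,2,0,2,5,0,2,0,5,2,5]) (.L 6 [1,4,1,4]))) (.N 108 (.N 107 (.L 6 [4,2,4,3]) (.L 0 [3,0,3,0,3,0,4,3])) (.N 109 (.L 3 [0,2,4,0,2,0,2,0]) (.L 6 [4,5,4,5,4,5])))) (.N 114 (.N 112 (.N 111 (.L 2 [0,4,3,0,3,0,3,0]) (.L 6 [5,4,5,4,5,4])) (.N 113 (.L 6 [3,0,3,0,5,3,5,0,3,0,5]) (.L 0 [3,0,1,0,2,0,2,1,3]))) (.N 116 (.N 115 (.L 6 [0,1,0,2,0,2,1,3,0,3]) (.L 6 [0,5,2,5,0,2,0,2,5,0,2])) (.N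 117 (.L 6 [3,5,0,3,0,5,3,0,3,0,5]) (.N 118 (.L 6 [4,3,4,2]) (.L 1 [0,5,3,1,0,5,3,1,0,5,3,1,0,5,3,1,0,5,3])))))) (.N 128 (.N 123 (.N 121 (.N 120 (.L 0 [1,2,5,0,1,2,5,0,1,2,5,0,1,2,5,0,1,2,5]) (.L 0 [3,0,3,0,4,3,0,3])) (.N 122 (.L 3 [5,0,1,2,5,0,1,2,5,0,1,2,5,0,1,2,5,0,1]) (.L 0 [2,5,0,2,0,5,2,5,0,2]))) (.N 125 (.N 124 (.L 3 [1,3,0,3,0,1,0,2,0]) (.L 1 [2,5,0,1,2,5,0,1,2,5,0,1,2,5,0,1,2,5,0])) (.N 126 (.L 0 [5,3,1,0,5,3,1,0,5,3,1,0,5,3,1,0,5,3,1]) (.N 127 (.L 0 [1,0,2,2,1,0,1,0,1]) (.L 6 [1,0,1,0,1,0,1,0,2,2]))))) (.N 132 (.N 130 (.N 129 (.L 3 [2,1,0,1,0,1,0,1,0]) (.L 2 [1,3,1,0,1,2,1,2,0])) (.N 131 (.L 6 [0,2,0,2,4,0,2,0,2]) (.L 3 [5,0,2,0,5,2,5,0,2,0]))) (.N 134 (.N 133 (.L 6 [3,1,3,1,0,1,2,1,2,0]) (.L 6 [2,0,2,5,0,2,0,5,2,5,0])) (.N 135 (.L 6 [0,5,3,5,0,3,0,5,3,0,3]) (.N 136 (.L 0 [2,0,2,4,0,2,0,2]) (.L 5 [3,1,0,5,3,1,0,5,3,1,0,5,3,1,0,5,3,1,0])))))))))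

noncomputable def stree : ST := (.N 1 (.L 0 [] []) (.N 2 (.L 1 [] []) (.L 2 [] [])))

noncomputable def C : Cert where
  data := tree
  lm := 15
  rb := 165
  fb := 23
  mask := 8388607
  B := 1024
  k := 6
  N := 829
  inv := fun x => bif Nat.beq x 0 then 0 else bif Nat.beq x 1 then 1 else bif Nat.beq x 2 then 3 else bif Nat.beq x 3 then 2 else bif Nat.beq x 4 then 4 else bif Nat.beq x 5 then 5 else x
  words := wtree
  subs := stree

def rels : List (List Nat) := [[4,0,4,0], [4,1,4,1], [5,1,5,1], [2,2,2,2], [4,2,4,3], [4,5,4,5,4,5], [5,0,5,0,5,0], [0,2,0,2,0,2,0,2,4], [2,2,1,0,1,0,1,0,1,0], [0,1,2,1,2,0,3,1,3,1], [1,0,2,0,2,1,3,0,3,0], [2,5,0,2,0,5,2,5,0,2,0], [0,1,0,1,0,1,0,1,0,1,0,1,0,1,0,1], [5,0,1,2,5,0,1,2,5,0,1,2,5,0,1,2,5,0,1,2]]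

def subw : List (List Nat) := [[0], [1], [2]]

end Cfsg.Agent.ONType.TupKData
end

-- part: ONType/TupKChk0
section
set_option autoImplicit false
set_option maxRecDepth 100000

namespace Cfsg.Agent.ONType.TupKChk0

open Cfsg.Agent.SporadicRecognition.CosetCert Cfsg.Agent.ONType.TupKData

theorem c0 : Part C 0 64 36 := runChunk_sound C 36 (by decide +kernel : runChunk C 14 16383 0x800204cc143000800100040020008002000800200000000004002000816300000000000000000400000081030008002094c00100040020008002004c0b300000010000000000000000080020008001068c002000824300040020008002000839404cc143000400200000000000001000000000040000000123000000200040000000000000000000000000000001000000000040020008002004c002000000100000000000000000000000040000000000000810304cc1430004203044c001000800200cc1f30000103000000100000020000000000400000000000000000000000200000010004002000800000000000004000000000000000000000000000000000040000000000054c000000000100040000000000000000000040020008002004c0b3000000100000000000000008c2330bd0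0010a4c002000800200042a409cc0a30008002000800200041c300040c30008002004c0b300040020008002004c00200000010000000000000000000000000000000400000080c3054c2c4004c00100040020008002004c0b30000001000800000000f30000000000400205cc26400000000000000000400000080010f503d40008063000800201cc001071000200082230004002000800200080020008002000800100040020008083004c0020008001000000200000630008000000800000040000008002034c002000800100040020008002004c0020008001000000000000000008000000400200080020008000000000000040000008002000800200080010008001024c08300cc002000800201cc00100080020008002000400200080a3014c00200080020004002010c001024c08300cc063000800201cc0010008002000800200040020008002008c0020008002000800100040020008002004c002000800300080250054005 28 268435455 0x2418170602637000000000000000f416070000000000000000000000a412370a82107010105700001d6000000000c11070000216000000000000000a412470d00e2700002130100d5700001e60000196000018600000e600000000c00a4700000000000000000000000000000000000060093700001b60000000000000006009270140c070f0071700000000000000000000000000000000000038345703032270000000000000004403470440327038255700000000000000000000000000000000000000000000000000000000000000000000000000000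 0 64 = 37)

theorem c1 : Part C 64 128 48 := runChunk_sound C 48 (by decide +kernel : runChunk C 14 16383 0x8c00200080020008001000400200080020008333000410300000000000002000000000040000000000014c000000800000040000d0c1030ecc31300080010000001000000200002f3335022300000020004002010c0020008353000800100040030008002004c33300000010000000000000000000000004002000000000000000000000000400000087d40e0c39300080010008223098c002000400200040020008313004c2c30008cc400000000004002000400000000000000000000000100000000000000000000000040000000000000800200000000004002000028300000020000001000000000000010000000000824300046940008002008c10304cc00200080010008001024c0830008063000800201cc0010008002000800200040021cd0002008c00200080020008001000400200080020008002010c001024c0830008063000800201cc0010008002000800200040020008002008c0020008002000800100040020008002004c002000800200080010008002000828300040020a4c002010c001024c08300cc063000800201cc001000800200080020004002000800200040020008002000800200040020008002004c002000400200080020008002000800122d008300cc0020acc8c401cc00100080020008002000400200082a3000400200080020008002010c001024c00200cc063010c002024c00100082e300040020008002004c002000400200080020008002014c002000800100082c30008283000400200080f30acc000000000100000000008243000400200080020008001024c08300cc0020acc00201cc00100080020008002000400200080020008103098c0020008001010c0010b4c08300cc063000800201cc001000806300080020004002000800200040c300080020008002000400200080020008002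 28 268435455 0x11879071284927104d62700000001d04837100d437000000000000001d04827000036600003d60000000000000000000002d8cf5700003061a842471a842272c061371b8475700004160000000000000000000000000000000000000000000000000000000000000000000000000000000000000000000000000000000000000000000000000000000000000000000000000000000000000000000000000000000000000000000000000000000000000000001f472570000000000000000000000000000000000000000000000000000000000000000000000 64 64 = 49)

theorem c2 : Part C 128 192 48 := runChunk_sound C 48 (by decide +kernel : runChunk C 14 16383 0x8103000800200080010008001000845300cc002008c24300080010a4c00200080020004143110c063014c002000800200040020008001024c0830008063000800201cc0014e900020008002000400200080020008002000800200080010004cf4000847333d04630000001000000000000000000000000000000040000008ce4024ce1400080010004000000000000000000000001000000000000000000000000400200000000000000000000000040000008cb432d000200080010008001140c53300cc002000810300080010a4c002150ce740004e74110c002014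c00200080020004002010c001024c08300cc063000800201cc00100080020008002000400200080020008002000800200080010004002098c002000800200040020008002004c00200040020008002004c0020000001024c000000006300080000000002000400000080020008002000800100040020008002004c0020000001000008300cc0630008002000400200080020008002000000000040000008002000800200080010008001024c0830008063000800201cc0010008002000800200040020008002000800200080020008001010c001024c08300cc063000800201cc00100080020008002000400200080020008002000800200080010008001024c0830008063000800201cc0010008002000800200040020008002000800200080020008001014c0020008000000400200040c30008002004c0b30000001000000000000000000000000400200000000000223000000000044d30008001024c47300080630acc00201cc00100083c300088a4000400222908a4008c002000800200080010000002024c00000040000008001034c37300cc0020008002000800100080020c8c2330004002110c002010c0010f8c0020008063010c85421500012150002 28 268435455 0x1bc60471bc601700000001ac5f572c0612700004861ac5f170000000000000000000000000000000000000000000000000000000000000000000000000000000000002745a371552337000000000000002745a2724919573b45817000000000000000000000000000000000000000000000000000000000000000000000000000000000000000000038c8927000000022c542700003a600004f6000000000000000000000000000000003f600000000000000000000000000000000000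 128 64 = 49)

theorem c3 : Part C 192 256 35 := runChunk_sound C 35 (by decide +kernel : runChunk C 14 16383 0x80020000000000400000080020008002000800100040020008002004c0020000001000800000000630000000000400000000000008000000000200040000008002000800200080010008001024c08300cc002000800201cc00100080020008002000400200080a3000800200080020004002000400200080024910002000000100000000000063000000000000000004000000800201cc53300080010004002000800245500020000001000800045100630008000000400245d0002000000000000000004000000800200080020008001010c001024c08300cc002000800201cc001110c00200080020004002000800200080020008002000400200000020000002000000100000010000000000000000000000000000000400000040c3000831300085c300000000004002000000000080010ecc002144c002000000000000010000000014c002054c47300040630008002000800000040000008002140c14316cc0010008001130c45300cc002000810300080010a4c0020008002000400209cc002014c002000800200040020008001024c473000800237d0df437d000137d00f3014c223000400200082c3000000000000010000000014c22300083730004002000000200040020000000000000200000000000001014c002000808300040f3000022300000000004000008c10300085d3000800100040020000000000800000000020000000000000100040000000000000000000000010000000000000000001030b4c00000000010004d1400094743450002000000000000000004000000810304cc002000800100082430004002110c2e3014c22304cc0020004403000400000000000000000000000101cc00200000000000000000000000040000008d340008143000800100040c300084a300081c3000024300040000000000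 28 268435455 0x43095170000000000000026509173f0953741c94170000000000000000000000000000000000000000003b892372849117000000000000003b8922716981570000616000000000000000000000000000000000002208e0738c8937238881700000000000526000000000004e600000000000483000000000000000000000000000000000000000000000000000000000000496000000000003a6194780700000001a07b57000000000004b61806f070000433000042317c6b0700000001ec68170000000000000000000001e06557100d4271e0651700000000000000100d447 192 64 = 36)

theorem c4 : Part C 256 320 38 := runChunk_sound C 38 (by decide +kernel : runChunk C 14 16383 0x8223024c00100085630008002000408300085530008223054c473000800100042330008313004c0020000001000000000cc0000000000000000000040000008002130c143004c0010004233140c000190c0020000001000000000000000000000000400200000000000000000000000040000008233000835300080010008001130c00200cc002000800201cc0010a4c00200082830004002110c0020008002000831300040020008001024dd24000806374d1d3400041430008002000800200086530008001010c001000837300cc4630acc24300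08001004c0020008002000414300cc0020008002024c002000800176d00010009a3400cc063000000000000010000000044da44000431309cc002008c0020ecc00200080010004000000000000080000000000000400000000000004002098c002004c0020000001000000000000000000000000000100002f30000000000400000000000009ce404cc143000579400080010b4c08300cc063000800201cc0010008002000000200040020000002008c0020008353000800100040000000000004c00000000010008002000062300000000000000000400000000000000000000000100040000000000000800000000010000000000800000040020008002000800200000010e0c00200cc002000800347d0001068c002008c002000520409cd2045d1000200080020005744000428300080026ad0463000800100000006a9006300000000000000000400000080020008002000800100040020008002004c0020008001000000000cc0630008000000400200000020008002000800000040000008002000800200080010008001024c08300cc0020acc00201cc001000800200080020004002004c0a300080020008313000400200042830008123004c4630000001000000200cc063 28 268435455 0x4d8a9370000586000000028112274d8a92700003a6534a7170000000000000000000000000000000000000000000000000000000000000000000000000000000000000000000688a33700000000000000244a15700005a60000000160a207000021300006360000000000000000000002650957000000000006861689d4700005f300006062409c572409c4700000001649e0700000000000000000000000000004209a370000586000000000000004209a27259bf57159bb270000000000000000000000000000000000000000002610d17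 256 64 = 39)

theorem c5 : Part C 320 384 51 := runChunk_sound C 51 (by decide +kernel : runChunk C 14 16383 0x1000000000000000c8c00300080010a4c6b30008002000400209cc2f300081030008002000400200040020008002004c46300000010000000000000000000000000000000000100040020008002004c002000000100000000000063000000000040020008563000000000000000004000000800000000000000001000000100000000000000000800200080010008593000824300040025d50593008d73401cc533178c00100040c30008002004c00200040020008002004c00200040c30008002004c0b300040020008002004c00200040020008002004c0020008001000800200080020008223024c00100082c30008002000408300080f30008002000800109cc002014c00204cc1430004002008c28300080020a4c00100040020008002004c002008c243000400209cc002000822304cc002000400200040020008002004c0b300082430004002000859300040020008453004c002000800204cc143000456300040020008002004c0b3000800200080010a4c0020008283000412309cc00200082230008002000400200040c30008002004c00200040020008002004c0b3000800100080020008593014c223024c00100080630008002000408300085530008223000800200080010004002024c00200080020000001000000200000000008002000808300080010004233024dcd400080020000001000000000000000000000000400000000000000000000000000040000008233140c373000800100080011b0c6e300cc002000800276500010a4c06300081030005d64110c0020008002000800200040020000000000000100000000004223000800200080b3008c002000800200040020004223000800200080b315cc2230008002000459300040c3098c002004c0b300040c30008002004c002000800100080020008002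 28 268435455 0x244ef0700000000000000000000000000005d8eb3700000e300000005d8eb27248ee0700001b600000e35d8eb170000000000000000000000000000000000000000000000000000000000000000000000000000000000000000000000000000000000000000000000000000000000000000000000000000000000000000000000000000000000000000000000000000000000000000000000000000000029d3b1700000000000000548b847548b82700004360000000000000000000000000000000000000004b30000000000000000000000000000000000000000000000000 320 64 = 52)

theorem c6 : Part C 384 448 33 := runChunk_sound C 33 (by decide +kernel : runChunk C 14 16383 0x4000000000000000000000000000000000000010004000000000000000000000001000000000000000000000000000100000000004243098c002004c0020000001000000000000000c8c23371900010a4dc64198c0020005c7409cc2e300081030008002000400200040020008002004c0020000001000000000000000000000000000000040000008002098c31300080010000001000000000000000000000000400200000020008001024c4a30008593014c00200080016cd006300080020ecc08300cc001000000000000010000000000400000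00000000800000000010000000000800000040021e4c00209cc0b300000010e0c0000000002000000000000010000000000000000040000000000000810304cc1430004563000000100000000000000000000000000010000000000000000040000000000008c103140c5d3000800100040000000000000000000000000004000000062300040020008313004c002000000100006e300000027751dd477500010a4ddd400080030005a7409cc06300080020008002000400200040020008143004c0b300040020008653004c463000000100000000000000000000000000000004000198c003098c083004c00100040020008002004c0b30000001000000000000000000000000400200000000000223000000200040000008001024c4a30008063000800200080016590773000991400059146450002000800200080020008001014c0010009c3400081c30000000000000100000000009c4400043130008002008c0020008083000800100040020008313004c002000000100000000000000000800204cc14300040020008001000831300080f30008002000800100cc4d3000000000040000000000008c28300080020a4c00100040000000000000000000040020008002004c002 28 268435455 0x70667d08072510757251074700004960000000265090700000000000000000000000000006c1053700001d300000006c1052726908070000000000000000000000000486264ff57264ff470000000251000700006a63e5a8370000000000069600006a600003a60000000260fa57260fa270000000254fc0700000000000000000000000000000000000648f83700004b600000000000000648f8270000736000075300000000000000000000000000000000000708f437000000000000000000000240f3070000000000000000000006b0f027000000024919170000000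 384 64 = 34)

theorem c7 : Part C 448 512 42 := runChunk_sound C 42 (by decide +kernel : runChunk C 14 16383 0x4103140c313004c0020008001000800200085930008223024c00100082f3000800200040830008002000822300080021d8c001000800200080010008002000828300044a300080b3010c00200040020008002000800200080010008063000828300043131d8c0020008002098c083000800100040c3098c00200080b300040020008143000833300040c3000800200080b30c8c0020008001110c002000800200081430004063000400201cc002004c0b300040c3098c313004c4630008001000800200081c30008223024c00100080020008002000808300080010d0c002140c0020008001010c001000800200cc0020008103024c0010a4c002000800200084a30004002008c002000800200080010004002000808300080020d0c103000800200080010008002024c00200040020c8c002140c5d300080010008001000800200cc002010c1030004083110c00200080020f8c002000400200080010008002004c00200080020008000000000100040c3000800200080020004000000000000000000004000000000000000000000000000800000000010c8c001000000000000020000000000400000000000000283000000200000010c8c001000800200cc002014c0020f8c4a30004002010c00100000020000000000000000000010000000000810300085d3000800100040000000000000000000000000000000000000100000010000002000000000000000000001000000000080020004002000800200000000000001000000000040c3000000000000000004002000808300080b3000000100000000000000000000000000010000000000000000040000000713014c00204cc1430004002000000100000000000000000000000000010000000000000000040000000000008c103140c6530008001000400000000000000000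 28 268435455 0x3f99d27000000000006f3429ca4775949474391b474391b274391b0700000000000000000074674d2e2700000004e11157281123728112177391e27000000046d0e372610d5700000002610d0700004e600007230000000000067600006a600003a6000000000006d6 448 64 = 43)

theorem c8 : Part C 512 576 64 := runChunk_sound C 64 (by decide +kernel : runChunk C 14 16383 0x8283000400200087830008001000814300cc002ae52b9400080010008002044c0020004313110c0b3010c001000812300cc0b30008283000800100086b3af52bd40006bd409cebd40008002000808300080010004002000800200080020004002000800200087d30008283995000100080020008243000666409cc0020008001000831300cc00200082430008001004c7a300080020004143178c713000800200080010a4c0a30008283000431300080020008001000831300cc002000824300080010008002000800200041431f0c0a3010c0010008533094c002000824300080010a4c2c30d0c002000414309cc0f300040c30008002000800200040020008002000800200041030008002000800200042830008002004c0b3010c001000808300cc0630008103000800105cc00200080020004083000800200080020008002004c0010004002000800200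08002014c24300040020008163010c001024c08300cc002000800201cc00100080020008002000400200080a3000400200080020008002000800100080020a4c0020d0c103024c00100080020004283130c4a30008002010c001000800200cc06300080c3024c0011d8c0b30008002000408300080b300042830008002004c00200040020008653004c0b3000400200080020008002000800200080010008002000828300040020008002000828301cc00100082c30008243000400200082a3000800104cc00200cc06300080021ecc00100080020acc2430004002110c2c300040c3000800200080020004002000800200080b30004002098c00200080b300080020008001000800200082830004002000855300040020008002004c00200080020008083000456300040020008313004c0b30008223024c002000477300040020008002004c00200040020008002004c002 28 268435455 0 512 64 = 65)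

theorem c9 : Part C 576 640 62 := runChunk_sound C 62 (by decide +kernel : runChunk C 14 16383 0x4002000800200080b3010c00200085d3094c001000410300085d3004c00200080020008143000400200080020f8c0020004873000410300085d30008002010c001000800200085930008223024c0010008593008c223130c002094c001014c002000800200040f30008223000800200040b3008c10300080020008001014c0020f8c4a300043c300040020008143004c002000800100080020008063010c223000408300080020008002130c0020008001014c001000800200080630d0c00200085d3004c001000822300084a30004002014c2230f8c4a300040020008103140c31300080010004002098c0020008002010c0020008001000800200082830004002000800200000020000001000000000000020004000000000000040021ecc002000800200040c3140c5d3004c002000800100080020008553014c2230f8c4a30004002010c001098c002004c0b3010c00201cc001068c06300080c3098c653000800100040c30008002004c00200040c3000831300080b3014c002000800100080f30008283000400200082c30008001000808300cc2a300080c300080010a4c002010c001140c5d300cc063000810300080010a4c2c30d0c002000400209cc00200040020f8c14300080020004002000847300080b30004002000800200081c3010c00204cc14300080010004002024c00200080020008001054c53300080020008002000800100cc002014c283000400200085530d0c103024c0020004002008c00200080020008001014c002000808300040020008001024c00200cc0630acc002024c00105cc063000800200080020008001000400200083130008002010c001000800200cc0a30d0c103024c0010a4c00200080c3140c313004c00100040c30008002004c0020004002000800200080020c8c002000800100080f3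 28 268435455 0x85399a34470000000000000000000000000000000000000000000000000000000000000000000000000000000000000000000000000000000000000000000000000000000000000000000000000000000000000000000000000000000000000000000000000000000000000000000000000000000000000000000000000000000000000000000 576 64 = 63)

theorem c10 : Part C 640 704 51 := runChunk_sound C 51 (by decide +kernel : runChunk C 14 16383 0x80020004083004c00200080c3024c4730008001000400200005d300004630000001000000000000000000000000000000040020c8c233024c353000800100040c300000000000000000000100000000000000000000000040020000000000000000008130004000010c001000800200087e30008002200c001aed2bb40d0c2430006b64ad90063008c223024c53300080010008002000008300040000008001000800200cc0630008002024c0010a4c0020008001000800200087e3014c223200c0010008002ac52b140006b14ac50002008c223b1d0002000800100040020008083000800200040020008473000846300040020ecc083004c002000000200080000004000000424320cc6e3004c0f300000000004000000000000000000000000000400000041030008002004c0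02000aa74a9d0001a9d0002000822300040020008002000810300080020008001000800100085330008002000824300080011d8c0020d0c00200041430008063000800100080020008063000822300040830008063000400200080020008002000428300083130008002000800100080020a4c0020008103024c0010008002008c002000408300cc002000400200080830008002010c0010ecc00200cc002010c00201cc0010a4c0630004002000831300080b300000020000001110c00000000000004000000000000080010008313004c0f3000824300080010a4c002008c002000414300082a3000800300080830008001000400201cc4a3000800200040c3000800200080b30004223024c4a30008002000800200080830008001000400200083131d8c002010c002000800100080020004002098c5d30008002010c002000800200cc0010d0c00200085d300080010008002098c08300040020d0c00201cc0011d8c002008c28300040020008002 28 268435455 0x823ade1e3700003d6000000000006a3ade1e2700007f600004e60000000000000000000000000000000075300000000000000000000000000000000000000000000000000000000000000000004b60000000a460e27a460e170000000000000000000000000000000000000000000000000000000000000000000000000000000000000000000000000000000000000000000000000000000000866a460e470000000000000000000000000000000000000000000000000000000000000000000000000000000000000000000000000000000000000000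 640 64 = 52)

theorem c11 : Part C 704 768 61 := runChunk_sound C 61 (by decide +kernel : runChunk C 14 16383 0x4283140c5d300080020acc00100080020008002000810300040830008002008c10301cc6e30004002010c0010008002000800200082430f8c002004c00100082430008002110c0010008223054c31300041c3000800200080020008001008c002024c00209cc00100080c3098c453000459300080020008001094c00200082830004313190c2c3010c002000800100080b300040c30b4c00200080f300040020008002004c002008c002054c14300080010008001000800200085630008223024c0010008593010c001000800200080020008223024c00100080f300080020004083000820300040c30f8c4a30008002000400200081430008002014c002000800200042c30c8c002130c00200cc0010008001000800200cc00200080020f8c0020004563000800100080020008002010c00100080020008063014c223024c00100083c30008002140c5d316cc0010004002000808300080020008002000800200080010008002000808300040b300080010008002000806300080c3024c001004c002014c00200040830008002008c002130c00216cc001010c001000808300080020008002000800109cc063014c283000412300087730d0c00200080020008001000410300080020a4c0020008103000800200080010004002140c353004c00200040020ecc313004c00200080020000002000400000000020f8c0000004002000800201cc002000800100040c30008002190c0b3000822300080010008002b412d040006d04b410002000810300080020008001000800104cc00200080b3150ecf4b3d0001b3d2cf40000000000400000000000c8c0c30008002094c001014c002000800100080020d0c2830004002000800200080010ecc00200cc0020acc003034c0010a4c0020c8c002000400209cc002010c001000800200080a3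 28 268435455 0x61600003f6000000000000000000000000000000000000000000000000000008430000000000000000000000000000000000000000000000000 704 64 = 62)

theorem c12 : Part C 768 829 61 := runChunk_sound C 61 (by decide +kernel : runChunk C 14 16383 0x40c30008313004c0b300040c30008002000800200040c30008002004c00200040c3098c31300080b300040c3098c313004c0b30008002000800200040020008002000800200040020004002000800200080020008002000800200080010c8c002000400200080020008001000800200080020008001000800200cc0020008002024c002094c001010c1030008083094c001008c001000800200cc00200081030004083178c0020008002000800200040020008223000800200040020004002000831300080b3044c00200085d300080010008103140c0020008001010c0020008001000859300082830004002004c5930008223098c00200045930008002000800100080020d0c002024c0020004002014c0020008002000800100081030f8c00200080010008001000800200080020008233024c0010008563000800200040020a4c00200042230f8c08300080020008002054c0020a4c00100042830f8c813000800200081031e4c473000800100082830008001094c002220c0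020004002094c06300081030ecc813000400200040020008143000800200040020f8c4730008593000800100080020008002014c223024c0010008002044c0020004083000806300080c300086530008001000800100080020008063010c223024c0010008002000800200080830004593014c00201cc533094c0010008002000800100080630008283000400209cc0020004002034c1430008002014c00100080020008002010c103024c0010008002044c00200084730004002008c002024c002094c001000422300084a3000859300080020004002000800215cc002000800109cc002014c00201cc00200040020004002140c5d300080b3014c00200081430008001 28 268435455 0 768 61 = 62)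

theorem all : Part C 0 829 630 := ((((((((((((c0).append C c1).append C c2).append C c3).append C c4).append C c5).append C c6).append C c7).append C c8).append C c9).append C c10).append C c11).append C c12

end Cfsg.Agent.ONType.TupKChk0
end

-- part: ONType/TupKAll
section
set_option autoImplicit false
set_option maxRecDepth 100000

namespace Cfsg.Agent.ONType.TupKAll

open Cfsg.Agent.SporadicRecognition.CosetCert Cfsg.Agent.ONType.TupKData

theorem part : Part C 0 C.N 630 := Cfsg.Agent.ONType.TupKChk0.all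

end Cfsg.Agent.ONType.TupKAll
end

-- part: ONType/TupOrb
section
/-!
Orbits of the subgroup `⟨c, d, g⟩` on the 630 cosets: for every node the root of its orbit and a path.
-/

set_option autoImplicit false
set_option maxRecDepth 100000

namespace Cfsg.Agent.ONType.TupOrb

/-- roots and paths -/
def orb : List (ℕ × List ℕ) := [
  (0, []), (1, []), (1, [0]), (1, [2]), (1, [3]), (1, [2, 2]), (1, [0, 1]), (1, [0, 2]), (1, [0, 3]),
  (1, [0, 2, 2]), (1, [2, 0]), (0, []), (0, []), (0, []), (1, [0, 2, 0, 3]), (1, [3, 0]), (0, []),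
  (0, []), (1, [0, 2, 0]), (1, [0, 1, 0]), (1, [0, 1, 2]), (1, [0, 1, 3]), (1, [0, 1, 2, 2]),
  (0, []), (0, []), (0, []), (26, []), (1, [0, 3, 0]), (0, []), (0, []), (30, []), (31, []),
  (1, [2, 0, 1]), (1, [2, 0, 2]), (1, [2, 0, 3]), (0, []), (30, [0, 3]), (0, []), (0, []), (0, []),
  (0, []), (0, []), (0, []), (0, []), (0, []), (1, [0, 2, 0, 2]), (1, [3, 0, 1]), (0, []), (0, []),
  (26, [0]), (0, []), (0, []), (0, []), (0, []), (1, [0, 1, 0, 1]), (1, [0, 1, 0, 2]), (1, [0, 1, 0, 3]),
  (0, []), (58, []), (1, [0, 1, 2, 0]), (0, []), (0, []), (26, [1]), (1, [0, 1, 3, 0]), (30, [1]),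
  (31, [1]), (26, [2]), (26, [3]), (26, [2, 2]), (30, [0]), (30, [2]), (30, [3]), (30, [2, 2]),
  (31, [2]), (0, []), (1, [2, 0, 1, 2]), (1, [2, 0, 1, 3]), (30, [0, 1, 3]), (30, [0, 3, 0]),
  (30, [0, 2, 2]), (30, [0, 2]), (26, [0, 1]), (26, [0, 2]), (26, [0, 3]), (26, [0, 2, 2]), (58, [1]),
  (86, []), (86, [1]), (58, [2]), (58, [3]), (58, [2, 2]), (1, [0, 1, 2, 0, 2]), (1, [0, 1, 2, 0, 3]),
  (93, []), (26, [1, 0]), (26, [1, 2]), (26, [1, 3]), (26, [1, 2, 2]), (93, [1]), (30, [1, 0]),
  (30, [1, 2]), (30, [1, 3]), (30, [1, 2, 2]), (31, [1, 0]), (31, [1, 2]), (0, []), (0, []),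
  (0, []), (0, []), (0, []), (0, []), (0, []), (30, [2, 0, 2]), (30, [0, 1]), (30, [2, 0]), (0, []),
  (0, []), (0, []), (30, [2, 0, 3]), (30, [3, 0]), (0, []), (0, []), (31, [2, 0]), (0, []), (0, []),
  (0, []), (30, [0, 3, 0, 1]), (30, [0, 1, 3, 0]), (30, [0, 1, 2, 2]), (30, [0, 1, 2]), (30, [0, 2, 0, 3]),
  (30, [0, 2, 0, 2]), (30, [0, 2, 0]), (0, []), (26, [0, 1, 0]), (26, [0, 1, 2]), (26, [0, 1, 3]),
  (26, [0, 1, 2, 2]), (0, []), (0, []), (0, []), (31, [2, 0, 2]), (0, []), (58, [1, 0]), (58, [1, 2]),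
  (58, [1, 3]), (58, [1, 2, 2]), (86, [0]), (86, [2]), (86, [3]), (86, [2, 2]), (86, [1, 0]),
  (86, [1, 2]), (86, [1, 3]), (86, [1, 2, 2]), (58, [2, 0]), (0, []), (0, []), (0, []), (93, [0, 2, 0, 1, 3]),
  (58, [3, 0]), (0, []), (0, []), (163, []), (163, [0, 3, 0]), (163, [0, 3, 0, 1]), (93, [0]),
  (93, [2]), (93, [3]), (93, [2, 2]), (26, [1, 0, 1]), (26, [1, 0, 2]), (26, [1, 0, 3]), (26, [1, 0, 2, 2]),
  (26, [1, 2, 0]), (0, []), (0, []), (0, []), (0, []), (26, [1, 3, 0]), (0, []), (0, []), (30, [2, 0, 1, 2]),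
  (93, [1, 0]), (93, [1, 2]), (93, [1, 3]), (93, [1, 2, 2]), (30, [1, 0, 1]), (30, [1, 0, 2]),
  (30, [1, 0, 3]), (30, [1, 0, 2, 2]), (30, [1, 2, 0]), (0, []), (30, [2, 0, 1, 3]), (30, [1, 3, 0]),
  (0, []), (0, []), (0, []), (31, [1, 0, 1]), (31, [1, 0, 2]), (31, [1, 2, 0]), (0, []), (30, [2, 0, 1]),
  (0, []), (0, []), (0, []), (0, []), (0, []), (30, [0, 1, 0]), (0, []), (30, [3, 0, 1]), (0, []),
  (0, []), (31, [2, 0, 1]), (0, []), (30, [0, 2, 0, 1, 3]), (30, [0, 2, 0, 1, 2]), (30, [0, 2, 0, 1]),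
  (30, [0, 1, 3, 0, 1]), (30, [0, 1, 2, 0, 3]), (30, [0, 1, 2, 0, 2]), (30, [0, 1, 2, 0]), (30, [0, 1, 0, 2, 2]),
  (0, []), (26, [0, 1, 0, 1]), (0, []), (26, [1, 2, 0, 2]), (0, []), (31, [2, 0, 1, 2]), (0, []),
  (0, []), (0, []), (58, [1, 0, 1]), (58, [1, 0, 2]), (58, [1, 0, 3]), (58, [1, 0, 2, 2]), (58, [1, 2, 0]),
  (0, []), (0, []), (0, []), (93, [0, 2, 0, 3]), (58, [1, 3, 0]), (0, []), (0, []), (163, [1]),
  (86, [0, 1]), (86, [0, 2]), (86, [0, 3]), (86, [0, 2, 2]), (86, [2, 0]), (0, []), (0, []),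
  (0, []), (163, [3]), (86, [3, 0]), (0, []), (0, []), (93, [0, 2, 0]), (86, [1, 0, 1]), (86, [1, 0, 2]),
  (86, [1, 0, 3]), (86, [1, 0, 2, 2]), (86, [1, 2, 0]), (0, []), (0, []), (0, []), (163, [1, 3]),
  (86, [1, 3, 0]), (0, []), (0, []), (93, [0, 2, 0, 1]), (58, [2, 0, 1]), (58, [2, 0, 2]), (58, [2, 0, 3]),
  (0, []), (163, [0, 2, 0, 1, 2]), (0, []), (0, []), (0, []), (0, []), (0, []), (0, []), (93, [1, 2, 0, 2]),
  (0, []), (93, [0, 3, 0, 1]), (93, [0, 2, 0, 1, 2]), (58, [3, 0, 1]), (0, []), (0, []), (0, []),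
  (86, [0, 2, 0, 2]), (0, []), (0, []), (163, [0]), (163, [2]), (0, []), (163, [2, 2]), (163, [0, 3]),
  (163, [0, 2, 0, 3]), (163, [0, 2, 0, 2]), (163, [0, 2, 0]), (163, [1, 0, 3]), (163, [0, 2, 0, 1, 3]),
  (163, [0, 2, 0, 1]), (93, [0, 1]), (93, [0, 2]), (93, [0, 3]), (93, [0, 2, 2]), (93, [2, 0]),
  (0, []), (0, []), (0, []), (0, []), (93, [3, 0]), (0, []), (0, []), (86, [0, 2, 0, 1]), (26, [1, 0, 1, 0]),
  (26, [1, 0, 1, 2]), (26, [1, 0, 1, 3]), (26, [0, 1, 0, 1, 0]), (321, []), (322, []), (26, [1, 2, 0, 1]),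
  (93, [3, 0, 1]), (26, [1, 3, 0, 1]), (86, [1, 0, 1, 2]), (0, []), (93, [1, 0, 1]), (93, [1, 0, 2]),
  (93, [1, 0, 3]), (93, [1, 0, 2, 2]), (93, [1, 2, 0]), (0, []), (0, []), (0, []), (58, [2, 0, 1, 3]),
  (93, [1, 3, 0]), (0, []), (86, [0, 2, 0]), (30, [1, 0, 1, 0]), (30, [1, 0, 1, 2]), (30, [1, 0, 1, 3]),
  (30, [0, 1, 0, 1, 0]), (344, []), (322, [0]), (30, [1, 2, 0, 1]), (30, [1, 2, 0, 2]), (30, [1, 2, 0, 3]),
  (349, []), (30, [1, 3, 0, 1]), (93, [0, 1, 0, 3]), (31, [1, 0, 1, 2]), (353, []), (31, [1, 2, 0, 1]),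
  (31, [1, 2, 0, 2]), (353, [1, 0, 1, 2]), (30, [0, 1, 0, 2]), (30, [0, 1, 0, 1]), (30, [0, 1, 0, 3]),
  (30, [0, 1, 2, 0, 1, 3]), (30, [0, 1, 2, 0, 1, 2]), (30, [0, 1, 2, 0, 1]), (86, [0, 1, 3, 0, 1]),
  (349, [0]), (322, [1, 2, 0, 3]), (344, [0]), (322, [0, 2, 0, 1, 2]), (58, [1, 0, 1, 0]), (58, [1, 0, 1, 2]),
  (58, [1, 0, 1, 3]), (0, []), (0, []), (0, []), (0, []), (0, []), (353, [1, 3, 0, 1]), (0, []),
  (0, []), (321, [2, 0]), (58, [1, 2, 0, 1]), (58, [1, 2, 0, 2]), (58, [1, 2, 0, 3]), (0, []),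
  (321, [0, 3]), (0, []), (93, [2, 0, 2]), (0, []), (93, [0, 3, 0]), (93, [0, 2, 0, 2]), (58, [1, 3, 0, 1]),
  (0, []), (353, [0, 2, 0, 2]), (163, [1, 0]), (163, [1, 2]), (0, []), (163, [1, 2, 2]), (86, [0, 1, 0]),
  (86, [0, 1, 2]), (86, [0, 1, 3]), (86, [0, 1, 2, 2]), (0, []), (0, []), (0, []), (344, [2, 0, 3]),
  (86, [0, 3, 0]), (0, []), (0, []), (353, [0, 1, 0, 1]), (322, [1, 2, 0, 2]), (86, [2, 0, 1]),
  (86, [2, 0, 2]), (86, [2, 0, 3]), (0, []), (414, []), (0, []), (0, []), (163, [3, 0]), (0, []),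
  (0, []), (0, []), (86, [3, 0, 1]), (0, []), (0, []), (0, []), (86, [0, 1, 0, 1, 2]), (0, []),
  (0, []), (0, []), (86, [1, 0, 1, 0]), (86, [1, 0, 1, 3]), (86, [0, 1, 0, 1, 0]), (0, []), (0, []),
  (86, [0, 3, 0, 1]), (0, []), (0, []), (322, [0, 2, 0, 1, 3]), (86, [1, 2, 0, 1]), (86, [1, 2, 0, 2]),
  (86, [1, 2, 0, 3]), (0, []), (322, [3]), (0, []), (0, []), (0, []), (0, []), (0, []), (0, []),
  (163, [1, 3, 0]), (0, []), (0, []), (0, []), (86, [1, 3, 0, 1]), (0, []), (0, []), (0, []),
  (93, [0, 1, 2]), (0, []), (0, []), (58, [2, 0, 1, 2]), (0, []), (0, []), (0, []), (0, []),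
  (163, [1, 2, 0, 3]), (0, []), (0, []), (93, [1, 2, 0, 1, 2]), (93, [1, 2, 0, 3]), (0, []),
  (0, []), (0, []), (0, []), (0, []), (0, []), (86, [0, 2, 0, 1, 2]), (0, []), (86, [0, 2, 0, 3]),
  (163, [0, 1]), (163, [0, 2]), (163, [0, 2, 2]), (163, [2, 0]), (163, [0, 1, 3]), (163, [2, 0, 2]),
  (86, [0, 2, 0, 1, 3]), (163, [2, 0, 3]), (163, [1, 0, 1, 3]), (163, [1, 0, 2, 2]), (163, [1, 0, 2]),
  (163, [1, 2, 0, 2]), (93, [0, 1, 0]), (93, [0, 1, 3]), (93, [0, 1, 2, 2]), (322, [1, 2]), (322, [2, 2]),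
  (93, [2, 0, 1]), (93, [2, 0, 3]), (322, [0, 2, 0, 2]), (321, [1]), (322, [1]), (321, [0]),
  (321, [2]), (321, [3]), (322, [2]), (93, [2, 0, 1, 3]), (93, [2, 0, 1, 2]), (93, [1, 0, 1, 0]),
  (93, [1, 0, 1, 2]), (93, [1, 0, 1, 3]), (93, [0, 1, 0, 1, 0]), (93, [0, 1, 2, 0]), (512, []),
  (322, [0, 2, 2]), (93, [1, 2, 0, 1]), (353, [0, 3]), (93, [1, 3, 0, 1]), (344, [0, 2, 0, 2]),
  (30, [0, 1, 0, 1, 3]), (30, [0, 1, 0, 1, 2]), (344, [0, 1]), (344, [1]), (322, [0, 1]), (344, [2]),
  (344, [3]), (344, [2, 2]), (322, [0, 2]), (322, [0, 3]), (30, [1, 2, 0, 1, 2]), (30, [1, 2, 0, 1, 3]),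
  (349, [1]), (512, [0, 3]), (353, [0]), (349, [2]), (349, [3]), (349, [2, 2]), (93, [0, 1, 0, 1, 3]),
  (93, [0, 1, 0, 2, 2]), (93, [0, 1, 0, 2]), (353, [1]), (353, [2]), (353, [3]), (353, [2, 2]),
  (31, [1, 2, 0, 1, 2]), (353, [1, 0, 2]), (353, [0, 1, 3, 0, 1]), (353, [0, 1, 0, 1, 0]), (353, [1, 0, 1]),
  (353, [1, 0, 1, 3]), (414, [2]), (86, [0, 1, 3, 0]), (349, [0, 1]), (322, [1, 2, 0, 1, 3]),
  (86, [0, 1, 2, 0, 1, 3]), (86, [0, 1, 2, 0, 1, 2]), (86, [0, 1, 2, 0, 1]), (349, [0, 2]), (349, [0, 3]),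
  (349, [0, 2, 2]), (322, [1, 2, 0]), (322, [1, 3, 0]), (344, [0, 2]), (344, [0, 3]), (344, [0, 2, 2]),
  (322, [0, 3, 0, 1]), (322, [0, 2, 0, 1]), (353, [1, 3, 0]), (321, [2, 0, 1]), (353, [0, 1, 0, 1, 2]),
  (353, [1, 2, 0, 1, 3]), (353, [1, 2, 0, 1, 2]), (353, [1, 2, 0, 1]), (321, [2, 0, 2]), (321, [2, 0, 3]),
  (321, [3, 0]), (58, [1, 2, 0, 1, 2]), (58, [1, 2, 0, 1, 3]), (321, [0, 1, 3]), (353, [0, 3, 0]),
  (321, [0, 3, 0]), (321, [1, 0]), (321, [0, 2]), (353, [0, 2, 0, 1, 2]), (353, [2, 0, 3]), (353, [0, 2, 0]),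
  (353, [0, 2, 0, 3]), (163, [1, 0, 1]), (163, [1, 2, 0]), (86, [0, 1, 0, 1]), (86, [0, 1, 0, 2]),
  (86, [0, 1, 0, 3]), (86, [0, 1, 0, 2, 2]), (344, [1, 0]), (86, [0, 1, 2, 0]), (344, [1, 3, 0]),
  (353, [0, 1, 0]), (322, [1, 2, 0, 1, 2]), (344, [2, 0]), (344, [3, 0]), (344, [2, 0, 2]), (353, [0, 1, 0, 1, 3]),
  (353, [1, 0, 1, 0]), (86, [2, 0, 1, 2]), (86, [2, 0, 1, 3]), (414, [1]), (349, [3, 0]), (414, [0]),
  (414, [3]), (414, [2, 2]), (163, [3, 0, 1]), (86, [0, 1, 0, 1, 3]), (322, [1, 0]), (322, [0, 2, 0, 3]),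
  (0, []), (0, []), (86, [1, 2, 0, 1, 2]), (86, [1, 2, 0, 1, 3]), (322, [1, 3]), (322, [3, 0]),
  (163, [1, 3, 0, 1]), (163, [1, 2, 0, 1, 3]), (93, [0, 1, 2, 0, 1, 2]), (93, [1, 2, 0, 1, 3]),
  (163, [0, 1, 0]), (163, [0, 1, 2]), (163, [0, 1, 2, 2]), (349, [2, 0]), (163, [2, 0, 1]), (163, [0, 1, 3, 0]),
  (163, [2, 0, 1, 2]), (163, [2, 0, 1, 3]), (163, [0, 1, 2, 0, 1]), (163, [0, 1, 0, 1, 0]), (163, [1, 0, 1, 2]),
  (93, [0, 1, 2, 0, 2]), (163, [1, 2, 0, 1, 2]), (93, [0, 1, 0, 1]), (322, [2, 0, 3]), (93, [0, 1, 3, 0]),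
  (322, [1, 2, 2]), (322, [0, 3, 0]), (322, [0, 2, 0]), (321, [0, 1]), (322, [2, 0]), (93, [0, 1, 2, 0, 3]),
  (321, [0, 2, 0]), (93, [0, 1, 0, 1, 2]), (344, [0, 1, 0]), (93, [0, 1, 3, 0, 1]), (93, [0, 1, 2, 0, 1]),
  (512, [1]), (322, [0, 1, 2, 2]), (512, [0]), (512, [2]), (512, [3]), (512, [2, 2]), (0, []),
  (0, []), (353, [0, 1, 3]), (353, [0, 2, 2]), (353, [0, 2]), (344, [0, 1, 0, 2]), (344, [0, 3, 0]),
  (344, [0, 2, 0]), (344, [0, 2, 0, 3]), (414, [1, 2]), (353, [0, 1, 3, 0]), (344, [0, 1, 2]),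
  (344, [1, 0, 3]), (344, [1, 2]), (344, [1, 3]), (344, [1, 2, 2]), (322, [0, 1, 0]), (322, [0, 1, 2]),
  (322, [0, 1, 3]), (349, [0, 2, 0]), (0, []), (0, []), (349, [0, 2, 0, 3]), (0, []), (353, [2, 0]),
  (512, [0, 1, 3]), (353, [0, 1]), (349, [1, 0]), (349, [1, 2]), (349, [1, 3]), (349, [1, 2, 2]),
  (512, [0, 2, 2]), (512, [0, 2]), (0, []), (353, [1, 0]), (353, [1, 2]), (353, [1, 3]), (353, [1, 2, 2]),
  (0, []), (0, []), (0, []), (0, []), (353, [3, 0]), (0, []), (0, []), (0, []), (353, [0, 2, 0, 1]),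
  (353, [1, 0, 2, 2]), (353, [1, 0, 3]), (353, [0, 1, 2, 0, 1, 3]), (353, [0, 1, 2, 0, 1, 2]),
  (353, [0, 1, 2, 0, 1]), (86, [0, 1, 2, 0, 3]), (86, [0, 1, 2, 0, 2]), (349, [0, 1, 0]), (0, []),
  (349, [0, 1, 3]), (349, [1, 0, 2]), (322, [0, 1, 2, 0, 1, 3]), (322, [1, 2, 0, 1]), (322, [1, 3, 0, 1]),
  (414, [0, 2]), (349, [0, 3, 0]), (0, []), (0, []), (414, [0, 2, 2]), (322, [1, 0, 2, 2]), (322, [1, 0, 3]),
  (321, [0, 2, 0, 3]), (322, [1, 0, 2]), (353, [1, 2, 0, 3]), (353, [1, 2, 0, 2]), (353, [1, 2, 0]),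
  (321, [0, 1, 0, 2]), (321, [2, 0, 1, 2]), (321, [2, 0, 1, 3]), (321, [3, 0, 1]), (353, [0, 1, 0, 2]),
  (321, [0, 2, 0, 2]), (353, [0, 3, 0, 1]), (321, [0, 1, 3, 0]), (321, [1, 0, 1]), (321, [0, 1, 2]),
  (353, [0, 2, 0, 1, 3]), (353, [2, 0, 1, 3]), (353, [2, 0, 2]), (163, [1, 0, 1, 0]), (163, [1, 2, 0, 1]),
  (414, [1, 0]), (322, [1, 0, 1]), (344, [2, 0, 1]), (344, [3, 0, 1]), (344, [1, 2, 0]), (353, [0, 1, 0, 3]),
  (353, [0, 1, 0, 2, 2]), (322, [0, 1, 2, 0, 1, 2]), (414, [0, 3]), (349, [3, 0, 1]), (414, [1, 3]),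
  (349, [2, 0, 3]), (349, [2, 0, 2]), (414, [0, 1]), (163, [0, 1, 0, 3]), (322, [2, 0, 2]), (322, [3, 0, 1]),
  (163, [0, 1, 0, 1, 2]), (163, [0, 1, 2, 0, 1, 3]), (93, [0, 1, 2, 0, 1, 3]), (163, [0, 1, 0, 1]),
  (163, [0, 1, 0, 2]), (163, [0, 1, 0, 2, 2]), (163, [0, 1, 2, 0, 3]), (163, [0, 1, 2, 0]), (349, [2, 0, 1]),
  (163, [0, 1, 3, 0, 1]), (163, [0, 1, 2, 0, 2]), (163, [0, 1, 2, 0, 1, 2]), (322, [2, 0, 1, 3]),
  (321, [0, 1, 0]), (322, [2, 0, 1]), (344, [0, 1, 0, 3]), (344, [0, 3, 0, 1]), (512, [1, 0]),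
  (512, [1, 2]), (512, [1, 3]), (322, [0, 1, 0, 2, 2]), (512, [0, 1]), (353, [0, 1, 2, 2]), (353, [0, 1, 2]),
  (414, [0, 1, 2]), (353, [0, 1, 2, 0, 3]), (353, [0, 1, 2, 0, 2]), (353, [0, 1, 2, 0]), (322, [0, 1, 0, 1, 0]),
  (349, [0, 2, 0, 1]), (322, [0, 1, 0, 1]), (322, [0, 1, 0, 2]), (322, [0, 1, 0, 3]), (322, [0, 1, 2, 0]),
  (349, [0, 1, 0, 2]), (322, [0, 1, 3, 0]), (353, [2, 0, 1]), (349, [0, 2, 0, 2]), (512, [0, 1, 2, 2]),
  (512, [0, 1, 2]), (349, [1, 2, 0]), (349, [1, 3, 0]), (353, [3, 0, 1]), (349, [0, 1, 0, 3]),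
  (322, [0, 1, 2, 0, 3]), (322, [0, 1, 2, 0, 1]), (322, [0, 1, 3, 0, 1]), (322, [0, 1, 0, 1, 3]),
  (322, [0, 1, 0, 1, 2]), (414, [0, 1, 2, 2]), (322, [1, 0, 1, 3]), (322, [1, 0, 1, 2]), (321, [1, 0, 1, 0]),
  (321, [0, 1, 0, 3]), (321, [0, 1, 2, 0, 3]), (321, [0, 1, 2, 0, 2]), (321, [0, 1, 2, 0]), (353, [2, 0, 1, 2]),
  (163, [0, 1, 0, 1, 3]), (322, [1, 0, 1, 0]), (414, [0, 1, 3]), (322, [0, 1, 2, 0, 2]), (322, [2, 0, 1, 2]),
  (824, []), (824, [1]), (824, [0]), (824, [2]), (828, [])]

/-- roots -/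
def roots : List ℕ := [0, 1, 26, 30, 31, 58, 86, 93, 163, 321, 322, 344, 349, 353, 414, 512, 824, 828]

end Cfsg.Agent.ONType.TupOrb
end

-- part: ONType/TupK
section
/-!
The subgroup generated by `a, b, c, d, g` in the presented O'Nan group: conjugates of `a`.
-/

set_option autoImplicit false
set_option maxRecDepth 100000

namespace Cfsg.Agent.ONType.TupK

open Cfsg.Spor Cfsg.Spor.ON Cfsg.Agent.SporadicB.ONHom Cfsg.Agent.SporadicB.ON45Word
  Cfsg.Agent.ONType.TupRow Cfsg.Agent.ONType.TupCover Cfsg.Agent.ONType.TupT0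

open Cfsg.Agent.SporadicRecognition.CosetCert (ev ev_nil ev_cons ev_append Hyp Rel walkS)
open Cfsg.Agent.SporadicRecognition.CosetCertHyp (hyp_of_checks invw ev_invw)
open Cfsg.Agent.Lib.PackMat (force force_eq)

/-- the group generated by `a, b, c, d, g` -/
def K0 : Subgroup ON := Subgroup.closure (gK '' {x | x < TupKData.C.k})

theorem rels_one (hs : IsSimpleGroup ON) : ∀ r ∈ TupKData.rels, ev gK r = 1 := by
  intro r hr
  have h : TupKData.rels.all (fun r => eqK r []) = true := by decide +kernel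
  exact eqK_spec hs (List.all_eq_true.1 h r hr)

theorem hinvK (hs : IsSimpleGroup ON) (x : ℕ) (hx : x < TupKData.C.k) :
    TupKData.C.inv x < TupKData.C.k ∧ gK x * gK (TupKData.C.inv x) = 1 := by
  have hx4 : x < 6 := hx
  have h : eqK [0, 0] [] = true := by decide +kernel
  have h2 : eqK [1, 1] [] = true := by decide +kernel
  have h3 : eqK [4, 4] [] = true := by decide +kernel
  have h4 : eqK [5, 5] [] = true := by decide +kernel
  have h := eqK_spec hs h
  have h2 := eqK_spec hs h2
  have h3 := eqK_spec hs h3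
  have h4 := eqK_spec hs h4
  simp only [ev_cons, ev_nil, mul_one] at h h2 h3 h4
  interval_cases x
  · exact ⟨by decide, h⟩
  · exact ⟨by decide, h2⟩
  · exact ⟨by decide, mul_inv_cancel _⟩
  · exact ⟨by decide, inv_mul_cancel _⟩
  · exact ⟨by decide, h3⟩
  · exact ⟨by decide, h4⟩

theorem hypK (hs : IsSimpleGroup ON) : Hyp TupKData.C T0 gK := by
  refine hyp_of_checks T0 gK TupKData.C TupKData.rels TupKData.subw rfl (hinvK hs) (rels_one hs) ?_
    (by decide +kernel)
  intro s hs'
  simp only [TupKData.subw, List.mem_cons, List.not_mem_nil, or_false] at hs'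
  rcases hs' with rfl | rfl | rfl
  · rw [ev_cons, ev_nil, mul_one]; exact c_mem
  · rw [ev_cons, ev_nil, mul_one]; exact d_mem
  · rw [ev_cons, ev_nil, mul_one]; exact g_mem

theorem card_K0_le (hs : IsSimpleGroup ON) : Nat.card K0 ≤ 630 * Nat.card T0 := by
  haveI := (card_T0_le hs).1
  exact (Cfsg.Agent.SporadicRecognition.CosetCert.card_closure_le TupKData.C T0 gK (hypK hs) TupKAll.part).2

/-! ### Orbits -/

/-- check of the orbit data -/
noncomputable def orbOK : List (ℕ × List ℕ) → ℕ → Bool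
  | [], i => Nat.ble TupKData.C.N i
  | p :: rest, i => (bif dead TupKData.C i then true else
      (TupOrb.roots.elem p.1 && Nat.blt p.1 TupKData.C.N && (p.2.all fun x => Nat.blt x 4) &&
        Nat.beq (walkS TupKData.C (TupKData.C.mask - 1) p.2 p.1) (i + 1))) && force (i + 1) fun j => orbOK rest j

theorem orbOK_spec : ∀ (L : List (ℕ × List ℕ)) (i : ℕ), orbOK L i = true → ∀ j, i ≤ j → j < TupKData.C.N →
    dead TupKData.C j = false → ∃ r ∈ TupOrb.roots, r < TupKData.C.N ∧ ∃ u : List ℕ, (∀ x ∈ u, x < 4) ∧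
      walkS TupKData.C (TupKData.C.mask - 1) u r = j + 1
  | [], i, h, j, h1, h2, _ => by
    exfalso
    have h3 : Nat.ble TupKData.C.N i = true := h
    have := Nat.le_of_ble_eq_true h3
    omega
  | p :: rest, i, h, j, h1, h2, h3 => by
    rw [orbOK, force_eq, Bool.and_eq_true] at h
    rcases Nat.eq_or_lt_of_le h1 with rfl | h4
    · have h5 := h.1
      rw [h3, cond_false, Bool.and_eq_true, Bool.and_eq_true, Bool.and_eq_true] at h5
      obtain ⟨⟨⟨k1, k2⟩, k3⟩, k4⟩ := h5
      refine ⟨p.1, List.elem_iff.1 k1, blt_iff.1 k2, p.2, ?_, Nat.eq_of_beq_eq_true k4⟩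
      intro x hx
      exact blt_iff.1 (List.all_eq_true.1 k3 x hx)
    · exact orbOK_spec rest (i + 1) h.2 j h4 h2 h3

theorem orb_ok : orbOK TupOrb.orb 0 = true := by decide +kernel

theorem gK_eq (x : ℕ) (hx : x < 4) : gK x = gJ x := by
  interval_cases x <;> rfl

theorem evK_mem (w : List ℕ) (hw : ∀ x ∈ w, x < 4) : ev gK w ∈ T0 := by
  induction w with
  | nil => rw [ev_nil]; exact T0.one_mem
  | cons x w ih =>
    have hx := hw x (by simp)
    rw [ev_cons, gK_eq x hx]
    exact T0.mul_mem (Subgroup.subset_closure ⟨x, hx, rfl⟩) (ih fun y hy => hw y (by simp [hy]))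

theorem exists_root (hs : IsSimpleGroup ON) {k : ON} (hk : k ∈ K0) : ∃ r ∈ TupOrb.roots, r < TupKData.C.N ∧
    ∃ u ∈ T0, k * (ev gK (nword TupKData.C r) * u)⁻¹ ∈ T0 := by
  obtain ⟨hcov, hwalk⟩ := covered (hypK hs) TupKAll.part
  obtain ⟨l, h1, h2, h3⟩ := hcov k hk
  obtain ⟨r, hr, hrN, u, hu, h4⟩ := orbOK_spec _ 0 orb_ok l (Nat.zero_le _) h1 h2
  obtain ⟨-, h5⟩ := hwalk u (fun x hx => (hu x hx).le.trans (by show 4 ≤ 6; decide)) r l hrN h4
  exact ⟨r, hr, hrN, ev gK u, evK_mem u hu, h3.trans h5.symm⟩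

/-- the word of the conjugate of `a` at the node `r` -/
noncomputable def Xw (r : ℕ) : List ℕ := invw TupKData.C.inv (nword TupKData.C r) ++ 4 :: nword TupKData.C r

theorem ev_Xw (hs : IsSimpleGroup ON) (r : ℕ) : ev gK (Xw r) =
    (ev gK (nword TupKData.C r))⁻¹ * on .a * ev gK (nword TupKData.C r) := by
  unfold Xw
  rw [ev_append, ev_cons, ev_invw gK TupKData.C.inv TupKData.C.k (hinvK hs) (nword TupKData.C r)
    (tword_lt TupKData.C (fun x hx => (hinvK hs x hx).1) TupKData.C.N r [] (by simp)), mul_assoc]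
  rfl

theorem root_ne (hs : IsSimpleGroup ON) {r : ℕ} (hr : r ∈ TupOrb.roots) (h0 : r ≠ 0) :
    (ev gK (nword TupKData.C r))⁻¹ * on .a * ev gK (nword TupKData.C r) ≠ on .a := by
  have hQ : (TupOrb.roots.all fun r => Nat.beq r 0 || neK (Xw r) [4]) = true := by decide +kernel
  rcases Bool.or_eq_true_iff.1 (List.all_eq_true.1 hQ r hr) with h | h
  · exact absurd (Nat.eq_of_beq_eq_true h) h0
  · have := neK_spec h
    rw [ev_Xw hs, ev_cons _ 4, ev_nil, mul_one] at this
    exact this

theorem root_braid (hs : IsSimpleGroup ON) {r : ℕ} (hr : r ∈ TupOrb.roots) {x : ON}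
    (hx : x = (ev gK (nword TupKData.C r))⁻¹ * on .a * ev gK (nword TupKData.C r))
    (hb : on .a * x * on .a = x * on .a * x) : r = 0 ∨ r = 1 ∨ r = 349 := by
  have hQ : (TupOrb.roots.all fun r => (Nat.beq r 0 || Nat.beq r 1 || Nat.beq r 349) ||
    neK (4 :: (Xw r ++ [4])) (Xw r ++ 4 :: Xw r)) = true := by decide +kernel
  rcases Bool.or_eq_true_iff.1 (List.all_eq_true.1 hQ r hr) with h | h
  · rcases Bool.or_eq_true_iff.1 h with h | h
    · rcases Bool.or_eq_true_iff.1 h with h | h
      · exact Or.inl (Nat.eq_of_beq_eq_true h)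
      · exact Or.inr (Or.inl (Nat.eq_of_beq_eq_true h))
    · exact Or.inr (Or.inr (Nat.eq_of_beq_eq_true h))
  · exfalso
    apply neK_spec h
    rw [ev_cons, ev_append, ev_cons _ 4, ev_nil, mul_one, ev_append, ev_cons _ 4, ev_Xw hs, ← hx, ← mul_assoc,
      ← mul_assoc]
    exact hb

theorem nw0 : nword TupKData.C 0 = [] := by decide +kernel
theorem nw1 : nword TupKData.C 1 = [5] := by decide +kernel
theorem nw349 : nword TupKData.C 349 = [5, 0, 1, 3, 5, 2, 0, 5] := by decide +kernel

/-- The centraliser of `a` in `K0` is `T0`. -/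
theorem mem_T0 (hs : IsSimpleGroup ON) {k : ON} (hk : k ∈ K0) (h : k * on .a = on .a * k) : k ∈ T0 := by
  obtain ⟨r, hr, -, u, hu, h1⟩ := exists_root hs hk
  set y := ev gK (nword TupKData.C r) with hy
  obtain ⟨t, ht, h2⟩ : ∃ t ∈ T0, k = t * (y * u) := ⟨_, h1, by rw [inv_mul_cancel_right]⟩
  have hta := comm_a hs ht
  have hua := comm_a hs hu
  have hya : y⁻¹ * on .a * y = on .a := by
    have e1 : y * u * on .a = on .a * (y * u) := by
      have : t * (y * u * on .a) = t * (on .a * (y * u)) := by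
        calc t * (y * u * on .a) = k * on .a := by rw [h2]; group
          _ = on .a * k := h
          _ = on .a * t * (y * u) := by rw [h2]; group
          _ = t * (on .a * (y * u)) := by rw [← hta]; group
      exact mul_left_cancel this
    have e2 : y * on .a = on .a * y := by
      have : y * on .a * u = on .a * y * u := by
        calc y * on .a * u = y * (on .a * u) := by group
          _ = y * u * on .a := by rw [← hua]; group
          _ = on .a * y * u := by rw [e1]; group
      exact mul_right_cancel this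
    rw [mul_assoc, ← e2, inv_mul_cancel_left]
  have hr0 : r = 0 := by
    by_contra h0
    exact root_ne hs hr h0 hya
  rw [hr0, nw0, ev_nil] at hy
  rw [h2, hy, one_mul]
  exact T0.mul_mem ht hu

/-- Involutions of `K0` generating with `a` a group of order 6. -/
theorem conj_class (hs : IsSimpleGroup ON) {k x : ON} (hk : k ∈ K0) (hx : x = k⁻¹ * on .a * k)
    (hb : on .a * x * on .a = x * on .a * x) :
    x = on .a ∨ ∃ t ∈ T0, x = t⁻¹ * on .b * t ∨ x = t⁻¹ * b3 * t := by
  obtain ⟨r, hr, -, u, hu, h1⟩ := exists_root hs hk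
  obtain ⟨y, hy⟩ : ∃ y, y = ev gK (nword TupKData.C r) := ⟨_, rfl⟩
  rw [← hy] at h1
  obtain ⟨t, ht, h2⟩ : ∃ t ∈ T0, k = t * (y * u) := ⟨_, h1, by rw [inv_mul_cancel_right]⟩
  have hta := comm_a hs ht
  have hua := comm_a hs hu
  have hx2 : x = u⁻¹ * (y⁻¹ * on .a * y) * u := by
    have e1 : t⁻¹ * on .a * t = on .a := by rw [mul_assoc, ← hta, inv_mul_cancel_left]
    calc x = u⁻¹ * (y⁻¹ * (t⁻¹ * on .a * t) * y) * u := by rw [hx, h2]; group
      _ = u⁻¹ * (y⁻¹ * on .a * y) * u := by rw [e1]
  have hb2 : on .a * (y⁻¹ * on .a * y) * on .a = (y⁻¹ * on .a * y) * on .a * (y⁻¹ * on .a * y) := by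
    have e2 : u * on .a * u⁻¹ = on .a := by rw [hua, mul_inv_cancel_right]
    have e3 : y⁻¹ * on .a * y = u * x * u⁻¹ := by rw [hx2]; group
    rw [e3]
    calc on .a * (u * x * u⁻¹) * on .a = (u * on .a * u⁻¹) * (u * x * u⁻¹) * (u * on .a * u⁻¹) := by rw [e2]
      _ = u * (on .a * x * on .a) * u⁻¹ := by group
      _ = u * (x * on .a * x) * u⁻¹ := by rw [hb]
      _ = (u * x * u⁻¹) * (u * on .a * u⁻¹) * (u * x * u⁻¹) := by group
      _ = _ := by rw [e2]
  rcases root_braid hs hr (by rw [hy]) hb2 with h | h | h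
  · left
    rw [h, nw0, ev_nil] at hy
    rw [hx2, hy, inv_one, one_mul, mul_one, mul_assoc, ← hua, inv_mul_cancel_left]
  · right
    rw [h, nw1, ev_cons, ev_nil, mul_one] at hy
    have hyb : y = on .b := hy
    refine ⟨on .a * u, T0.mul_mem (a_mem hs) hu, Or.inl ?_⟩
    have e4 : eqK [5, 5] [] = true := by decide +kernel
    have e5 : eqK [4, 4] [] = true := by decide +kernel
    have e6 : eqK [5, 4, 5] [4, 5, 4] = true := by decide +kernel
    have e4 := eqK_spec hs e4
    have e5 := eqK_spec hs e5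
    have e6 := eqK_spec hs e6
    simp only [ev_cons, ev_nil, mul_one] at e4 e5 e6
    have e4 : on .b * on .b = 1 := e4
    have e5 : on .a * on .a = 1 := e5
    have e6 : on .b * (on .a * on .b) = on .a * (on .b * on .a) := e6
    have i1 : (on .b)⁻¹ = on .b := inv_eq_of_mul_eq_one_right e4
    have i2 : (on .a)⁻¹ = on .a := inv_eq_of_mul_eq_one_right e5
    rw [hx2, hyb, mul_inv_rev, i1, i2, mul_assoc (on .b), e6]
    group
  · right
    refine ⟨u, hu, Or.inr ?_⟩
    rw [hx2]
    congr 2
    have e4 : eqM ((Xw 349).map mK) [TupMats.mb3] = true := by decide +kernel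
    have e5 := eq_of_eqM hs (LW_ev lK (Xw 349)) lb3 e4
    rw [ev_Xw hs, ← h, ← hy] at e5
    exact e5

end Cfsg.Agent.ONType.TupK
end

-- part: ONType/TupS
section
/-!
A subgroup `S` of order 512 of `⟨a, b, c, d, g⟩` containing `⟨c, d, g⟩`, and fourth powers of 2-elements.
-/

set_option autoImplicit false
set_option maxRecDepth 100000

namespace Cfsg.Agent.ONType.TupS

open Cfsg.Spor Cfsg.Spor.ON Cfsg.Agent.SporadicB.ONHom Cfsg.Agent.SporadicB.ON45Word
  Cfsg.Agent.ONType.TupRow Cfsg.Agent.ONType.TupCover Cfsg.Agent.ONType.TupT0 Cfsg.Agent.ONType.TupK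

open Cfsg.Agent.SporadicRecognition.CosetCert (ev ev_nil ev_cons ev_append)

/-- word of an involution swapping `a` and `a f` -/
def sw : List ℕ := [5, 4, 0, 5, 1, 0, 5, 1, 3, 5, 0, 2, 5]

noncomputable def s : ON := ev gK sw

theorem ev_mem_K0 (w : List ℕ) (hw : ∀ x ∈ w, x < 6) : ev gK w ∈ K0 := by
  induction w with
  | nil => rw [ev_nil]; exact K0.one_mem
  | cons x w ih =>
    rw [ev_cons]
    exact K0.mul_mem (Subgroup.subset_closure ⟨x, hw x (by simp), rfl⟩) (ih fun y hy => hw y (by simp [hy]))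

theorem s_mem : s ∈ K0 := ev_mem_K0 _ (by decide)

theorem T0_le : T0 ≤ K0 := by
  unfold T0
  rw [Subgroup.closure_le]
  rintro _ ⟨x, hx, rfl⟩
  have hx4 : x < 4 := hx
  rw [← gK_eq x hx4]
  exact Subgroup.subset_closure ⟨x, lt_trans hx4 (by decide), rfl⟩

theorem ss (hs : IsSimpleGroup ON) : s * s = 1 := by
  have h : eqK (sw ++ sw) [] = true := by decide +kernel
  have := eqK_spec hs h
  rwa [ev_append, ev_nil] at this

theorem s_inv (hs : IsSimpleGroup ON) : s⁻¹ = s := inv_eq_of_mul_eq_one_right (ss hs)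

theorem conj_mem (hs : IsSimpleGroup ON) {t : ON} (ht : t ∈ T0) : s * t * s ∈ T0 := by
  have h0 : eqK (sw ++ 0 :: sw) [0] = true := by decide +kernel
  have h1 : eqK (sw ++ 1 :: sw) [0, 3, 1, 0, 1] = true := by decide +kernel
  have h2 : eqK (sw ++ 2 :: sw) [0, 1, 2, 0, 2] = true := by decide +kernel
  have h0 := eqK_spec hs h0
  have h1 := eqK_spec hs h1
  have h2 := eqK_spec hs h2
  rw [ev_append, ev_cons _ _ sw, ← mul_assoc] at h0 h1 h2
  have m0 : s * on .c * s ∈ T0 := by
    have e : s * on .c * s = _ := h0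
    rw [e]; exact evK_mem _ (by decide)
  have m1 : s * on .d * s ∈ T0 := by
    have e : s * on .d * s = _ := h1
    rw [e]; exact evK_mem _ (by decide)
  have m2 : s * on .g * s ∈ T0 := by
    have e : s * on .g * s = _ := h2
    rw [e]; exact evK_mem _ (by decide)
  have hle : T0 ≤ T0.comap (MulAut.conj s).toMonoidHom := by
    conv_lhs => unfold T0
    rw [Subgroup.closure_le]
    rintro _ ⟨x, hx, rfl⟩
    have hx4 : x < 4 := hx
    show s * gJ x * s⁻¹ ∈ T0
    rw [s_inv hs]
    interval_cases x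
    · exact m0
    · exact m1
    · exact m2
    · have e : s * (on .g)⁻¹ * s = (s * on .g * s)⁻¹ := by
        rw [mul_inv_rev, mul_inv_rev, s_inv hs, mul_assoc]
      show s * (on .g)⁻¹ * s ∈ T0
      rw [e]; exact T0.inv_mem m2
  have h3 : s * t * s⁻¹ ∈ T0 := hle ht
  rwa [s_inv hs] at h3

theorem s_not_mem (hs : IsSimpleGroup ON) : s ∉ T0 := by
  intro h
  have h0 : neK (sw ++ [4]) (4 :: sw) = true := by decide +kernel
  apply neK_spec h0
  rw [ev_append, ev_cons, ev_cons, ev_nil, mul_one]
  exact comm_a hs h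

/-- `T0` extended by `s` -/
def S (hs : IsSimpleGroup ON) : Subgroup ON where
  carrier := {x | x ∈ T0 ∨ x * s ∈ T0}
  one_mem' := Or.inl T0.one_mem
  mul_mem' := by
    rintro x y (hx | hx) (hy | hy)
    · exact Or.inl (T0.mul_mem hx hy)
    · right
      rw [mul_assoc]; exact T0.mul_mem hx hy
    · right
      have e : x * y * s = x * s * (s * y * s) := by
        calc x * y * s = x * 1 * y * s := by rw [mul_one]
          _ = x * (s * s) * y * s := by rw [ss hs]
          _ = _ := by group
      rw [e]; exact T0.mul_mem hx (conj_mem hs hy)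
    · left
      have e : x * y = x * s * (s * (y * s) * s) := by
        calc x * y = x * 1 * y * 1 := by rw [mul_one, mul_one]
          _ = x * (s * s) * y * (s * s) := by rw [ss hs]
          _ = _ := by group
      rw [e]; exact T0.mul_mem hx (conj_mem hs hy)
  inv_mem' := by
    rintro x (hx | hx)
    · exact Or.inl (T0.inv_mem hx)
    · right
      have e : x⁻¹ * s = s * (x * s)⁻¹ * s := by
        rw [mul_inv_rev, s_inv hs, ← mul_assoc s s, ss hs, one_mul]
      rw [e]; exact conj_mem hs (T0.inv_mem hx)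

theorem mem_S {hs : IsSimpleGroup ON} {x : ON} : x ∈ S hs ↔ x ∈ T0 ∨ x * s ∈ T0 := Iff.rfl

theorem T0_le_S (hs : IsSimpleGroup ON) : T0 ≤ S hs := fun _ h => Or.inl h

theorem S_le (hs : IsSimpleGroup ON) : S hs ≤ K0 := by
  rintro x (hx | hx)
  · exact T0_le hx
  · have h1 := K0.mul_mem (T0_le hx) s_mem
    rwa [mul_assoc, ss hs, mul_one] at h1

/-- squares of elements of `S` are in `T0` -/
theorem sq_mem (hs : IsSimpleGroup ON) {x : ON} (hx : x ∈ S hs) : x * x ∈ T0 := by
  rcases hx with hx | hx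
  · exact T0.mul_mem hx hx
  · have e : x * x = x * s * (s * (x * s) * s) := by
      calc x * x = x * 1 * x * 1 := by rw [mul_one, mul_one]
        _ = x * (s * s) * x * (s * s) := by rw [ss hs]
        _ = _ := by group
    rw [e]; exact T0.mul_mem hx (conj_mem hs hx)

theorem card_T0 (hs : IsSimpleGroup ON) (hK : Nat.card K0 = 161280) : Nat.card T0 = 256 := by
  have h1 := (card_T0_le hs).2
  have h2 := card_K0_le hs
  omega

theorem card_S (hs : IsSimpleGroup ON) (hK : Nat.card K0 = 161280) : Nat.card (S hs) = 512 := by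
  have h1 : (T0.subgroupOf (S hs)).index = 2 := by
    rw [Subgroup.index_eq_two_iff]
    refine ⟨⟨s, Or.inr (by rw [ss hs]; exact T0.one_mem)⟩, ?_⟩
    rintro ⟨x, hx⟩
    rw [Subgroup.mem_subgroupOf, Subgroup.mem_subgroupOf]
    show Xor' (x * s ∈ T0) (x ∈ T0)
    have hnot : ¬ (x * s ∈ T0 ∧ x ∈ T0) := by
      rintro ⟨h2, h3⟩
      apply s_not_mem hs
      have := T0.mul_mem (T0.inv_mem h3) h2
      rwa [inv_mul_cancel_left] at this
    rcases hx with h | h
    · exact Or.inr ⟨h, fun h' => hnot ⟨h', h⟩⟩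
    · exact Or.inl ⟨h, fun h' => hnot ⟨h, h'⟩⟩
  have h2 := Subgroup.card_mul_index (T0.subgroupOf (S hs))
  rw [h1, Nat.card_congr (Subgroup.subgroupOfEquivOfLe (T0_le_S hs)).toEquiv, card_T0 hs hK] at h2
  omega

theorem index_S (hs : IsSimpleGroup ON) (hK : Nat.card K0 = 161280) : ((S hs).subgroupOf K0).index = 315 := by
  have h2 := Subgroup.card_mul_index ((S hs).subgroupOf K0)
  rw [Nat.card_congr (Subgroup.subgroupOfEquivOfLe (S_le hs)).toEquiv, card_S hs hK, hK] at h2
  omega

/-- elements of order dividing 8 are conjugate to elements of `S` -/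
theorem exists_conj_S (hs : IsSimpleGroup ON) (hK : Nat.card K0 = 161280) {y : ON} (hy : y ∈ K0)
    (h8 : y ^ 8 = 1) : ∃ k ∈ K0, k⁻¹ * y * k ∈ S hs := by
  have hidx := index_S hs hK
  set Y : K0 := ⟨y, hy⟩ with hY
  have hY8 : Y ^ 8 = 1 := Subtype.ext h8
  have hP : IsPGroup 2 (Subgroup.zpowers Y) := by
    rintro ⟨z, hz⟩
    obtain ⟨n, rfl⟩ := hz
    refine ⟨3, Subtype.ext ?_⟩
    show (Y ^ n) ^ (2 ^ 3) = 1
    rw [← zpow_natCast, ← zpow_mul, mul_comm, zpow_mul]
    have : Y ^ (((2 ^ 3 : ℕ) : ℤ)) = 1 := by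
      rw [zpow_natCast]; exact hY8
    rw [this, one_zpow]
  have hcardq : Nat.card (K0 ⧸ (S hs).subgroupOf K0) = 315 := hidx
  haveI : Finite (K0 ⧸ (S hs).subgroupOf K0) := Nat.finite_of_card_ne_zero (by rw [hcardq]; decide)
  obtain ⟨q, hq⟩ := hP.nonempty_fixed_point_of_prime_not_dvd_card (K0 ⧸ (S hs).subgroupOf K0)
    (by rw [hcardq]; decide)
  obtain ⟨k, rfl⟩ := QuotientGroup.mk_surjective q
  have h1 := hq ⟨Y, Subgroup.mem_zpowers Y⟩
  have h2 : ((Y * k : K0) : K0 ⧸ (S hs).subgroupOf K0) = (k : K0 ⧸ (S hs).subgroupOf K0) := h1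
  rw [eq_comm, QuotientGroup.eq] at h2
  refine ⟨k.1, k.2, ?_⟩
  have h3 : k.1⁻¹ * (y * k.1) ∈ S hs := h2
  rwa [← mul_assoc] at h3

end Cfsg.Agent.ONType.TupS
end

-- part: ONType/TwoExt
section
/-!
Two groups `H₁`, `H₂` with a normal subgroup of index two isomorphic to the same centreless group `P` with
`|Out P| = 6`, containing its own centraliser, are isomorphic (the two subgroups of order two of `Out P` are conjugate).
-/

set_option autoImplicit false

namespace Cfsg.Agent.ONType.TwoExt

variable {P H : Type*} [Group P] [Group H]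

/-- the action of `H` on a normal subgroup isomorphic to `P` -/
noncomputable def act (N : Subgroup H) [N.Normal] (e : N ≃* P) : H →* MulAut P :=
  (MulAut.congr e).toMonoidHom.comp MulAut.conjNormal

theorem act_apply (N : Subgroup H) [N.Normal] (e : N ≃* P) (h : H) (x : P) :
    act N e h x = e (MulAut.conjNormal h (e.symm x)) := rfl

theorem act_mem (N : Subgroup H) [N.Normal] (e : N ≃* P) (n : N) :
    act N e (n : H) = MulAut.conj (e n) := by
  ext x
  rw [act_apply, MulAut.conj_apply]
  have : MulAut.conjNormal (n : H) (e.symm x) = n * e.symm x * n⁻¹ := by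
    ext
    simp
  rw [this, map_mul, map_mul, map_inv, MulEquiv.apply_symm_apply]

theorem act_injective (N : Subgroup H) [N.Normal] (e : N ≃* P)
    (hc : Subgroup.centralizer (N : Set H) = ⊥) : Function.Injective (act N e) := by
  rw [injective_iff_map_eq_one]
  intro h hh
  rw [← Subgroup.mem_bot, ← hc, Subgroup.mem_centralizer_iff]
  intro n hn
  have h1 : act N e h (e ⟨n, hn⟩) = e ⟨n, hn⟩ := by rw [hh]; rfl
  rw [act_apply, MulEquiv.symm_apply_apply] at h1
  have h2 := congrArg Subtype.val (e.injective h1)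
  rw [MulAut.conjNormal_apply] at h2
  have h3 : h * n * h⁻¹ = n := h2
  rw [mul_inv_eq_iff_eq_mul] at h3
  exact h3.symm

theorem inn_le_range (N : Subgroup H) [N.Normal] (e : N ≃* P) :
    (MulAut.conj : P →* MulAut P).range ≤ (act N e).range := by
  rintro _ ⟨x, rfl⟩
  exact ⟨(e.symm x : N), by rw [act_mem, MulEquiv.apply_symm_apply]⟩

theorem conj_injective (hZ : Subgroup.center P = ⊥) : Function.Injective (MulAut.conj : P →* MulAut P) := by
  rw [← MonoidHom.ker_eq_bot_iff, eq_bot_iff, ← hZ]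
  intro x hx
  rw [MonoidHom.mem_ker] at hx
  rw [Subgroup.mem_center_iff]
  intro y
  have h1 : MulAut.conj x y = y := by rw [hx]; rfl
  rw [MulAut.conj_apply, mul_inv_eq_iff_eq_mul] at h1
  exact h1.symm

instance inn_normal : (MulAut.conj : P →* MulAut P).range.Normal := by
  constructor
  rintro _ ⟨x, rfl⟩ f
  refine ⟨f x, ?_⟩
  ext y
  simp [MulAut.mul_apply]

/-- conjugacy of the two index-two extensions inside `Aut P` -/
theorem exists_conj [Finite P] (hZ : Subgroup.center P = ⊥)
    (hA : Nat.card (MulAut P) = 6 * Nat.card P) (R₁ R₂ : Subgroup (MulAut P))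
    (h₁ : (MulAut.conj : P →* MulAut P).range ≤ R₁) (h₂ : (MulAut.conj : P →* MulAut P).range ≤ R₂)
    (c₁ : Nat.card R₁ = 2 * Nat.card P) (c₂ : Nat.card R₂ = 2 * Nat.card P) :
    ∃ g : MulAut P, R₁.map (MulAut.conj g).toMonoidHom = R₂ := by
  classical
  set I := (MulAut.conj : P →* MulAut P).range with hI
  have hP : 0 < Nat.card P := Nat.card_pos
  have hcI : Nat.card I = Nat.card P :=
    (Nat.card_congr (MonoidHom.ofInjective (conj_injective hZ)).toEquiv).symm
  have hfin : Finite (MulAut P) := by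
    apply Nat.finite_of_card_ne_zero
    rw [hA]; positivity
  let π := QuotientGroup.mk' I
  have hQ : Nat.card (MulAut P ⧸ I) = 6 := by
    have h := Subgroup.card_eq_card_quotient_mul_card_subgroup I
    rw [hA, hcI] at h
    exact (Nat.eq_of_mul_eq_mul_right hP h).symm
  have hker : π.ker = I := QuotientGroup.ker_mk' I
  have hcomap : ∀ R : Subgroup (MulAut P), I ≤ R → (R.map π).comap π = R := by
    intro R hR
    rw [Subgroup.comap_map_eq, hker, sup_eq_left.mpr hR]
  have hcard : ∀ R : Subgroup (MulAut P), I ≤ R → Nat.card R = 2 * Nat.card P →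
      Nat.card (R.map π) = 2 := by
    intro R hR hc
    have h3 : R.index = 3 := by
      have h4 := Subgroup.card_mul_index R
      rw [hc, hA] at h4
      have h5 : Nat.card P * (2 * R.index) = Nat.card P * 6 := by
        rw [← mul_assoc, mul_comm (Nat.card P) 2, h4, mul_comm]
      have h6 := Nat.eq_of_mul_eq_mul_left hP h5
      omega
    have h7 : (R.map π).index = 3 := by
      rw [Subgroup.index_map_eq R (QuotientGroup.mk'_surjective I) (hker.trans_le hR), h3]
    have h8 := Subgroup.card_mul_index (R.map π)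
    rw [h7, hQ] at h8
    omega
  have hfac : 2 ^ (Nat.card (MulAut P ⧸ I)).factorization 2 = 2 := by
    rw [hQ]
    have : (6 : ℕ).factorization 2 = 1 := by
      rw [show (6 : ℕ) = 2 * 3 by norm_num, Nat.factorization_mul (by norm_num) (by norm_num)]
      simp [Nat.Prime.factorization_self Nat.prime_two, Nat.factorization_eq_zero_of_not_dvd]
    rw [this, pow_one]
  have : Fact (Nat.Prime 2) := ⟨Nat.prime_two⟩
  let S₁ : Sylow 2 (MulAut P ⧸ I) := Sylow.ofCard (R₁.map π) ((hcard R₁ h₁ c₁).trans hfac.symm)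
  let S₂ : Sylow 2 (MulAut P ⧸ I) := Sylow.ofCard (R₂.map π) ((hcard R₂ h₂ c₂).trans hfac.symm)
  obtain ⟨g', hg'⟩ := MulAction.exists_smul_eq (MulAut P ⧸ I) S₁ S₂
  obtain ⟨g, rfl⟩ := QuotientGroup.mk'_surjective I g'
  refine ⟨g, ?_⟩
  have h9 : (R₁.map π).map (MulAut.conj (π g)).toMonoidHom = R₂.map π := by
    have h10 := congrArg (fun S : Sylow 2 (MulAut P ⧸ I) => (S : Subgroup (MulAut P ⧸ I))) hg'
    exact h10
  have h11 : (R₁.map (MulAut.conj g).toMonoidHom).map π = R₂.map π := by
    rw [← h9, Subgroup.map_map, Subgroup.map_map]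
    congr 1
  have h12 : I ≤ R₁.map (MulAut.conj g).toMonoidHom := by
    intro x hx
    refine ⟨g⁻¹ * x * g, h₁ ?_, ?_⟩
    · have h13 := inn_normal.conj_mem x hx g⁻¹
      rwa [inv_inv] at h13
    · simp [mul_assoc]
  rw [← hcomap _ h12, h11, hcomap _ h₂]

/-- **Uniqueness of the extension by two.** -/
theorem nonempty_mulEquiv {H₁ H₂ : Type*} [Group H₁] [Group H₂] [Finite P]
    (hZ : Subgroup.center P = ⊥) (hA : Nat.card (MulAut P) = 6 * Nat.card P)
    (N₁ : Subgroup H₁) [N₁.Normal] (i₁ : N₁.index = 2) (e₁ : N₁ ≃* P)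
    (z₁ : Subgroup.centralizer (N₁ : Set H₁) = ⊥)
    (N₂ : Subgroup H₂) [N₂.Normal] (i₂ : N₂.index = 2) (e₂ : N₂ ≃* P)
    (z₂ : Subgroup.centralizer (N₂ : Set H₂) = ⊥) : Nonempty (H₁ ≃* H₂) := by
  have c₁ : Nat.card H₁ = 2 * Nat.card P := by
    rw [← Subgroup.card_mul_index N₁, i₁, Nat.card_congr e₁.toEquiv, mul_comm]
  have c₂ : Nat.card H₂ = 2 * Nat.card P := by
    rw [← Subgroup.card_mul_index N₂, i₂, Nat.card_congr e₂.toEquiv, mul_comm]
  have f₁ := MonoidHom.ofInjective (act_injective N₁ e₁ z₁)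
  have f₂ := MonoidHom.ofInjective (act_injective N₂ e₂ z₂)
  obtain ⟨g, hg⟩ := exists_conj hZ hA (act N₁ e₁).range (act N₂ e₂).range (inn_le_range N₁ e₁)
    (inn_le_range N₂ e₂) ((Nat.card_congr f₁.toEquiv).symm.trans c₁)
    ((Nat.card_congr f₂.toEquiv).symm.trans c₂)
  have f₃ := (act N₁ e₁).range.equivMapOfInjective (MulAut.conj g).toMonoidHom (MulAut.conj g).injective
  rw [hg] at f₃
  exact ⟨(f₁.trans f₃).trans f₂.symm⟩

end Cfsg.Agent.ONType.TwoExt
end

-- part: ONType/PathRels
section
/-!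
The relations of `⟨a, …, f⟩ = L₃(7):2` inside the O'Nan group.
-/

set_option autoImplicit false

namespace Cfsg.Agent.ONType

/-- The relations among `a, …, f` in the O'Nan group, with `a ≠ 1`. -/
structure PathRels {P : Type*} [Group P] (a b c d e f : P) : Prop where
  ne : a ≠ 1
  aa : a * a = 1
  bb : b * b = 1
  cc : c * c = 1
  dd : d * d = 1
  ee : e * e = 1
  ff : f * f = 1
  ab : (a * b) ^ 3 = 1
  bc : (b * c) ^ 3 = 1
  de : (d * e) ^ 3 = 1
  ef : (e * f) ^ 3 = 1
  ac : a * c = c * a
  ad : a * d = d * a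
  ae : a * e = e * a
  af : a * f = f * a
  bd : b * d = d * b
  be : b * e = e * b
  bf : b * f = f * b
  ce : c * e = e * c
  cf : c * f = f * c
  df : d * f = f * d
  afcd : a * f = (c * d) ^ 4

theorem PathRels.of_rels {P : Type*} [Group P] {a b c d e f g : P} (ne : a ≠ 1)
    (h : SporadicB.ONHom.Rels a b c d e f g) : PathRels a b c d e f :=
  ⟨ne, h.aa, h.bb, h.cc, h.dd, h.ee, h.ff, h.ab, h.bc, h.de, h.ef, h.ac, h.ad, h.ae, h.af, h.bd, h.be, h.bf,
    h.ce, h.cf, h.df, h.afcd⟩

/-- Image under an injective homomorphism. -/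
theorem PathRels.map {P Q : Type*} [Group P] [Group Q] {a b c d e f : P} (h : PathRels a b c d e f)
    (φ : P →* Q) (hφ : Function.Injective φ) : PathRels (φ a) (φ b) (φ c) (φ d) (φ e) (φ f) where
  ne := fun h' => h.ne (hφ (h'.trans (map_one φ).symm))
  aa := by rw [← map_mul, h.aa, map_one]
  bb := by rw [← map_mul, h.bb, map_one]
  cc := by rw [← map_mul, h.cc, map_one]
  dd := by rw [← map_mul, h.dd, map_one]
  ee := by rw [← map_mul, h.ee, map_one]
  ff := by rw [← map_mul, h.ff, map_one]
  ab := by rw [← map_mul, ← map_pow, h.ab, map_one]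
  bc := by rw [← map_mul, ← map_pow, h.bc, map_one]
  de := by rw [← map_mul, ← map_pow, h.de, map_one]
  ef := by rw [← map_mul, ← map_pow, h.ef, map_one]
  ac := by rw [← map_mul, h.ac, map_mul]
  ad := by rw [← map_mul, h.ad, map_mul]
  ae := by rw [← map_mul, h.ae, map_mul]
  af := by rw [← map_mul, h.af, map_mul]
  bd := by rw [← map_mul, h.bd, map_mul]
  be := by rw [← map_mul, h.be, map_mul]
  bf := by rw [← map_mul, h.bf, map_mul]
  ce := by rw [← map_mul, h.ce, map_mul]
  cf := by rw [← map_mul, h.cf, map_mul]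
  df := by rw [← map_mul, h.df, map_mul]
  afcd := by rw [← map_mul, h.afcd, map_pow, map_mul]

end Cfsg.Agent.ONType
end

-- part: ONType/S1657Core
section
/-!
The subgroups `L₃(7):2` of the O'Nan group: every subgroup with a normal subgroup of index two isomorphic to
`PSL(3,7)` is the image of `⟨a, …, f⟩` under an isomorphism from the presented O'Nan group; index and suborbits.
-/

set_option autoImplicit false
set_option maxRecDepth 100000

namespace Cfsg.Agent.ONType.S1657Core

open Cfsg.Spor (ON)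
open Cfsg.Spor.ON (Gen)
open Cfsg.Agent.SporRec.ONL37
open Cfsg.Agent.SporadicB.ONHom (fam)

/-! ### `PSL(3,7)` and its automorphisms -/

instance finite_PSL37 : Finite PSL37 := Nat.finite_of_card_ne_zero (by rw [card_PSL37]; norm_num)

theorem center_PSL37 : Subgroup.center PSL37 = ⊥ := by
  have hs := simple_PSL37
  rcases hs.eq_bot_or_eq_top_of_normal (Subgroup.center PSL37) inferInstance with h | h
  · exact h
  · exfalso
    have hcomm : ∀ x y : PSL37, x * y = y * x := fun x y =>
      (Subgroup.mem_center_iff.mp (by rw [h]; trivial : y ∈ Subgroup.center PSL37)) x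
    let _ : CommGroup PSL37 := { (inferInstance : Group PSL37) with mul_comm := hcomm }
    have hp := IsSimpleGroup.prime_card (α := PSL37)
    rw [card_PSL37] at hp
    revert hp
    norm_num

theorem card_mulAut : Nat.card (MulAut PSL37) = 6 * Nat.card PSL37 := by
  have : Fact (Nat.Prime 7) := ⟨by norm_num⟩
  have h := S0813.result (F := ZMod 7) 7 1 le_rfl (by rw [ZMod.card]; norm_num) 3 (by norm_num) (by norm_num)
  rw [S0265.result, if_neg (by norm_num)] at h
  have h2 := S0242.result (F := ZMod 7) (q := 7) (ZMod.card 7) 3 (by norm_num)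
  simp only [Fin.prod_univ_three] at h2
  have h3 : 6 * Nat.card (Matrix.SpecialLinearGroup (Fin 3) (ZMod 7)) = 33784128 := by
    rw [show (6 : ℕ) = 7 - 1 from rfl, h2]
    rfl
  rw [h, card_PSL37]
  clear h h2
  generalize Nat.card (Matrix.SpecialLinearGroup (Fin 3) (ZMod 7)) = c at h3 ⊢
  omega

theorem centralizer_N0 : Subgroup.centralizer (N0 : Set Q) = ⊥ := by
  have hn := N0_normal
  have hn' : (Subgroup.centralizer (N0 : Set Q)).Normal := inferInstance
  by_contra hne
  have hle := N0_le_of_normal _ hne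
  have hcomm : ∀ x y : PSL37, x * y = y * x := by
    intro x y
    have hx : (N0_equiv.symm x : Q) ∈ Subgroup.centralizer (N0 : Set Q) := hle (N0_equiv.symm x).2
    have h1 := Subgroup.mem_centralizer_iff.mp hx (N0_equiv.symm y : Q) (N0_equiv.symm y).2
    have h2 : N0_equiv.symm y * N0_equiv.symm x = N0_equiv.symm x * N0_equiv.symm y := Subtype.ext h1
    rw [← map_mul, ← map_mul] at h2
    exact (N0_equiv.symm.injective h2).symm
  have h3 : Subgroup.center PSL37 = ⊤ := by
    rw [eq_top_iff]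
    intro x _
    exact Subgroup.mem_center_iff.mpr fun y => hcomm y x
  rw [center_PSL37] at h3
  have h4 : Nat.card (⊥ : Subgroup PSL37) = Nat.card PSL37 := by
    rw [h3]; exact Nat.card_congr Subgroup.topEquiv.toEquiv
  rw [Subgroup.card_bot, card_PSL37] at h4
  norm_num at h4

/-! ### Transport of suborbits -/

theorem orbit_transport {A B : Type*} [Group A] [Group B] (Ψ : A ≃* B) (H : Subgroup A) (K : Subgroup B)
    (h : H.map Ψ.toMonoidHom = K) (q : A ⧸ H) :
    ∃ q' : B ⧸ K, (MulAction.orbit K q').ncard = (MulAction.orbit H q).ncard := by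
  have hmem : ∀ x : A, Ψ x ∈ K ↔ x ∈ H := by
    intro x
    rw [← h]
    constructor
    · rintro ⟨y, hy, hxy⟩
      rwa [← Ψ.injective hxy]
    · exact fun hx => ⟨x, hx, rfl⟩
  let F : A ⧸ H → B ⧸ K := Quotient.lift (fun a : A => ((Ψ a : B) : B ⧸ K)) (by
    intro a b hab
    have h1 : a⁻¹ * b ∈ H := QuotientGroup.leftRel_apply.1 hab
    rw [QuotientGroup.eq, ← map_inv, ← map_mul, hmem]
    exact h1)
  have hF : ∀ a : A, F (a : A ⧸ H) = ((Ψ a : B) : B ⧸ K) := fun a => rfl
  have hinj : Function.Injective F := by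
    intro x y
    refine QuotientGroup.induction_on x (fun a => ?_)
    refine QuotientGroup.induction_on y (fun b => ?_)
    intro hab
    rw [hF, hF, QuotientGroup.eq, ← map_inv, ← map_mul, hmem] at hab
    rw [QuotientGroup.eq]
    exact hab
  refine ⟨F q, ?_⟩
  rw [← Set.ncard_image_of_injective _ hinj]
  congr 1
  refine QuotientGroup.induction_on q (fun a => ?_)
  ext p
  constructor
  · rintro ⟨k, rfl⟩
    obtain ⟨x, hx, hxk⟩ : (k : B) ∈ H.map Ψ.toMonoidHom := by rw [h]; exact k.2
    refine ⟨(((x * a : A)) : A ⧸ H), ⟨⟨x, hx⟩, rfl⟩, ?_⟩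
    rw [hF, map_mul]
    have hxk' : Ψ x = (k : B) := hxk
    rw [hxk']
    rfl
  · rintro ⟨_, ⟨x, rfl⟩, rfl⟩
    refine ⟨⟨Ψ x, (hmem _).mpr x.2⟩, ?_⟩
    show (((Ψ (x : A)) * (Ψ a) : B) : B ⧸ K) = F ((((x : A) * a : A)) : A ⧸ H)
    rw [hF, map_mul]

/-! ### The subgroup `L₃(7):2` of a group in which involutions have centralisers of order prime to 19 -/

theorem card_N {G : Type*} [Group G] {H : Subgroup G} {N : Subgroup H} (eN : N ≃* PSL37) :
    Nat.card N = 1876896 := by
  rw [Nat.card_congr eN.toEquiv, card_PSL37]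

theorem card_H {G : Type*} [Group G] {H : Subgroup G} {N : Subgroup H} (hN : N.index = 2)
    (eN : N ≃* PSL37) : Nat.card H = 3753792 := by
  rw [← Subgroup.card_mul_index N, hN, card_N eN]

theorem centralizer_eq_bot {G : Type*} [Group G] [Finite G]
    (hC : ∀ s : G, orderOf s = 2 → Nat.card (Subgroup.centralizer ({s} : Set G)) = 161280)
    {H : Subgroup G} {N : Subgroup H} [N.Normal] (hN : N.index = 2) (eN : N ≃* PSL37) :
    Subgroup.centralizer (N : Set H) = ⊥ := by
  rw [eq_bot_iff]
  intro z hz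
  rw [Subgroup.mem_bot]
  have hzN : ∀ w : H, w ∈ Subgroup.centralizer (N : Set H) → w ∈ N → w = 1 := by
    intro w hw hwN
    have h1 : eN ⟨w, hwN⟩ ∈ Subgroup.center PSL37 := by
      rw [Subgroup.mem_center_iff]
      intro y
      have h2 := Subgroup.mem_centralizer_iff.mp hw (eN.symm y : H) (eN.symm y).2
      have h3 : eN.symm y * ⟨w, hwN⟩ = ⟨w, hwN⟩ * eN.symm y := Subtype.ext h2
      have h4 := congrArg eN h3
      rwa [map_mul, map_mul, MulEquiv.apply_symm_apply] at h4
    rw [center_PSL37, Subgroup.mem_bot, MulEquiv.map_eq_one_iff] at h1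
    exact congrArg Subtype.val h1
  have hzz : z * z ∈ N := by
    have := Subgroup.mul_self_mem_of_index_two hN z
    exact this
  have hz2 : z * z = 1 := hzN _ (mul_mem hz hz) hzz
  by_contra hne
  have hord : orderOf (z : G) = 2 := by
    rw [Subgroup.orderOf_coe]
    exact orderOf_eq_prime (by rw [pow_two, hz2]) hne
  have hle : N.map H.subtype ≤ Subgroup.centralizer ({(z : G)} : Set G) := by
    rintro _ ⟨x, hx, rfl⟩
    rw [Subgroup.mem_centralizer_singleton_iff]
    have h1 := Subgroup.mem_centralizer_iff.mp hz x hx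
    exact congrArg Subtype.val h1
  have h5 := Subgroup.card_dvd_of_le hle
  rw [hC _ hord, Nat.card_congr (N.equivMapOfInjective _ H.subtype_injective).symm.toEquiv, card_N eN] at h5
  revert h5
  norm_num

/-- `H` is isomorphic to the model group `Q = L₃(7):2`. -/
theorem exists_iso {G : Type*} [Group G] [Finite G]
    (hC : ∀ s : G, orderOf s = 2 → Nat.card (Subgroup.centralizer ({s} : Set G)) = 161280)
    {H : Subgroup G} {N : Subgroup H} [N.Normal] (hN : N.index = 2) (eN : N ≃* PSL37) :
    Nonempty (Q ≃* H) := by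
  have h0 := N0_normal
  exact TwoExt.nonempty_mulEquiv center_PSL37 card_mulAut N0 index_N0 N0_equiv centralizer_N0 N hN eN
    (centralizer_eq_bot hC hN eN)

/-! ### The relations in `Q` -/

theorem outer_ne_one (A : SL37) : outer A ≠ 1 := by
  intro h
  have h1 := congrArg (fun x : Q => (x.right : MulAut PSL37)) h
  exact tauAut_ne_one h1

theorem qa_ne_one : qa ≠ 1 := outer_ne_one _

theorem qf_ne_one : qf ≠ 1 := outer_ne_one _

theorem comm_of_sq {G : Type*} [Group G] {x y : G} (hx : x * x = 1) (hy : y * y = 1)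
    (h : (x * y) ^ 2 = 1) : x * y = y * x := by
  have h1 : x * y = (x * y)⁻¹ := by
    rw [eq_inv_iff_mul_eq_one, ← pow_two, h]
  rw [h1, mul_inv_rev, inv_eq_of_mul_eq_one_left hx, inv_eq_of_mul_eq_one_left hy]

theorem pathRels_q : PathRels qa qb qc qd qe qf where
  ne := qa_ne_one
  aa := qa_sq
  bb := qb_sq
  cc := qc_sq
  dd := qd_sq
  ee := qe_sq
  ff := qf_sq
  ab := qab
  bc := qbc
  de := qde
  ef := qef
  ac := comm_of_sq qa_sq qc_sq qac
  ad := comm_of_sq qa_sq qd_sq qad
  ae := comm_of_sq qa_sq qe_sq qae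
  af := comm_of_sq qa_sq qf_sq qaf
  bd := comm_of_sq qb_sq qd_sq qbd
  be := comm_of_sq qb_sq qe_sq qbe
  bf := comm_of_sq qb_sq qf_sq qbf
  ce := comm_of_sq qc_sq qe_sq qce
  cf := comm_of_sq qc_sq qf_sq qcf
  df := comm_of_sq qd_sq qf_sq qdf
  afcd := qaf_eq

theorem qa_ne_qf : qa ≠ qf := by
  intro h
  have h2 : Subgroup.closure {qa, qb, qc, qd, qe, qf} ≤ Subgroup.centralizer ({qa} : Set Q) := by
    rw [Subgroup.closure_le]
    rintro x hx
    have hr := pathRels_q
    simp only [Set.mem_insert_iff, Set.mem_singleton_iff] at hx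
    rw [SetLike.mem_coe, Subgroup.mem_centralizer_singleton_iff]
    rcases hx with rfl | rfl | rfl | rfl | rfl | rfl
    · rfl
    · rw [h]; exact hr.bf
    · exact hr.ac.symm
    · exact hr.ad.symm
    · exact hr.ae.symm
    · exact hr.af.symm
  have h1 : qa ∈ Subgroup.centralizer (N0 : Set Q) := by
    rw [Subgroup.mem_centralizer_iff]
    intro x _
    have hx : x ∈ Subgroup.closure {qa, qb, qc, qd, qe, qf} := by rw [closure_gens]; trivial
    exact Subgroup.mem_centralizer_singleton_iff.mp (h2 hx)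
  rw [centralizer_N0, Subgroup.mem_bot] at h1
  exact qa_ne_one h1

/-! ### Conjugacy of the subgroups -/

open Cfsg.Agent.SporadicB.ON45Word (on)
open Cfsg.Agent.ONType.SecondTuple

/-- The classification of the tuples `(a, …, f)` up to conjugacy (to be supplied). -/
def TupleConj : Prop := ∀ a1 b1 c1 d1 e1 : ON, PathRels a1 b1 c1 d1 e1 (on .f) → a1 ≠ on .f → ∃ x : ON,
  (x * a1 * x⁻¹ = on .a ∧ x * b1 * x⁻¹ = on .b ∧ x * c1 * x⁻¹ = on .c ∧ x * d1 * x⁻¹ = on .d ∧
    x * e1 * x⁻¹ = on .e ∧ x * on .f * x⁻¹ = on .f) ∨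
  (x * a1 * x⁻¹ = a2 ∧ x * b1 * x⁻¹ = b2 ∧ x * c1 * x⁻¹ = c2 ∧ x * d1 * x⁻¹ = d2 ∧
    x * e1 * x⁻¹ = e2 ∧ x * on .f * x⁻¹ = f2)

theorem exists_psi (hON : Cfsg.IsON ON) (hT : TupleConj)
    (hinv : ∀ s : ON, orderOf s = 2 → ∃ y : ON, y * s * y⁻¹ = on .f)
    {G : Type*} [Group G] (e0 : G ≃* ON) (φ : Q →* G) (hφ : Function.Injective φ) :
    ∃ Ψ : ON ≃* G, Ψ (on .a) = φ qa ∧ Ψ (on .b) = φ qb ∧ Ψ (on .c) = φ qc ∧ Ψ (on .d) = φ qd ∧
      Ψ (on .e) = φ qe ∧ Ψ (on .f) = φ qf := by
  have hf2 : orderOf (e0 (φ qf)) = 2 := by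
    refine orderOf_eq_prime ?_ ?_
    · rw [pow_two, ← map_mul, ← map_mul, qf_sq, map_one, map_one]
    · intro h
      exact qf_ne_one (hφ ((e0.map_eq_one_iff.mp h).trans (map_one φ).symm))
  obtain ⟨y, hy⟩ := hinv _ hf2
  let χ : Q →* ON := (MulAut.conj y).toMonoidHom.comp (e0.toMonoidHom.comp φ)
  have hχ : ∀ q, χ q = y * e0 (φ q) * y⁻¹ := fun q => rfl
  have hχi : Function.Injective χ := (MulAut.conj y).injective.comp (e0.injective.comp hφ)
  have hrel := pathRels_q.map χ hχi
  have hχf : χ qf = on .f := by rw [hχ, hy]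
  rw [hχf] at hrel
  have hne : χ qa ≠ on .f := by
    rw [← hχf]
    exact fun h => qa_ne_qf (hχi h)
  obtain ⟨x, h | h⟩ := hT _ _ _ _ _ hrel hne
  · obtain ⟨h1, h2, h3, h4, h5, h6⟩ := h
    have key : ∀ (q : Q) (w : ON), x * χ q * x⁻¹ = w → e0.symm (y⁻¹ * (x⁻¹ * w * x) * y) = φ q := by
      intro q w hw
      rw [← hw, hχ, MulEquiv.symm_apply_eq]
      group
    refine ⟨(MulAut.conj (y⁻¹ * x⁻¹)).trans e0.symm, ?_, ?_, ?_, ?_, ?_, ?_⟩
    all_goals rw [MulEquiv.trans_apply, MulAut.conj_apply]
    · rw [← key qa _ h1]; congr 1; group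
    · rw [← key qb _ h2]; congr 1; group
    · rw [← key qc _ h3]; congr 1; group
    · rw [← key qd _ h4]; congr 1; group
    · rw [← key qe _ h5]; congr 1; group
    · rw [← key qf (on .f) (by rw [hχf]; exact h6)]; congr 1; group
  · obtain ⟨h1, h2, h3, h4, h5, h6⟩ := h
    obtain ⟨E, hE⟩ := exists_aut hON
    have key : ∀ (q : Q) (w : ON), x * χ q * x⁻¹ = w → e0.symm (y⁻¹ * (x⁻¹ * w * x) * y) = φ q := by
      intro q w hw
      rw [← hw, hχ, MulEquiv.symm_apply_eq]
      group
    refine ⟨E.trans ((MulAut.conj (y⁻¹ * x⁻¹)).trans e0.symm), ?_, ?_, ?_, ?_, ?_, ?_⟩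
    all_goals rw [MulEquiv.trans_apply, MulEquiv.trans_apply, MulAut.conj_apply, hE]
    · rw [← key qa _ h1]; simp only [fam]; congr 1; group
    · rw [← key qb _ h2]; simp only [fam]; congr 1; group
    · rw [← key qc _ h3]; simp only [fam]; congr 1; group
    · rw [← key qd _ h4]; simp only [fam]; congr 1; group
    · rw [← key qe _ h5]; simp only [fam]; congr 1; group
    · rw [← key qf f2 (by rw [hχf]; exact h6)]; simp only [fam]; congr 1; group

theorem exists_map (hON : Cfsg.IsON ON) (hT : TupleConj)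
    (hinv : ∀ s : ON, orderOf s = 2 → ∃ y : ON, y * s * y⁻¹ = on .f)
    {G : Type*} [Group G] (e0 : G ≃* ON) (H : Subgroup G) (ψ : Q ≃* H) :
    ∃ Ψ : ON ≃* G, SporRec.ONAssembly.H.map Ψ.toMonoidHom = H := by
  obtain ⟨Ψ, h1, h2, h3, h4, h5, h6⟩ := exists_psi hON hT hinv e0 (H.subtype.comp ψ.toMonoidHom)
    (H.subtype_injective.comp ψ.injective)
  refine ⟨Ψ, ?_⟩
  have h7 : Ψ.toMonoidHom.comp SporRec.ONAssembly.theta = H.subtype.comp ψ.toMonoidHom := by
    apply MonoidHom.eq_of_eqOn_dense closure_gens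
    intro q hq
    simp only [Set.mem_insert_iff, Set.mem_singleton_iff] at hq
    rcases hq with rfl | rfl | rfl | rfl | rfl | rfl
    · exact (congrArg Ψ SporRec.ONAssembly.theta_qa).trans h1
    · exact (congrArg Ψ SporRec.ONAssembly.theta_qb).trans h2
    · exact (congrArg Ψ SporRec.ONAssembly.theta_qc).trans h3
    · exact (congrArg Ψ SporRec.ONAssembly.theta_qd).trans h4
    · exact (congrArg Ψ SporRec.ONAssembly.theta_qe).trans h5
    · exact (congrArg Ψ SporRec.ONAssembly.theta_qf).trans h6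
  rw [← SporRec.ONAssembly.range_theta_eq, ← MonoidHom.range_comp, h7, MonoidHom.range_comp,
    MonoidHom.range_eq_top.mpr ψ.surjective, ← MonoidHom.range_eq_map, Subgroup.range_subtype]

theorem card_centralizer_equiv {A B : Type*} [Group A] [Group B] (α : A ≃* B) (s : A) :
    Nat.card (Subgroup.centralizer ({α s} : Set B)) = Nat.card (Subgroup.centralizer ({s} : Set A)) := by
  refine (Nat.card_congr (α.toEquiv.subtypeEquiv (fun x => ?_))).symm
  show x ∈ Subgroup.centralizer ({s} : Set A) ↔ α x ∈ Subgroup.centralizer ({α s} : Set B)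
  rw [Subgroup.mem_centralizer_singleton_iff, Subgroup.mem_centralizer_singleton_iff, ← map_mul, ← map_mul,
    α.injective.eq_iff]

/-- **The core of `S1657`.** -/
theorem main (hON : Cfsg.IsON ON) (hidx : SporRec.ONAssembly.H.index = 122760) (hT : TupleConj)
    (hinv : ∀ s : ON, orderOf s = 2 → ∃ y : ON, y * s * y⁻¹ = on .f)
    (hC : Nat.card (Subgroup.centralizer ({on .f} : Set ON)) = 161280)
    {G : Type*} [Group G] [Finite G] (e0 : G ≃* ON) (H : Subgroup G) (N : Subgroup H) [N.Normal]
    (hN : N.index = 2) (eN : N ≃* PSL37) :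
    H.index = 122760 ∧ ∃ q₁ q₂ q₃ q₄ : G ⧸ H, (MulAction.orbit H q₁).ncard = 6384 ∧
      (MulAction.orbit H q₂).ncard = 5586 ∧ (MulAction.orbit H q₃).ncard = 58653 ∧
      (MulAction.orbit H q₄).ncard = 52136 := by
  have hcG : Nat.card G = 460815505920 := (Nat.card_congr e0.toEquiv).trans hON.2
  constructor
  · have h1 := Subgroup.card_mul_index H
    rw [card_H hN eN, hcG] at h1
    omega
  · have hCG : ∀ s : G, orderOf s = 2 → Nat.card (Subgroup.centralizer ({s} : Set G)) = 161280 := by
      intro s hs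
      have h2 : orderOf (e0 s) = 2 := by rw [← hs]; exact orderOf_injective e0.toMonoidHom e0.injective s
      obtain ⟨y, hy⟩ := hinv _ h2
      have h3 := card_centralizer_equiv (e0.trans (MulAut.conj y)) s
      rw [MulEquiv.trans_apply, MulAut.conj_apply, hy, hC] at h3
      exact h3.symm
    obtain ⟨ψ⟩ := exists_iso hCG hN eN
    obtain ⟨Ψ, hΨ⟩ := exists_map hON hT hinv e0 H ψ
    obtain ⟨p1, p2, p3, p4, h1, h2, h3, h4⟩ := RepOrb.suborbits hidx
    obtain ⟨q1, k1⟩ := orbit_transport Ψ _ H hΨ p1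
    obtain ⟨q2, k2⟩ := orbit_transport Ψ _ H hΨ p2
    obtain ⟨q3, k3⟩ := orbit_transport Ψ _ H hΨ p3
    obtain ⟨q4, k4⟩ := orbit_transport Ψ _ H hΨ p4
    exact ⟨q1, q2, q3, q4, k1.trans h1, k2.trans h2, k3.trans h3, k4.trans h4⟩

end Cfsg.Agent.ONType.S1657Core
end

-- part: ONType/TupleClass
section
/-!
Classification, up to conjugacy, of the tuples `(a, …, f)` of elements of the presented O'Nan group satisfying the
relations of `L₃(7):2`.
-/

set_option autoImplicit false
set_option maxRecDepth 100000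

namespace Cfsg.Agent.ONType.TupleClass

open Cfsg.Spor Cfsg.Spor.ON Cfsg.Agent.SporadicB.ONHom Cfsg.Agent.SporadicB.ON45Word
  Cfsg.Agent.ONType.TupRow Cfsg.Agent.ONType.TupCover Cfsg.Agent.ONType.TupT0 Cfsg.Agent.ONType.TupK
  Cfsg.Agent.ONType.TupS Cfsg.Agent.ONType.SecondTuple

open Cfsg.Agent.SporadicRecognition.CosetCert (ev ev_nil ev_cons ev_append)

/-! ### Elementary facts -/

theorem aa (hs : IsSimpleGroup ON) : on .a * on .a = 1 := by
  have h : eqJ [5, 5] [] = true := by decide +kernel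
  have := eqJ_spec hs h
  simp only [ev_cons, ev_nil, mul_one] at this
  exact this

theorem bb (hs : IsSimpleGroup ON) : on .b * on .b = 1 := by
  have h : eqJ [6, 6] [] = true := by decide +kernel
  have := eqJ_spec hs h
  simp only [ev_cons, ev_nil, mul_one] at this
  exact this

theorem ff (hs : IsSimpleGroup ON) : on .f * on .f = 1 := by
  have h : eqJ [7, 7] [] = true := by decide +kernel
  have := eqJ_spec hs h
  simp only [ev_cons, ev_nil, mul_one] at this
  exact this

theorem bf (hs : IsSimpleGroup ON) : on .b * on .f = on .f * on .b := by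
  have h : eqJ [6, 7] [7, 6] = true := by decide +kernel
  have := eqJ_spec hs h
  simp only [ev_cons, ev_nil, mul_one] at this
  exact this

theorem af_ne : on .a ≠ on .f := by
  have h : neJ [5] [7] = true := by decide +kernel
  have := neJ_spec h
  simp only [ev_cons, ev_nil, mul_one] at this
  exact this

theorem inv_of_sq {G : Type*} [Group G] {x : G} (h : x * x = 1) : x⁻¹ = x := inv_eq_of_mul_eq_one_right h

/-- `(x y)^3 = 1` for involutions is the braid relation. -/
theorem braid_of_cube {G : Type*} [Group G] {x y : G} (hx : x * x = 1) (hy : y * y = 1) (h : (x * y) ^ 3 = 1) :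
    x * y * x = y * x * y := by
  have h1 : x * y * x * (y * x * y) = 1 := by
    calc x * y * x * (y * x * y) = (x * y) ^ 3 := by
          rw [pow_succ, pow_succ, pow_one]; group
      _ = 1 := h
  have h2 : x * y * x = (y * x * y)⁻¹ := eq_inv_of_mul_eq_one_left h1
  rw [h2, mul_inv_rev, mul_inv_rev, inv_of_sq hx, inv_of_sq hy, ← mul_assoc]

/-! ### The symmetry exchanging `a, b, c` and `f, e, d` -/

theorem rev_rels (hs : IsSimpleGroup ON) : Rels (on .f) (on .e) (on .d) (on .c) (on .b) (on .a) (on .g) where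
  aa := eq_of_eqM hs ((LW.gen .f).mul (LW.gen .f)) LW.one (by decide +kernel)
  bb := eq_of_eqM hs ((LW.gen .e).mul (LW.gen .e)) LW.one (by decide +kernel)
  cc := eq_of_eqM hs ((LW.gen .d).mul (LW.gen .d)) LW.one (by decide +kernel)
  dd := eq_of_eqM hs ((LW.gen .c).mul (LW.gen .c)) LW.one (by decide +kernel)
  ee := eq_of_eqM hs ((LW.gen .b).mul (LW.gen .b)) LW.one (by decide +kernel)
  ff := eq_of_eqM hs ((LW.gen .a).mul (LW.gen .a)) LW.one (by decide +kernel)
  ab := eq_of_eqM hs (((LW.gen .f).mul (LW.gen .e)).pow 3) LW.one (by decide +kernel)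
  bc := eq_of_eqM hs (((LW.gen .e).mul (LW.gen .d)).pow 3) LW.one (by decide +kernel)
  de := eq_of_eqM hs (((LW.gen .c).mul (LW.gen .b)).pow 3) LW.one (by decide +kernel)
  ef := eq_of_eqM hs (((LW.gen .b).mul (LW.gen .a)).pow 3) LW.one (by decide +kernel)
  ac := eq_of_eqM hs ((LW.gen .f).mul (LW.gen .d)) ((LW.gen .d).mul (LW.gen .f)) (by decide +kernel)
  ad := eq_of_eqM hs ((LW.gen .f).mul (LW.gen .c)) ((LW.gen .c).mul (LW.gen .f)) (by decide +kernel)
  ae := eq_of_eqM hs ((LW.gen .f).mul (LW.gen .b)) ((LW.gen .b).mul (LW.gen .f)) (by decide +kernel)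
  af := eq_of_eqM hs ((LW.gen .f).mul (LW.gen .a)) ((LW.gen .a).mul (LW.gen .f)) (by decide +kernel)
  bd := eq_of_eqM hs ((LW.gen .e).mul (LW.gen .c)) ((LW.gen .c).mul (LW.gen .e)) (by decide +kernel)
  be := eq_of_eqM hs ((LW.gen .e).mul (LW.gen .b)) ((LW.gen .b).mul (LW.gen .e)) (by decide +kernel)
  bf := eq_of_eqM hs ((LW.gen .e).mul (LW.gen .a)) ((LW.gen .a).mul (LW.gen .e)) (by decide +kernel)
  ce := eq_of_eqM hs ((LW.gen .d).mul (LW.gen .b)) ((LW.gen .b).mul (LW.gen .d)) (by decide +kernel)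
  cf := eq_of_eqM hs ((LW.gen .d).mul (LW.gen .a)) ((LW.gen .a).mul (LW.gen .d)) (by decide +kernel)
  df := eq_of_eqM hs ((LW.gen .c).mul (LW.gen .a)) ((LW.gen .a).mul (LW.gen .c)) (by decide +kernel)
  afcd := eq_of_eqM hs ((LW.gen .f).mul (LW.gen .a)) (((LW.gen .d).mul (LW.gen .c)).pow 4) (by decide +kernel)
  afgg := eq_of_eqM hs ((LW.gen .f).mul (LW.gen .a)) ((LW.gen .g).mul (LW.gen .g)) (by decide +kernel)
  cdg := eq_of_eqM hs
    ((LW.gen .d).mul ((((LW.gen .c).mul (LW.gen .g)).mul (LW.gen .c)).mul (LW.gen .g)))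
    (((((LW.gen .c).mul (LW.gen .g)).mul (LW.gen .c)).mul (LW.gen .g)).mul (LW.gen .d)) (by decide +kernel)
  dcg := eq_of_eqM hs
    ((LW.gen .c).mul ((((LW.gen .d).mul (LW.gen .g)).mul (LW.gen .d)).mul (LW.gen .g)))
    (((((LW.gen .d).mul (LW.gen .g)).mul (LW.gen .d)).mul (LW.gen .g)).mul (LW.gen .c)) (by decide +kernel)
  bcdg := eq_of_eqM hs (((((LW.gen .e).mul (LW.gen .d)).mul (LW.gen .c)).mul (LW.gen .g)).pow 5) LW.one
    (by decide +kernel)
  gb := eq_of_eqM hs
    (((((LW.gen .g).mul (LW.gen .e)).mul (((LW.gen .d).mul (LW.gen .g)).mul (LW.gen .d))).mul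
      (((LW.gen .e).mul (LW.gen .g)).mul (LW.gen .e))).mul (((LW.gen .d).mul (LW.gen .g)).mul (LW.gen .d)))
    LW.one (by decide +kernel)
  ge := eq_of_eqM hs
    (((((LW.gen .g).mul (LW.gen .b)).mul (((LW.gen .c).mul (LW.gen .g)).mul (LW.gen .c))).mul
      (((LW.gen .b).mul (LW.gen .g)).mul (LW.gen .b))).mul (((LW.gen .c).mul (LW.gen .g)).mul (LW.gen .c)))
    LW.one (by decide +kernel)

/-- the symmetry -/
noncomputable def sw (hs : IsSimpleGroup ON) : ON →* ON := hom (rev_rels hs)

theorem sw_on (hs : IsSimpleGroup ON) (x : Gen) :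
    sw hs (on x) = fam (on .f) (on .e) (on .d) (on .c) (on .b) (on .a) (on .g) x := hom_of (rev_rels hs) x

theorem sw_a (hs : IsSimpleGroup ON) : sw hs (on .a) = on .f := sw_on hs .a
theorem sw_b (hs : IsSimpleGroup ON) : sw hs (on .b) = on .e := sw_on hs .b
theorem sw_c (hs : IsSimpleGroup ON) : sw hs (on .c) = on .d := sw_on hs .c
theorem sw_d (hs : IsSimpleGroup ON) : sw hs (on .d) = on .c := sw_on hs .d
theorem sw_e (hs : IsSimpleGroup ON) : sw hs (on .e) = on .b := sw_on hs .e
theorem sw_f (hs : IsSimpleGroup ON) : sw hs (on .f) = on .a := sw_on hs .f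
theorem sw_g (hs : IsSimpleGroup ON) : sw hs (on .g) = on .g := sw_on hs .g

theorem sw_sw (hs : IsSimpleGroup ON) (x : ON) : sw hs (sw hs x) = x := by
  have h : (sw hs).comp (sw hs) = MonoidHom.id ON := by
    apply PresentedGroup.ext
    intro y
    show sw hs (sw hs (on y)) = on y
    cases y <;> simp only [sw_a, sw_b, sw_c, sw_d, sw_e, sw_f, sw_g]
  exact DFunLike.congr_fun h x

/-! ### Triples -/

def rep4 (w : List ℕ) : List ℕ := (w ++ w) ++ (w ++ w)

theorem ev_rep4 (w : List ℕ) : ev gJ (rep4 w) = (ev gJ w) ^ 4 := by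
  unfold rep4
  rw [ev_append, ev_append]
  simp only [pow_succ, pow_zero, one_mul, mul_assoc]

noncomputable def goodPair (w1 w2 : List ℕ) : Bool := exA.any fun t =>
  eqJ (w1 ++ t) (t ++ [0]) && (eqJ (w2 ++ t) (t ++ [1]) || eqJ (w2 ++ t) (t ++ [9])) && eqJ (6 :: t) (t ++ [6])

theorem pairs_ok : (exB.all fun w1 => exA.all fun w2 => neJ [5, 7] (rep4 (w1 ++ w2)) || goodPair w1 w2) = true := by
  decide +kernel

theorem pairs3_ok : (exB3.all fun w1 => exA3.all fun w2 => neJ [5, 7] (rep4 (w1 ++ w2))) = true := by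
  decide +kernel

theorem exA_mem {w : List ℕ} (hw : w ∈ exA) : ev gJ w ∈ T0 := by
  refine ev_mem w ?_
  have h : (exA.all fun w => w.all fun x => Nat.blt x 4) = true := by decide
  intro x hx
  exact blt_iff.1 (List.all_eq_true.1 (List.all_eq_true.1 h w hw) x hx)

/-- Triples completing `a`. -/
theorem classify (hs : IsSimpleGroup ON) {B C D : ON} (hB : B ∈ K0) (hC : C ∈ K0) (hD : D ∈ K0)
    (BB : B * B = 1) (CC : C * C = 1) (DD : D * D = 1) (aB : on .a * B * on .a = B * on .a * B)
    (BC : C * B * C = B * C * B) (BD : B * D = D * B) (aC : on .a * C = C * on .a) (aD : on .a * D = D * on .a)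
    (afCD : on .a * on .f = (C * D) ^ 4) :
    ∃ t ∈ T0, B = t⁻¹ * on .b * t ∧ C = t⁻¹ * on .c * t ∧ (D = t⁻¹ * on .d * t ∨ D = t⁻¹ * d2 * t) := by
  have haa := aa hs
  have hff := ff hs
  have haK : on .a ∈ K0 := T0_le (a_mem hs)
  have hCT : C ∈ T0 := mem_T0 hs hC aC.symm
  have hDT : D ∈ T0 := mem_T0 hs hD aD.symm
  have hconj : B = (B * on .a)⁻¹ * on .a * (B * on .a) := by
    calc B = on .a * (on .a * B * on .a) * on .a := by
          calc B = 1 * B * 1 := by rw [one_mul, mul_one]
            _ = (on .a * on .a) * B * (on .a * on .a) := by rw [haa]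
            _ = _ := by group
      _ = on .a * (B * on .a * B) * on .a := by rw [aB]
      _ = (on .a * B) * on .a * (B * on .a) := by group
      _ = _ := by rw [mul_inv_rev, inv_of_sq haa, inv_of_sq BB]
  have hconjT : ∀ t ∈ T0, t * (on .a * on .f) * t⁻¹ = on .a * on .f := by
    intro t ht
    have h1 := comm_a hs ht
    have h2 := comm_f hs ht
    calc t * (on .a * on .f) * t⁻¹ = (t * on .a) * on .f * t⁻¹ := by group
      _ = on .a * (t * on .f) * t⁻¹ := by rw [h1]; group
      _ = on .a * on .f := by rw [h2]; group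
  rcases conj_class hs (K0.mul_mem hB haK) hconj aB with h | ⟨t, ht, h | h⟩
  · -- `B = a`
    exfalso
    rw [h] at BC
    have h1 : C = on .a := by
      have e1 : C * on .a * C = on .a := by
        rw [mul_assoc, aC, ← mul_assoc, CC, one_mul]
      have e2 : on .a * C * on .a = C := by
        rw [aC, mul_assoc, haa, mul_one]
      rw [e1, e2] at BC
      exact BC.symm
    rw [h1] at afCD
    have h2 : (on .a * D) ^ 4 = 1 := by
      have h3 : (on .a * D) * (on .a * D) = 1 := by
        calc (on .a * D) * (on .a * D) = on .a * (D * on .a) * D := by group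
          _ = (on .a * on .a) * (D * D) := by rw [← aD]; group
          _ = 1 := by rw [haa, DD, one_mul]
      calc (on .a * D) ^ 4 = ((on .a * D) * (on .a * D)) * ((on .a * D) * (on .a * D)) := by
            simp only [pow_succ, pow_zero, one_mul, mul_assoc]
        _ = 1 := by rw [h3, one_mul]
    rw [h2] at afCD
    apply af_ne
    calc on .a = on .a * (on .f * on .f) := by rw [hff, mul_one]
      _ = (on .a * on .f) * on .f := by group
      _ = on .f := by rw [afCD, one_mul]
  · -- `B` conjugate to `b`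
    have hC' : t * C * t⁻¹ ∈ T0 := T0.mul_mem (T0.mul_mem ht hCT) (T0.inv_mem ht)
    have hD' : t * D * t⁻¹ ∈ T0 := T0.mul_mem (T0.mul_mem ht hDT) (T0.inv_mem ht)
    have hb : on .b = t * B * t⁻¹ := by rw [h]; group
    have k1 : (t * C * t⁻¹) * (t * C * t⁻¹) = 1 := by
      calc (t * C * t⁻¹) * (t * C * t⁻¹) = t * (C * C) * t⁻¹ := by group
        _ = 1 := by rw [CC]; group
    have k2 : (t * C * t⁻¹) * on .b * (t * C * t⁻¹) = on .b * (t * C * t⁻¹) * on .b := by
      rw [hb]
      calc (t * C * t⁻¹) * (t * B * t⁻¹) * (t * C * t⁻¹) = t * (C * B * C) * t⁻¹ := by group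
        _ = t * (B * C * B) * t⁻¹ := by rw [BC]
        _ = _ := by group
    have k3 : (t * D * t⁻¹) * on .b = on .b * (t * D * t⁻¹) := by
      rw [hb]
      calc (t * D * t⁻¹) * (t * B * t⁻¹) = t * (D * B) * t⁻¹ := by group
        _ = t * (B * D) * t⁻¹ := by rw [BD]
        _ = _ := by group
    obtain ⟨w1, hw1, e1⟩ := braid_b hs hC' k1 k2
    obtain ⟨w2, hw2, e2⟩ := comm_b hs hD' k3
    have k4 : on .a * on .f = (ev gJ w1 * ev gJ w2) ^ 4 := by
      rw [← hconjT t ht, afCD, ← e1, ← e2]
      have : t * C * t⁻¹ * (t * D * t⁻¹) = t * (C * D) * t⁻¹ := by group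
      rw [this, conj_pow]
    rcases Bool.or_eq_true_iff.1 (List.all_eq_true.1 (List.all_eq_true.1 pairs_ok w1 hw1) w2 hw2) with h5 | h5
    · exfalso
      apply neJ_spec h5
      rw [ev_rep4, ev_append, ← k4, ev_cons, ev_cons, ev_nil, mul_one]
      rfl
    · obtain ⟨wr, hwr, h6⟩ := List.any_eq_true.1 h5
      rw [Bool.and_eq_true, Bool.and_eq_true, Bool.or_eq_true] at h6
      obtain ⟨⟨h7, h8⟩, h9⟩ := h6
      have h7 := eqJ_spec hs h7
      have h9 := eqJ_spec hs h9
      rw [ev_append, ev_append, ev_cons _ 0, ev_nil, mul_one] at h7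
      rw [ev_append, ev_cons, ev_cons _ 6, ev_nil, mul_one] at h9
      have hr := exA_mem hwr
      obtain ⟨r, hrdef⟩ : ∃ r, r = ev gJ wr := ⟨_, rfl⟩
      rw [← hrdef] at h7 h9 hr
      rw [← e1] at h7
      have h7 : t * C * t⁻¹ * r = r * on .c := h7
      have h9 : on .b * r = r * on .b := h9
      refine ⟨r⁻¹ * t, T0.mul_mem (T0.inv_mem hr) ht, ?_, ?_, ?_⟩
      · rw [h, mul_inv_rev, inv_inv]
        calc t⁻¹ * on .b * t = t⁻¹ * (on .b * r) * r⁻¹ * t := by group
          _ = t⁻¹ * (r * on .b) * r⁻¹ * t := by rw [h9]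
          _ = _ := by group
      · rw [mul_inv_rev, inv_inv]
        calc C = t⁻¹ * (t * C * t⁻¹ * r) * r⁻¹ * t := by group
          _ = t⁻¹ * (r * on .c) * r⁻¹ * t := by rw [h7]
          _ = _ := by group
      · rw [mul_inv_rev, inv_inv]
        rcases h8 with h8 | h8
        · left
          have h8 := eqJ_spec hs h8
          rw [ev_append, ev_append, ev_cons _ 1, ev_nil, mul_one, ← hrdef, ← e2] at h8
          have h8 : t * D * t⁻¹ * r = r * on .d := h8
          calc D = t⁻¹ * (t * D * t⁻¹ * r) * r⁻¹ * t := by group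
            _ = t⁻¹ * (r * on .d) * r⁻¹ * t := by rw [h8]
            _ = _ := by group
        · right
          have h8 := eqJ_spec hs h8
          rw [ev_append, ev_append, ev_cons _ 9, ev_nil, mul_one, ← hrdef, ← e2] at h8
          have h8 : t * D * t⁻¹ * r = r * d2 := h8
          calc D = t⁻¹ * (t * D * t⁻¹ * r) * r⁻¹ * t := by group
            _ = t⁻¹ * (r * d2) * r⁻¹ * t := by rw [h8]
            _ = _ := by group
  · -- `B` conjugate to `b3`
    exfalso
    have hC' : t * C * t⁻¹ ∈ T0 := T0.mul_mem (T0.mul_mem ht hCT) (T0.inv_mem ht)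
    have hD' : t * D * t⁻¹ ∈ T0 := T0.mul_mem (T0.mul_mem ht hDT) (T0.inv_mem ht)
    have hb : b3 = t * B * t⁻¹ := by rw [h]; group
    have k1 : (t * C * t⁻¹) * (t * C * t⁻¹) = 1 := by
      calc (t * C * t⁻¹) * (t * C * t⁻¹) = t * (C * C) * t⁻¹ := by group
        _ = 1 := by rw [CC]; group
    have k2 : (t * C * t⁻¹) * b3 * (t * C * t⁻¹) = b3 * (t * C * t⁻¹) * b3 := by
      rw [hb]
      calc (t * C * t⁻¹) * (t * B * t⁻¹) * (t * C * t⁻¹) = t * (C * B * C) * t⁻¹ := by group
        _ = t * (B * C * B) * t⁻¹ := by rw [BC]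
        _ = _ := by group
    have k3 : (t * D * t⁻¹) * b3 = b3 * (t * D * t⁻¹) := by
      rw [hb]
      calc (t * D * t⁻¹) * (t * B * t⁻¹) = t * (D * B) * t⁻¹ := by group
        _ = t * (B * D) * t⁻¹ := by rw [BD]
        _ = _ := by group
    obtain ⟨w1, hw1, e1⟩ := braid_b3 hs hC' k1 k2
    obtain ⟨w2, hw2, e2⟩ := comm_b3 hs hD' k3
    have k4 : on .a * on .f = (ev gJ w1 * ev gJ w2) ^ 4 := by
      rw [← hconjT t ht, afCD, ← e1, ← e2]
      have : t * C * t⁻¹ * (t * D * t⁻¹) = t * (C * D) * t⁻¹ := by group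
      rw [this, conj_pow]
    apply neJ_spec (List.all_eq_true.1 (List.all_eq_true.1 pairs3_ok w1 hw1) w2 hw2)
    rw [ev_rep4, ev_append, ← k4, ev_cons, ev_cons, ev_nil, mul_one]
    rfl

/-! ### The involution `a` -/

theorem b_mem : on .b ∈ K0 := Subgroup.subset_closure ⟨5, by show 5 < 6; decide, rfl⟩

theorem evJ_mem_K0 (hs : IsSimpleGroup ON) (w : List ℕ) (hw : ∀ x ∈ w, x < 7) : ev gJ w ∈ K0 := by
  induction w with
  | nil => rw [ev_nil]; exact K0.one_mem
  | cons x w ih =>
    rw [ev_cons]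
    refine K0.mul_mem ?_ (ih fun y hy => hw y (by simp [hy]))
    have hx := hw x (by simp)
    have key : ∀ x < 4, gJ x ∈ K0 := fun x hx => T0_le (Subgroup.subset_closure ⟨x, hx, rfl⟩)
    interval_cases x
    · exact key 0 (by decide)
    · exact key 1 (by decide)
    · exact key 2 (by decide)
    · exact key 3 (by decide)
    · exact K0.one_mem
    · exact T0_le (a_mem hs)
    · exact b_mem

theorem sq_word (hs : IsSimpleGroup ON) (w m : List ℕ) (hm : ∀ x ∈ m, x < 7)
    (h : eqJ (m ++ (w ++ [7])) (5 :: m) = true) : ∃ m ∈ K0, m * (ev gJ w * on .f) = on .a * m := by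
  refine ⟨ev gJ m, evJ_mem_K0 hs m hm, ?_⟩
  have := eqJ_spec hs h
  rw [ev_append, ev_append, ev_cons _ 7, ev_nil, mul_one, ev_cons] at this
  exact this

theorem sq_cases (hs : IsSimpleGroup ON) : ∀ p ∈ exSq, ev gJ p.2 = 1 ∨ ev gJ p.2 = on .f ∨
    ∃ m ∈ K0, m * (ev gJ p.2 * on .f) = on .a * m := by
  intro p hp
  simp only [exSq, List.mem_cons, List.not_mem_nil, or_false] at hp
  rcases hp with rfl | rfl | rfl | rfl | rfl | rfl | rfl | rfl
  · exact Or.inl (ev_nil _)
  · exact Or.inr (Or.inr (sq_word hs [2, 2] [] (by simp) (by decide +kernel)))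
  · exact Or.inr (Or.inr (sq_word hs [0, 1, 2, 0, 1, 2] [6, 0, 1, 0, 3, 6, 2, 6, 0, 1, 0, 6] (by decide)
      (by decide +kernel)))
  · exact Or.inr (Or.inr (sq_word hs [0, 2, 1, 0, 2, 1] [6, 0, 1, 3, 6, 0, 1, 5, 6, 0, 3, 6] (by decide)
      (by decide +kernel)))
  · exact Or.inr (Or.inr (sq_word hs [0, 1, 2, 0, 1, 3] [6, 2, 0, 1, 6, 0, 1, 5, 6, 2, 0, 6] (by decide)
      (by decide +kernel)))
  · exact Or.inr (Or.inr (sq_word hs [0, 2, 0, 2, 0, 2, 0, 2] [6, 0, 1, 0, 1, 6, 0, 1, 3, 6, 0, 2, 6] (by decide)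
      (by decide +kernel)))
  · exact Or.inr (Or.inl (f_eq hs))
  · exact Or.inr (Or.inr (sq_word hs [0, 2, 1, 0, 3, 1] [6, 0, 1, 0, 6, 3, 6, 0, 1, 0, 2, 6] (by decide)
      (by decide +kernel)))

/-- the facts on the centraliser of `f` used below -/
structure Cen : Prop where
  simple : IsSimpleGroup ON
  card : Nat.card K0 = 161280
  mem : ∀ x : ON, x ∈ K0 ↔ x * on .f = on .f * x

theorem closure_eq : Subgroup.closure {on .a, on .b, on .c, on .d, on .g} = K0 := by
  apply le_antisymm
  · rw [Subgroup.closure_le]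
    intro x hx
    have key : ∀ x < 6, gK x ∈ K0 := fun x hx => Subgroup.subset_closure ⟨x, hx, rfl⟩
    simp only [Set.mem_insert_iff, Set.mem_singleton_iff] at hx
    rcases hx with rfl | rfl | rfl | rfl | rfl
    · exact key 4 (by decide)
    · exact key 5 (by decide)
    · exact key 0 (by decide)
    · exact key 1 (by decide)
    · exact key 2 (by decide)
  · unfold K0
    rw [Subgroup.closure_le]
    rintro _ ⟨x, hx, rfl⟩
    have hx6 : x < 6 := hx
    interval_cases x
    · exact Subgroup.subset_closure (by simp [gK])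
    · exact Subgroup.subset_closure (by simp [gK])
    · exact Subgroup.subset_closure (by simp [gK])
    · exact Subgroup.inv_mem _ (Subgroup.subset_closure (by simp))
    · exact Subgroup.subset_closure (by simp [gK])
    · exact Subgroup.subset_closure (by simp [gK])

theorem cen_of (hs : IsSimpleGroup ON) (hC : Nat.card (Subgroup.centralizer ({on .f} : Set ON)) = 161280)
    (hcl : Subgroup.centralizer ({on .f} : Set ON) = Subgroup.closure {on .a, on .b, on .c, on .d, on .g}) :
    Cen := by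
  rw [closure_eq] at hcl
  refine ⟨hs, ?_, ?_⟩
  · rw [← hcl]; exact hC
  · intro x
    rw [← hcl, Subgroup.mem_centralizer_singleton_iff]

theorem conj_a (H : Cen) {a1 c1 d1 : ON} (haf : a1 * on .f = on .f * a1) (hcf : c1 * on .f = on .f * c1)
    (hdf : d1 * on .f = on .f * d1) (ha2 : a1 * a1 = 1) (hne : a1 ≠ 1) (hnf : a1 ≠ on .f)
    (h4 : a1 * on .f = (c1 * d1) ^ 4) : ∃ x ∈ K0, x * a1 * x⁻¹ = on .a := by
  have hs := H.simple
  have hff := ff hs
  have hy : c1 * d1 ∈ K0 := K0.mul_mem ((H.mem c1).2 hcf) ((H.mem d1).2 hdf)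
  have h8 : (c1 * d1) ^ 8 = 1 := by
    have e : (c1 * d1) ^ 8 = (c1 * d1) ^ 4 * (c1 * d1) ^ 4 := by rw [← pow_add]
    rw [e, ← h4]
    calc a1 * on .f * (a1 * on .f) = a1 * (on .f * a1) * on .f := by group
      _ = (a1 * a1) * (on .f * on .f) := by rw [← haf]; group
      _ = 1 := by rw [ha2, hff, one_mul]
  obtain ⟨k, hk, hkS⟩ := exists_conj_S hs H.card hy h8
  obtain ⟨z, hz⟩ : ∃ z, z = k⁻¹ * (c1 * d1) * k := ⟨_, rfl⟩
  rw [← hz] at hkS
  have hzT := sq_mem hs hkS
  have hkf : k * on .f = on .f * k := (H.mem k).1 hk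
  have hkf' : on .f * k = k * on .f := hkf.symm
  have hz4 : (z * z) * (z * z) = (k⁻¹ * a1 * k) * on .f := by
    have e : (z * z) * (z * z) = k⁻¹ * (c1 * d1) ^ 4 * k := by
      rw [hz]
      simp only [pow_succ, pow_zero, one_mul]
      group
    rw [e, ← h4]
    calc k⁻¹ * (a1 * on .f) * k = k⁻¹ * a1 * (on .f * k) := by group
      _ = k⁻¹ * a1 * (k * on .f) := by rw [hkf']
      _ = _ := by group
  have hA2 : (k⁻¹ * a1 * k) * (k⁻¹ * a1 * k) = 1 := by
    calc (k⁻¹ * a1 * k) * (k⁻¹ * a1 * k) = k⁻¹ * (a1 * a1) * k := by group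
      _ = 1 := by rw [ha2]; group
  have hAf : (k⁻¹ * a1 * k) * on .f = on .f * (k⁻¹ * a1 * k) := by
    have e1 : k⁻¹ * on .f = on .f * k⁻¹ := by
      rw [inv_mul_eq_iff_eq_mul, ← mul_assoc, hkf, mul_assoc, mul_inv_cancel, mul_one]
    calc (k⁻¹ * a1 * k) * on .f = k⁻¹ * a1 * (k * on .f) := by group
      _ = k⁻¹ * (a1 * on .f) * k := by rw [hkf]; group
      _ = (k⁻¹ * on .f) * a1 * k := by rw [haf]; group
      _ = on .f * (k⁻¹ * a1 * k) := by rw [e1]; group
  have hz8 : ((z * z) * (z * z)) * ((z * z) * (z * z)) = 1 := by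
    rw [hz4]
    calc (k⁻¹ * a1 * k) * on .f * ((k⁻¹ * a1 * k) * on .f)
        = (k⁻¹ * a1 * k) * (on .f * (k⁻¹ * a1 * k)) * on .f := by group
      _ = ((k⁻¹ * a1 * k) * (k⁻¹ * a1 * k)) * (on .f * on .f) := by rw [← hAf]; group
      _ = 1 := by rw [hA2, hff, one_mul]
  obtain ⟨p, hp, hsq⟩ := squares hs hzT hz8
  have hA : k⁻¹ * a1 * k = ev gJ p.2 * on .f := by
    rw [← hsq, hz4, mul_assoc _ (on .f) (on .f), hff, mul_one]
  rcases sq_cases hs p hp with h | h | ⟨m, hm, h⟩
  · exfalso
    apply hnf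
    rw [h, one_mul] at hA
    calc a1 = k * (k⁻¹ * a1 * k) * k⁻¹ := by group
      _ = k * on .f * k⁻¹ := by rw [hA]
      _ = on .f := by rw [hkf]; group
  · exfalso
    apply hne
    rw [h, hff] at hA
    calc a1 = k * (k⁻¹ * a1 * k) * k⁻¹ := by group
      _ = 1 := by rw [hA]; group
  · refine ⟨m * k⁻¹, K0.mul_mem hm (K0.inv_mem hk), ?_⟩
    calc m * k⁻¹ * a1 * (m * k⁻¹)⁻¹ = m * (k⁻¹ * a1 * k) * m⁻¹ := by group
      _ = m * (ev gJ p.2 * on .f) * m⁻¹ := by rw [hA]
      _ = on .a := by rw [h]; group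

/-! ### The last involution -/

theorem V_conj (hs : IsSimpleGroup ON) {w : List ℕ} (hw : w ∈ exV) :
    (ev gJ w)⁻¹ * on .b * ev gJ w = on .b ∨ (ev gJ w)⁻¹ * on .b * ev gJ w = on .a * on .b * on .a := by
  have hia : (on .a)⁻¹ = on .a := inv_of_sq (aa hs)
  have hif : (on .f)⁻¹ = on .f := inv_of_sq (ff hs)
  have hbf := bf hs
  have hfbf : on .f * on .b * on .f = on .b := by
    rw [← hbf, mul_assoc, ff hs, mul_one]
  simp only [exV, List.mem_cons, List.not_mem_nil, or_false] at hw
  rcases hw with rfl | rfl | rfl | rfl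
  · left
    rw [ev_nil]; group
  · right
    rw [gg_eq hs, mul_inv_rev, hia, hif]
    have haf : on .a * on .f = on .f * on .a := comm_f hs (a_mem hs)
    calc on .f * on .a * on .b * (on .a * on .f) = (on .f * on .a) * on .b * (on .a * on .f) := by group
      _ = (on .a * on .f) * on .b * (on .f * on .a) := by rw [haf]
      _ = on .a * (on .f * on .b * on .f) * on .a := by group
      _ = _ := by rw [hfbf]
  · right
    rw [a_eq hs, hia]
  · left
    rw [f_eq hs, hif, hfbf]

theorem d2_eq (hs : IsSimpleGroup ON) : (on .g)⁻¹ * on .d * on .g = d2 := by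
  have h : eqJ [3, 1, 2] [9] = true := by decide +kernel
  have := eqJ_spec hs h
  rw [ev_cons, ev_cons, ev_cons, ev_nil, mul_one, ev_cons, ev_nil, mul_one, ← mul_assoc] at this
  exact this

theorem d2_eq' (hs : IsSimpleGroup ON) : on .g * on .d * (on .g)⁻¹ = d2 := by
  have h : eqJ [2, 1, 3] [9] = true := by decide +kernel
  have := eqJ_spec hs h
  rw [ev_cons, ev_cons, ev_cons, ev_nil, mul_one, ev_cons, ev_nil, mul_one, ← mul_assoc] at this
  exact this

theorem e2_eq (hs : IsSimpleGroup ON) : on .g * on .e * (on .g)⁻¹ = e2 :=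
  eq_of_eqM hs (((LW.gen .g).mul (LW.gen .e)).mul lGi) le (by decide +kernel)

theorem d2_mem (hs : IsSimpleGroup ON) : d2 ∈ T0 := by
  rw [← d2_eq hs]
  exact T0.mul_mem (T0.mul_mem (T0.inv_mem g_mem) d_mem) g_mem

theorem last (H : Cen) {D E : ON} (h : PathRels (on .a) (on .b) (on .c) D E (on .f)) (hD : D = on .d ∨ D = d2) :
    ∃ v, (v = 1 ∨ v = on .f) ∧ ((D = on .d ∧ v * E * v⁻¹ = on .e) ∨ (D = d2 ∧ v * E * v⁻¹ = e2)) := by
  have hs := H.simple
  have hff := ff hs
  have hif : (on .f)⁻¹ = on .f := inv_of_sq hff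
  have hDT : D ∈ T0 := by
    rcases hD with rfl | rfl
    · exact d_mem
    · exact d2_mem hs
  -- images under the symmetry
  have m1 : sw hs E ∈ K0 := by
    rw [H.mem, ← sw_a hs, ← map_mul, ← map_mul, h.ae]
  have m2 : sw hs D ∈ K0 := by
    rw [H.mem, ← sw_a hs, ← map_mul, ← map_mul, h.ad]
  have m3 : on .d ∈ K0 := T0_le d_mem
  have r1 : sw hs E * sw hs E = 1 := by rw [← map_mul, h.ee, map_one]
  have r2 : sw hs D * sw hs D = 1 := by rw [← map_mul, h.dd, map_one]
  have r3 : on .d * on .d = 1 := by rw [← sw_c hs, ← map_mul, h.cc, map_one]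
  have b1 := congrArg (sw hs) (braid_of_cube h.ee h.ff h.ef)
  have b2 := congrArg (sw hs) (braid_of_cube h.dd h.ee h.de)
  have b3' := congrArg (sw hs) h.ce
  have b4 := congrArg (sw hs) h.df
  have b5 := congrArg (sw hs) h.cf
  have b6 := congrArg (sw hs) h.afcd
  simp only [map_mul, map_pow, sw_a, sw_c, sw_f] at b1 b2 b3' b4 b5 b6
  have haf : on .a * on .f = on .f * on .a := h.af
  have b7 : on .a * on .f = (sw hs D * on .d) ^ 4 := by
    have e1 : sw hs D * on .d = (on .d * sw hs D)⁻¹ := by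
      rw [mul_inv_rev, inv_of_sq r2, inv_of_sq r3]
    rw [e1, inv_pow, ← b6, mul_inv_rev, hif, inv_of_sq (aa hs)]
  obtain ⟨t, ht, k1, k2, k3⟩ := classify hs m1 m2 m3 r1 r2 r3 b1.symm b2 b3'.symm b4.symm b5.symm b7
  have hE : E = sw hs (t⁻¹ * on .b * t) := by rw [← k1, sw_sw]
  rcases hD with hD | hD
  · -- first kind
    rw [hD, sw_d] at k2
    have c1 : t * on .c = on .c * t := by
      calc t * on .c = t * (t⁻¹ * on .c * t) := by rw [← k2]
        _ = on .c * t := by group
    rcases k3 with k3 | k3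
    · have c2 : t * on .d = on .d * t := by
        calc t * on .d = t * (t⁻¹ * on .d * t) := by rw [← k3]
          _ = on .d * t := by group
      obtain ⟨w, hw, htw⟩ := comm_cd hs ht c1 c2
      rcases V_conj hs hw with h1 | h1
      · rw [← htw] at h1
        rw [h1, sw_b] at hE
        exact ⟨1, Or.inl rfl, Or.inl ⟨hD, by rw [hE]; group⟩⟩
      · rw [← htw] at h1
        rw [h1, map_mul, map_mul, sw_a, sw_b] at hE
        refine ⟨on .f, Or.inr rfl, Or.inl ⟨hD, ?_⟩⟩
        rw [hE, hif]
        calc on .f * (on .f * on .e * on .f) * on .f = (on .f * on .f) * on .e * (on .f * on .f) := by group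
          _ = on .e := by rw [hff, one_mul, mul_one]
    · exfalso
      have c2 : on .d * t⁻¹ = t⁻¹ * d2 := by
        calc on .d * t⁻¹ = (t⁻¹ * d2 * t) * t⁻¹ := by rw [← k3]
          _ = _ := by group
      have c3 : t⁻¹ * on .c = on .c * t⁻¹ := by
        calc t⁻¹ * on .c = t⁻¹ * (on .c * t) * t⁻¹ := by group
          _ = t⁻¹ * (t * on .c) * t⁻¹ := by rw [c1]
          _ = _ := by group
      exact not_conj hs (T0.inv_mem ht) c3 c2
  · -- second kind
    have hsD : sw hs D = on .g * on .c * (on .g)⁻¹ := by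
      rw [hD, ← d2_eq' hs, map_mul, map_mul, map_inv, sw_g, sw_d]
    rw [hsD] at k2
    obtain ⟨r, hr⟩ : ∃ r, r = t * on .g := ⟨_, rfl⟩
    have hrT : r ∈ T0 := by rw [hr]; exact T0.mul_mem ht g_mem
    have htr : t = r * (on .g)⁻¹ := by rw [hr]; group
    have c1 : r * on .c = on .c * r := by
      calc r * on .c = t * (on .g * on .c * (on .g)⁻¹) * on .g := by rw [hr]; group
        _ = t * (t⁻¹ * on .c * t) * on .g := by rw [k2]
        _ = on .c * r := by rw [hr]; group
    have hEr : E = on .g * sw hs (r⁻¹ * on .b * r) * (on .g)⁻¹ := by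
      rw [hE, htr]
      have e : (r * (on .g)⁻¹)⁻¹ * on .b * (r * (on .g)⁻¹) = on .g * (r⁻¹ * on .b * r) * (on .g)⁻¹ := by group
      rw [e, map_mul, map_mul, map_inv, sw_g]
    rcases k3 with k3 | k3
    · exfalso
      have c2 : on .d * r = r * d2 := by
        rw [← d2_eq hs, htr] at *
        calc on .d * r = (r * (on .g)⁻¹) * ((r * (on .g)⁻¹)⁻¹ * on .d * (r * (on .g)⁻¹)) * on .g := by group
          _ = (r * (on .g)⁻¹) * on .d * on .g := by rw [← k3]
          _ = _ := by group
      exact not_conj hs hrT c1 c2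
    · have c2 : r * d2 = d2 * r := by
        calc r * d2 = r * ((on .g)⁻¹ * on .d * on .g) := by rw [d2_eq hs]
          _ = (r * (on .g)⁻¹) * on .d * on .g := by group
          _ = t * on .d * on .g := by rw [← htr]
          _ = t * (t⁻¹ * d2 * t) * on .g := by rw [← k3]
          _ = d2 * (t * on .g) := by group
          _ = d2 * r := by rw [← hr]
      obtain ⟨w, hw, hrw⟩ := comm_cd2 hs hrT c1 c2
      rcases V_conj hs hw with h1 | h1
      · rw [← hrw] at h1
        rw [h1, sw_b, e2_eq hs] at hEr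
        exact ⟨1, Or.inl rfl, Or.inr ⟨hD, by rw [hEr]; group⟩⟩
      · rw [← hrw] at h1
        rw [h1, map_mul, map_mul, sw_a, sw_b] at hEr
        refine ⟨on .f, Or.inr rfl, Or.inr ⟨hD, ?_⟩⟩
        have hgf : on .g * on .f = on .f * on .g := comm_f hs g_mem
        have hgf' : on .f * (on .g)⁻¹ = (on .g)⁻¹ * on .f := (comm_f hs (T0.inv_mem g_mem)).symm
        rw [hEr, hif]
        calc on .f * (on .g * (on .f * on .e * on .f) * (on .g)⁻¹) * on .f
            = on .f * (on .g * on .f) * on .e * (on .f * (on .g)⁻¹) * on .f := by group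
          _ = on .f * (on .f * on .g) * on .e * ((on .g)⁻¹ * on .f) * on .f := by rw [hgf, hgf']
          _ = (on .f * on .f) * (on .g * on .e * (on .g)⁻¹) * (on .f * on .f) := by group
          _ = e2 := by rw [hff, one_mul, mul_one, e2_eq hs]

/-- **Classification of the tuples.** -/
theorem tupleConj (H : Cen) : S1657Core.TupleConj := by
  intro a1 b1 c1 d1 e1 h hnf
  have hs := H.simple
  obtain ⟨x0, hx0, hxa⟩ := conj_a H h.af h.cf h.df h.aa h.ne hnf h.afcd
  have h' := h.map (MulAut.conj x0).toMonoidHom (MulAut.conj x0).injective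
  have fx : ∀ x ∈ K0, x * on .f * x⁻¹ = on .f := fun x hx => by rw [(H.mem x).1 hx]; group
  have ea : (MulAut.conj x0).toMonoidHom a1 = on .a := hxa
  have ef : (MulAut.conj x0).toMonoidHom (on .f) = on .f := fx x0 hx0
  rw [ea, ef] at h'
  obtain ⟨B, hB⟩ : ∃ B, B = (MulAut.conj x0).toMonoidHom b1 := ⟨_, rfl⟩
  obtain ⟨C, hC⟩ : ∃ C, C = (MulAut.conj x0).toMonoidHom c1 := ⟨_, rfl⟩
  obtain ⟨D, hD⟩ : ∃ D, D = (MulAut.conj x0).toMonoidHom d1 := ⟨_, rfl⟩
  rw [← hB, ← hC, ← hD] at h'
  obtain ⟨t, ht, k1, k2, k3⟩ := classify hs ((H.mem B).2 h'.bf) ((H.mem C).2 h'.cf) ((H.mem D).2 h'.df)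
    h'.bb h'.cc h'.dd (braid_of_cube h'.aa h'.bb h'.ab) (braid_of_cube h'.bb h'.cc h'.bc).symm h'.bd h'.ac h'.ad
    h'.afcd
  have h'' := h'.map (MulAut.conj t).toMonoidHom (MulAut.conj t).injective
  have ea2 : (MulAut.conj t).toMonoidHom (on .a) = on .a := by
    show t * on .a * t⁻¹ = on .a
    rw [comm_a hs ht]; group
  have ef2 : (MulAut.conj t).toMonoidHom (on .f) = on .f := fx t (T0_le ht)
  have eb2 : (MulAut.conj t).toMonoidHom B = on .b := by
    show t * B * t⁻¹ = on .b
    rw [k1]; group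
  have ec2 : (MulAut.conj t).toMonoidHom C = on .c := by
    show t * C * t⁻¹ = on .c
    rw [k2]; group
  rw [ea2, ef2, eb2, ec2] at h''
  have hD2 : (MulAut.conj t).toMonoidHom D = on .d ∨ (MulAut.conj t).toMonoidHom D = d2 := by
    rcases k3 with k3 | k3
    · left
      show t * D * t⁻¹ = on .d
      rw [k3]; group
    · right
      show t * D * t⁻¹ = d2
      rw [k3]; group
  obtain ⟨v, hv, hlast⟩ := last H h'' hD2
  have hvf : v * on .f * v⁻¹ = on .f := by
    rcases hv with rfl | rfl
    · group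
    · group
  have hvT : v ∈ T0 := by
    rcases hv with rfl | rfl
    · exact T0.one_mem
    · exact f_mem hs
  have hva : v * on .a * v⁻¹ = on .a := by rw [comm_a hs hvT]; group
  have hvb : v * on .b * v⁻¹ = on .b := by
    rcases hv with rfl | rfl
    · group
    · rw [← bf hs]; group
  have hvT0 : ∀ y ∈ T0, v * y * v⁻¹ = y := by
    intro y hy
    rcases hv with rfl | rfl
    · group
    · rw [← comm_f hs hy]; group
  have fa : v * (t * (x0 * a1 * x0⁻¹) * t⁻¹) * v⁻¹ = on .a := by
    have e1 : t * (x0 * a1 * x0⁻¹) * t⁻¹ = on .a := by rw [hxa]; exact ea2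
    rw [e1, hva]
  have fb : v * (t * (x0 * b1 * x0⁻¹) * t⁻¹) * v⁻¹ = on .b := by
    have e0 : x0 * b1 * x0⁻¹ = B := hB.symm
    have e1 : t * B * t⁻¹ = on .b := eb2
    rw [e0, e1, hvb]
  have fc : v * (t * (x0 * c1 * x0⁻¹) * t⁻¹) * v⁻¹ = on .c := by
    have e0 : x0 * c1 * x0⁻¹ = C := hC.symm
    have e1 : t * C * t⁻¹ = on .c := ec2
    rw [e0, e1, hvT0 _ c_mem]
  have ff' : v * (t * (x0 * on .f * x0⁻¹) * t⁻¹) * v⁻¹ = on .f := by
    rw [fx x0 hx0, fx t (T0_le ht), hvf]
  have key : ∀ y : ON, v * t * x0 * y * (v * t * x0)⁻¹ = v * (t * (x0 * y * x0⁻¹) * t⁻¹) * v⁻¹ := fun y => by group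
  have hDx : (MulAut.conj t).toMonoidHom D = t * (x0 * d1 * x0⁻¹) * t⁻¹ := by rw [hD]; rfl
  refine ⟨v * t * x0, ?_⟩
  rcases hlast with ⟨l1, l2⟩ | ⟨l1, l2⟩
  · left
    refine ⟨(key _).trans fa, (key _).trans fb, (key _).trans fc, ?_, (key _).trans l2, (key _).trans ff'⟩
    rw [key, ← hDx, l1, hvT0 _ d_mem]
  · right
    refine ⟨(key _).trans fa, (key _).trans fb, (key _).trans fc, ?_, (key _).trans l2, (key _).trans ff'⟩
    rw [key, ← hDx, l1, hvT0 _ (d2_mem hs)]

/-- The classification from the order and the generation of the centraliser of `f`. -/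
theorem tupleConj_of (hs : IsSimpleGroup ON)
    (hC : Nat.card (Subgroup.centralizer ({on .f} : Set ON)) = 161280)
    (hcl : Subgroup.centralizer ({on .f} : Set ON) = Subgroup.closure {on .a, on .b, on .c, on .d, on .g}) :
    S1657Core.TupleConj := tupleConj (cen_of hs hC hcl)

end Cfsg.Agent.ONType.TupleClass
end
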