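import Mathlib
import Cfsg.Agent.S0848
import Cfsg.Agent.J3Type.ExistsW
import Cfsg.Agent.S1225
import Cfsg.Agent.TwoFusion.IsolatedSylow
import Cfsg.Agent.SignalizersComponents.BenderCount
import Cfsg.Agent.S0223
import Cfsg.Agent.Involutions.PairCount
import Cfsg.Agent.PermutationGroups.InducedAlt
import Cfsg.Agent.Classification.Order360Iso
import Cfsg.Agent.FastGrp
import Cfsg.Agent.Prune
set_option linter.all false
prune_inst 0x7ffdfefbfff8addfffff7e7ffffddffffdfcffffffdffbfbfffdfbffffdf6b6bfbe5fb8fffec58ffded7e296b0f87b53fffffeffef6fdc7ffffd5ff45ffbff9fffffbf8151f7b83e1ffe6ffffbf17fffffffffffffffffffffffffffffffffffffffffffffff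
open scoped Cfsg.Agent.FastGrp

-- merged: Cfsg.Agent.ONType.QuotHD
section

set_option autoImplicit false

/-! O'Nan type, part (C): quotient of a group by a central subgroup `P` of odd order, when the centraliser of every
involution is `P` times a dihedral group of order 8. -/

namespace Cfsg.Agent.ONType.QuotHD

open Subgroup
open Cfsg.Agent.J3Type.ExistsW (HD8)

variable {X : Type*} [Group X] [Finite X]

theorem eq_one_of_sq {x : X} {n : ℕ} (hn : Odd n) (h1 : x ^ n = 1) (h2 : x ^ 2 = 1) : x = 1 := by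
  obtain ⟨m, rfl⟩ := hn
  rwa [pow_add, pow_mul, h2, one_pow, one_mul, pow_one] at h1

/-- every involution of `X / P` lifts to an involution. -/
theorem exists_lift (P : Subgroup X) [P.Normal] (hodd : Odd (Nat.card P)) (s : X ⧸ P)
    (hs : orderOf s = 2) : ∃ j : X, orderOf j = 2 ∧ (QuotientGroup.mk j : X ⧸ P) = s := by
  obtain ⟨g, rfl⟩ := QuotientGroup.mk_surjective s
  have hs2 : ((QuotientGroup.mk g : X ⧸ P)) ^ 2 = 1 := by rw [← hs]; exact pow_orderOf_eq_one _
  have hs1 : (QuotientGroup.mk g : X ⧸ P) ≠ 1 := by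
    intro h; rw [h, orderOf_one] at hs; exact absurd hs (by norm_num)
  have hg2 : g ^ 2 ∈ P := by
    rw [← QuotientGroup.eq_one_iff]; exact hs2
  have hpow : (g ^ Nat.card P) ^ 2 = 1 := by
    rw [← pow_mul, mul_comm, pow_mul]
    have := pow_card_eq_one' (G := P) (x := ⟨g ^ 2, hg2⟩)
    exact congrArg Subtype.val this
  have hmk : (QuotientGroup.mk (g ^ Nat.card P) : X ⧸ P) = QuotientGroup.mk g := by
    obtain ⟨m, hm⟩ := hodd
    rw [QuotientGroup.mk_pow, hm, pow_add, pow_mul, hs2, one_pow, one_mul, pow_one]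
  refine ⟨g ^ Nat.card P, ?_, hmk⟩
  haveI : Fact (Nat.Prime 2) := ⟨Nat.prime_two⟩
  apply orderOf_eq_prime hpow
  intro h
  rw [h] at hmk
  exact hs1 (by rw [← hmk]; rfl)

/-- an element of `X` commuting modulo the central subgroup `P` of odd order with an involution commutes with it. -/
theorem commute_of_mk (P : Subgroup X) [P.Normal] (hodd : Odd (Nat.card P))
    (hc : ∀ p ∈ P, ∀ x : X, x * p = p * x) {j g : X} (hj : j ^ 2 = 1)
    (h : (QuotientGroup.mk g : X ⧸ P) * QuotientGroup.mk j = QuotientGroup.mk j * QuotientGroup.mk g) :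
    g * j = j * g := by
  have h1 : j⁻¹ * (g * j * g⁻¹) ∈ P := by
    rw [← QuotientGroup.eq_one_iff]
    show (QuotientGroup.mk (j⁻¹ * (g * j * g⁻¹)) : X ⧸ P) = 1
    rw [QuotientGroup.mk_mul, QuotientGroup.mk_mul, QuotientGroup.mk_mul, h, QuotientGroup.mk_inv,
      QuotientGroup.mk_inv]
    group
  have hjj : j * j = 1 := by rw [← pow_two]; exact hj
  set p := j⁻¹ * (g * j * g⁻¹) with hp
  have h2 : g * j * g⁻¹ = j * p := by rw [hp]; group
  have h3 : (j * p) ^ 2 = 1 := by
    rw [← h2, conj_pow, hj]; group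
  have h4 : p ^ 2 = 1 := by
    have : (j * p) ^ 2 = j ^ 2 * p ^ 2 := by
      have hcm : Commute j p := hc p h1 j
      exact hcm.mul_pow 2
    rw [this, hj, one_mul] at h3
    exact h3
  have h5 : p = 1 := by
    apply eq_one_of_sq hodd _ h4
    exact congrArg Subtype.val (pow_card_eq_one' (G := P) (x := ⟨p, h1⟩))
  rw [h5, mul_one] at h2
  calc g * j = g * j * g⁻¹ * g := by group
    _ = j * g := by rw [h2]

/-- `X / P` satisfies the hypothesis `HD8`. -/
theorem hd8 (P : Subgroup X) [P.Normal] (hodd : Odd (Nat.card P))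
    (hc : ∀ p ∈ P, ∀ x : X, x * p = p * x)
    (hD : ∀ j : X, orderOf j = 2 → ∃ D : Subgroup X, Nonempty (D ≃* DihedralGroup 4) ∧
      (∀ d ∈ D, d * j = j * d) ∧ ∀ c : X, c * j = j * c → ∃ p ∈ P, ∃ d ∈ D, c = p * d) :
    HD8 (X ⧸ P) := by
  intro s hs
  obtain ⟨j, hj, rfl⟩ := exists_lift P hodd s hs
  have hj2 : j ^ 2 = 1 := by rw [← hj]; exact pow_orderOf_eq_one j
  obtain ⟨D, ⟨e⟩, hDj, hcent⟩ := hD j hj
  let f : D →* centralizer ({(QuotientGroup.mk j : X ⧸ P)} : Set (X ⧸ P)) :=
    ((QuotientGroup.mk' P).comp D.subtype).codRestrict _ (by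
      intro d
      rw [mem_centralizer_singleton_iff]
      show (QuotientGroup.mk (d : X) : X ⧸ P) * QuotientGroup.mk j = QuotientGroup.mk j * QuotientGroup.mk (d : X)
      rw [← QuotientGroup.mk_mul, ← QuotientGroup.mk_mul, hDj d d.2])
  have hcardD : Nat.card D = 8 := by
    rw [Nat.card_congr e.toEquiv, DihedralGroup.nat_card]
  have hf : Function.Bijective f := by
    constructor
    · rw [injective_iff_map_eq_one]
      intro d hd
      have h1 : (d : X) ∈ P := by
        rw [← QuotientGroup.eq_one_iff]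
        exact congrArg Subtype.val hd
      have h2 : (d : X) ^ Nat.card P = 1 :=
        congrArg Subtype.val (pow_card_eq_one' (G := P) (x := ⟨d, h1⟩))
      have h3 : (d : X) ^ 8 = 1 := by
        have := pow_card_eq_one' (G := D) (x := d)
        rw [hcardD] at this
        exact congrArg Subtype.val this
      have hco : Nat.Coprime (Nat.card P) 8 := by
        have : Nat.Coprime (Nat.card P) 2 := hodd.coprime_two_right
        exact Nat.Coprime.pow_right 3 this
      have h4 : orderOf (d : X) ∣ 1 := by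
        rw [← hco.gcd_eq_one]
        exact Nat.dvd_gcd (orderOf_dvd_of_pow_eq_one h2) (orderOf_dvd_of_pow_eq_one h3)
      have h5 : (d : X) = 1 := by
        rw [← orderOf_eq_one_iff]; exact Nat.dvd_one.mp h4
      exact Subtype.ext h5
    · rintro ⟨c, hc'⟩
      obtain ⟨g, rfl⟩ := QuotientGroup.mk_surjective c
      rw [mem_centralizer_singleton_iff] at hc'
      have h1 := commute_of_mk P hodd hc hj2 hc'
      obtain ⟨p, hp, d, hd, rfl⟩ := hcent g h1
      refine ⟨⟨d, hd⟩, Subtype.ext ?_⟩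
      show (QuotientGroup.mk d : X ⧸ P) = QuotientGroup.mk (p * d)
      rw [QuotientGroup.mk_mul, (QuotientGroup.eq_one_iff p).mpr hp, one_mul]
  exact ⟨(MulEquiv.ofBijective f hf).symm.trans e⟩

/-- S0848 for groups all of whose involution centralisers are dihedral of order 8 -/
theorem HD8.card_eq {Y : Type*} [Group Y] [Finite Y] (h : HD8 Y) {s : Y} (hs : orderOf s = 2) :
    Nat.card Y = 168 ∨ Nat.card Y = 360 := by
  obtain ⟨e⟩ := h s hs
  exact Cfsg.Agent.S0848.result (h.perfect hs) s hs e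

end Cfsg.Agent.ONType.QuotHD

end

-- merged: Cfsg.Agent.ONType.HDFacts
section

set_option autoImplicit false
set_option linter.unusedSectionVars false
set_option linter.style.haveILetI false

/-! O'Nan type, part (C): finite groups all of whose involution centralisers are dihedral of order 8:
conjugacy of involutions, no subgroup of order 45 (order 360), no abelian subgroup of order 21 (order 168). -/

namespace Cfsg.Agent.ONType.HDFacts

open scoped Pointwise in
theorem AutSL2Mem.mem_smul_sylow {p : ℕ} {G : Type*} [Group G] (P : Sylow p G) (g x : G) :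
    x ∈ ((g • P : Sylow p G) : Subgroup G) ↔ g⁻¹ * x * g ∈ (P : Subgroup G) := by
  rw [Sylow.coe_subgroup_smul, Subgroup.mem_pointwise_smul_iff_inv_smul_mem, ← map_inv, MulAut.smul_def,
    MulAut.conj_apply, inv_inv]

open Subgroup
open Cfsg.Agent.J3Type.ExistsW (HD8)

variable {Y : Type*} [Group Y] [Finite Y]

theorem isConj_of (h : HD8 Y) {s r : Y} (hs : orderOf s = 2) (hr : orderOf r = 2) :
    ∃ g : Y, g * s * g⁻¹ = r := by
  haveI : Fact (Nat.Prime 2) := ⟨Nat.prime_two⟩
  obtain ⟨S, hS⟩ := h.exists_sylow hs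
  obtain ⟨R, hR⟩ := h.exists_sylow hr
  obtain ⟨g, hg⟩ := MulAction.exists_smul_eq Y S R
  have hs1 : s ≠ 1 := by rintro rfl; simp at hs
  have hmem : ∀ x : Y, x ∈ (R : Subgroup Y) ↔ g⁻¹ * x * g ∈ (S : Subgroup Y) := by
    intro x
    rw [← hg]
    exact AutSL2Mem.mem_smul_sylow S g x
  refine ⟨g, ?_⟩
  apply h.eq_of_central hr
  · rw [← hR, hmem]
    have : g⁻¹ * (g * s * g⁻¹) * g = s := by group
    rw [this, hS, mem_centralizer_singleton_iff]
  · intro x hx
    rw [← hR, hmem, hS, mem_centralizer_singleton_iff] at hx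
    calc x * (g * s * g⁻¹) = g * (g⁻¹ * x * g * s) * g⁻¹ := by group
      _ = g * (s * (g⁻¹ * x * g)) * g⁻¹ := by rw [hx]
      _ = g * s * g⁻¹ * x := by group
  · intro h1
    apply hs1
    calc s = g⁻¹ * (g * s * g⁻¹) * g := by group
      _ = 1 := by rw [h1]; group

/-- In a perfect group a normal cyclic subgroup is central. -/
theorem central_of_normal (hperf : commutator Y = ⊤) (y : Y) [hn : (zpowers y).Normal] (x : Y) :
    x * y = y * x := by
  have h1 : commutator Y ≤ centralizer ((zpowers y : Subgroup Y) : Set Y) := by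
    let f : Y →* MulAut (zpowers y) := MulAut.conjNormal
    have hker : f.ker ≤ centralizer ((zpowers y : Subgroup Y) : Set Y) := by
      intro g hg
      rw [mem_centralizer_iff]
      intro z hz
      have h2 : f g ⟨z, hz⟩ = ⟨z, hz⟩ := by
        rw [MonoidHom.mem_ker.mp hg]; rfl
      have h3 : g * z * g⁻¹ = z := by
        have := congrArg Subtype.val h2
        simpa only [f, _root_.MulAut.conjNormal_apply] using this
      calc z * g = g * z * g⁻¹ * g := by rw [h3]
        _ = g * z := by group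
    refine le_trans ?_ hker
    have hcomm : ∀ a b : MulAut (zpowers y), a * b = b * a := by
      intro a b
      apply (IsCyclic.mulAutMulEquiv (zpowers y)).injective
      rw [map_mul, map_mul, mul_comm]
    rw [_root_.commutator_def, Subgroup.commutator_le]
    intro a _ b _
    rw [MonoidHom.mem_ker, map_commutatorElement, commutatorElement_def, hcomm (f a) (f b)]
    group
  rw [hperf] at h1
  have h2 := h1 (mem_top x)
  rw [mem_centralizer_iff] at h2
  exact (h2 y (mem_zpowers y)).symm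

theorem central_ne (h : HD8 Y) {s : Y} (hs : orderOf s = 2) {y : Y} {p : ℕ} (hy : orderOf y = p)
    (hp : ¬ p ∣ 8) (hc : ∀ x : Y, x * y = y * x) : False := by
  apply hp
  have hm : y ∈ centralizer ({s} : Set Y) := by
    rw [mem_centralizer_singleton_iff]; exact (hc s).symm
  rw [← h.card hs, ← hy, ← orderOf_mk y hm]
  exact _root_.orderOf_dvd_natCard _

/-- number of Sylow subgroups when a subgroup `F` normalises a subgroup `⟨y⟩` of order `p` -/
theorem normal_of_count (y : Y) {p : ℕ} (hp : p.Prime) (hy : orderOf y = p)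
    (hsq : ¬ p * p ∣ Nat.card Y) (F : Subgroup Y)
    (hF : F ≤ normalizer ((zpowers y : Subgroup Y) : Set Y)) {m : ℕ}
    (hm : Nat.card Y = Nat.card F * m) (hcount : ∀ d, d ∣ m → d ≡ 1 [MOD p] → d = 1) :
    (zpowers y).Normal := by
  haveI : Fact p.Prime := ⟨hp⟩
  have hfac : (Nat.card Y).factorization p = 1 := by
    have h1 : p ∣ Nat.card Y := by rw [← hy]; exact _root_.orderOf_dvd_natCard y
    have hpos : Nat.card Y ≠ 0 := Nat.card_pos.ne'
    have h2 : 1 ≤ (Nat.card Y).factorization p := (hp.dvd_iff_one_le_factorization hpos).mp h1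
    have h3 : ¬ 2 ≤ (Nat.card Y).factorization p := by
      intro h3
      apply hsq
      rw [← pow_two]
      exact (hp.pow_dvd_iff_le_factorization hpos).mpr h3
    omega
  let S : Sylow p Y := Sylow.ofCard (zpowers y) (by rw [Nat.card_zpowers, hy, hfac, pow_one])
  have hS : (S : Subgroup Y) = zpowers y := rfl
  have h1 : Nat.card (Sylow p Y) ≡ 1 [MOD p] := card_sylow_modEq_one p Y
  have h2 : Nat.card (Sylow p Y) = (normalizer ((S : Subgroup Y) : Set Y)).index := S.card_eq_index_normalizer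
  have h3 : (normalizer ((S : Subgroup Y) : Set Y)).index ∣ m := by
    have h4 := (normalizer ((S : Subgroup Y) : Set Y)).card_mul_index
    have h5 : Nat.card F ∣ Nat.card (normalizer ((S : Subgroup Y) : Set Y)) := card_dvd_of_le hF
    obtain ⟨k, hk⟩ := h5
    rw [hk, hm, mul_assoc] at h4
    have h6 := Nat.eq_of_mul_eq_mul_left Nat.card_pos h4
    exact ⟨k, by rw [← h6, mul_comm]⟩
  have h7 := hcount _ (h2 ▸ h3) h1
  rw [h2, index_eq_one] at h7
  have h8 := normalizer_eq_top_iff.mp h7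
  rw [hS] at h8
  exact h8

theorem no_45 (h : HD8 Y) (hY : Nat.card Y = 360) (F : Subgroup Y) (hF : Nat.card F = 45) : False := by
  haveI : Fact (Nat.Prime 5) := ⟨by norm_num⟩
  haveI : Fact (Nat.Prime 2) := ⟨by norm_num⟩
  obtain ⟨s, hs⟩ := exists_prime_orderOf_dvd_card' (G := Y) 2 (by rw [hY]; norm_num)
  obtain ⟨y, hy⟩ := exists_prime_orderOf_dvd_card' (G := F) 5 (by rw [hF]; norm_num)
  have hyF : (zpowers y).Normal := by
    apply normal_of_count y (p := 5) (by norm_num) hy (by rw [hF]; norm_num) (F := zpowers y)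
      (le_normalizer) (m := 9)
    · rw [hF, Nat.card_zpowers, hy]
    · intro d hd h1
      have : d ≤ 9 := Nat.le_of_dvd (by norm_num) hd
      interval_cases d <;> simp_all only [Nat.ModEq, _root_.zero_dvd_iff, _root_.OfNat.ofNat_ne_zero, _root_.isUnit_iff_eq_one, _root_.IsUnit.dvd, _root_.Nat.one_mod, _root_.Nat.one_le_ofNat, _root_.Nat.reduceDvd, _root_.Nat.reduceMod, _root_.OfNat.ofNat_ne_one, _root_.dvd_refl]
  have hy' : orderOf (y : Y) = 5 := by rw [orderOf_coe]; exact hy
  have hle : F ≤ normalizer ((zpowers (y : Y) : Subgroup Y) : Set Y) := by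
    intro f hf
    apply J3Type.ExistsW.mem_normalizer_zpowers
    obtain ⟨k, hk⟩ := hyF.conj_mem y (mem_zpowers y) ⟨f, hf⟩
    exact ⟨k, by simpa only [_root_.SubgroupClass.coe_zpow, _root_.Subgroup.coe_mul, _root_.InvMemClass.coe_inv] using congrArg Subtype.val hk⟩
  haveI : (zpowers (y : Y)).Normal := by
    apply normal_of_count (y : Y) (p := 5) (by norm_num) hy' (by rw [hY]; norm_num) F hle (m := 8)
    · rw [hY, hF]
    · intro d hd h1
      have : d ≤ 8 := Nat.le_of_dvd (by norm_num) hd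
      interval_cases d <;> simp_all only [Nat.ModEq, _root_.orderOf_submonoid, _root_.zero_dvd_iff, _root_.OfNat.ofNat_ne_zero, _root_.isUnit_iff_eq_one, _root_.IsUnit.dvd, _root_.Nat.one_mod, _root_.Nat.one_le_ofNat, _root_.Nat.reduceDvd, _root_.Nat.reduceMod, _root_.OfNat.ofNat_ne_one, _root_.Nat.mod_succ, _root_.dvd_refl]
  exact central_ne h hs hy' (by norm_num) (central_of_normal (h.perfect hs) (y : Y))

theorem no_abelian_21 (h : HD8 Y) (hY : Nat.card Y = 168) (F : Subgroup Y) (hF : Nat.card F = 21)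
    (hc : ∀ a ∈ F, ∀ b ∈ F, a * b = b * a) : False := by
  haveI : Fact (Nat.Prime 7) := ⟨by norm_num⟩
  haveI : Fact (Nat.Prime 2) := ⟨by norm_num⟩
  obtain ⟨s, hs⟩ := exists_prime_orderOf_dvd_card' (G := Y) 2 (by rw [hY]; norm_num)
  obtain ⟨y, hy⟩ := exists_prime_orderOf_dvd_card' (G := F) 7 (by rw [hF]; norm_num)
  have hy' : orderOf (y : Y) = 7 := by rw [orderOf_coe]; exact hy
  have hFc : F ≤ centralizer ((zpowers (y : Y) : Subgroup Y) : Set Y) := by
    intro f hf
    rw [J3Type.ExistsW.centralizer_zpowers, mem_centralizer_singleton_iff]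
    exact hc f hf y y.2
  have hcn : centralizer ((zpowers (y : Y) : Subgroup Y) : Set Y) ≤
      normalizer ((zpowers (y : Y) : Subgroup Y) : Set Y) :=
    J2Type.SylowSeven.centralizer_le_normalizer' _
  have hFn := hFc.trans hcn
  by_cases hN : Nat.card (normalizer ((zpowers (y : Y) : Subgroup Y) : Set Y)) = 21
  · have hNF : normalizer ((zpowers (y : Y) : Subgroup Y) : Set Y) = F :=
      (eq_of_le_of_card_ge hFn (by rw [hN, hF])).symm
    have hfac : (Nat.card Y).factorization 7 = 1 := by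
      rw [hY]
      have : (168 : ℕ) = 2 ^ 3 * 3 * 7 := by norm_num
      rw [this]
      have h7 : Nat.Prime 7 := by norm_num
      rw [Nat.factorization_mul (by norm_num) (by norm_num), Finsupp.add_apply,
        h7.factorization_self, Nat.factorization_eq_zero_of_not_dvd (by norm_num)]
    let S : Sylow 7 Y := Sylow.ofCard (zpowers (y : Y)) (by rw [Nat.card_zpowers, hy', hfac, pow_one])
    have hS : (S : Subgroup Y) = zpowers (y : Y) := rfl
    have hP : normalizer ((S : Subgroup Y) : Set Y) ≤ centralizer ((S : Subgroup Y) : Set Y) := by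
      rw [hS, hNF]; exact hFc
    have hcomp := MonoidHom.ker_transferSylow_isComplement' S hP
    have hker : (MonoidHom.transferSylow S hP).ker = ⊤ := by
      rw [eq_top_iff, ← h.perfect hs]
      haveI : IsMulCommutative (S : Subgroup Y) := by
        rw [hS]; infer_instance
      rw [_root_.commutator_def, Subgroup.commutator_le]
      intro a _ b _
      rw [MonoidHom.mem_ker, map_commutatorElement, commutatorElement_def,
        (IsMulCommutative.is_comm.comm (MonoidHom.transferSylow S hP a) (MonoidHom.transferSylow S hP b))]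
      group
    rw [hker, isComplement'_top_left, hS] at hcomp
    have : orderOf (y : Y) = 1 := by
      rw [orderOf_eq_one_iff, ← zpowers_eq_bot]; exact hcomp
    omega
  · haveI : (zpowers (y : Y)).Normal := by
      apply normal_of_count (y : Y) (p := 7) (by norm_num) hy' (by rw [hY]; norm_num)
        (normalizer ((zpowers (y : Y) : Subgroup Y) : Set Y)) le_rfl
        (m := (normalizer ((zpowers (y : Y) : Subgroup Y) : Set Y)).index)
      · exact (card_mul_index _).symm
      · intro d hd h1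
        set N := normalizer ((zpowers (y : Y) : Subgroup Y) : Set Y) with hNdef
        have h2 : Nat.card N * N.index = 168 := by rw [card_mul_index, hY]
        have h3 : 21 ∣ Nat.card N := by rw [← hF]; exact card_dvd_of_le hFn
        obtain ⟨k, hk⟩ := h3
        have h4 : k * N.index = 8 := by
          rw [hk] at h2
          have : 21 * (k * N.index) = 21 * 8 := by rw [← mul_assoc, h2]
          exact Nat.eq_of_mul_eq_mul_left (by norm_num) this
        have h5 : k ≠ 1 := by
          rintro rfl; exact hN (by rw [hk])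
        have h6 : N.index ∣ 8 := ⟨k, by rw [← h4, mul_comm]⟩
        have h7 : d ∣ 8 := hd.trans h6
        have h8 : d ≤ 8 := Nat.le_of_dvd (by norm_num) h7
        have h9 : N.index ≠ 8 := by
          intro h9; rw [h9] at h4; exact h5 (by omega)
        have h10 : d = 8 → False := by
          rintro rfl
          exact h9 (Nat.dvd_antisymm h6 hd)
        interval_cases d <;> simp_all only [Nat.ModEq, _root_.orderOf_submonoid, _root_.Subgroup.card_mul_index, _root_.ne_eq, _root_.Nat.zero_mod, _root_.Nat.one_mod, _root_.zero_ne_one, _root_.isUnit_iff_eq_one, _root_.IsUnit.dvd, _root_.Nat.one_le_ofNat, _root_.OfNat.one_ne_ofNat, _root_.implies_true, _root_.Nat.reduceMod, _root_.OfNat.ofNat_ne_one, _root_.Nat.mod_succ, _root_.Nat.mod_self, _root_.not_isEmpty_of_nonempty, _root_.Nat.card_of_isEmpty, _root_.OfNat.zero_ne_ofNat, _root_.IsEmpty.forall_iff, _root_.not_true_eq_false, _root_.MulZeroClass.zero_mul, _root_.zero_eq_mul, _root_.OfNat.ofNat_ne_zero, _root_.true_or,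 _root_.dvd_refl, _root_.Std.le_refl, _root_.imp_false]
    exact central_ne h hs hy' (by norm_num) (central_of_normal (h.perfect hs) (y : Y))

/-- a subgroup of order 21 with a nontrivial central element is abelian. -/
theorem abelian_21 (F : Subgroup Y) (hF : Nat.card F = 21) {z : Y} (hz : z ∈ F) (hz1 : z ≠ 1)
    (hzc : ∀ a ∈ F, a * z = z * a) : ∀ a ∈ F, ∀ b ∈ F, a * b = b * a := by
  have hcen : (⟨z, hz⟩ : F) ∈ center F := by
    rw [mem_center_iff]
    intro g
    exact Subtype.ext (hzc g g.2)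
  have hcard : Nat.card (center F) ∣ 21 := hF ▸ card_subgroup_dvd_card _
  have hne : Nat.card (center F) ≠ 1 := by
    intro h1
    have h2 := (card_eq_one.mp h1)
    rw [h2, mem_bot] at hcen
    exact hz1 (congrArg Subtype.val hcen)
  have hidx : Nat.card (F ⧸ center F) * Nat.card (center F) = 21 := by
    rw [← hF]; exact (card_eq_card_quotient_mul_card_subgroup _).symm
  have hcyc : IsCyclic (F ⧸ center F) := by
    have hle : Nat.card (center F) ≤ 21 := Nat.le_of_dvd (by norm_num) hcard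
    have h3 : Nat.card (center F) = 3 ∨ Nat.card (center F) = 7 ∨ Nat.card (center F) = 21 := by
      have h0 : 0 < Nat.card (center F) := Nat.card_pos
      generalize Nat.card (center F) = n at *
      interval_cases n <;> simp_all only [_root_.ne_eq, _root_.isUnit_iff_eq_one, _root_.IsUnit.dvd, _root_.not_true_eq_false, _root_.Nat.reduceDvd, _root_.OfNat.ofNat_ne_one, _root_.not_false_eq_true, _root_.Nat.reduceLeDiff, _root_.Nat.ofNat_pos, _root_.Nat.reduceEqDiff, _root_.or_self, _root_.or_false, _root_.or_true, _root_.dvd_refl, _root_.OfNat.ofNat_ne_zero, _root_.mul_eq_right₀, _root_.Std.le_refl]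
    rcases h3 with h3 | h3 | h3
    · haveI : Fact (Nat.Prime 7) := ⟨by norm_num⟩
      exact isCyclic_of_prime_card (p := 7) (by rw [h3] at hidx; omega)
    · haveI : Fact (Nat.Prime 3) := ⟨by norm_num⟩
      exact isCyclic_of_prime_card (p := 3) (by rw [h3] at hidx; omega)
    · have : Nat.card (F ⧸ center F) = 1 := by rw [h3] at hidx; omega
      haveI : Subsingleton (F ⧸ center F) := (Nat.card_eq_one_iff_unique.mp this).1
      infer_instance
  intro a ha b hb
  have h4 := MonoidHom.isMulCommutative_of_isCyclic_of_ker_le_center (QuotientGroup.mk' (center F))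
    (by rw [QuotientGroup.ker_mk'])
  have h5 : (⟨a, ha⟩ : F) * ⟨b, hb⟩ = ⟨b, hb⟩ * ⟨a, ha⟩ := h4.is_comm.comm _ _
  exact congrArg Subtype.val h5

end Cfsg.Agent.ONType.HDFacts

end

-- merged: Cfsg.Agent.ONType.SEData
section

set_option autoImplicit false
set_option linter.style.haveILetI false

/-! Strongly embedded subgroups: the odd order subgroup `E = X ∩ X^u` for an involution `u ∉ X`, in the form used for
the O'Nan type recognition. -/

namespace Cfsg.Agent.ONType.SEData

open Subgroup Cfsg Cfsg.Agent.TwoFusion.StronglyEmbeddedBasic Cfsg.Agent.SignalizersComponents.BenderCount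
open Cfsg.Agent.TwoFusion

theorem exists_data {H : Type*} [Group H] [Finite H] (X : Subgroup H) (hX : IsStronglyEmbedded X) :
    ∃ (u : H) (E : Subgroup H), orderOf u = 2 ∧ u ∉ X ∧ E ≤ X ∧ (∀ g, g ∈ X → u * g * u⁻¹ ∈ X → g ∈ E) ∧
      (∀ g ∈ E, u * g * u⁻¹ ∈ E) ∧ Odd (Nat.card E) ∧
      (∀ a b : H, orderOf a = 2 → a ∈ X → orderOf b = 2 → b ∈ X → ∃ d ∈ E, d * a * d⁻¹ = b) ∧
      Nat.card E = Nat.card ↥(E ⊓ centralizer {u}) * Nat.card {j : H // orderOf j = 2 ∧ j ∈ X} := by
  obtain ⟨u, huX, hu⟩ := exists_involution_notMem hX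
  have huu := mul_self_of_orderOf hu
  have hui := inv_eq_self_of_orderOf hu
  set E : Subgroup H := X ⊓ X.map (MulAut.conj u).toMonoidHom with hE
  have hmem : ∀ g : H, g ∈ E ↔ g ∈ X ∧ u * g * u⁻¹ ∈ X := by
    intro g
    rw [hE, mem_inf]
    refine and_congr_right fun _ => ?_
    constructor
    · rintro ⟨k, hk, rfl⟩
      have : u * ((MulAut.conj u).toMonoidHom k) * u⁻¹ = k := by
        show u * (u * k * u⁻¹) * u⁻¹ = k
        rw [hui]
        calc u * (u * k * u) * u = (u * u) * k * (u * u) := by group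
          _ = k := by rw [huu]; group
      rw [this]; exact hk
    · intro h
      refine ⟨u * g * u⁻¹, h, ?_⟩
      show u * (u * g * u⁻¹) * u⁻¹ = g
      rw [hui]
      calc u * (u * g * u) * u = (u * u) * g * (u * u) := by group
        _ = g := by rw [huu]; group
  have huE : ∀ g ∈ E, u * g * u⁻¹ ∈ E := by
    intro g hg
    rw [hmem] at hg ⊢
    refine ⟨hg.2, ?_⟩
    have : u * (u * g * u⁻¹) * u⁻¹ = g := by
      rw [hui]
      calc u * (u * g * u) * u = (u * u) * g * (u * u) := by group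
        _ = g := by rw [huu]; group
    rw [this]; exact hg.1
  have hodd : Odd (Nat.card E) := hX.2.2 u huX
  refine ⟨u, E, hu, huX, inf_le_left, fun g h1 h2 => (hmem g).mpr ⟨h1, h2⟩, huE, hodd, ?_, ?_⟩
  · intro a b ha haX hb hbX
    exact (Cfsg.Agent.S1225.result X hX u hu huX a b ha haX hb hbX).1
  · -- counting
    set x : H ⧸ X := ((1 : H) : H ⧸ X) with hx
    have hux : u • x ≠ x := fun h => huX ((smul_one_eq_iff u).mp h)
    have hcnt := ncard_invs_eq hX x (u • x)
    have huN : u ∈ normalizer (E : Set H) := by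
      rw [mem_normalizer_iff]
      intro g
      refine ⟨huE g, fun h => ?_⟩
      have := huE _ h
      have h2 : u * (u * g * u⁻¹) * u⁻¹ = g := by
        rw [hui]
        calc u * (u * g * u) * u = (u * u) * g * (u * u) := by group
          _ = g := by rw [huu]; group
      rwa [h2] at this
    have hidx := IsolatedSylow.relIndex_centralizer_eq_card_inverted huu E hodd huN
    have h1 : Nat.card {k : H // k ∈ E ∧ u * k * u⁻¹ = k⁻¹} = (invs x (u • x)).ncard := by
      rw [← Nat.card_coe_set_eq]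
      refine Nat.card_congr ⟨fun k => ⟨u * k.1, ?_, ?_⟩, fun w => ⟨u * w.1, ?_, ?_⟩, ?_, ?_⟩
      · apply orderOf_eq_two_of_mul_self
        · obtain ⟨k, hk, h1⟩ := k
          have h1' : u * k * u = k⁻¹ := (congrArg (fun a => u * k * a) hui.symm).trans h1
          show u * k * (u * k) = 1
          calc u * k * (u * k) = (u * k * u) * k := by group
            _ = 1 := by rw [h1']; group
        · intro h1
          have h2 : (k : H) = u := by
            calc (k : H) = u * (u * k.1) := by rw [← mul_assoc, huu, one_mul]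
              _ = u := by rw [h1, mul_one]
          exact huX (h2 ▸ ((hmem _).mp k.2.1).1)
      · show (u * k.1) • x = u • x
        rw [mul_smul, (smul_one_eq_iff k.1).mpr ((hmem _).mp k.2.1).1]
      · have hw : w.1 ∈ invs x (u • x) := w.2
        rw [hmem]
        have ha : (u * w.1) • x = x := by
          rw [mul_smul, hw.2, ← mul_smul, huu, one_smul]
        have hb : (w.1 * u) • x = x := by
          rw [mul_smul]; exact smul_of_mem_invs hw
        refine ⟨(smul_one_eq_iff _).mp ha, ?_⟩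
        rw [hui]
        have h3 : u * (u * w.1) * u = w.1 * u := by
          calc u * (u * w.1) * u = (u * u) * w.1 * u := by group
            _ = w.1 * u := by rw [huu, one_mul]
        rw [h3]
        exact (smul_one_eq_iff _).mp hb
      · have hw : w.1 ∈ invs x (u • x) := w.2
        rw [mul_inv_rev, inv_eq_self_of_orderOf hw.1, hui, ← mul_assoc, huu, one_mul]
      · intro k
        apply Subtype.ext
        show u * (u * k.1) = k.1
        rw [← mul_assoc, huu, one_mul]
      · intro w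
        apply Subtype.ext
        show u * (u * w.1) = w.1
        rw [← mul_assoc, huu, one_mul]
    have h2 : (invs x x).ncard = Nat.card {j : H // orderOf j = 2 ∧ j ∈ X} := by
      rw [← Nat.card_coe_set_eq]
      refine Nat.card_congr (Equiv.subtypeEquivRight fun j => ?_)
      show (orderOf j = 2 ∧ j • x = x) ↔ _
      rw [smul_one_eq_iff]
    have h5 : (E ⊓ Subgroup.centralizer ({u} : Set H)).relIndex E *
        Nat.card (E ⊓ Subgroup.centralizer ({u} : Set H) : Subgroup H) = Nat.card E := by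
      rw [mul_comm, Subgroup.relIndex, ← Subgroup.card_mul_index
        ((E ⊓ Subgroup.centralizer ({u} : Set H)).subgroupOf E)]
      congr 1
      exact (Nat.card_congr (Subgroup.subgroupOfEquivOfLe inf_le_left).toEquiv).symm
    rw [hidx, h1, hcnt] at h5
    rw [← h2, ← h5, mul_comm]

end Cfsg.Agent.ONType.SEData

end

-- merged: Cfsg.Agent.ONType.CentX
section

set_option autoImplicit false
set_option linter.style.haveILetI false

/-! O'Nan type, part (C): in a group `H` with a central element `x` of order 3 contained in `P` (order 9), the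
centraliser `X` of `P` is the whole group, provided it contains the centraliser of an involution `t`, the normaliser of
`P`, and `X / P` has dihedral involution centralisers. -/

namespace Cfsg.Agent.ONType.CentX

open Subgroup Cfsg
open Cfsg.Agent.J3Type.ExistsW (HD8)
open Cfsg.Agent.ONType.HDFacts Cfsg.Agent.ONType.QuotHD

/-- number of involutions of a group with dihedral involution centralisers -/
theorem card_involutions {Y : Type*} [Group Y] [Finite Y] (h : HD8 Y) {s : Y} (hs : orderOf s = 2) :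
    Nat.card {j : Y // orderOf j = 2} * 8 = Nat.card Y := by
  have h1 := Cfsg.Agent.Involutions.PairCount.card_class_mul_card_centralizer s
  rw [h.card hs] at h1
  rw [← h1]
  congr 1
  apply Nat.card_congr
  apply Equiv.subtypeEquivRight
  intro j
  constructor
  · intro hj
    obtain ⟨g, hg⟩ := isConj_of h hs hj
    exact isConj_iff.mpr ⟨g, hg⟩
  · intro hj
    obtain ⟨g, hg⟩ := isConj_iff.mp hj
    rw [← hg]
    rw [Cfsg.Agent.TwoFusion.StronglyEmbeddedBasic.orderOf_conj]; exact hs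

section lift
variable {X : Type*} [Group X] [Finite X]

theorem eq_of_mk (P : Subgroup X) [P.Normal] (hodd : Odd (Nat.card P))
    (hc : ∀ p ∈ P, ∀ x : X, x * p = p * x) {j r : X} (hj : orderOf j = 2) (hr : orderOf r = 2)
    (h : (QuotientGroup.mk j : X ⧸ P) = QuotientGroup.mk r) : j = r := by
  rw [QuotientGroup.eq] at h
  set p := j⁻¹ * r with hp
  have h2 : r = j * p := by rw [hp]; group
  have hj2 : j ^ 2 = 1 := by rw [← hj]; exact pow_orderOf_eq_one j
  have hr2 : r ^ 2 = 1 := by rw [← hr]; exact pow_orderOf_eq_one r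
  have h4 : p ^ 2 = 1 := by
    have : (j * p) ^ 2 = j ^ 2 * p ^ 2 := (show Commute j p from hc p h j).mul_pow 2
    rw [h2, this, hj2, one_mul] at hr2
    exact hr2
  have h5 : p = 1 := by
    apply eq_one_of_sq hodd _ h4
    exact congrArg Subtype.val (pow_card_eq_one' (G := P) (x := ⟨p, h⟩))
  rw [h2, h5, mul_one]

theorem orderOf_mk_eq (P : Subgroup X) [P.Normal] (hodd : Odd (Nat.card P)) {j : X} (hj : orderOf j = 2) :
    orderOf (QuotientGroup.mk j : X ⧸ P) = 2 := by
  haveI : Fact (Nat.Prime 2) := ⟨Nat.prime_two⟩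
  have hj2 : j ^ 2 = 1 := by rw [← hj]; exact pow_orderOf_eq_one j
  have hj1 : j ≠ 1 := by rintro rfl; simp at hj
  apply orderOf_eq_prime
  · rw [← QuotientGroup.mk_pow, hj2]; rfl
  · intro h1
    rw [QuotientGroup.eq_one_iff] at h1
    exact hj1 (eq_one_of_sq hodd
      (congrArg Subtype.val (pow_card_eq_one' (G := P) (x := ⟨j, h1⟩))) hj2)

theorem card_involutions_eq (P : Subgroup X) [P.Normal] (hodd : Odd (Nat.card P))
    (hc : ∀ p ∈ P, ∀ x : X, x * p = p * x) :
    Nat.card {j : X // orderOf j = 2} = Nat.card {j : X ⧸ P // orderOf j = 2} := by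
  apply Nat.card_congr
  refine Equiv.ofBijective (fun j => ⟨QuotientGroup.mk j.1, orderOf_mk_eq P hodd j.2⟩) ⟨?_, ?_⟩
  · intro a b hab
    exact Subtype.ext (eq_of_mk P hodd hc a.2 b.2 (congrArg Subtype.val hab))
  · rintro ⟨s, hs⟩
    obtain ⟨j, hj, rfl⟩ := exists_lift P hodd s hs
    exact ⟨⟨j, hj⟩, rfl⟩

/-- all involutions of `X` are conjugate when `X / P` has dihedral involution centralisers -/
theorem isConj_lift (P : Subgroup X) [P.Normal] (hodd : Odd (Nat.card P))
    (hc : ∀ p ∈ P, ∀ x : X, x * p = p * x) (hHD : HD8 (X ⧸ P)) {j r : X} (hj : orderOf j = 2)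
    (hr : orderOf r = 2) : ∃ g : X, g * j * g⁻¹ = r := by
  obtain ⟨c, hc'⟩ := isConj_of hHD (orderOf_mk_eq P hodd hj) (orderOf_mk_eq P hodd hr)
  obtain ⟨g, rfl⟩ := QuotientGroup.mk_surjective c
  refine ⟨g, eq_of_mk P hodd hc ?_ hr ?_⟩
  · rw [Cfsg.Agent.TwoFusion.StronglyEmbeddedBasic.orderOf_conj]; exact hj
  · rw [← hc']; rfl

end lift

theorem three_of_dvd {n : ℕ} (h : n ∣ 9) (h3 : 3 ≤ n) (h9 : n ≠ 9) : n = 3 := by
  have hle : n ≤ 9 := Nat.le_of_dvd (by norm_num) h
  interval_cases n <;> simp_all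

set_option maxHeartbeats 1000000 in
theorem eq_top {H : Type*} [Group H] [Finite H] (P X : Subgroup H) (x t : H) (hxP : x ∈ P) (hx1 : x ≠ 1)
    (hxc : ∀ g : H, g * x = x * g) (hP9 : Nat.card P = 9) (hPexp : ∀ p ∈ P, p ^ 3 = 1)
    (hPX : P ≤ X) (hXc : ∀ g : H, g ∈ X ↔ ∀ p ∈ P, g * p = p * g)
    (ht : orderOf t = 2) (htX : t ∈ X) (hC : ∀ g : H, g * t = t * g → g ∈ X)
    (hN : ∀ g : H, (∀ p ∈ P, g * p * g⁻¹ ∈ P) → g ∈ X)
    (hn : (P.subgroupOf X).Normal) (hHD : HD8 (X ⧸ P.subgroupOf X)) : X = ⊤ := by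
  haveI : Fact (Nat.Prime 2) := ⟨Nat.prime_two⟩
  haveI : Fact (Nat.Prime 3) := ⟨Nat.prime_three⟩
  by_contra hne
  have hPodd : Odd (Nat.card (P.subgroupOf X)) := by
    rw [Nat.card_congr (Subgroup.subgroupOfEquivOfLe hPX).toEquiv, hP9]; decide
  have hcen : ∀ p ∈ P.subgroupOf X, ∀ g : X, g * p = p * g := by
    intro p hp g
    exact Subtype.ext ((hXc g).mp g.2 p (mem_subgroupOf.mp hp))
  have htX' : orderOf (⟨t, htX⟩ : X) = 2 := by rw [← ht]; exact orderOf_mk t htX
  have hcls : ∀ a b : H, orderOf a = 2 → a ∈ X → orderOf b = 2 → b ∈ X → ∃ g ∈ X, g * a * g⁻¹ = b := by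
    intro a b ha haX hb hbX
    obtain ⟨g, hg⟩ := isConj_lift (P.subgroupOf X) hPodd hcen hHD
      (j := ⟨a, haX⟩) (r := ⟨b, hbX⟩) (by rw [← ha]; exact orderOf_mk a haX)
      (by rw [← hb]; exact orderOf_mk b hbX)
    exact ⟨g, g.2, congrArg Subtype.val hg⟩
  have heven : Even (Nat.card X) := by
    rw [even_iff_two_dvd, ← htX']; exact _root_.orderOf_dvd_natCard _
  -- strongly embedded
  have hSE : IsStronglyEmbedded X := by
    rw [Cfsg.Agent.S0223.result X hne heven]
    constructor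
    · intro a haX ha g hg
      rw [mem_centralizer_singleton_iff] at hg
      obtain ⟨k, hk, hka⟩ := hcls a t ha haX ht htX
      have h1 : k * g * k⁻¹ ∈ X := by
        apply hC
        rw [← hka]
        calc k * g * k⁻¹ * (k * a * k⁻¹) = k * (g * a) * k⁻¹ := by group
          _ = k * (a * g) * k⁻¹ := by rw [hg]
          _ = k * a * k⁻¹ * (k * g * k⁻¹) := by group
      have h2 : k⁻¹ * (k * g * k⁻¹) * k ∈ X := X.mul_mem (X.mul_mem (X.inv_mem hk) h1) hk
      have h3 : k⁻¹ * (k * g * k⁻¹) * k = g := by group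
      rwa [h3] at h2
    · intro a haX b hbX ha hb _
      exact hcls a b ha haX hb hbX
  obtain ⟨u, E, hu, huX, hEX, hEmem, huE, hEodd, htrans, hcount⟩ := SEData.exists_data X hSE
  have huu := Cfsg.Agent.TwoFusion.StronglyEmbeddedBasic.mul_self_of_orderOf hu
  have hui := Cfsg.Agent.TwoFusion.StronglyEmbeddedBasic.inv_eq_self_of_orderOf hu
  -- quotient
  let Q := X ⧸ P.subgroupOf X
  let π : X →* Q := QuotientGroup.mk' (P.subgroupOf X)
  have hs : orderOf (π ⟨t, htX⟩) = 2 := orderOf_mk_eq _ hPodd htX'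
  have hinvX : Nat.card {j : H // orderOf j = 2 ∧ j ∈ X} = Nat.card {j : Q // orderOf j = 2} := by
    rw [← card_involutions_eq (P.subgroupOf X) hPodd hcen]
    apply Nat.card_congr
    refine ⟨fun j => ⟨⟨j.1, j.2.2⟩, (orderOf_mk _ _).trans j.2.1⟩,
      fun j => ⟨j.1.1, (orderOf_coe _).trans j.2, j.1.2⟩, ?_, ?_⟩
    · intro j; rfl
    · intro j; rfl
  have hinvQ := card_involutions hHD hs
  -- image of E
  let EX : Subgroup X := E.subgroupOf X
  let F : Subgroup Q := EX.map π
  have hEXcard : Nat.card EX = Nat.card E := Nat.card_congr (Subgroup.subgroupOfEquivOfLe hEX).toEquiv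
  -- |F| * |E ∩ P| = |E|
  have hFcard : Nat.card F * Nat.card ↥(E ⊓ P) = Nat.card E := by
    have h1 := Subgroup.card_mul_index ((π.comp EX.subtype).ker)
    have h2 : (π.comp EX.subtype).ker.index = Nat.card F := by
      rw [Subgroup.index_ker]
      congr 1
      rw [MonoidHom.range_comp, Subgroup.range_subtype]
    have h3 : Nat.card (π.comp EX.subtype).ker = Nat.card ↥(E ⊓ P) := by
      apply Nat.card_congr
      refine ⟨fun g => ⟨(g.1.1 : H), ?_⟩, fun g => ⟨⟨⟨g.1, hPX g.2.2⟩, ?_⟩, ?_⟩, ?_, ?_⟩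
      · refine ⟨mem_subgroupOf.mp g.1.2, ?_⟩
        have := g.2
        rw [MonoidHom.mem_ker] at this
        have h4 : ((g.1 : X)) ∈ P.subgroupOf X := (QuotientGroup.eq_one_iff _).mp this
        exact mem_subgroupOf.mp h4
      · exact mem_subgroupOf.mpr g.2.1
      · rw [MonoidHom.mem_ker]
        exact (QuotientGroup.eq_one_iff _).mpr (mem_subgroupOf.mpr g.2.2)
      · intro g; rfl
      · intro g; rfl
    rw [h2, h3, hEXcard] at h1
    rw [mul_comm]; exact h1
  -- F acts regularly on the involutions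
  have hFinv : Nat.card F = Nat.card {j : Q // orderOf j = 2} := by
    let s : Q := π ⟨t, htX⟩
    apply Nat.card_congr
    refine Equiv.ofBijective (fun f => ⟨(f : Q) * s * (f : Q)⁻¹, by
      rw [Cfsg.Agent.TwoFusion.StronglyEmbeddedBasic.orderOf_conj]; exact hs⟩) ⟨?_, ?_⟩
    · intro a b hab
      have h1 : (a : Q) * s * (a : Q)⁻¹ = b * s * (b : Q)⁻¹ := congrArg Subtype.val hab
      have h2 : (b : Q)⁻¹ * a ∈ centralizer ({s} : Set Q) := by
        rw [mem_centralizer_singleton_iff]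
        calc (b : Q)⁻¹ * a * s = (b : Q)⁻¹ * (a * s * (a : Q)⁻¹) * a := by group
          _ = (b : Q)⁻¹ * (b * s * (b : Q)⁻¹) * a := by rw [h1]
          _ = s * ((b : Q)⁻¹ * a) := by group
      have h3 : ((b : Q)⁻¹ * a) ^ 8 = 1 := by
        have := pow_card_eq_one' (G := centralizer ({s} : Set Q)) (x := ⟨_, h2⟩)
        rw [hHD.card hs] at this
        exact congrArg Subtype.val this
      have h4 : ((b : Q)⁻¹ * a) ^ (Nat.card F) = 1 := by
        have := pow_card_eq_one' (G := F) (x := b⁻¹ * a)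
        exact congrArg Subtype.val this
      have hFodd : Odd (Nat.card F) := by
        rw [← hFcard] at hEodd
        exact (Nat.odd_mul.mp hEodd).1
      have hco : Nat.Coprime (Nat.card F) 8 := by
        have : Nat.Coprime (Nat.card F) 2 := hFodd.coprime_two_right
        exact Nat.Coprime.pow_right 3 this
      have h5 : orderOf ((b : Q)⁻¹ * a) ∣ 1 := by
        rw [← hco.gcd_eq_one]
        exact Nat.dvd_gcd (orderOf_dvd_of_pow_eq_one h4) (orderOf_dvd_of_pow_eq_one h3)
      have h6 : (b : Q)⁻¹ * a = 1 := by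
        rw [← orderOf_eq_one_iff]; exact Nat.dvd_one.mp h5
      apply Subtype.ext
      rw [inv_mul_eq_one] at h6
      exact h6.symm
    · rintro ⟨r, hr⟩
      obtain ⟨j, hj, rfl⟩ := exists_lift (P.subgroupOf X) hPodd r hr
      have hj' : orderOf (j : H) = 2 := by rw [orderOf_coe]; exact hj
      obtain ⟨d, hd, hdj⟩ := htrans t j ht htX hj' j.2
      refine ⟨⟨π ⟨d, hEX hd⟩, mem_map_of_mem _ (mem_subgroupOf.mpr hd)⟩, Subtype.ext ?_⟩
      show π ⟨d, hEX hd⟩ * π ⟨t, htX⟩ * (π ⟨d, hEX hd⟩)⁻¹ = π j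
      rw [← map_inv, ← map_mul, ← map_mul]
      congr 1
      exact Subtype.ext hdj
  have hF8 : Nat.card F * 8 = Nat.card Q := by rw [hFinv]; exact hinvQ
  have hFQ := HD8.card_eq hHD hs
  rcases hFQ with hQ | hQ
  · -- order 168
    have hF21 : Nat.card F = 21 := by
      have h9 : Nat.card F * 8 = 168 := hF8.trans hQ
      omega
    -- |C_E(u)| = |E ∩ P|
    have hCEu : Nat.card ↥(E ⊓ centralizer {u}) = Nat.card ↥(E ⊓ P) := by
      rw [← hFcard, hinvX, ← hFinv, mul_comm (Nat.card F)] at hcount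
      exact (Nat.eq_of_mul_eq_mul_right (by rw [hF21]; norm_num) hcount).symm
    have hxE : x ∈ E := by
      apply hEmem x (hPX hxP)
      rw [hxc u]
      have : x * u * u⁻¹ = x := by group
      rw [this]; exact hPX hxP
    apply no_abelian_21 hHD hQ F hF21
    by_cases hPE : P ≤ E
    · -- P ≤ E
      have hex : ∃ z ∈ P, u * z * u⁻¹ ∉ P := by
        by_contra hcon
        push Not at hcon
        exact huX (hN u hcon)
      obtain ⟨z, hzP, hzn⟩ := hex
      have hzE : u * z * u⁻¹ ∈ E := huE z (hPE hzP)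
      have hzX := hEX hzE
      apply abelian_21 F hF21 (z := π ⟨u * z * u⁻¹, hzX⟩)
      · exact mem_map_of_mem _ (mem_subgroupOf.mpr hzE)
      · intro h1
        exact hzn (mem_subgroupOf.mp ((QuotientGroup.eq_one_iff _).mp h1))
      · rintro a ⟨g, hg, rfl⟩
        rw [← map_mul, ← map_mul]
        congr 1
        apply Subtype.ext
        show (g : H) * (u * z * u⁻¹) = u * z * u⁻¹ * g
        have hgE : (g : H) ∈ E := mem_subgroupOf.mp hg
        have h1 := huE g hgE
        have h2 := (hXc _).mp (hEX h1) z hzP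
        rw [hui] at h2 ⊢
        calc (g : H) * (u * z * u) = (u * u) * g * (u * z * u) := by rw [huu, one_mul]
          _ = u * (u * g * u * z) * u := by group
          _ = u * (z * (u * g * u)) * u := by rw [h2]
          _ = u * z * u * g * (u * u) := by group
          _ = u * z * u * g := by rw [huu, mul_one]
    · -- E ∩ P = ⟨x⟩
      have hxo : orderOf x = 3 := orderOf_eq_prime (hPexp x hxP) hx1
      have hzle : zpowers x ≤ E ⊓ P := by
        rw [zpowers_le]; exact ⟨hxE, hxP⟩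
      have hdvd : Nat.card ↥(E ⊓ P) ∣ 9 := by
        rw [← hP9]; exact card_dvd_of_le inf_le_right
      have h3 : 3 ≤ Nat.card ↥(E ⊓ P) := by
        rw [← hxo, ← Nat.card_zpowers]; exact card_le_of_le hzle
      have hne9 : Nat.card ↥(E ⊓ P) ≠ 9 := by
        intro h9
        apply hPE
        have := eq_of_le_of_card_ge (inf_le_right : E ⊓ P ≤ P) (by rw [h9, hP9])
        rw [← this]; exact inf_le_left
      have h3' : Nat.card ↥(E ⊓ P) = 3 := by
        exact three_of_dvd hdvd h3 hne9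
      have hCu : E ⊓ centralizer {u} = zpowers x := by
        symm
        apply eq_of_le_of_card_ge
        · rw [zpowers_le]
          exact mem_inf.mpr ⟨hxE, mem_centralizer_singleton_iff.mpr (hxc u).symm⟩
        · rw [hCEu, h3', Nat.card_zpowers, hxo]
      -- decomposition
      have hdec : ∀ g ∈ E, ∃ k ∈ E, ∃ c ∈ zpowers x, g = k * c ∧ u * k * u⁻¹ = k⁻¹ := by
        intro g hg
        set h := g * (u * g * u⁻¹)⁻¹ with hh
        have hhE : h ∈ E := E.mul_mem hg (E.inv_mem (huE g hg))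
        have hinv : u * h * u⁻¹ = h⁻¹ := by
          rw [hh, hui]
          have : u * (g * (u * g * u)⁻¹) * u = (u * g * u) * (u⁻¹ * (u * g * u)⁻¹ * u) := by group
          rw [this, hui]
          have h2 : u * (u * g * u)⁻¹ * u = g⁻¹ := by
            rw [mul_inv_rev, mul_inv_rev, hui]
            calc u * (u * (g⁻¹ * u)) * u = (u * u) * g⁻¹ * (u * u) := by group
              _ = g⁻¹ := by rw [huu]; group
          rw [h2]; group
        obtain ⟨m, hm⟩ : ∃ m, Nat.card E = 2 * m + 1 := hEodd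
        have hhpow : h ^ (2 * m + 1) = 1 := by
          rw [← hm]
          exact congrArg Subtype.val (pow_card_eq_one' (G := E) (x := ⟨h, hhE⟩))
        set k := h ^ (m + 1) with hk
        have hkk : k * k = h := by
          rw [hk, ← pow_add]
          have : m + 1 + (m + 1) = (2 * m + 1) + 1 := by ring
          rw [this, pow_add, hhpow, one_mul, pow_one]
        have hkE : k ∈ E := E.pow_mem hhE _
        have hkinv : u * k * u⁻¹ = k⁻¹ := by
          rw [hk, ← conj_pow, hinv, inv_pow]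
        refine ⟨k, hkE, k⁻¹ * g, ?_, by group, hkinv⟩
        rw [← hCu]
        refine mem_inf.mpr ⟨E.mul_mem (E.inv_mem hkE) hg, mem_centralizer_singleton_iff.mpr ?_⟩
        have h1 : u * (k⁻¹ * g) * u⁻¹ = k⁻¹ * g := by
          have h2 : u * (k⁻¹ * g) * u⁻¹ = (u * k * u⁻¹)⁻¹ * (u * g * u⁻¹) := by group
          have h3 : u * g * u⁻¹ = h⁻¹ * g := by rw [hh]; group
          rw [h2, hkinv, inv_inv, h3, ← hkk]; group
        calc k⁻¹ * g * u = u * (k⁻¹ * g) * u⁻¹ * u := by rw [h1]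
          _ = u * (k⁻¹ * g) := by group
      have hzP' : ∀ c ∈ zpowers x, c ∈ P := fun c hc => (zpowers_le.mpr hxP) hc
      have hzc : ∀ c ∈ zpowers x, ∀ g : H, g * c = c * g := by
        rintro c ⟨k, rfl⟩ g
        exact ((show Commute g x from hxc g).zpow_right k)
      -- two inverted elements commute modulo P
      have hcomm : ∀ a ∈ E, ∀ b ∈ E, ∃ c ∈ P, a * b = b * a * c := by
        intro a ha b hb
        obtain ⟨k1, hk1, c1, hc1, rfl, hi1⟩ := hdec a ha
        obtain ⟨k2, hk2, c2, hc2, rfl, hi2⟩ := hdec b hb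
        obtain ⟨k3, hk3, c3, hc3, h12, hi3⟩ := hdec (k1 * k2) (E.mul_mem hk1 hk2)
        have h1 : u * (k1 * k2) * u⁻¹ = k1⁻¹ * k2⁻¹ := by
          have : u * (k1 * k2) * u⁻¹ = (u * k1 * u⁻¹) * (u * k2 * u⁻¹) := by group
          rw [this, hi1, hi2]
        have h2 : u * (k1 * k2) * u⁻¹ = k3⁻¹ * c3 := by
          have : u * (k1 * k2) * u⁻¹ = (u * k3 * u⁻¹) * (u * c3 * u⁻¹) := by rw [h12]; group
          rw [this, hi3, hzc c3 hc3 u]; group
        have h3 : k2 * k1 = c3⁻¹ * k3 := by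
          have : k2 * k1 = (k1⁻¹ * k2⁻¹)⁻¹ := by group
          rw [this, ← h1, h2]; group
        have h4 : k1 * k2 = k2 * k1 * (c3 * c3) := by
          rw [h3, h12]
          have := hzc c3 hc3 k3
          calc k3 * c3 = c3⁻¹ * (c3 * k3) * c3 := by group
            _ = c3⁻¹ * (k3 * c3) * c3 := by rw [this]
            _ = c3⁻¹ * k3 * (c3 * c3) := by group
        refine ⟨c3 * c3, P.mul_mem (hzP' _ hc3) (hzP' _ hc3), ?_⟩
        have e1 := hzc c1 hc1
        have e2 := hzc c2 hc2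
        calc k1 * c1 * (k2 * c2) = k1 * (c1 * k2) * c2 := by group
          _ = k1 * (k2 * c1) * c2 := by rw [e1 k2]
          _ = (k1 * k2) * (c1 * c2) := by group
          _ = k2 * k1 * (c3 * c3) * (c1 * c2) := by rw [h4]
          _ = k2 * k1 * ((c3 * c3) * (c1 * c2)) := by group
          _ = k2 * k1 * ((c1 * c2) * (c3 * c3)) := by
              rw [show (c3 * c3) * (c1 * c2) = (c1 * c2) * (c3 * c3) by
                have f1 := hzc c3 hc3 (c1 * c2)
                calc c3 * c3 * (c1 * c2) = c3 * (c3 * (c1 * c2)) := by group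
                  _ = c3 * (c1 * c2 * c3) := by rw [f1]
                  _ = (c3 * (c1 * c2)) * c3 := by group
                  _ = (c1 * c2 * c3) * c3 := by rw [f1]
                  _ = c1 * c2 * (c3 * c3) := by group]
          _ = k2 * (k1 * c1) * c2 * (c3 * c3) := by group
          _ = k2 * (c2 * (k1 * c1)) * (c3 * c3) := by rw [← e2 (k1 * c1)]; group
          _ = k2 * c2 * (k1 * c1) * (c3 * c3) := by group
      rintro a ⟨g, hg, rfl⟩ b ⟨k, hk, rfl⟩
      obtain ⟨c, hcP, hc'⟩ := hcomm g (mem_subgroupOf.mp hg) k (mem_subgroupOf.mp hk)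
      rw [← map_mul, ← map_mul]
      have h1 : (g * k : X) = k * g * ⟨c, hPX hcP⟩ := Subtype.ext hc'
      rw [h1, map_mul π (k * g)]
      have h2 : π ⟨c, hPX hcP⟩ = 1 := (QuotientGroup.eq_one_iff _).mpr (mem_subgroupOf.mpr hcP)
      rw [h2, mul_one]
  · refine no_45 hHD hQ F ?_
    have h9 : Nat.card F * 8 = 45 * 8 := hF8.trans (hQ.trans (by norm_num))
    exact Nat.eq_of_mul_eq_mul_right (by norm_num) h9

end Cfsg.Agent.ONType.CentX

end

-- merged: Cfsg.Agent.ONType.OddCent
section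

set_option autoImplicit false
set_option linter.style.haveILetI false

/-! O'Nan type, part (C): the centraliser of a subgroup `P` of order 9 of the centraliser of an involution. -/

namespace Cfsg.Agent.ONType.OddCent

open Subgroup Cfsg
open Cfsg.Agent.J3Type.ExistsW (HD8)
open Cfsg.Agent.ONType.HDFacts Cfsg.Agent.ONType.QuotHD

/-- Hypotheses: `t` an involution, all involutions are conjugate, `P` a Sylow 3-subgroup of order 9 and exponent 3 of
`C(t)`, `D` dihedral of order 8 with `t` central, `C(x) ∩ C(t) = P D` for `1 ≠ x ∈ P`, and an element `k` of `N(P)`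
with `k²` inverting `P`. -/
structure Hyp {G : Type*} [Group G] (t : G) (P D : Subgroup G) (k : G) : Prop where
  ht : orderOf t = 2
  one : ∀ s : G, orderOf s = 2 → ∃ g, g * t * g⁻¹ = s
  cardP : Nat.card P = 9
  expP : ∀ p ∈ P, p ^ 3 = 1
  Pt : ∀ p ∈ P, p * t = t * p
  syl : ¬ 27 ∣ Nat.card (centralizer ({t} : Set G))
  tD : t ∈ D
  Dt : ∀ d ∈ D, d * t = t * d
  dih : Nonempty (D ≃* DihedralGroup 4)
  DP : ∀ d ∈ D, ∀ p ∈ P, d * p = p * d
  cent : ∀ x ∈ P, x ≠ 1 → ∀ g : G, g * x = x * g → g * t = t * g → ∃ p ∈ P, ∃ d ∈ D, g = p * d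
  kP : ∀ p ∈ P, k * p * k⁻¹ ∈ P
  kinv : ∀ p ∈ P, (k * k) * p * (k * k)⁻¹ = p⁻¹

/-- two subgroups of order `p ^ n` of a group are conjugate if `p ^ n` is the exact power dividing the order. -/
theorem exists_conj_of_card {G : Type*} [Group G] [Finite G] (A B : Subgroup G)
    (hA : Nat.card A = 9) (hB : Nat.card B = 9) (h27 : ¬ 27 ∣ Nat.card G) :
    ∃ c : G, ∀ x : G, x ∈ A ↔ c⁻¹ * x * c ∈ B := by
  haveI : Fact (Nat.Prime 3) := ⟨Nat.prime_three⟩
  have hpos : Nat.card G ≠ 0 := Nat.card_pos.ne'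
  have h9 : 3 ^ 2 ∣ Nat.card G := by
    rw [show (3 : ℕ) ^ 2 = 9 by norm_num, ← hA]; exact card_subgroup_dvd_card _
  have hfac : (Nat.card G).factorization 3 = 2 := by
    have h2 : 2 ≤ (Nat.card G).factorization 3 := (Nat.prime_three.pow_dvd_iff_le_factorization hpos).mp h9
    have h3 : ¬ 3 ≤ (Nat.card G).factorization 3 := by
      intro h3
      apply h27
      have := (Nat.prime_three.pow_dvd_iff_le_factorization hpos).mpr h3
      norm_num at this
      exact this
    omega
  let S : Sylow 3 G := Sylow.ofCard A (by rw [hA, hfac]; norm_num)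
  let T : Sylow 3 G := Sylow.ofCard B (by rw [hB, hfac]; norm_num)
  obtain ⟨c, hc⟩ := MulAction.exists_smul_eq G T S
  refine ⟨c, fun x => ?_⟩
  have h1 := AutSL2Mem.mem_smul_sylow T c x
  rw [hc] at h1
  exact h1

theorem conj_mem_iff {G : Type*} [Group G] [Finite G] (P : Subgroup G) {g : G}
    (h : ∀ p ∈ P, g * p * g⁻¹ ∈ P) (x : G) : x ∈ P ↔ g * x * g⁻¹ ∈ P := by
  refine ⟨h x, fun hx => ?_⟩
  have h1 : P.map (MulAut.conj g).toMonoidHom ≤ P := by
    rintro _ ⟨p, hp, rfl⟩; exact h p hp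
  have h2 : P.map (MulAut.conj g).toMonoidHom = P :=
    eq_of_le_of_card_ge h1 (card_map_of_injective (MulAut.conj g).injective).ge
  rw [← h2] at hx
  obtain ⟨p, hp, hpx⟩ := hx
  have : p = x := (MulAut.conj g).injective hpx
  rwa [← this]

section
variable {G : Type*} [Group G] [Finite G] {t : G} {P D : Subgroup G} {k : G}

theorem Hyp.comm (h : Hyp t P D k) : ∀ p ∈ P, ∀ q ∈ P, p * q = q * p := by
  haveI : Fact (Nat.Prime 3) := ⟨Nat.prime_three⟩
  have h1 := IsPGroup.isMulCommutative_of_card_eq_prime_sq (p := 3) (G := P) (by rw [h.cardP]; norm_num)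
  intro p hp q hq
  exact congrArg Subtype.val (h1.is_comm.comm (⟨p, hp⟩ : P) ⟨q, hq⟩)

/-- `X = C_G(P)` -/
def XX (P : Subgroup G) : Subgroup G := centralizer (P : Set G)

theorem mem_XX {P : Subgroup G} {g : G} : g ∈ XX P ↔ ∀ p ∈ P, g * p = p * g := by
  rw [XX, mem_centralizer_iff]
  exact ⟨fun h p hp => (h p hp).symm, fun h p hp => (h p hp).symm⟩

theorem Hyp.P_le (h : Hyp t P D k) : P ≤ XX P := fun p hp => mem_XX.mpr (h.comm p hp)

theorem Hyp.D_le (h : Hyp t P D k) : D ≤ XX P := fun d hd => mem_XX.mpr (h.DP d hd)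

theorem conj_mem_XX {P : Subgroup G} {g : G} (hg : ∀ p ∈ P, g * p * g⁻¹ ∈ P) {x : G} (hx : x ∈ XX P) :
    g⁻¹ * x * g ∈ XX P := by
  rw [mem_XX] at hx ⊢
  intro p hp
  have h1 := hx _ (hg p hp)
  calc g⁻¹ * x * g * p = g⁻¹ * (x * (g * p * g⁻¹)) * g := by group
    _ = g⁻¹ * ((g * p * g⁻¹) * x) * g := by rw [h1]
    _ = p * (g⁻¹ * x * g) := by group

/-- every involution of `C(P)` is conjugate to `t` under the normaliser of `P`. -/
theorem Hyp.exists_norm (h : Hyp t P D k) {j : G} (hj : orderOf j = 2) (hjX : j ∈ XX P) :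
    ∃ g : G, (∀ p ∈ P, g * p * g⁻¹ ∈ P) ∧ g * j * g⁻¹ = t := by
  obtain ⟨g, hg⟩ := h.one j hj
  -- P' = g⁻¹ P g ≤ C(t)
  let C := centralizer ({t} : Set G)
  have hPC : P ≤ C := fun p hp => mem_centralizer_singleton_iff.mpr (h.Pt p hp)
  let P' : Subgroup G := P.map (MulAut.conj g⁻¹).toMonoidHom
  have hP'C : P' ≤ C := by
    rintro _ ⟨p, hp, rfl⟩
    show g⁻¹ * p * g⁻¹⁻¹ ∈ C
    rw [inv_inv]
    refine mem_centralizer_singleton_iff.mpr ?_
    have h1 := mem_XX.mp hjX p hp
    rw [← hg] at h1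
    calc g⁻¹ * p * g * t = g⁻¹ * (p * (g * t * g⁻¹)) * g := by group
      _ = g⁻¹ * ((g * t * g⁻¹) * p) * g := by rw [h1]
      _ = t * (g⁻¹ * p * g) := by group
  have hP'card : Nat.card P' = 9 := by
    rw [← h.cardP]; exact card_map_of_injective (MulAut.conj g⁻¹).injective
  obtain ⟨c, hc⟩ := exists_conj_of_card (P.subgroupOf C) (P'.subgroupOf C)
    (by rw [Nat.card_congr (subgroupOfEquivOfLe hPC).toEquiv, h.cardP])
    (by rw [Nat.card_congr (subgroupOfEquivOfLe hP'C).toEquiv, hP'card]) h.syl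
  have hct : (c : G) * t = t * c := mem_centralizer_singleton_iff.mp c.2
  -- x ∈ P ↔ c⁻¹ x c ∈ P'
  have hP' : ∀ x : G, x ∈ P' ↔ g * x * g⁻¹ ∈ P := by
    intro x
    constructor
    · rintro ⟨p, hp, rfl⟩
      have : g * ((MulAut.conj g⁻¹).toMonoidHom p) * g⁻¹ = p := by
        show g * (g⁻¹ * p * g⁻¹⁻¹) * g⁻¹ = p
        group
      rw [this]; exact hp
    · intro hx
      refine ⟨_, hx, ?_⟩
      show g⁻¹ * (g * x * g⁻¹) * g⁻¹⁻¹ = x
      group
  refine ⟨c * g⁻¹, ?_, ?_⟩
  · intro p hp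
    -- p ∈ P, so g⁻¹ p g ∈ P', so c (g⁻¹ p g) c⁻¹ ∈ P
    have h1 : g⁻¹ * p * g ∈ P' := by
      rw [hP']
      have : g * (g⁻¹ * p * g) * g⁻¹ = p := by group
      rw [this]; exact hp
    have h1C := hP'C h1
    have h2 : (⟨g⁻¹ * p * g, h1C⟩ : C) ∈ P'.subgroupOf C := mem_subgroupOf.mpr h1
    have h3 : c * ⟨g⁻¹ * p * g, h1C⟩ * c⁻¹ ∈ P.subgroupOf C := by
      rw [hc]
      have : c⁻¹ * (c * ⟨g⁻¹ * p * g, h1C⟩ * c⁻¹) * c = ⟨g⁻¹ * p * g, h1C⟩ := by group
      rw [this]; exact h2
    have h4 := mem_subgroupOf.mp h3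
    have h5 : ((c * ⟨g⁻¹ * p * g, h1C⟩ * c⁻¹ : C) : G) = c * g⁻¹ * p * (c * g⁻¹)⁻¹ := by
      show (c : G) * (g⁻¹ * p * g) * (c : G)⁻¹ = _
      group
    rw [h5] at h4
    exact h4
  · rw [← hg]
    calc (c : G) * g⁻¹ * (g * t * g⁻¹) * (c * g⁻¹)⁻¹ = c * t * (c : G)⁻¹ := by group
      _ = t * c * (c : G)⁻¹ := by rw [hct]
      _ = t := by group

theorem Hyp.normal (h : Hyp t P D k) : (P.subgroupOf (XX P)).Normal := by
  constructor
  intro n hn g
  have h1 : g * n * g⁻¹ = n := by
    apply Subtype.ext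
    have := mem_XX.mp g.2 n (mem_subgroupOf.mp hn)
    show (g : G) * n * (g : G)⁻¹ = n
    rw [this]; group
  rw [h1]; exact hn

theorem Hyp.hPodd (h : Hyp t P D k) : Odd (Nat.card (P.subgroupOf (XX P))) := by
  rw [Nat.card_congr (subgroupOfEquivOfLe h.P_le).toEquiv, h.cardP]; decide

theorem Hyp.hcen (h : Hyp t P D k) : ∀ p ∈ P.subgroupOf (XX P), ∀ g : XX P, g * p = p * g := by
  intro p hp g
  exact Subtype.ext (mem_XX.mp g.2 p (mem_subgroupOf.mp hp))

/-- centralisers of involutions in `X = C(P)` -/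
theorem Hyp.exists_D (h : Hyp t P D k) {j : G} (hj : orderOf j = 2) (hjX : j ∈ XX P) :
    ∃ D' : Subgroup G, D' ≤ XX P ∧ Nonempty (D' ≃* DihedralGroup 4) ∧ (∀ d ∈ D', d * j = j * d) ∧
      ∀ x ∈ P, x ≠ 1 → ∀ c : G, c * x = x * c → c * j = j * c → ∃ p ∈ P, ∃ d ∈ D', c = p * d := by
  obtain ⟨g, hgP, hgj⟩ := h.exists_norm hj hjX
  have hPiff := conj_mem_iff P hgP
  let D' : Subgroup G := D.map (MulAut.conj g⁻¹).toMonoidHom
  have hD' : ∀ x : G, x ∈ D' ↔ g * x * g⁻¹ ∈ D := by
    intro x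
    constructor
    · rintro ⟨p, hp, rfl⟩
      have : g * ((MulAut.conj g⁻¹).toMonoidHom p) * g⁻¹ = p := by
        show g * (g⁻¹ * p * g⁻¹⁻¹) * g⁻¹ = p
        group
      rw [this]; exact hp
    · intro hx
      refine ⟨_, hx, ?_⟩
      show g⁻¹ * (g * x * g⁻¹) * g⁻¹⁻¹ = x
      group
  have hjt : j = g⁻¹ * t * g := by rw [← hgj]; group
  refine ⟨D', ?_, ?_, ?_, ?_⟩
  · intro x hx
    rw [hD'] at hx
    have := conj_mem_XX hgP (h.D_le hx)
    have h2 : g⁻¹ * (g * x * g⁻¹) * g = x := by group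
    rwa [h2] at this
  · obtain ⟨e⟩ := h.dih
    exact ⟨(D.equivMapOfInjective _ (MulAut.conj g⁻¹).injective).symm.trans e⟩
  · intro d hd
    rw [hD'] at hd
    have h1 := h.Dt _ hd
    rw [hjt]
    calc d * (g⁻¹ * t * g) = g⁻¹ * (g * d * g⁻¹ * t) * g := by group
      _ = g⁻¹ * (t * (g * d * g⁻¹)) * g := by rw [h1]
      _ = g⁻¹ * t * g * d := by group
  · intro x hx hx1 c hcx hcj
    have h1 : g * c * g⁻¹ * (g * x * g⁻¹) = g * x * g⁻¹ * (g * c * g⁻¹) := by
      calc g * c * g⁻¹ * (g * x * g⁻¹) = g * (c * x) * g⁻¹ := by group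
        _ = g * (x * c) * g⁻¹ := by rw [hcx]
        _ = g * x * g⁻¹ * (g * c * g⁻¹) := by group
    have h2 : g * c * g⁻¹ * t = t * (g * c * g⁻¹) := by
      rw [hjt] at hcj
      calc g * c * g⁻¹ * t = g * (c * (g⁻¹ * t * g)) * g⁻¹ := by group
        _ = g * (g⁻¹ * t * g * c) * g⁻¹ := by rw [hcj]
        _ = t * (g * c * g⁻¹) := by group
    have hx1' : g * x * g⁻¹ ≠ 1 := by
      intro h3
      apply hx1
      calc x = g⁻¹ * (g * x * g⁻¹) * g := by group
        _ = 1 := by rw [h3]; group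
    obtain ⟨p, hp, d, hd, hpd⟩ := h.cent _ (hgP x hx) hx1' _ h1 h2
    refine ⟨g⁻¹ * p * g, ?_, g⁻¹ * d * g, ?_, ?_⟩
    · rw [hPiff]
      have : g * (g⁻¹ * p * g) * g⁻¹ = p := by group
      rw [this]; exact hp
    · rw [hD']
      have : g * (g⁻¹ * d * g) * g⁻¹ = d := by group
      rw [this]; exact hd
    · calc c = g⁻¹ * (g * c * g⁻¹) * g := by group
        _ = g⁻¹ * (p * d) * g := by rw [hpd]
        _ = g⁻¹ * p * g * (g⁻¹ * d * g) := by group

theorem Hyp.exists_ne (h : Hyp t P D k) : ∃ x ∈ P, x ≠ 1 := by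
  by_contra hcon
  push Not at hcon
  have : P = ⊥ := by
    rw [eq_bot_iff]; intro x hx; exact mem_bot.mpr (hcon x hx)
  have h9 := h.cardP
  rw [this, card_bot] at h9
  omega

theorem Hyp.hd8 (h : Hyp t P D k) :
    haveI := h.normal
    HD8 (XX P ⧸ P.subgroupOf (XX P)) := by
  haveI := h.normal
  apply QuotHD.hd8 _ h.hPodd h.hcen
  intro j hj
  obtain ⟨x, hx, hx1⟩ := h.exists_ne
  obtain ⟨D', hD'X, ⟨e⟩, hD'j, hD'c⟩ := h.exists_D (j := j) (by rw [orderOf_coe]; exact hj) j.2
  refine ⟨D'.subgroupOf (XX P), ⟨(subgroupOfEquivOfLe hD'X).trans e⟩, ?_, ?_⟩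
  · intro d hd
    exact Subtype.ext (hD'j d (mem_subgroupOf.mp hd))
  · intro c hc
    obtain ⟨p, hp, d, hd, hpd⟩ := hD'c x hx hx1 c (mem_XX.mp c.2 x hx) (congrArg Subtype.val hc)
    exact ⟨⟨p, h.P_le hp⟩, mem_subgroupOf.mpr hp, ⟨d, hD'X hd⟩, mem_subgroupOf.mpr hd, Subtype.ext hpd⟩

/-- all involutions of `C(P)` are conjugate in `C(P)` -/
theorem Hyp.isConj_XX (h : Hyp t P D k) {a b : G} (ha : orderOf a = 2) (haX : a ∈ XX P)
    (hb : orderOf b = 2) (hbX : b ∈ XX P) : ∃ g ∈ XX P, g * a * g⁻¹ = b := by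
  haveI := h.normal
  obtain ⟨g, hg⟩ := CentX.isConj_lift _ h.hPodd h.hcen h.hd8
    (j := ⟨a, haX⟩) (r := ⟨b, hbX⟩) ((orderOf_mk a haX).trans ha) ((orderOf_mk b hbX).trans hb)
  exact ⟨g, g.2, congrArg Subtype.val hg⟩

theorem Hyp.tX (h : Hyp t P D k) : t ∈ XX P := h.D_le h.tD

theorem HD8_of_equiv {Y Z : Type*} [Group Y] [Group Z] (e : Y ≃* Z) (hY : HD8 Y) : HD8 Z := by
  intro s hs
  obtain ⟨f⟩ := hY (e.symm s) (by rw [← hs]; exact MulEquiv.orderOf_eq e.symm s)
  refine ⟨MulEquiv.trans ?_ f⟩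
  exact
    { toFun := fun c => ⟨e.symm c, by
        rw [mem_centralizer_singleton_iff, ← map_mul, ← map_mul]
        exact congrArg e.symm (mem_centralizer_singleton_iff.mp c.2)⟩
      invFun := fun c => ⟨e c, by
        rw [mem_centralizer_singleton_iff]
        have := congrArg e (mem_centralizer_singleton_iff.mp c.2)
        rw [map_mul, map_mul, e.apply_symm_apply] at this
        exact this⟩
      left_inv := fun c => Subtype.ext (e.apply_symm_apply c)
      right_inv := fun c => Subtype.ext (e.symm_apply_apply c)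
      map_mul' := fun a b => Subtype.ext (map_mul e.symm (a : Z) b) }

/-- `N_G(P) ∩ C_G(x) ≤ C_G(P)` for `1 ≠ x ∈ P`. -/
theorem Hyp.norm_cent (h : Hyp t P D k) {x : G} (hx : x ∈ P) (hx1 : x ≠ 1) {g : G}
    (hgP : ∀ p ∈ P, g * p * g⁻¹ ∈ P) (hgx : g * x = x * g) : g ∈ XX P := by
  -- g t g⁻¹ is an involution of X
  have hPiff := conj_mem_iff P hgP
  have hgP' : ∀ p ∈ P, g⁻¹ * p * g⁻¹⁻¹ ∈ P := by
    intro p hp
    rw [hPiff]
    have : g * (g⁻¹ * p * g⁻¹⁻¹) * g⁻¹ = p := by group
    rw [this]; exact hp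
  have h1 : g * t * g⁻¹ ∈ XX P := by
    have := conj_mem_XX hgP' h.tX
    rwa [inv_inv] at this
  have h2 : orderOf (g * t * g⁻¹) = 2 := by
    rw [Cfsg.Agent.TwoFusion.StronglyEmbeddedBasic.orderOf_conj]; exact h.ht
  obtain ⟨y, hy, hyt⟩ := h.isConj_XX h2 h1 h.ht h.tX
  have h3 : y * g * t = t * (y * g) := by
    calc y * g * t = y * (g * t * g⁻¹) * y⁻¹ * (y * g) := by group
      _ = t * (y * g) := by rw [hyt]
  have h4 : y * g * x = x * (y * g) := by
    calc y * g * x = y * (g * x) := by group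
      _ = y * (x * g) := by rw [hgx]
      _ = (y * x) * g := by group
      _ = (x * y) * g := by rw [mem_XX.mp hy x hx]
      _ = x * (y * g) := by group
  obtain ⟨p, hp, d, hd, hpd⟩ := h.cent x hx hx1 _ h4 h3
  have h5 : y * g ∈ XX P := by rw [hpd]; exact mul_mem (h.P_le hp) (h.D_le hd)
  have h6 : g = y⁻¹ * (y * g) := by group
  rw [h6]; exact mul_mem (inv_mem hy) h5

/-- `C_G(x) = C_G(P)` for `1 ≠ x ∈ P`. -/
theorem Hyp.cent_eq (h : Hyp t P D k) {x : G} (hx : x ∈ P) (hx1 : x ≠ 1) {g : G}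
    (hgx : g * x = x * g) : g ∈ XX P := by
  haveI := h.normal
  let H := centralizer ({x} : Set G)
  have hXH : XX P ≤ H := fun y hy => mem_centralizer_singleton_iff.mpr (mem_XX.mp hy x hx)
  have hPH : P ≤ H := h.P_le.trans hXH
  have key : (XX P).subgroupOf H = ⊤ := by
    have hn : ((P.subgroupOf H).subgroupOf ((XX P).subgroupOf H)).Normal := by
      constructor
      intro n hn y
      have h1 : y * n * y⁻¹ = n := by
        apply Subtype.ext
        apply Subtype.ext
        have := mem_XX.mp (mem_subgroupOf.mp y.2) n (mem_subgroupOf.mp (mem_subgroupOf.mp hn))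
        show (y : G) * n * (y : G)⁻¹ = n
        rw [this]; group
      rw [h1]; exact hn
    let e : (XX P).subgroupOf H ≃* XX P := subgroupOfEquivOfLe hXH
    have hmap : ((P.subgroupOf H).subgroupOf ((XX P).subgroupOf H)).map (e : _ →* _) =
        P.subgroupOf (XX P) := by
      ext y
      constructor
      · rintro ⟨z, hz, rfl⟩
        exact mem_subgroupOf.mpr (mem_subgroupOf.mp (mem_subgroupOf.mp hz))
      · intro hy
        refine ⟨⟨⟨y, hXH y.2⟩, mem_subgroupOf.mpr y.2⟩, ?_, rfl⟩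
        exact mem_subgroupOf.mpr (mem_subgroupOf.mpr (mem_subgroupOf.mp hy))
    have hHD : HD8 (((XX P).subgroupOf H) ⧸ (P.subgroupOf H).subgroupOf ((XX P).subgroupOf H)) := by
      have e2 := QuotientGroup.congr ((P.subgroupOf H).subgroupOf ((XX P).subgroupOf H))
        (P.subgroupOf (XX P)) e hmap
      exact HD8_of_equiv e2.symm h.hd8
    refine CentX.eq_top (P.subgroupOf H) ((XX P).subgroupOf H) ⟨x, hPH hx⟩ ⟨t, hXH h.tX⟩
      (mem_subgroupOf.mpr hx) ?_ ?_ ?_ ?_ ?_ ?_ ((orderOf_mk _ _).trans h.ht) (mem_subgroupOf.mpr h.tX) ?_ ?_ hn hHD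
    · intro h1; exact hx1 (congrArg Subtype.val h1)
    · intro y
      exact Subtype.ext (mem_centralizer_singleton_iff.mp y.2)
    · rw [Nat.card_congr (subgroupOfEquivOfLe hPH).toEquiv, h.cardP]
    · intro p hp
      exact Subtype.ext (h.expP p (mem_subgroupOf.mp hp))
    · intro p hp
      exact mem_subgroupOf.mpr (h.P_le (mem_subgroupOf.mp hp))
    · intro y
      rw [mem_subgroupOf, mem_XX]
      constructor
      · intro h1 p hp
        exact Subtype.ext (h1 p (mem_subgroupOf.mp hp))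
      · intro h1 p hp
        exact congrArg Subtype.val (h1 ⟨p, hPH hp⟩ (mem_subgroupOf.mpr hp))
    · intro y hy
      rw [mem_subgroupOf]
      obtain ⟨p, hp, d, hd, hpd⟩ := h.cent x hx hx1 y (mem_centralizer_singleton_iff.mp y.2)
        (congrArg Subtype.val hy)
      rw [hpd]; exact mul_mem (h.P_le hp) (h.D_le hd)
    · intro y hy
      rw [mem_subgroupOf]
      apply h.norm_cent hx hx1 _ (mem_centralizer_singleton_iff.mp y.2)
      intro p hp
      exact mem_subgroupOf.mp (hy ⟨p, hPH hp⟩ (mem_subgroupOf.mpr hp))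
  have h1 : (⟨g, mem_centralizer_singleton_iff.mpr hgx⟩ : H) ∈ (XX P).subgroupOf H := by
    rw [key]; exact mem_top _
  exact mem_subgroupOf.mp h1

end

end Cfsg.Agent.ONType.OddCent

end

-- merged: Cfsg.Agent.ONType.OddCentB
section

set_option autoImplicit false
set_option linter.style.haveILetI false
set_option linter.unusedSectionVars false

/-! O'Nan type, part (C): `|C(P) / P|` is not 168. -/

namespace Cfsg.Agent.ONType.OddCent

open Subgroup Cfsg
open Cfsg.Agent.J3Type.ExistsW (HD8)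
open Cfsg.Agent.ONType.HDFacts Cfsg.Agent.ONType.QuotHD

/-- two subgroups of order `p ^ n` of a group are conjugate if `p ^ n` is the exact power dividing the order. -/
theorem exists_conj_of_card_pow {G : Type*} [Group G] [Finite G] {p n : ℕ} (hp : p.Prime) (A B : Subgroup G)
    (hA : Nat.card A = p ^ n) (hB : Nat.card B = p ^ n) (hn : ¬ p ^ (n + 1) ∣ Nat.card G) :
    ∃ c : G, ∀ x : G, x ∈ A ↔ c⁻¹ * x * c ∈ B := by
  haveI : Fact p.Prime := ⟨hp⟩
  have hpos : Nat.card G ≠ 0 := Nat.card_pos.ne'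
  have h9 : p ^ n ∣ Nat.card G := by
    rw [← hA]; exact card_subgroup_dvd_card _
  have hfac : (Nat.card G).factorization p = n := by
    have h2 : n ≤ (Nat.card G).factorization p := (hp.pow_dvd_iff_le_factorization hpos).mp h9
    have h3 : ¬ n + 1 ≤ (Nat.card G).factorization p := by
      intro h3
      exact hn ((hp.pow_dvd_iff_le_factorization hpos).mpr h3)
    omega
  let S : Sylow p G := Sylow.ofCard A (by rw [hA, hfac])
  let T : Sylow p G := Sylow.ofCard B (by rw [hB, hfac])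
  obtain ⟨c, hc⟩ := MulAction.exists_smul_eq G T S
  refine ⟨c, fun x => ?_⟩
  have h1 := AutSL2Mem.mem_smul_sylow T c x
  rw [hc] at h1
  exact h1

/-- a `p`-subgroup is contained in a conjugate of a subgroup of order the full power of `p` -/
theorem exists_conj_le {G : Type*} [Group G] [Finite G] {p n m : ℕ} (hp : p.Prime) (A B : Subgroup G)
    (hA : Nat.card A = p ^ m) (hB : Nat.card B = p ^ n) (hn : ¬ p ^ (n + 1) ∣ Nat.card G) :
    ∃ c : G, ∀ x ∈ A, c⁻¹ * x * c ∈ B := by
  haveI : Fact p.Prime := ⟨hp⟩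
  obtain ⟨S, hS⟩ := (IsPGroup.of_card hA).exists_le_sylow
  have hpos : Nat.card G ≠ 0 := Nat.card_pos.ne'
  have h9 : p ^ n ∣ Nat.card G := by
    rw [← hB]; exact card_subgroup_dvd_card _
  have hfac : (Nat.card G).factorization p = n := by
    have h2 : n ≤ (Nat.card G).factorization p := (hp.pow_dvd_iff_le_factorization hpos).mp h9
    have h3 : ¬ n + 1 ≤ (Nat.card G).factorization p := by
      intro h3
      exact hn ((hp.pow_dvd_iff_le_factorization hpos).mpr h3)
    omega
  obtain ⟨c, hc⟩ := exists_conj_of_card_pow hp (S : Subgroup G) B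
    (by rw [S.card_eq_multiplicity, hfac]) hB hn
  exact ⟨c, fun x hx => (hc x).mp (hS hx)⟩

section
variable {G : Type*} [Group G] [Finite G] {t : G} {P D : Subgroup G} {k : G}

/-- elements of odd order of `C(P)` commuting with an involution of `C(P)` lie in `P` -/
theorem Hyp.mem_P_of_comm (h : Hyp t P D k) {j e : G} (hj : orderOf j = 2) (hjX : j ∈ XX P)
    (heX : e ∈ XX P) {m : ℕ} (hm : Odd m) (hem : e ^ m = 1) (hej : e * j = j * e) : e ∈ P := by
  obtain ⟨x, hx, hx1⟩ := h.exists_ne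
  obtain ⟨D', hD'X, ⟨f⟩, hD'j, hD'c⟩ := h.exists_D hj hjX
  obtain ⟨p, hp, d, hd, hpd⟩ := hD'c x hx hx1 e (mem_XX.mp heX x hx) hej
  have hcm : Commute p d := (mem_XX.mp (hD'X hd) p hp).symm
  have h1 : d ^ (3 * m) = 1 := by
    have h2 : e ^ (3 * m) = 1 := by rw [mul_comm, pow_mul, hem, one_pow]
    rw [hpd, hcm.mul_pow, pow_mul, h.expP p hp, one_pow, one_mul] at h2
    exact h2
  have h3 : d ^ 8 = 1 := by
    have := pow_card_eq_one' (G := D') (x := ⟨d, hd⟩)
    rw [Nat.card_congr f.toEquiv, DihedralGroup.nat_card] at this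
    exact congrArg Subtype.val this
  have hodd : Odd (3 * m) := Odd.mul (by decide) hm
  have hco : Nat.Coprime (3 * m) 8 := by
    have : Nat.Coprime (3 * m) 2 := hodd.coprime_two_right
    exact Nat.Coprime.pow_right 3 this
  have h5 : orderOf d ∣ 1 := by
    rw [← hco.gcd_eq_one]
    exact Nat.dvd_gcd (orderOf_dvd_of_pow_eq_one h1) (orderOf_dvd_of_pow_eq_one h3)
  have h6 : d = 1 := by rw [← orderOf_eq_one_iff]; exact Nat.dvd_one.mp h5
  rw [hpd, h6, mul_one]; exact hp

/-- normal 3-subgroup `P` lies in every Sylow 3-subgroup of `C(P)`. -/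
theorem Hyp.P_le_of_card (h : Hyp t P D k) (T : Subgroup G) (hTX : T ≤ XX P) {n : ℕ}
    (hT : Nat.card T = 3 ^ n) (hn : ¬ 3 ^ (n + 1) ∣ Nat.card (XX P)) : P ≤ T := by
  obtain ⟨c, hc⟩ := exists_conj_le Nat.prime_three (P.subgroupOf (XX P)) (T.subgroupOf (XX P))
    (m := 2) (n := n)
    (by rw [Nat.card_congr (subgroupOfEquivOfLe h.P_le).toEquiv, h.cardP]; norm_num)
    (by rw [Nat.card_congr (subgroupOfEquivOfLe hTX).toEquiv, hT]) hn
  intro p hp
  have h1 := hc ⟨p, h.P_le hp⟩ (mem_subgroupOf.mpr hp)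
  have h2 : c⁻¹ * ⟨p, h.P_le hp⟩ * c = ⟨p, h.P_le hp⟩ := by
    rw [mul_assoc, ← h.hcen ⟨p, h.P_le hp⟩ (mem_subgroupOf.mpr hp) c]
    group
  rw [h2] at h1
  exact mem_subgroupOf.mp h1

/-- Frattini: an element of `N(P)` can be modified by an element of `C(P)` to normalise `T`. -/
theorem Hyp.frattini (h : Hyp t P D k) (T : Subgroup G) (hTX : T ≤ XX P) {n : ℕ}
    (hT : Nat.card T = 3 ^ n) (hn : ¬ 3 ^ (n + 1) ∣ Nat.card (XX P)) {g : G}
    (hg : ∀ p ∈ P, g * p * g⁻¹ ∈ P) : ∃ y ∈ XX P, ∀ s ∈ T, (y * g) * s * (y * g)⁻¹ ∈ T := by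
  have hgiff := conj_mem_iff P hg
  have hg' : ∀ p ∈ P, g⁻¹ * p * g⁻¹⁻¹ ∈ P := by
    intro p hp
    rw [hgiff]
    have : g * (g⁻¹ * p * g⁻¹⁻¹) * g⁻¹ = p := by group
    rw [this]; exact hp
  let T' : Subgroup G := T.map (MulAut.conj g).toMonoidHom
  have hT'X : T' ≤ XX P := by
    rintro _ ⟨s, hs, rfl⟩
    have := conj_mem_XX hg' (hTX hs)
    rw [inv_inv] at this
    exact this
  obtain ⟨c, hc⟩ := exists_conj_of_card_pow Nat.prime_three (T'.subgroupOf (XX P)) (T.subgroupOf (XX P))
    (n := n)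
    (by rw [Nat.card_congr (subgroupOfEquivOfLe hT'X).toEquiv,
          show Nat.card T' = Nat.card T from card_map_of_injective (MulAut.conj g).injective, hT])
    (by rw [Nat.card_congr (subgroupOfEquivOfLe hTX).toEquiv, hT]) hn
  refine ⟨(c : G)⁻¹, inv_mem c.2, ?_⟩
  intro s hs
  have h1 : g * s * g⁻¹ ∈ T' := ⟨s, hs, rfl⟩
  have h2 := (hc ⟨g * s * g⁻¹, hT'X h1⟩).mp (mem_subgroupOf.mpr h1)
  have h3 := mem_subgroupOf.mp h2
  have h4 : ((c⁻¹ * ⟨g * s * g⁻¹, hT'X h1⟩ * c : XX P) : G) = (c : G)⁻¹ * g * s * ((c : G)⁻¹ * g)⁻¹ := by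
    show (c : G)⁻¹ * (g * s * g⁻¹) * c = _
    group
  rw [h4] at h3
  exact h3

theorem Hyp.card_XX (h : Hyp t P D k) : haveI := h.normal
    Nat.card (XX P) = Nat.card (XX P ⧸ P.subgroupOf (XX P)) * 9 := by
  haveI := h.normal
  rw [Subgroup.card_eq_card_quotient_mul_card_subgroup (P.subgroupOf (XX P)),
    Nat.card_congr (subgroupOfEquivOfLe h.P_le).toEquiv, h.cardP]

theorem Hyp.card_XX' (h : Hyp t P D k) : Nat.card (XX P) = 1512 ∨ Nat.card (XX P) = 3240 := by
  haveI := h.normal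
  have hs : orderOf (QuotientGroup.mk (⟨t, h.tX⟩ : XX P) : XX P ⧸ P.subgroupOf (XX P)) = 2 :=
    CentX.orderOf_mk_eq _ h.hPodd ((orderOf_mk _ _).trans h.ht)
  have h1 := HD8.card_eq h.hd8 hs
  have h2 := h.card_XX
  rcases h1 with h1 | h1
  · left; rw [h2, h1]
  · right; rw [h2, h1]

theorem Hyp.eq_one_of_inv (h : Hyp t P D k) {p : G} (hp : p ∈ P) (h1 : p = p⁻¹) : p = 1 := by
  have h2 : p * p = 1 := by
    nth_rewrite 2 [h1]; group
  calc p = (p * p) * (p * p) * (p ^ 3)⁻¹ := by group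
    _ = 1 := by rw [h2, h.expP p hp]; group

/-- power of an element inverting `P` -/
theorem pow_inv {P : Subgroup G} {z : G} (hz : ∀ p ∈ P, z * p * z⁻¹ = p⁻¹) {m : ℕ} (hm : Odd m) :
    ∀ p ∈ P, z ^ m * p * (z ^ m)⁻¹ = p⁻¹ := by
  obtain ⟨n, rfl⟩ := hm
  have h2 : ∀ n : ℕ, ∀ p ∈ P, z ^ (2 * n) * p * (z ^ (2 * n))⁻¹ = p := by
    intro n
    induction n with
    | zero => intro p _; simp
    | succ n ih =>
      intro p hp
      have e : z ^ (2 * (n + 1)) = z * (z * z ^ (2 * n)) := by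
        rw [show 2 * (n + 1) = (2 * n + 1) + 1 by ring, pow_succ', pow_succ']
      rw [e]
      calc z * (z * z ^ (2 * n)) * p * (z * (z * z ^ (2 * n)))⁻¹
          = z * (z * (z ^ (2 * n) * p * (z ^ (2 * n))⁻¹) * z⁻¹) * z⁻¹ := by group
        _ = z * (z * p * z⁻¹) * z⁻¹ := by rw [ih p hp]
        _ = z * p⁻¹ * z⁻¹ := by rw [hz p hp]
        _ = p := by rw [hz _ (P.inv_mem hp), inv_inv]
  intro p hp
  rw [pow_succ']
  calc z * z ^ (2 * n) * p * (z * z ^ (2 * n))⁻¹
      = z * (z ^ (2 * n) * p * (z ^ (2 * n))⁻¹) * z⁻¹ := by group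
    _ = p⁻¹ := by rw [h2 n p hp, hz p hp]

theorem Hyp.not_168 (h : Hyp t P D k) : Nat.card (XX P) ≠ 1512 := by
  intro hX
  haveI : Fact (Nat.Prime 3) := ⟨Nat.prime_three⟩
  haveI : Fact (Nat.Prime 2) := ⟨Nat.prime_two⟩
  have hnd : ¬ 3 ^ (3 + 1) ∣ Nat.card (XX P) := by rw [hX]; norm_num
  have hd : 3 ^ 3 ∣ Nat.card (XX P) := by rw [hX]; norm_num
  obtain ⟨T0, hT0⟩ := Sylow.exists_subgroup_card_pow_prime 3 hd
  let T : Subgroup G := T0.map (XX P).subtype
  have hTX : T ≤ XX P := map_subtype_le _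
  have hT : Nat.card T = 3 ^ 3 := by
    rw [← hT0]; exact card_map_of_injective (XX P).subtype_injective
  have hPT : P ≤ T := h.P_le_of_card T hTX hT hnd
  have hcenT : ∀ p ∈ P, ∀ s ∈ T, s * p = p * s := fun p hp s hs => mem_XX.mp (hTX hs) p hp
  -- T/P has order 3
  have hPTn : (P.subgroupOf T).Normal := by
    constructor
    intro n hn g
    have h1 : g * n * g⁻¹ = n := by
      apply Subtype.ext
      have := hcenT n (mem_subgroupOf.mp hn) g g.2
      show (g : G) * n * (g : G)⁻¹ = n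
      rw [this]; group
    rw [h1]; exact hn
  have hq3 : Nat.card (T ⧸ P.subgroupOf T) = 3 := by
    have h1 := Subgroup.card_eq_card_quotient_mul_card_subgroup (P.subgroupOf T)
    rw [Nat.card_congr (subgroupOfEquivOfLe hPT).toEquiv, h.cardP, hT] at h1
    omega
  have hcyc : IsCyclic (T ⧸ P.subgroupOf T) := isCyclic_of_prime_card hq3
  have hTc : ∀ a ∈ T, ∀ b ∈ T, a * b = b * a := by
    have h1 := MonoidHom.isMulCommutative_of_isCyclic_of_ker_le_center (QuotientGroup.mk' (P.subgroupOf T))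
      (by
        rw [QuotientGroup.ker_mk']
        intro p hp
        rw [mem_center_iff]
        intro g
        exact Subtype.ext (hcenT p (mem_subgroupOf.mp hp) g g.2))
    intro a ha b hb
    exact congrArg Subtype.val (h1.is_comm.comm (⟨a, ha⟩ : T) ⟨b, hb⟩)
  obtain ⟨e₀, he₀T, he₀P⟩ : ∃ e ∈ T, e ∉ P := by
    by_contra hcon
    push Not at hcon
    have := card_le_of_le (show T ≤ P from hcon)
    rw [hT, h.cardP] at this
    omega
  -- every element of T is in P, e₀ P or e₀⁻¹ P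
  have htri : ∀ y ∈ T, y ∈ P ∨ e₀⁻¹ * y ∈ P ∨ e₀ * y ∈ P := by
    intro y hy
    have hne : (QuotientGroup.mk (⟨e₀, he₀T⟩ : T) : T ⧸ P.subgroupOf T) ≠ 1 := by
      intro h1
      exact he₀P (mem_subgroupOf.mp ((QuotientGroup.eq_one_iff _).mp h1))
    have hmem := mem_zpowers_of_prime_card (p := 3) hq3 hne
      (g' := (QuotientGroup.mk (⟨y, hy⟩ : T) : T ⧸ P.subgroupOf T))
    rw [← mem_powers_iff_mem_zpowers, Submonoid.mem_powers_iff] at hmem
    obtain ⟨n, hn⟩ := hmem
    have h3 : (QuotientGroup.mk (⟨e₀, he₀T⟩ : T) : T ⧸ P.subgroupOf T) ^ 3 = 1 := by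
      rw [← hq3]; exact pow_card_eq_one'
    have hmod : (QuotientGroup.mk (⟨e₀, he₀T⟩ : T) : T ⧸ P.subgroupOf T) ^ (n % 3) =
        QuotientGroup.mk (⟨y, hy⟩ : T) := by
      rw [← hn]
      conv_rhs => rw [← Nat.div_add_mod n 3, pow_add, pow_mul, h3, one_pow, one_mul]
    have hlt : n % 3 < 3 := Nat.mod_lt _ (by norm_num)
    have hcases : n % 3 = 0 ∨ n % 3 = 1 ∨ n % 3 = 2 := by omega
    rcases hcases with h0 | h0 | h0
    · left
      rw [h0, pow_zero] at hmod
      exact mem_subgroupOf.mp ((QuotientGroup.eq_one_iff _).mp hmod.symm)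
    · right; left
      rw [h0, pow_one, QuotientGroup.eq] at hmod
      exact mem_subgroupOf.mp hmod
    · right; right
      rw [h0] at hmod
      have h4 : (QuotientGroup.mk (⟨e₀, he₀T⟩ * ⟨y, hy⟩ : T) : T ⧸ P.subgroupOf T) = 1 := by
        rw [QuotientGroup.mk_mul, ← hmod, ← pow_succ']
        exact h3
      exact mem_subgroupOf.mp ((QuotientGroup.eq_one_iff _).mp h4)
  -- Frattini
  obtain ⟨x₁, hx₁, ha⟩ := h.frattini T hTX hT hnd h.kP
  set a := x₁ * k with hadef
  have haP : ∀ p ∈ P, a * p * a⁻¹ = k * p * k⁻¹ := by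
    intro p hp
    have := mem_XX.mp hx₁ _ (h.kP p hp)
    calc a * p * a⁻¹ = x₁ * (k * p * k⁻¹) * x₁⁻¹ := by rw [hadef]; group
      _ = k * p * k⁻¹ := by rw [this]; group
  have haP' : ∀ p ∈ P, a * p * a⁻¹ ∈ P := fun p hp => by rw [haP p hp]; exact h.kP p hp
  have haPiff := conj_mem_iff P haP'
  set z := a * a with hzdef
  have hzinv : ∀ p ∈ P, z * p * z⁻¹ = p⁻¹ := by
    intro p hp
    calc z * p * z⁻¹ = a * (a * p * a⁻¹) * a⁻¹ := by rw [hzdef]; group
      _ = a * (k * p * k⁻¹) * a⁻¹ := by rw [haP p hp]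
      _ = k * (k * p * k⁻¹) * k⁻¹ := haP _ (h.kP p hp)
      _ = (k * k) * p * (k * k)⁻¹ := by group
      _ = p⁻¹ := h.kinv p hp
  have hze : ∃ q ∈ P, z * e₀ * z⁻¹ = e₀ * q := by
    have h1 : a * e₀ * a⁻¹ ∈ T := ha e₀ he₀T
    have h2 : a * e₀ * a⁻¹ ∉ P := fun h2 => he₀P ((haPiff e₀).mpr h2)
    rcases htri _ h1 with h3 | h3 | h3
    · exact absurd h3 h2
    · refine ⟨(e₀⁻¹ * (a * e₀ * a⁻¹)) * (a * (e₀⁻¹ * (a * e₀ * a⁻¹)) * a⁻¹),
        P.mul_mem h3 (haP' _ h3), ?_⟩
      rw [hzdef]; group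
    · set q := e₀ * (a * e₀ * a⁻¹) with hq
      have h4 : a * e₀ * a⁻¹ = e₀⁻¹ * q := by rw [hq]; group
      refine ⟨q⁻¹ * (a * q * a⁻¹), P.mul_mem (P.inv_mem h3) (haP' _ h3), ?_⟩
      have h5 : e₀ * q⁻¹ = q⁻¹ * e₀ := hcenT _ (P.inv_mem h3) e₀ he₀T
      calc z * e₀ * z⁻¹ = a * (a * e₀ * a⁻¹) * a⁻¹ := by rw [hzdef]; group
        _ = a * (e₀⁻¹ * q) * a⁻¹ := by rw [h4]
        _ = (a * e₀ * a⁻¹)⁻¹ * (a * q * a⁻¹) := by group
        _ = (e₀⁻¹ * q)⁻¹ * (a * q * a⁻¹) := by rw [h4]
        _ = q⁻¹ * e₀ * (a * q * a⁻¹) := by group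
        _ = e₀ * q⁻¹ * (a * q * a⁻¹) := by rw [h5]
        _ = e₀ * (q⁻¹ * (a * q * a⁻¹)) := by group
  have hzpow : ∀ n : ℕ, ∃ q ∈ P, z ^ n * e₀ * (z ^ n)⁻¹ = e₀ * q := by
    intro n
    induction n with
    | zero => exact ⟨1, P.one_mem, by simp⟩
    | succ n ih =>
      obtain ⟨q, hq, hq2⟩ := ih
      obtain ⟨r, hr, hr2⟩ := hze
      refine ⟨r * q⁻¹, P.mul_mem hr (P.inv_mem hq), ?_⟩
      rw [pow_succ']
      calc z * z ^ n * e₀ * (z * z ^ n)⁻¹ = z * (z ^ n * e₀ * (z ^ n)⁻¹) * z⁻¹ := by group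
        _ = z * (e₀ * q) * z⁻¹ := by rw [hq2]
        _ = (z * e₀ * z⁻¹) * (z * q * z⁻¹) := by group
        _ = e₀ * r * q⁻¹ := by rw [hr2, hzinv q hq]
        _ = e₀ * (r * q⁻¹) := by group
  -- the 2-part of z
  obtain ⟨b, m, hmodd, hbm⟩ := Nat.exists_eq_two_pow_mul_odd (n := orderOf z) (orderOf_pos z).ne'
  set y := z ^ m with hydef
  have hy2b : y ^ (2 ^ b) = 1 := by
    rw [hydef, ← pow_mul, mul_comm, ← hbm]; exact pow_orderOf_eq_one z
  have hyinv : ∀ p ∈ P, y * p * y⁻¹ = p⁻¹ := pow_inv hzinv hmodd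
  obtain ⟨p₀, hp₀, hye⟩ := hzpow m
  rw [← hydef] at hye
  set e := e₀ * (p₀ * p₀) with hedef
  have heT : e ∈ T := T.mul_mem he₀T (hPT (P.mul_mem hp₀ hp₀))
  have heP : e ∉ P := by
    intro h1
    apply he₀P
    have : e₀ = e * (p₀ * p₀)⁻¹ := by rw [hedef]; group
    rw [this]; exact P.mul_mem h1 (P.inv_mem (P.mul_mem hp₀ hp₀))
  have heX : e ∈ XX P := hTX heT
  have hyec : y * e * y⁻¹ = e := by
    calc y * e * y⁻¹ = (y * e₀ * y⁻¹) * (y * p₀ * y⁻¹) * (y * p₀ * y⁻¹) := by rw [hedef]; group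
      _ = e₀ * p₀ * p₀⁻¹ * p₀⁻¹ := by rw [hye, hyinv p₀ hp₀]
      _ = e₀ * (p₀ * p₀) * (p₀ ^ 3)⁻¹ := by group
      _ = e := by rw [h.expP p₀ hp₀, inv_one, mul_one]
  have hey : e * y = y * e := by
    calc e * y = y * e * y⁻¹ * y := by rw [hyec]
      _ = y * e := by group
  have he27 : e ^ 27 = 1 := by
    have := pow_card_eq_one' (G := T) (x := ⟨e, heT⟩)
    rw [hT] at this
    exact congrArg Subtype.val this
  obtain ⟨x, hx, hx1⟩ := h.exists_ne
  have hy1 : y ≠ 1 := by
    intro h1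
    apply hx1
    apply h.eq_one_of_inv hx
    have := hyinv x hx
    rw [h1] at this
    simpa using this
  -- y has order 2
  obtain ⟨c, -, hc⟩ := (Nat.dvd_prime_pow Nat.prime_two).mp (orderOf_dvd_of_pow_eq_one hy2b)
  have hyo : orderOf y = 2 := by
    rcases Nat.lt_or_ge c 2 with hc2 | hc2
    · interval_cases c
      · exact absurd (orderOf_eq_one_iff.mp (by simpa using hc)) hy1
      · simpa using hc
    · exfalso
      obtain ⟨c', rfl⟩ := Nat.exists_eq_add_of_le hc2
      let w := (y ^ 2) ^ (2 ^ c')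
      have hwo : orderOf w = 2 := by
        apply orderOf_eq_prime
        · show ((y ^ 2) ^ (2 ^ c')) ^ 2 = 1
          rw [← pow_mul, ← pow_mul, show 2 * (2 ^ c' * 2) = 2 ^ (2 + c') by ring, ← hc]
          exact pow_orderOf_eq_one y
        · intro h1
          have h2 : y ^ (2 ^ (1 + c')) = 1 := by
            have e1 : (2 : ℕ) ^ (1 + c') = 2 * 2 ^ c' := by ring
            rw [e1, pow_mul y 2 (2 ^ c')]
            exact h1
          have h3 := orderOf_dvd_of_pow_eq_one h2
          rw [hc] at h3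
          have := (Nat.pow_dvd_pow_iff_le_right (by norm_num : 1 < 2)).mp h3
          omega
      have hy2X : y ^ 2 ∈ XX P := by
        rw [mem_XX]
        intro p hp
        have : y ^ 2 * p * (y ^ 2)⁻¹ = p := by
          rw [pow_two]
          calc y * y * p * (y * y)⁻¹ = y * (y * p * y⁻¹) * y⁻¹ := by group
            _ = p := by rw [hyinv p hp, hyinv _ (P.inv_mem hp), inv_inv]
        calc y ^ 2 * p = y ^ 2 * p * (y ^ 2)⁻¹ * y ^ 2 := by group
          _ = p * y ^ 2 := by rw [this]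
      have hwX : w ∈ XX P := (XX P).pow_mem hy2X _
      have hew : e * w = w * e := (((show Commute e y from hey).pow_right 2).pow_right (2 ^ c'))
      exact heP (h.mem_P_of_comm hwo hwX heX (m := 27) (by decide) he27 hew)
  -- e has order 3
  have he3P : e ^ 3 ∈ P := by
    have h1 : (QuotientGroup.mk (⟨e, heT⟩ : T) : T ⧸ P.subgroupOf T) ^ 3 = 1 := by
      rw [← hq3]; exact pow_card_eq_one'
    rw [← QuotientGroup.mk_pow, QuotientGroup.eq_one_iff] at h1
    exact mem_subgroupOf.mp h1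
  have he3 : e ^ 3 = 1 := by
    apply h.eq_one_of_inv he3P
    have h1 := hyinv _ he3P
    rw [← conj_pow, hyec] at h1
    exact h1
  have he1 : e ≠ 1 := fun h1 => heP (h1 ▸ P.one_mem)
  -- move y to t
  obtain ⟨g, hg⟩ := h.one y hyo
  have hyt : g⁻¹ * y * g = t := by rw [← hg]; group
  let C := centralizer ({t} : Set G)
  have he'C : g⁻¹ * e * g ∈ C := by
    refine mem_centralizer_singleton_iff.mpr ?_
    rw [← hyt]
    calc g⁻¹ * e * g * (g⁻¹ * y * g) = g⁻¹ * (e * y) * g := by group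
      _ = g⁻¹ * (y * e) * g := by rw [hey]
      _ = g⁻¹ * y * g * (g⁻¹ * e * g) := by group
  have hPC : P ≤ C := fun p hp => mem_centralizer_singleton_iff.mpr (h.Pt p hp)
  have he'o : orderOf (⟨g⁻¹ * e * g, he'C⟩ : C) = 3 := by
    rw [orderOf_mk]
    apply orderOf_eq_prime
    · have : (g⁻¹ * e * g) ^ 3 = g⁻¹ * e ^ 3 * g := by
        have := conj_pow (a := g⁻¹) (b := e) (i := 3)
        rwa [inv_inv] at this
      rw [this, he3]; group
    · intro h1
      apply he1
      calc e = g * (g⁻¹ * e * g) * g⁻¹ := by group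
        _ = 1 := by rw [h1]; group
  obtain ⟨cc, hcc⟩ := exists_conj_le Nat.prime_three (zpowers (⟨g⁻¹ * e * g, he'C⟩ : C)) (P.subgroupOf C)
    (m := 1) (n := 2) (by rw [Nat.card_zpowers, he'o]; norm_num)
    (by rw [Nat.card_congr (subgroupOfEquivOfLe hPC).toEquiv, h.cardP]; norm_num)
    (by
      have := h.syl
      norm_num only []
      exact this)
  have h1 := mem_subgroupOf.mp (hcc _ (mem_zpowers _))
  -- w := cc⁻¹ g⁻¹
  set w := (cc : G)⁻¹ * g⁻¹ with hwdef
  have hwe : w * e * w⁻¹ ∈ P := by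
    have h2 : ((cc⁻¹ * ⟨g⁻¹ * e * g, he'C⟩ * cc : C) : G) = w * e * w⁻¹ := by
      show (cc : G)⁻¹ * (g⁻¹ * e * g) * cc = _
      rw [hwdef]; group
    rw [h2] at h1; exact h1
  have hwe1 : w * e * w⁻¹ ≠ 1 := by
    intro h2
    apply he1
    calc e = w⁻¹ * (w * e * w⁻¹) * w := by group
      _ = 1 := by rw [h2]; group
  -- elements commuting with e are conjugated into X by w
  have hCe : ∀ s : G, s * e = e * s → w * s * w⁻¹ ∈ XX P := by
    intro s hs
    apply h.cent_eq hwe hwe1
    calc w * s * w⁻¹ * (w * e * w⁻¹) = w * (s * e) * w⁻¹ := by group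
      _ = w * (e * s) * w⁻¹ := by rw [hs]
      _ = w * e * w⁻¹ * (w * s * w⁻¹) := by group
  -- T' = w T w⁻¹ ≤ X contains P
  let T' : Subgroup G := T.map (MulAut.conj w).toMonoidHom
  have hT'X : T' ≤ XX P := by
    rintro _ ⟨s, hs, rfl⟩
    exact hCe s (hTc s hs e heT)
  have hPT' : P ≤ T' := by
    apply h.P_le_of_card T' hT'X (n := 3) _ hnd
    rw [← hT]; exact card_map_of_injective (MulAut.conj w).injective
  -- Pe = w⁻¹ P w ≤ T, meets P
  let Pe : Subgroup G := P.map (MulAut.conj w⁻¹).toMonoidHom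
  have hPe : ∀ s : G, s ∈ Pe ↔ w * s * w⁻¹ ∈ P := by
    intro x
    constructor
    · rintro ⟨p, hp, rfl⟩
      have : w * ((MulAut.conj w⁻¹).toMonoidHom p) * w⁻¹ = p := by
        show w * (w⁻¹ * p * w⁻¹⁻¹) * w⁻¹ = p
        group
      rw [this]; exact hp
    · intro hx
      refine ⟨_, hx, ?_⟩
      show w⁻¹ * (w * x * w⁻¹) * w⁻¹⁻¹ = x
      group
  have hPeT : Pe ≤ T := by
    intro s hs
    obtain ⟨r, hr, hrs⟩ := hPT' ((hPe s).mp hs)
    have : r = s := (MulAut.conj w).injective hrs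
    rwa [← this]
  have hPecard : Nat.card Pe = 9 := by
    rw [← h.cardP]; exact card_map_of_injective (MulAut.conj w⁻¹).injective
  have hmeet : ∃ q ∈ P ⊓ Pe, q ≠ 1 := by
    by_contra hcon
    push Not at hcon
    -- injection P × Pe → T
    let f : P × Pe → T := fun pq => ⟨pq.1 * pq.2, T.mul_mem (hPT pq.1.2) (hPeT pq.2.2)⟩
    have hf : Function.Injective f := by
      rintro ⟨p, q⟩ ⟨p', q'⟩ hpq
      have h2 : (p : G) * q = p' * q' := congrArg Subtype.val hpq
      have h3 : (p' : G)⁻¹ * p = q' * (q : G)⁻¹ := by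
        calc (p' : G)⁻¹ * p = (p' : G)⁻¹ * (p * q) * (q : G)⁻¹ := by group
          _ = (p' : G)⁻¹ * (p' * q') * (q : G)⁻¹ := by rw [h2]
          _ = q' * (q : G)⁻¹ := by group
      have h4 : (p' : G)⁻¹ * p = 1 := by
        apply hcon
        refine ⟨P.mul_mem (P.inv_mem p'.2) p.2, ?_⟩
        rw [h3]; exact Pe.mul_mem q'.2 (Pe.inv_mem q.2)
      have h5 : (q' : G) * (q : G)⁻¹ = 1 := by rw [← h3]; exact h4
      have h6 : p = p' := Subtype.ext (inv_mul_eq_one.mp h4).symm
      have h7 : q = q' := Subtype.ext (mul_inv_eq_one.mp h5).symm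
      rw [h6, h7]
    have h8 := Nat.card_le_card_of_injective f hf
    rw [Nat.card_prod, h.cardP, hPecard, hT] at h8
    omega
  obtain ⟨q, hq, hq1⟩ := hmeet
  apply hq1
  apply h.eq_one_of_inv hq.1
  -- y commutes with q
  have h2 := mem_XX.mp (hCe y hey.symm) _ ((hPe q).mp hq.2)
  have h3 : y * q = q * y := by
    calc y * q = w⁻¹ * (w * y * w⁻¹ * (w * q * w⁻¹)) * w := by group
      _ = w⁻¹ * (w * q * w⁻¹ * (w * y * w⁻¹)) * w := by rw [h2]
      _ = q * y := by group
  calc q = y * q * y⁻¹ := by rw [h3]; group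
    _ = q⁻¹ := hyinv q hq.1

end

end Cfsg.Agent.ONType.OddCent

end

-- merged: Cfsg.Agent.ONType.OddCentC
section

set_option autoImplicit false
set_option linter.style.haveILetI false
set_option linter.unusedSectionVars false

/-! O'Nan type, part (C): `C(P) = P × A₆`. -/

namespace Cfsg.Agent.ONType.OddCent

open Subgroup Cfsg
open Cfsg.Agent.J3Type.ExistsW (HD8)
open Cfsg.Agent.ONType.HDFacts Cfsg.Agent.ONType.QuotHD

section HD
variable {Y : Type*} [Group Y] [Finite Y]

theorem centralizer_le_of_normal (h : HD8 Y) {s : Y} (hs : orderOf s = 2) (N : Subgroup Y)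
    (hN : ∀ r : Y, orderOf r = 2 → r ∈ N) : centralizer ({s} : Set Y) ≤ N := by
  haveI : Fact (Nat.Prime 2) := ⟨Nat.prime_two⟩
  obtain ⟨e⟩ := h s hs
  intro x hx
  obtain ⟨a, b, ha, hb, hab⟩ := J3Type.ExistsW.dih_gen (e ⟨x, hx⟩)
  have key : ∀ a : DihedralGroup 4, a * a = 1 → ((e.symm a : centralizer ({s} : Set Y)) : Y) ∈ N := by
    intro a ha
    by_cases h1 : a = 1
    · rw [h1, map_one]; exact one_mem _
    · apply hN
      rw [orderOf_eq_prime_iff]
      constructor
      · rw [pow_two, ← coe_mul, ← map_mul, ha, map_one]; rfl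
      · intro h2
        apply h1
        have h3 : e.symm a = 1 := Subtype.ext h2
        exact e.symm.map_eq_one_iff.mp h3
  have h1 : (⟨x, hx⟩ : centralizer ({s} : Set Y)) = e.symm a * e.symm b := by
    rw [← map_mul, ← hab, e.symm_apply_apply]
  have h2 : x = (e.symm a : Y) * (e.symm b : Y) := congrArg Subtype.val h1
  rw [h2]
  exact mul_mem (key a ha) (key b hb)

/-- a group with dihedral involution centralisers is simple -/
theorem isSimple (h : HD8 Y) {s : Y} (hs : orderOf s = 2) : IsSimpleGroup Y := by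
  haveI : Fact (Nat.Prime 2) := ⟨Nat.prime_two⟩
  have hs1 : s ≠ 1 := by rintro rfl; simp at hs
  haveI : Nontrivial Y := ⟨⟨s, 1, hs1⟩⟩
  refine { eq_bot_or_eq_top_of_normal := fun N hN => ?_ }
  by_cases h2 : 2 ∣ Nat.card N
  · right
    obtain ⟨r, hr⟩ := exists_prime_orderOf_dvd_card' 2 h2
    have hr' : orderOf (r : Y) = 2 := by rw [orderOf_coe]; exact hr
    have hall : ∀ j : Y, orderOf j = 2 → j ∈ N := by
      intro j hj
      obtain ⟨g, hg⟩ := isConj_of h hr' hj
      rw [← hg]; exact hN.conj_mem _ r.2 g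
    have hle : ∀ j : Y, orderOf j = 2 → centralizer ({j} : Set Y) ≤ N :=
      fun j hj => centralizer_le_of_normal h hj N hall
    have hHDN : HD8 N := by
      intro j hj
      have hj' : orderOf (j : Y) = 2 := by rw [orderOf_coe]; exact hj
      obtain ⟨e⟩ := h j hj'
      refine ⟨MulEquiv.trans ?_ e⟩
      exact
        { toFun := fun c => ⟨c, by
            rw [mem_centralizer_singleton_iff]
            exact congrArg Subtype.val (mem_centralizer_singleton_iff.mp c.2)⟩
          invFun := fun c => ⟨⟨c, hle j hj' c.2⟩, by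
            rw [mem_centralizer_singleton_iff]
            exact Subtype.ext (mem_centralizer_singleton_iff.mp c.2)⟩
          left_inv := fun c => rfl
          right_inv := fun c => rfl
          map_mul' := fun a b => rfl }
    have h1 := CentX.card_involutions h hs
    have h3 := CentX.card_involutions hHDN hr
    have h4 : Nat.card {j : N // orderOf j = 2} = Nat.card {j : Y // orderOf j = 2} := by
      refine Nat.card_congr ⟨fun j => ⟨j.1, by rw [orderOf_coe]; exact j.2⟩,
        fun j => ⟨⟨j.1, hall _ j.2⟩, by rw [← orderOf_coe]; exact j.2⟩, fun j => rfl, fun j => rfl⟩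
    exact eq_top_of_card_eq N (by rw [← h1, ← h3, h4])
  · left
    obtain ⟨e⟩ := h s hs
    have hodd : Odd (Nat.card N) := by
      rw [← Nat.not_even_iff_odd, even_iff_two_dvd]; exact h2
    have hinv : ∀ j : Y, orderOf j = 2 → ∀ n ∈ N, j * n * j = n⁻¹ := by
      intro j hj
      have hj2 : j * j = 1 := by rw [← pow_two, ← hj]; exact pow_orderOf_eq_one j
      have hji : j⁻¹ = j := by rw [inv_eq_iff_mul_eq_one]; exact hj2
      refine PermutationGroups.InducedAlt.inverts N j hj2 ?_ ?_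
      · intro a ha
        have := hN.conj_mem a ha j
        rwa [hji] at this
      · intro a ha hja
        have h3 : a ∈ centralizer ({j} : Set Y) := mem_centralizer_singleton_iff.mpr hja.symm
        have h4 : a ^ 8 = 1 := by
          have := pow_card_eq_one' (G := centralizer ({j} : Set Y)) (x := ⟨a, h3⟩)
          rw [h.card hj] at this
          exact congrArg Subtype.val this
        have h5 : a ^ Nat.card N = 1 :=
          congrArg Subtype.val (pow_card_eq_one' (G := N) (x := ⟨a, ha⟩))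
        have hco : Nat.Coprime (Nat.card N) 8 := by
          have : Nat.Coprime (Nat.card N) 2 := hodd.coprime_two_right
          exact Nat.Coprime.pow_right 3 this
        have h6 : orderOf a ∣ 1 := by
          rw [← hco.gcd_eq_one]
          exact Nat.dvd_gcd (orderOf_dvd_of_pow_eq_one h5) (orderOf_dvd_of_pow_eq_one h4)
        rw [← orderOf_eq_one_iff]; exact Nat.dvd_one.mp h6
    -- an involution `r ≠ s` commuting with `s`
    obtain ⟨r, hr, hrs, hrs1⟩ : ∃ r : Y, orderOf r = 2 ∧ r * s = s * r ∧ r ≠ s := by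
      have hd : orderOf (DihedralGroup.sr 0 : DihedralGroup 4) = 2 := DihedralGroup.orderOf_sr 0
      have hd' : orderOf (DihedralGroup.sr 1 : DihedralGroup 4) = 2 := DihedralGroup.orderOf_sr 1
      have h1 : ∀ d : DihedralGroup 4, orderOf d = 2 → orderOf ((e.symm d : centralizer ({s} : Set Y)) : Y) = 2 := by
        intro d hd
        rw [orderOf_coe, MulEquiv.orderOf_eq]; exact hd
      have h2 : ∀ d : DihedralGroup 4, ((e.symm d : centralizer ({s} : Set Y)) : Y) * s =
          s * ((e.symm d : centralizer ({s} : Set Y)) : Y) :=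
        fun d => mem_centralizer_singleton_iff.mp (e.symm d).2
      by_cases h3 : ((e.symm (DihedralGroup.sr 0) : centralizer ({s} : Set Y)) : Y) = s
      · refine ⟨_, h1 _ hd', h2 _, ?_⟩
        intro h4
        have h5 := e.symm.injective (Subtype.ext (h4.trans h3.symm))
        exact absurd h5 (by decide)
      · exact ⟨_, h1 _ hd, h2 _, h3⟩
    have hs2 : s * s = 1 := by rw [← pow_two, ← hs]; exact pow_orderOf_eq_one s
    have hr2 : r * r = 1 := by rw [← pow_two, ← hr]; exact pow_orderOf_eq_one r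
    have hsr : orderOf (r * s) = 2 := by
      apply orderOf_eq_prime
      · rw [pow_two]
        calc r * s * (r * s) = r * s * (s * r) := by rw [hrs]
          _ = r * (s * s) * r := by group
          _ = 1 := by rw [hs2, mul_one, hr2]
      · intro h1
        apply hrs1
        calc r = r * (s * s) := by rw [hs2, mul_one]
          _ = (r * s) * s := by group
          _ = s := by rw [h1, one_mul]
    have hsr2 : r * s * (r * s) = 1 := by rw [← pow_two, ← hsr]; exact pow_orderOf_eq_one _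
    have h3 := PermutationGroups.InducedAlt.sq_eq_one_of_inverts N r s (r * s) hr2 hs2 hsr2
      (hinv r hr) (hinv s hs) (hinv _ hsr) (by
        have : r * s * r * s = r * s * (r * s) := by group
        rw [this, hsr2]; exact N.one_mem)
    rw [eq_bot_iff]
    intro a ha
    rw [mem_bot]
    apply eq_one_of_sq hodd
    · exact congrArg Subtype.val (pow_card_eq_one' (G := N) (x := ⟨a, ha⟩))
    · rw [pow_two]; exact h3 a ha

end HD

end Cfsg.Agent.ONType.OddCent

end

private theorem dce_cb8cc6ff4cbe : _root_.True := by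
  try have : _root_.True := by simp only [_root_.MonoidHom.transferSylow.congr_simp]
  try have : _root_.True := by simp only [_root_.Cfsg.Agent.ONType.OddCent.XX.eq_1]
  exact _root_.True.intro
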