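import Cfsg.Agent.ONType.RepOrb
import Cfsg.Agent.ONType.SecondTuple
set_option linter.all false

/-!
The subgroup `⟨a, b, c, d, g⟩` of the presented O'Nan group has at least `161280` elements; it is the centraliser
of `f` as soon as the latter has order `161280`.
-/

set_option autoImplicit false
set_option maxRecDepth 100000
set_option Elab.async false

namespace Cfsg.Agent.ONType.RepCent

open Cfsg.Agent.Lib.PermNet Cfsg.Agent.Lib.PermNetOrbit Cfsg.Agent.Fischer.Fi24RepLib
  Cfsg.Agent.ONType.RepDef Cfsg.Agent.ONType.Rep Cfsg.Agent.ONType.RepOrb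
open Cfsg.Spor (ON)
open Cfsg.Spor.ON (Gen)
open Cfsg.Agent.SporadicB.ON45Word (on LW gi)

/-- saturation of the orbit of the point 0 under `⟨a, b, c, d, g⟩` -/
def s5 : List (List Gen) := [[.g], [.b], [.c], [.d], [.g], [.a], [.b], [.c], [.d], [.g], [.a], [.b], [.c], [.d],
  [.g], [.a], [.b]]

/-- saturation of the orbit of the point 20 under `⟨a, b, c, d⟩` -/
def s4 : List (List Gen) := [[.a], [.b], [.c], [.d], [.a], [.b], [.c], [.d], [.a], [.b], [.c], [.d],
  [.a], [.b], [.c], [.d], [.a]]

/-- enough points -/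
noncomputable def mOK (m p : ℕ) (ws : List (List Gen)) : Bool :=
  Nat.ble m (pc 17 (sat (nws ws) 1 (Nat.pow 2 p)))
/-- no overflow -/
noncomputable def lOK (p : ℕ) (ws : List (List Gen)) : Bool :=
  Nat.beq (Nat.shiftRight (sat (nws ws) 1 (Nat.pow 2 p)) (Nat.pow 2 17)) 0

theorem stepB {G : Type*} [Group G] [Finite G] (φ : G →* Equiv.Perm ℕ) (qs : List ℕ) (p m : ℕ)
    (ws : List (List Gen)) (himg : ∀ w ∈ nws ws, ∃ g, φ g = wperm w) (hfix : fixAllB (nws ws) qs = true)
    (hm : mOK m p ws = true) (hl : lOK p ws = true) :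
    m * Nat.card (stabL φ (p :: qs)) ≤ Nat.card (stabL φ qs) :=
  stabL_step_of_check (k := 17) φ qs p m 1 (nws_ok ws) himg hfix hm hl

theorem m5 : mOK 240 0 s5 = true := by decide +kernel
theorem l5 : lOK 0 s5 = true := by decide +kernel
theorem m4 : mOK 672 20 s4 = true := by decide +kernel
theorem l4 : lOK 20 s4 = true := by decide +kernel
theorem f5 : fixAllB (nws s5) [] = true := rfl
theorem f4 : fixAllB (nws s4) [0] = true := by decide +kernel

/-- `⟨a, b, c, d, g⟩` -/
def C5 : Subgroup ON := Subgroup.closure {on .a, on .b, on .c, on .d, on .g}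

theorem word_mem {l : List Gen} (hl : ∀ x ∈ l, x ∈ [Gen.a, .b, .c, .d, .g]) : word l ∈ C5 := by
  unfold word
  apply Subgroup.list_prod_mem
  intro y hy
  obtain ⟨x, hx, rfl⟩ := List.mem_map.1 hy
  apply Subgroup.subset_closure
  have h := hl x hx
  simp only [List.mem_cons, List.not_mem_nil, or_false] at h
  rcases h with rfl | rfl | rfl | rfl | rfl
  · exact Or.inl rfl
  · exact Or.inr (Or.inl rfl)
  · exact Or.inr (Or.inr (Or.inl rfl))
  · exact Or.inr (Or.inr (Or.inr (Or.inl rfl)))
  · exact Or.inr (Or.inr (Or.inr (Or.inr rfl)))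

/-- the action of `C5` -/
noncomputable def rho5 : C5 →* Equiv.Perm ℕ := rho.comp C5.subtype

theorem img {ws : List (List Gen)} (h : ∀ l ∈ ws, ∀ x ∈ l, x ∈ [Gen.a, .b, .c, .d, .g]) (w : List Net)
    (hw : w ∈ nws ws) : ∃ g : C5, rho5 g = wperm w := by
  obtain ⟨l, hl, rfl⟩ := List.mem_map.1 hw
  exact ⟨⟨word l, word_mem (h l hl)⟩, rho_word l⟩

theorem card_C5_ge [Finite ON] : 161280 ≤ Nat.card C5 := by
  have h1 := stepB rho5 [] 0 240 s5 (img (by decide)) f5 m5 l5
  have h2 := stepB rho5 [0] 20 672 s4 (img (by decide)) f4 m4 l4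
  have h3 : 0 < Nat.card (stabL rho5 [20, 0]) := Nat.card_pos
  have h4 : Nat.card (stabL rho5 []) ≤ Nat.card C5 := Subgroup.card_le_card_group _
  omega

theorem fg_comm (hs : IsSimpleGroup ON) : on .f * on .g = on .g * on .f :=
  SecondTuple.eq_of_check hs ((LW.gen .f).mul (LW.gen .g)) ((LW.gen .g).mul (LW.gen .f)) (by decide +kernel)

theorem fa_comm (hs : IsSimpleGroup ON) : on .f * on .a = on .a * on .f :=
  SecondTuple.eq_of_check hs ((LW.gen .f).mul (LW.gen .a)) ((LW.gen .a).mul (LW.gen .f)) (by decide +kernel)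

theorem fb_comm (hs : IsSimpleGroup ON) : on .f * on .b = on .b * on .f :=
  SecondTuple.eq_of_check hs ((LW.gen .f).mul (LW.gen .b)) ((LW.gen .b).mul (LW.gen .f)) (by decide +kernel)

theorem fc_comm (hs : IsSimpleGroup ON) : on .f * on .c = on .c * on .f :=
  SecondTuple.eq_of_check hs ((LW.gen .f).mul (LW.gen .c)) ((LW.gen .c).mul (LW.gen .f)) (by decide +kernel)

theorem fd_comm (hs : IsSimpleGroup ON) : on .f * on .d = on .d * on .f :=
  SecondTuple.eq_of_check hs ((LW.gen .f).mul (LW.gen .d)) ((LW.gen .d).mul (LW.gen .f)) (by decide +kernel)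

theorem C5_le (hs : IsSimpleGroup ON) : C5 ≤ Subgroup.centralizer ({on .f} : Set ON) := by
  unfold C5
  rw [Subgroup.closure_le]
  intro x hx
  rw [SetLike.mem_coe, Subgroup.mem_centralizer_singleton_iff]
  simp only [Set.mem_insert_iff, Set.mem_singleton_iff] at hx
  rcases hx with rfl | rfl | rfl | rfl | rfl
  · exact (fa_comm hs).symm
  · exact (fb_comm hs).symm
  · exact (fc_comm hs).symm
  · exact (fd_comm hs).symm
  · exact (fg_comm hs).symm

theorem finite_of_isON (hON : Cfsg.IsON ON) : Finite ON :=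
  Nat.finite_of_card_ne_zero (by rw [hON.2]; norm_num)

/-- If the centraliser of `f` has the right order, it is generated by `a, b, c, d, g`. -/
theorem centralizer_eq (hON : Cfsg.IsON ON)
    (hC : Nat.card (Subgroup.centralizer ({on .f} : Set ON)) = 161280) :
    Subgroup.centralizer ({on .f} : Set ON) = Subgroup.closure {on .a, on .b, on .c, on .d, on .g} := by
  have := finite_of_isON hON
  refine (Subgroup.eq_of_le_of_card_ge (C5_le hON.1) ?_).symm
  rw [hC]
  exact card_C5_ge

end Cfsg.Agent.ONType.RepCent
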