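import Mathlib
set_option linter.all false

-- part: ONType/Coord
section
/-!
# O'Nan type groups: coordinates on the homocyclic group

`M` is a homocyclic abelian group of rank 3 and exponent `2^n`, on which the stabiliser `S4 = V4 : S3` in `L3(2)` of an
involution `z` acts.  We find `φ : ℤ³ → M`, additive, onto, with kernel `(2^n ℤ)³` such that the action is by signed
permutations of the four coordinates `a, b, c, -a-b-c`.
-/

set_option autoImplicit false

namespace Cfsg.Agent.ONType.Coord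

section homocyclic

variable {M : Type*} [AddCommGroup M]

/-- multiplication by `2^k` -/
def pw (M : Type*) [AddCommGroup M] (k : ℕ) : M →+ M where
  toFun m := (2 ^ k : ℕ) • m
  map_zero' := smul_zero _
  map_add' := fun a b => smul_add _ a b

theorem pw_apply (k : ℕ) (m : M) : pw M k m = (2 ^ k : ℕ) • m := rfl

theorem pw_succ_apply (k : ℕ) (m : M) : pw M (k + 1) m = pw M k (2 • m) := by
  rw [pw_apply, pw_apply, smul_smul, pow_succ]

variable [Finite M]

/-- orders of the torsion subgroups -/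
theorem card_ker_le (h8 : Nat.card (pw M 1).ker ≤ 8) (k : ℕ) : Nat.card (pw M k).ker ≤ 8 ^ k := by
  induction k with
  | zero =>
    have : (pw M 0).ker = ⊥ := by
      ext m; simp [AddMonoidHom.mem_ker, pw_apply]
    rw [this]; simp
  | succ k ih =>
    -- multiplication by 2 maps `ker (k+1)` to `ker k`
    have hmap : ∀ m ∈ (pw M (k + 1)).ker, pw M 1 m ∈ (pw M k).ker := by
      intro m hm
      rw [AddMonoidHom.mem_ker] at hm ⊢
      rw [pw_succ_apply] at hm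
      have h2 : pw M 1 m = 2 • m := by rw [pw_apply, pow_one]
      rw [h2]; exact hm
    let g : (pw M (k + 1)).ker →+ (pw M k).ker :=
      ((pw M 1).comp (pw M (k + 1)).ker.subtype).codRestrict (pw M k).ker (fun m => hmap m m.2)
    have h1 : Nat.card (pw M (k + 1)).ker = Nat.card g.ker * Nat.card g.range := by
      rw [← Nat.card_congr (QuotientAddGroup.quotientKerEquivRange g).toEquiv]
      rw [mul_comm]
      exact AddSubgroup.card_eq_card_quotient_mul_card_addSubgroup g.ker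
    have h2 : Nat.card g.ker ≤ 8 := by
      refine le_trans ?_ h8
      refine Nat.card_le_card_of_injective (fun x : g.ker => (⟨((x : (pw M (k+1)).ker) : M), ?_⟩ : (pw M 1).ker)) ?_
      · have := x.2
        rw [AddMonoidHom.mem_ker] at this ⊢
        exact congrArg Subtype.val this
      · intro x y h
        exact Subtype.ext (Subtype.ext (congrArg (fun t : (pw M 1).ker => (t : M)) h))
    have h3 : Nat.card g.range ≤ 8 ^ k := le_trans (AddSubgroup.card_le_card_addGroup _) ih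
    rw [h1, pow_succ, mul_comm]
    exact Nat.mul_le_mul h3 h2

variable {n : ℕ}

theorem card_facts (hn : 1 ≤ n) (hcard : Nat.card M = 8 ^ n) (hexp : ∀ m : M, (2 ^ n : ℕ) • m = 0)
    (h8 : Nat.card (pw M 1).ker ≤ 8) :
    (pw M (n - 1)).range = (pw M 1).ker ∧ (pw M (n - 1)).ker = (pw M 1).range := by
  obtain ⟨k, rfl⟩ : ∃ k, n = k + 1 := ⟨n - 1, by omega⟩
  simp only [Nat.add_sub_cancel]
  have hle : (pw M k).range ≤ (pw M 1).ker := by
    rintro _ ⟨m, rfl⟩
    rw [AddMonoidHom.mem_ker, pw_apply, pow_one, pw_apply, smul_smul, ← pow_succ']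
    exact hexp m
  have hle2 : (pw M 1).range ≤ (pw M k).ker := by
    rintro _ ⟨m, rfl⟩
    rw [AddMonoidHom.mem_ker, pw_apply, pw_apply, smul_smul, pow_one, ← pow_succ]
    exact hexp m
  have hk := card_ker_le h8 k
  have h1 : Nat.card M = Nat.card (pw M k).ker * Nat.card (pw M k).range := by
    rw [← Nat.card_congr (QuotientAddGroup.quotientKerEquivRange (pw M k)).toEquiv, mul_comm]
    exact AddSubgroup.card_eq_card_quotient_mul_card_addSubgroup _
  have h2 : Nat.card M = Nat.card (pw M 1).ker * Nat.card (pw M 1).range := by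
    rw [← Nat.card_congr (QuotientAddGroup.quotientKerEquivRange (pw M 1)).toEquiv, mul_comm]
    exact AddSubgroup.card_eq_card_quotient_mul_card_addSubgroup _
  have hr : Nat.card (pw M k).range ≤ Nat.card (pw M 1).ker := AddSubgroup.card_le_of_le hle
  have hr2 : Nat.card (pw M 1).range ≤ Nat.card (pw M k).ker := AddSubgroup.card_le_of_le hle2
  rw [hcard, pow_succ] at h1 h2
  have h8k : 0 < 8 ^ k := by positivity
  have e1 : Nat.card (pw M k).range = 8 := by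
    have : 8 ^ k * 8 ≤ 8 ^ k * Nat.card (pw M k).range := by rw [h1]; exact Nat.mul_le_mul_right _ hk
    have := Nat.le_of_mul_le_mul_left this h8k
    omega
  have e2 : Nat.card (pw M k).ker = 8 ^ k := by
    rw [e1] at h1
    exact (Nat.eq_of_mul_eq_mul_right (by norm_num) h1).symm
  have e3 : Nat.card (pw M 1).ker = 8 := by omega
  have e4 : Nat.card (pw M 1).range = 8 ^ k := by
    rw [e3, mul_comm] at h2
    exact (Nat.eq_of_mul_eq_mul_left (by norm_num) h2).symm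
  exact ⟨AddSubgroup.eq_of_le_of_card_ge hle (by rw [e1, e3]), (AddSubgroup.eq_of_le_of_card_ge hle2 (by rw [e2, e4])).symm⟩

end homocyclic

/-- The action of the stabiliser of `z`. -/
structure Act (M : Type*) [AddCommGroup M] (n : ℕ) (R1 R2 R3 X s : M →+ M) (z : M) : Prop where
  hn : 1 ≤ n
  card : Nat.card M = 8 ^ n
  exp : ∀ m : M, (2 ^ n : ℕ) • m = 0
  h8 : Nat.card (pw M 1).ker ≤ 8
  R11 : ∀ m, R1 (R1 m) = m
  R22 : ∀ m, R2 (R2 m) = m
  R33 : ∀ m, R3 (R3 m) = m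
  R12 : ∀ m, R1 (R2 m) = R3 m
  R21 : ∀ m, R2 (R1 m) = R3 m
  R13 : ∀ m, R1 (R3 m) = R2 m
  R31 : ∀ m, R3 (R1 m) = R2 m
  R23 : ∀ m, R2 (R3 m) = R1 m
  R32 : ∀ m, R3 (R2 m) = R1 m
  XXX : ∀ m, X (X (X m)) = m
  XR1 : ∀ m, X (R1 m) = R2 (X m)
  XR2 : ∀ m, X (R2 m) = R3 (X m)
  XR3 : ∀ m, X (R3 m) = R1 (X m)
  sX : ∀ m, s (X m) = X (X (s m))
  sR1 : ∀ m, s (R1 m) = R2 (s m)
  sR2 : ∀ m, s (R2 m) = R1 (s m)
  sR3 : ∀ m, s (R3 m) = R3 (s m)
  z2 : 2 • z = 0
  z0 : z ≠ 0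
  R1z : R1 z = z
  R2z : R2 z = z
  Xz : X z = z
  sz : s z = z
  fixV : ∀ m, 2 • m = 0 → R1 m = m → R2 m = m → m = 0 ∨ m = z
  fixX : ∀ m, 2 • m = 0 → X m = m → m = 0 ∨ m = z
  tr1 : ∀ m, 2 • m = 0 → R1 m = m ∨ R1 m = m + z
  tr2 : ∀ m, 2 • m = 0 → R2 m = m ∨ R2 m = m + z
  ne1 : ∃ m, 2 • m = 0 ∧ R1 m = m + z

namespace Act

variable {M : Type*} [AddCommGroup M] [Finite M] {n : ℕ} {R1 R2 R3 X s : M →+ M} {z : M}
  (h : Act M n R1 R2 R3 X s z)
include h

theorem exists_half (a : M) (ha : 2 • a = 0) : ∃ m, (2 ^ (n - 1) : ℕ) • m = a := by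
  have h1 := (card_facts h.hn h.card h.exp h.h8).1
  have h2 : a ∈ (pw M 1).ker := by
    rw [AddMonoidHom.mem_ker, pw_apply, pow_one]; exact ha
  rw [← h1] at h2
  exact h2

theorem exists_two (m : M) (hm : (2 ^ (n - 1) : ℕ) • m = 0) : ∃ m', m = 2 • m' := by
  have h1 := (card_facts h.hn h.card h.exp h.h8).2
  have h2 : m ∈ (pw M (n - 1)).ker := hm
  rw [h1] at h2
  obtain ⟨m', hm'⟩ := h2
  rw [pw_apply, pow_one] at hm'
  exact ⟨m', hm'.symm⟩

/-- the functional, with values in the fixed points of `X`. -/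
def lam (X : M →+ M) : M →+ M := AddMonoidHom.id M + X + X.comp X

omit [Finite M] h in
theorem lam_apply (X : M →+ M) (m : M) : lam X m = m + X m + X (X m) := rfl

omit [Finite M] in
theorem X_lam (m : M) : X (lam X m) = lam X m := by
  rw [lam_apply, map_add, map_add, h.XXX]
  abel

omit [Finite M] in
theorem lam_X (m : M) : lam X (X m) = lam X m := by
  rw [lam_apply, lam_apply, h.XXX]
  abel

omit [Finite M] in
theorem neg_z : -z = z := by
  have := h.z2
  rw [two_smul] at this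
  exact neg_eq_of_add_eq_zero_left this

omit [Finite M] in
theorem R3z : R3 z = z := by rw [← h.R12, h.R2z, h.R1z]

/-- `f` generates the fixed points of `X` -/
theorem exists_f : ∃ f, X f = f ∧ (2 ^ (n - 1) : ℕ) • f = z := by
  obtain ⟨m, hm⟩ := h.exists_half z h.z2
  refine ⟨lam X m, h.X_lam m, ?_⟩
  rw [lam_apply, smul_add, smul_add, ← map_nsmul, ← map_nsmul, ← map_nsmul, hm, h.Xz, h.Xz]
  have := h.z2
  rw [two_smul] at this
  rw [this, zero_add]

omit [Finite M] in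
/-- powers of two: `2^(n-1) f = z` implies that `k f = 0` iff `2^n ∣ k` -/
theorem zsmul_eq_zero {f : M} (hf : (2 ^ (n - 1) : ℕ) • f = z) (k : ℤ) : k • f = 0 ↔ (2 : ℤ) ^ n ∣ k := by
  have hn := h.hn
  have hexp : ((2 : ℤ) ^ n) • f = 0 := by
    have h1 := h.exp f
    rw [← natCast_zsmul] at h1
    push_cast at h1
    exact h1
  constructor
  · intro hk
    have hg : ((Int.gcd k ((2 : ℤ) ^ n) : ℕ) : ℤ) • f = 0 := by
      rw [Int.gcd_eq_gcd_ab, add_smul, mul_comm, mul_smul, hk, mul_comm ((2 : ℤ) ^ n), mul_smul, hexp]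
      simp
    have hdvd : Int.gcd k ((2 : ℤ) ^ n) ∣ 2 ^ n := by
      have := Int.gcd_dvd_right k ((2 : ℤ) ^ n)
      exact_mod_cast this
    obtain ⟨j, hj, hgj⟩ := (Nat.dvd_prime_pow Nat.prime_two).mp hdvd
    rcases Nat.lt_or_ge j n with hlt | hge
    · exfalso
      apply h.z0
      obtain ⟨d, hd⟩ : ∃ d, n - 1 = j + d := ⟨n - 1 - j, by omega⟩
      rw [← hf, hd, pow_add, mul_comm, mul_smul]
      rw [hgj, natCast_zsmul] at hg
      rw [hg, smul_zero]
    · have : j = n := le_antisymm hj hge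
      rw [this] at hgj
      have h2 := Int.gcd_dvd_left k ((2 : ℤ) ^ n)
      rw [hgj] at h2
      exact_mod_cast h2
  · rintro ⟨m, rfl⟩
    rw [mul_comm, mul_smul, hexp, smul_zero]

omit [Finite M] in
theorem fix_aux {f : M} (hXf : X f = f) (hf : (2 ^ (n - 1) : ℕ) • f = z) (j : ℕ) :
    ∀ u, X u = u → (2 ^ j : ℕ) • u = 0 → ∃ k : ℤ, u = k • f := by
  have hn := h.hn
  induction j with
  | zero => intro u _ hu; exact ⟨0, by simpa using hu⟩
  | succ j ih =>
    intro u hXu hu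
    obtain ⟨k, hk⟩ := ih (2 • u) (by rw [map_nsmul, hXu]) (by rw [smul_smul, ← pow_succ]; exact hu)
    have h1 : (2 : ℤ) ^ n ∣ 2 ^ (n - 1) * k := by
      rw [← h.zsmul_eq_zero hf, mul_smul, ← hk]
      have := h.exp u
      rw [← natCast_zsmul] at this
      rw [← natCast_zsmul u 2, smul_smul]
      have e : (2 : ℤ) ^ (n - 1) * ((2 : ℕ) : ℤ) = ((2 ^ n : ℕ) : ℤ) := by
        push_cast
        rw [← pow_succ, Nat.sub_add_cancel hn]
      rw [e]; exact this
    have h2 : (2 : ℤ) ∣ k := by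
      have e : (2 : ℤ) ^ n = 2 ^ (n - 1) * 2 := by rw [← pow_succ, Nat.sub_add_cancel hn]
      rw [e] at h1
      exact Int.dvd_of_mul_dvd_mul_left (by positivity) h1 |> id
    obtain ⟨k', rfl⟩ := h2
    have h3 : 2 • (u - k' • f) = 0 := by
      rw [smul_sub, hk, mul_smul, ← natCast_zsmul (k' • f) 2]
      simp
    rcases h.fixX _ h3 (by rw [map_sub, map_zsmul, hXu, hXf]) with h4 | h4
    · exact ⟨k', sub_eq_zero.mp h4⟩
    · refine ⟨k' + 2 ^ (n - 1), ?_⟩
      rw [add_smul]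
      have : ((2 : ℤ) ^ (n - 1)) • f = z := by
        rw [← hf, ← natCast_zsmul]; push_cast; rfl
      rw [this, ← h4]
      abel

omit [Finite M] in
theorem exists_zsmul {f : M} (hXf : X f = f) (hf : (2 ^ (n - 1) : ℕ) • f = z) {u : M} (hu : X u = u) :
    ∃ k : ℤ, u = k • f :=
  h.fix_aux hXf hf n u hu (h.exp u)

omit [Finite M] in
theorem exists_inv {w : M} (hw : w ≠ 0) : ∃ j : ℕ, (2 ^ j : ℕ) • w ≠ 0 ∧ 2 • ((2 ^ j : ℕ) • w) = 0 := by
  by_contra hcon
  push Not at hcon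
  have : ∀ j : ℕ, (2 ^ j : ℕ) • w ≠ 0 := by
    intro j
    induction j with
    | zero => simpa using hw
    | succ j ih => rw [pow_succ', mul_smul]; exact hcon j ih
  exact this n (h.exp w)

omit [Finite M] in
theorem lam_z : lam X z = z := by
  rw [lam_apply, h.Xz, h.Xz]
  have := h.z2
  rw [two_smul] at this
  rw [this, zero_add]

omit [Finite M] in
/-- the fixed points of `V` are fixed by `X` -/
theorem X_of_fixV {u : M} (h1 : R1 u = u) (h2 : R2 u = u) : X u = u := by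
  by_contra hne
  have hw : u - X u ≠ 0 := fun h0 => hne (sub_eq_zero.mp h0).symm
  have h3 : R3 u = u := by rw [← h.R12, h2, h1]
  obtain ⟨j, hj, hj2⟩ := h.exists_inv hw
  have f1 : R1 (u - X u) = u - X u := by rw [map_sub, h1, ← h.XR3, h3]
  have f2 : R2 (u - X u) = u - X u := by rw [map_sub, h2, ← h.XR1, h1]
  rcases h.fixV _ hj2 (by rw [map_nsmul, f1]) (by rw [map_nsmul, f2]) with h4 | h4
  · exact hj h4
  · apply h.z0
    rw [← h.lam_z, ← h4, map_nsmul, map_sub, h.lam_X, sub_self, smul_zero]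

/-- the norm -/
def nu (R1 R2 R3 : M →+ M) : M →+ M := AddMonoidHom.id M + R1 + R2 + R3

omit [Finite M] h in
theorem nu_apply (m : M) : nu R1 R2 R3 m = m + R1 m + R2 m + R3 m := rfl

omit [Finite M] in
theorem nu_R1 (m : M) : nu R1 R2 R3 (R1 m) = nu R1 R2 R3 m := by
  rw [nu_apply, nu_apply, h.R11, h.R21, h.R31]; abel

omit [Finite M] in
theorem R1_nu (m : M) : R1 (nu R1 R2 R3 m) = nu R1 R2 R3 m := by
  rw [nu_apply, map_add, map_add, map_add, h.R11, h.R12, h.R13]; abel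

omit [Finite M] in
theorem R2_nu (m : M) : R2 (nu R1 R2 R3 m) = nu R1 R2 R3 m := by
  rw [nu_apply, map_add, map_add, map_add, h.R21, h.R22, h.R23]; abel

omit [Finite M] in
theorem nu_X (m : M) : nu R1 R2 R3 (X m) = nu R1 R2 R3 m := by
  rw [← h.X_of_fixV (h.R1_nu m) (h.R2_nu m), nu_apply, nu_apply, map_add, map_add, map_add, h.XR1, h.XR2, h.XR3]
  abel

theorem exists_dec (m : M) : ∃ m' m'', nu R1 R2 R3 m' = 0 ∧ m = m' + 2 • m'' := by
  obtain ⟨f, hXf, hf⟩ := h.exists_f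
  obtain ⟨k, hk⟩ := h.exists_zsmul hXf hf (h.X_lam m)
  obtain ⟨a, ha, ha1⟩ := h.ne1
  obtain ⟨m1, hm1⟩ := h.exists_half a ha
  obtain ⟨m2, hm2⟩ := h.exists_two (f - (m1 - R1 m1)) (by
    rw [smul_sub, smul_sub, hf, ← map_nsmul, hm1, ha1]
    have := h.neg_z
    have e : a - (a + z) = -z := by abel
    rw [e, this, sub_self])
  refine ⟨k • (m1 - R1 m1) + (m - X m) + (m - X (X m)), k • m2 - m, ?_, ?_⟩
  · rw [map_add, map_add, map_zsmul, map_sub, map_sub, map_sub, h.nu_R1, h.nu_X, h.nu_X, h.nu_X]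
    simp
  · have h3 : lam X m = k • (m1 - R1 m1) + 2 • (k • m2) := by
      rw [hk, smul_comm 2 k m2, ← smul_add, ← hm2]
      congr 1
      abel
    rw [lam_apply] at h3
    have h4 : m = (m + X m + X (X m)) + (m - X m) + (m - X (X m)) - 2 • m := by
      rw [two_smul]; abel
    calc m = (m + X m + X (X m)) + (m - X m) + (m - X (X m)) - 2 • m := h4
      _ = _ := by rw [h3, smul_sub]; abel

/-- the norm vanishes -/
theorem nu_eq_zero (m : M) : nu R1 R2 R3 m = 0 := by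
  have key : ∀ j : ℕ, ∀ m : M, ∃ m', nu R1 R2 R3 m = (2 ^ j : ℕ) • nu R1 R2 R3 m' := by
    intro j
    induction j with
    | zero => intro m; exact ⟨m, by simp⟩
    | succ j ih =>
      intro m
      obtain ⟨m', hm'⟩ := ih m
      obtain ⟨a, b, ha, hb⟩ := h.exists_dec m'
      refine ⟨b, ?_⟩
      rw [hm', hb, map_add, ha, zero_add, map_nsmul, smul_smul, ← pow_succ]
  obtain ⟨m', hm'⟩ := key n m
  rw [hm', h.exp]

theorem lam_R3 (m : M) : lam X (R3 m) = -(lam X m + lam X (R1 m) + lam X (R2 m)) := by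
  have h1 := congrArg (lam X) (h.nu_eq_zero m)
  rw [nu_apply, map_add, map_add, map_add, map_zero] at h1
  rw [eq_neg_iff_add_eq_zero, add_comm]
  exact h1

omit [Finite M] in
/-- the coordinates are injective -/
theorem eq_zero_of_lam {m : M} (h0 : lam X m = 0) (h1 : lam X (R1 m) = 0) (h2 : lam X (R2 m) = 0) : m = 0 := by
  by_contra hm
  obtain ⟨j, hj, hj2⟩ := h.exists_inv hm
  set a := (2 ^ j : ℕ) • m with ha
  have l0 : lam X a = 0 := by rw [ha, map_nsmul, h0, smul_zero]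
  have l1 : lam X (R1 a) = 0 := by rw [ha, map_nsmul, map_nsmul, h1, smul_zero]
  have l2 : lam X (R2 a) = 0 := by rw [ha, map_nsmul, map_nsmul, h2, smul_zero]
  have r1 : R1 a = a := by
    rcases h.tr1 a hj2 with h5 | h5
    · exact h5
    · exfalso
      rw [h5, map_add, l0, zero_add, h.lam_z] at l1
      exact h.z0 l1
  have r2 : R2 a = a := by
    rcases h.tr2 a hj2 with h5 | h5
    · exact h5
    · exfalso
      rw [h5, map_add, l0, zero_add, h.lam_z] at l2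
      exact h.z0 l2
  rcases h.fixV a hj2 r1 r2 with h5 | h5
  · exact hj h5
  · rw [h5, h.lam_z] at l0
    exact h.z0 l0

/-- the coordinates are surjective -/
theorem exists_lam {f : M} (hXf : X f = f) (hf : (2 ^ (n - 1) : ℕ) • f = z) (a b c : ℤ) :
    ∃ m, lam X m = a • f ∧ lam X (R1 m) = b • f ∧ lam X (R2 m) = c • f := by
  let C : AddSubgroup M := AddSubgroup.zmultiples f
  have hmem : ∀ u, X u = u → u ∈ C := by
    intro u hu
    obtain ⟨k, hk⟩ := h.exists_zsmul hXf hf hu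
    exact ⟨k, hk.symm⟩
  let Λ : M → C × C × C := fun m =>
    (⟨lam X m, hmem _ (h.X_lam m)⟩, ⟨lam X (R1 m), hmem _ (h.X_lam _)⟩, ⟨lam X (R2 m), hmem _ (h.X_lam _)⟩)
  have hinj : Function.Injective Λ := by
    intro m m' hmm
    simp only [Λ, Prod.mk.injEq, Subtype.mk.injEq] at hmm
    obtain ⟨e1, e2, e3⟩ := hmm
    rw [← sub_eq_zero]
    apply h.eq_zero_of_lam
    · rw [map_sub, e1, sub_self]
    · rw [map_sub, map_sub, e2, sub_self]
    · rw [map_sub, map_sub, e3, sub_self]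
  have hC : Nat.card C = 2 ^ n := by
    rw [Nat.card_zmultiples]
    apply Nat.dvd_antisymm
    · exact addOrderOf_dvd_of_nsmul_eq_zero (h.exp f)
    · have h1 := addOrderOf_nsmul_eq_zero f
      have h2 : ((addOrderOf f : ℕ) : ℤ) • f = 0 := by rw [natCast_zsmul]; exact h1
      rw [h.zsmul_eq_zero hf] at h2
      exact_mod_cast h2
  have hcard : Nat.card (C × C × C) = Nat.card M := by
    rw [Nat.card_prod, Nat.card_prod, hC, h.card, ← mul_assoc, ← mul_pow, ← mul_pow]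
    norm_num
  have hbij : Function.Bijective Λ := by
    rw [Nat.bijective_iff_injective_and_card]
    exact ⟨hinj, hcard.symm⟩
  obtain ⟨m, hm⟩ := hbij.2 (⟨a • f, ⟨a, rfl⟩⟩, ⟨b • f, ⟨b, rfl⟩⟩, ⟨c • f, ⟨c, rfl⟩⟩)
  simp only [Λ, Prod.mk.injEq] at hm
  exact ⟨m, congrArg Subtype.val hm.1, congrArg Subtype.val hm.2.1, congrArg Subtype.val hm.2.2⟩

end Act

/-- coordinates: `φ a b c` has the four coordinates `a, b, c, -a-b-c`. -/
structure IsCoord {M : Type*} [AddCommGroup M] (n : ℕ) (R1 R2 R3 X s : M →+ M) (φ : ℤ → ℤ → ℤ → M) : Prop where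
  add : ∀ a b c a' b' c', φ a b c + φ a' b' c' = φ (a + a') (b + b') (c + c')
  eq_zero : ∀ a b c, φ a b c = 0 ↔ (2 : ℤ) ^ n ∣ a ∧ (2 : ℤ) ^ n ∣ b ∧ (2 : ℤ) ^ n ∣ c
  surj : ∀ m, ∃ a b c, m = φ a b c
  R1_φ : ∀ a b c, R1 (φ a b c) = φ b a (-a - b - c)
  R2_φ : ∀ a b c, R2 (φ a b c) = φ c (-a - b - c) a
  R3_φ : ∀ a b c, R3 (φ a b c) = φ (-a - b - c) c b
  X_φ : ∀ a b c, X (φ a b c) = φ a (-a - b - c) b
  s_φ : ∀ a b c, s (φ a b c) = φ (-a) (-c) (-b)

namespace Act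

variable {M : Type*} [AddCommGroup M] [Finite M] {n : ℕ} {R1 R2 R3 X s : M →+ M} {z : M}
  (h : Act M n R1 R2 R3 X s z)
include h

/-- everything except the sign of `s`. -/
theorem exists_pre : ∃ φ : ℤ → ℤ → ℤ → M, ∃ ε : ℤ,
    (∀ a b c a' b' c', φ a b c + φ a' b' c' = φ (a + a') (b + b') (c + c')) ∧
    (∀ a b c, φ a b c = 0 ↔ (2 : ℤ) ^ n ∣ a ∧ (2 : ℤ) ^ n ∣ b ∧ (2 : ℤ) ^ n ∣ c) ∧
    (∀ m, ∃ a b c, m = φ a b c) ∧
    (∀ a b c, R1 (φ a b c) = φ b a (-a - b - c)) ∧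
    (∀ a b c, R2 (φ a b c) = φ c (-a - b - c) a) ∧
    (∀ a b c, R3 (φ a b c) = φ (-a - b - c) c b) ∧
    (∀ a b c, X (φ a b c) = φ a (-a - b - c) b) ∧
    (∀ a b c, s (φ a b c) = φ (ε * a) (ε * c) (ε * b)) ∧ ¬ (2 : ℤ) ∣ ε := by
  obtain ⟨f, hXf, hf⟩ := h.exists_f
  choose φ hφ0 hφ1 hφ2 using h.exists_lam hXf hf
  have hφ3 : ∀ a b c, lam X (R3 (φ a b c)) = (-a - b - c) • f := by
    intro a b c
    rw [h.lam_R3, hφ0, hφ1, hφ2, ← add_smul, ← add_smul, ← neg_smul]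
    congr 1; ring
  -- uniqueness
  have huniq : ∀ m m', lam X m = lam X m' → lam X (R1 m) = lam X (R1 m') → lam X (R2 m) = lam X (R2 m') → m = m' := by
    intro m m' e1 e2 e3
    rw [← sub_eq_zero]
    apply h.eq_zero_of_lam
    · rw [map_sub, e1, sub_self]
    · rw [map_sub, map_sub, e2, sub_self]
    · rw [map_sub, map_sub, e3, sub_self]
  obtain ⟨ε, hε⟩ := h.exists_zsmul hXf hf (u := s f) (by
    have h3 : s f = X (X (s f)) := by
      have := h.sX f
      rwa [hXf] at this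
    calc X (s f) = X (X (X (s f))) := by rw [← h3]
      _ = s f := h.XXX _)
  have slam : ∀ m, lam X (s m) = s (lam X m) := by
    intro m
    have e1 : s (X m) = X (X (s m)) := h.sX m
    have e2 : s (X (X m)) = X (s m) := by
      rw [h.sX, h.sX, h.XXX]
    rw [lam_apply, lam_apply, map_add, map_add, e1, e2]
    abel
  refine ⟨φ, ε, ?_, ?_, ?_, ?_, ?_, ?_, ?_, ?_, ?_⟩
  · intro a b c a' b' c'
    apply huniq
    · rw [map_add, hφ0, hφ0, hφ0, add_smul]
    · rw [map_add, map_add, hφ1, hφ1, hφ1, add_smul]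
    · rw [map_add, map_add, hφ2, hφ2, hφ2, add_smul]
  · intro a b c
    rw [← h.zsmul_eq_zero hf, ← h.zsmul_eq_zero hf, ← h.zsmul_eq_zero hf]
    constructor
    · intro h0
      rw [← hφ0 a b c, ← hφ1 a b c, ← hφ2 a b c, h0]
      simp
    · rintro ⟨e1, e2, e3⟩
      apply h.eq_zero_of_lam
      · rw [hφ0, e1]
      · rw [hφ1, e2]
      · rw [hφ2, e3]
  · intro m
    obtain ⟨a, ha⟩ := h.exists_zsmul hXf hf (h.X_lam m)
    obtain ⟨b, hb⟩ := h.exists_zsmul hXf hf (h.X_lam (R1 m))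
    obtain ⟨c, hc⟩ := h.exists_zsmul hXf hf (h.X_lam (R2 m))
    refine ⟨a, b, c, huniq _ _ ?_ ?_ ?_⟩
    · rw [hφ0, ha]
    · rw [hφ1, hb]
    · rw [hφ2, hc]
  · intro a b c
    apply huniq
    · rw [hφ1, hφ0]
    · rw [h.R11, hφ0, hφ1]
    · rw [h.R21, hφ3, hφ2]
  · intro a b c
    apply huniq
    · rw [hφ2, hφ0]
    · rw [h.R12, hφ3, hφ1]
    · rw [h.R22, hφ0, hφ2]
  · intro a b c
    apply huniq
    · rw [hφ3, hφ0]
    · rw [h.R13, hφ2, hφ1]
    · rw [h.R23, hφ1, hφ2]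
  · intro a b c
    apply huniq
    · rw [h.lam_X, hφ0, hφ0]
    · rw [← h.XR3, h.lam_X, hφ3, hφ1]
    · rw [← h.XR1, h.lam_X, hφ1, hφ2]
  · intro a b c
    apply huniq
    · rw [slam, hφ0, hφ0, map_zsmul, hε, smul_smul, mul_comm]
    · rw [← h.sR2, slam, hφ2, hφ1, map_zsmul, hε, smul_smul, mul_comm]
    · rw [← h.sR1, slam, hφ1, hφ2, map_zsmul, hε, smul_smul, mul_comm]
  · rintro ⟨k, rfl⟩
    apply h.z0
    have h1 : s z = (2 ^ (n - 1) : ℕ) • (s f) := by rw [← map_nsmul, hf]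
    rw [h.sz, hε, smul_comm, hf, mul_smul] at h1
    rw [h1, smul_comm]
    have := h.z2
    rw [← natCast_zsmul] at this
    have e : (2 : ℤ) • z = 0 := by exact_mod_cast this
    rw [e, smul_zero]

/-- **Coordinates.** `K` is an automorphism which conjugates `R3` to `s`. -/
theorem exists_coord (K : M → M) (hK0 : K 0 = 0) (hKadd : ∀ a b, K (a + b) = K a + K b) (hKsurj : Function.Surjective K)
    (hK : ∀ m, K (R3 m) = s (K m)) : ∃ φ : ℤ → ℤ → ℤ → M, IsCoord n R1 R2 R3 X s φ := by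
  obtain ⟨φ, ε, hadd, hzero, hsurj, hR1, hR2, hR3, hX, hs, hε⟩ := h.exists_pre
  have hn := h.hn
  have hKinj : Function.Injective K := Finite.injective_iff_surjective.mpr hKsurj
  have hpow : (2 : ℤ) ^ n = 2 ^ (n - 1) * 2 := by rw [← pow_succ, Nat.sub_add_cancel hn]
  have hnsmul : ∀ (k : ℕ) a b c, k • φ a b c = φ (k * a) (k * b) (k * c) := by
    intro k
    induction k with
    | zero => intro a b c; rw [zero_smul, eq_comm, hzero]; simp
    | succ k ih =>
      intro a b c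
      rw [add_smul, one_smul, ih, hadd]
      push_cast
      congr 1 <;> ring
  have hcongr : ∀ a b c a' b' c', (2 : ℤ) ^ n ∣ a - a' → (2 : ℤ) ^ n ∣ b - b' → (2 : ℤ) ^ n ∣ c - c' →
      φ a b c = φ a' b' c' := by
    intro a b c a' b' c' h1 h2 h3
    have : φ a b c = φ (a - a') (b - b') (c - c') + φ a' b' c' := by
      rw [hadd]; congr 1 <;> ring
    rw [this, (hzero _ _ _).mpr ⟨h1, h2, h3⟩, zero_add]
  -- `1 + R3`
  have hP : ∀ m', 2 • (m' + R3 m') = 0 → m' + R3 m' = 0 ∨ m' + R3 m' = φ (-2 ^ (n - 1)) (2 ^ (n - 1)) (2 ^ (n - 1)) := by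
    intro m' hm'
    obtain ⟨a, b, c, rfl⟩ := hsurj m'
    rw [hR3, hadd, hnsmul, hzero] at hm'
    rw [hR3, hadd]
    obtain ⟨_, h2, _⟩ := hm'
    obtain ⟨j, hj⟩ := h2
    rw [hpow] at hj
    have hj' : b + c = 2 ^ (n - 1) * j := by
      push_cast at hj
      linarith
    rcases Int.even_or_odd' j with ⟨i, hi | hi⟩
    · left
      rw [hzero, hpow]
      refine ⟨⟨-i, ?_⟩, ⟨i, ?_⟩, ⟨i, ?_⟩⟩
      · have : a + (-a - b - c) = -(b + c) := by ring
        rw [this, hj', hi]; ring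
      · rw [hj', hi]; ring
      · have : c + b = b + c := by ring
        rw [this, hj', hi]; ring
    · right
      apply hcongr
      · refine ⟨-i, ?_⟩
        have : a + (-a - b - c) - -2 ^ (n - 1) = -(b + c) + 2 ^ (n - 1) := by ring
        rw [this, hj', hi, hpow]; ring
      · refine ⟨i, ?_⟩
        rw [hj', hi, hpow]; ring
      · refine ⟨i, ?_⟩
        have : c + b = b + c := by ring
        rw [this, hj', hi, hpow]; ring
  have hPs : ∀ m t, t = m + s m → 2 • t = 0 → t ≠ 0 →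
      t = K (φ (-2 ^ (n - 1)) (2 ^ (n - 1)) (2 ^ (n - 1))) := by
    intro m t ht ht2 ht0
    obtain ⟨m', rfl⟩ := hKsurj m
    rw [← hK, ← hKadd] at ht
    have h2 : 2 • (m' + R3 m') = 0 := by
      apply hKinj
      rw [hK0, two_smul, hKadd, ← ht, ← two_smul ℕ, ht2]
    rcases hP m' h2 with h3 | h3
    · rw [h3, hK0] at ht
      exact absurd ht ht0
    · rw [ht, h3]
  have hdiv : (2 : ℤ) ^ n ∣ 1 + ε := by
    by_contra hcon
    have hw : φ (1 + ε) 0 0 ≠ 0 := by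
      intro h0
      rw [hzero] at h0
      exact hcon h0.1
    obtain ⟨j, hj, hj2⟩ := h.exists_inv hw
    have e1 := hPs ((2 ^ j : ℕ) • φ 1 0 0) ((2 ^ j : ℕ) • φ (1 + ε) 0 0) (by
      rw [map_nsmul, hs, ← smul_add, hadd]
      simp) hj2 hj
    have e2 := hPs ((2 ^ (n - 1) : ℕ) • φ 1 (-1) 0) ((2 ^ (n - 1) : ℕ) • φ (1 + ε) (-1) (-ε)) (by
      rw [map_nsmul, hs, ← smul_add, hadd]
      simp) (by
      rw [smul_smul, hnsmul, hzero]
      push_cast
      rw [← pow_succ', Nat.sub_add_cancel hn]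
      exact ⟨dvd_mul_right _ _, dvd_mul_right _ _, dvd_mul_right _ _⟩) (by
      intro h0
      rw [hnsmul, hzero] at h0
      obtain ⟨_, h2, _⟩ := h0
      rw [hpow] at h2
      push_cast at h2
      rw [mul_dvd_mul_iff_left (by positivity)] at h2
      omega)
    have e3 : (2 ^ j : ℕ) • φ (1 + ε) 0 0 = (2 ^ (n - 1) : ℕ) • φ (1 + ε) (-1) (-ε) := e1.trans e2.symm
    rw [hnsmul, hnsmul] at e3
    have e4 : φ (((2 ^ (n - 1) : ℕ) : ℤ) * (1 + ε) - ((2 ^ j : ℕ) : ℤ) * (1 + ε)) (((2 ^ (n - 1) : ℕ) : ℤ) * (-1))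
        (((2 ^ (n - 1) : ℕ) : ℤ) * (-ε)) = 0 := by
      have e5 : φ (((2 ^ (n - 1) : ℕ) : ℤ) * (1 + ε) - ((2 ^ j : ℕ) : ℤ) * (1 + ε)) (((2 ^ (n - 1) : ℕ) : ℤ) * (-1))
        (((2 ^ (n - 1) : ℕ) : ℤ) * (-ε)) + φ (((2 ^ j : ℕ) : ℤ) * (1 + ε)) (((2 ^ j : ℕ) : ℤ) * 0) (((2 ^ j : ℕ) : ℤ) * 0) =
          φ (((2 ^ (n - 1) : ℕ) : ℤ) * (1 + ε)) (((2 ^ (n - 1) : ℕ) : ℤ) * (-1)) (((2 ^ (n - 1) : ℕ) : ℤ) * (-ε)) := by
        rw [hadd]; congr 1 <;> ring
      rw [e3] at e5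
      exact add_eq_right.mp e5
    rw [hzero] at e4
    obtain ⟨_, h2, _⟩ := e4
    rw [hpow] at h2
    push_cast at h2
    rw [mul_dvd_mul_iff_left (by positivity)] at h2
    omega
  refine ⟨φ, hadd, hzero, hsurj, hR1, hR2, hR3, hX, ?_⟩
  intro a b c
  rw [hs]
  apply hcongr
  · have : ε * a - -a = (1 + ε) * a := by ring
    rw [this]; exact Dvd.dvd.mul_right hdiv _
  · have : ε * c - -c = (1 + ε) * c := by ring
    rw [this]; exact Dvd.dvd.mul_right hdiv _
  · have : ε * b - -b = (1 + ε) * b := by ring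
    rw [this]; exact Dvd.dvd.mul_right hdiv _

end Act

end Cfsg.Agent.ONType.Coord
end

-- part: ONType/Rel
section
/-!
# O'Nan type groups: the relations of the Sylow 2-subgroup

`T` homocyclic of rank 3 and exponent `2^n`, in coordinates `τ a b c` (`a, b, c, -a-b-c` are the four coordinates, modulo
`2^n`), `x1, x2, x3` a four-group acting by the regular permutations of the coordinates, `s` an involution which acts by
`(y0,y1,y2,y3) ↦ -(y0,y2,y1,y3)` and satisfies `s x3 s = τ 1 0 0 * x3`.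
-/

set_option autoImplicit false

namespace Cfsg.Agent.ONType.Rel

/-- The relations of `S`. -/
structure Rel {G : Type*} [Group G] (n : ℕ) (T : Subgroup G) (τ : ℤ → ℤ → ℤ → G) (x1 x2 x3 s : G) : Prop where
  mul : ∀ a b c a' b' c', τ a b c * τ a' b' c' = τ (a + a') (b + b') (c + c')
  one : ∀ a b c, τ a b c = 1 ↔ (2 : ℤ) ^ n ∣ a ∧ (2 : ℤ) ^ n ∣ b ∧ (2 : ℤ) ^ n ∣ c
  mem : ∀ g, g ∈ T ↔ ∃ a b c, g = τ a b c
  x1x1 : x1 * x1 = 1
  x2x2 : x2 * x2 = 1
  x3x3 : x3 * x3 = 1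
  x12 : x1 * x2 = x3
  x23 : x2 * x3 = x1
  x31 : x3 * x1 = x2
  x1τ : ∀ a b c, x1 * τ a b c = τ b a (-a - b - c) * x1
  x2τ : ∀ a b c, x2 * τ a b c = τ c (-a - b - c) a * x2
  x3τ : ∀ a b c, x3 * τ a b c = τ (-a - b - c) c b * x3
  ss : s * s = 1
  sτ : ∀ a b c, s * τ a b c = τ (-a) (-c) (-b) * s
  sx1 : s * x1 = τ 1 0 (-1) * x2 * s
  sx2 : s * x2 = τ 1 (-1) 0 * x1 * s
  sx3 : s * x3 = τ 1 0 0 * x3 * s
  /-- the eight cosets of `T` are different -/
  cos : ∀ a b c, τ a b c ≠ x1 ∧ τ a b c ≠ x2 ∧ τ a b c ≠ x3 ∧ τ a b c ≠ s ∧ τ a b c ≠ x1 * s ∧ τ a b c ≠ x2 * s ∧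
    τ a b c ≠ x3 * s

/-- representatives of the cosets of `T` in `S` -/
def Rep {G : Type*} [Group G] (x1 x2 x3 s w : G) : Prop :=
  w = 1 ∨ w = x1 ∨ w = x2 ∨ w = x3 ∨ w = s ∨ w = x1 * s ∨ w = x2 * s ∨ w = x3 * s

/-- `S = T ⟨x1, x2, x3, s⟩` in coordinates. -/
structure RelS {G : Type*} [Group G] (n : ℕ) (T S : Subgroup G) (τ : ℤ → ℤ → ℤ → G) (x1 x2 x3 s : G) : Prop
    extends Rel n T τ x1 x2 x3 s where
  memS : ∀ g, g ∈ S ↔ ∃ a b c w, Rep x1 x2 x3 s w ∧ g = τ a b c * w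

end Cfsg.Agent.ONType.Rel
end

-- part: ONType/Span
section
/-!
# Elementary abelian subgroups of order 8: independent triples
-/

set_option autoImplicit false

namespace Cfsg.Agent.ONType.Span

open Subgroup

variable {G : Type*} [Group G]

/-- `a, b, c` are independent -/
def Indep (a b c : G) : Prop :=
  a ≠ 1 ∧ b ≠ 1 ∧ b ≠ a ∧ c ≠ 1 ∧ c ≠ a ∧ c ≠ b ∧ c ≠ a * b

/-- the Klein group `{1, a, b, ab}` -/
def four (a b : G) (ha : a * a = 1) (hb : b * b = 1) (hab : a * b = b * a) : Subgroup G where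
  carrier := {x | x = 1 ∨ x = a ∨ x = b ∨ x = a * b}
  one_mem' := Or.inl rfl
  mul_mem' := by
    have e1 : a * (a * b) = b := by rw [← mul_assoc, ha, one_mul]
    have e2 : b * (a * b) = a := by rw [hab, ← mul_assoc, hb, one_mul]
    have e3 : a * b * a = b := by rw [hab, mul_assoc, ha, mul_one]
    have e4 : a * b * b = a := by rw [mul_assoc, hb, mul_one]
    have e5 : a * b * (a * b) = 1 := by rw [mul_assoc, e2, ha]
    rintro x y (rfl | rfl | rfl | rfl) (rfl | rfl | rfl | rfl)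
    all_goals first
      | (left; simp [ha, hb, e5]; done)
      | (right; left; simp [e2, e4]; done)
      | (right; right; left; simp [e1, e3]; done)
      | (right; right; right; simp [hab]; done)
  inv_mem' := by
    have ia : a⁻¹ = a := inv_eq_of_mul_eq_one_left ha
    have ib : b⁻¹ = b := inv_eq_of_mul_eq_one_left hb
    rintro x (rfl | rfl | rfl | rfl)
    · left; exact inv_one
    · right; left; exact ia
    · right; right; left; exact ib
    · right; right; right; rw [mul_inv_rev, ia, ib, hab]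

theorem mem_four {a b : G} (ha : a * a = 1) (hb : b * b = 1) (hab : a * b = b * a) {x : G} :
    x ∈ four a b ha hb hab ↔ x = 1 ∨ x = a ∨ x = b ∨ x = a * b := Iff.rfl

theorem card_four {a b : G} (ha : a * a = 1) (hb : b * b = 1) (hab : a * b = b * a)
    (h1 : a ≠ 1) (h2 : b ≠ 1) (h3 : b ≠ a) : Nat.card (four a b ha hb hab) = 4 := by
  have hs : ((four a b ha hb hab : Subgroup G) : Set G) = {1, a, b, a * b} := by
    ext x
    simp only [SetLike.mem_coe, mem_four, Set.mem_insert_iff, Set.mem_singleton_iff]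
  have : Nat.card (four a b ha hb hab) = ((four a b ha hb hab : Subgroup G) : Set G).ncard := rfl
  rw [this, hs, Set.ncard_insert_of_notMem, Set.ncard_insert_of_notMem, Set.ncard_pair]
  · intro h
    exact h1 (by rwa [right_eq_mul] at h)
  · simp only [Set.mem_insert_iff, Set.mem_singleton_iff, not_or]
    refine ⟨fun h => h3 h.symm, fun h => h2 (by rwa [left_eq_mul] at h)⟩
  · simp only [Set.mem_insert_iff, Set.mem_singleton_iff, not_or]
    refine ⟨fun h => h1 h.symm, fun h => h2 h.symm, fun h => h3 ?_⟩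
    exact mul_left_cancel (h.symm.trans ha.symm)

/-- the elements of an elementary abelian group of order (at most) 8 -/
theorem span [Finite G] {A : Subgroup G} (hA : Nat.card A ≤ 8) (hsq : ∀ x ∈ A, x * x = 1) {a b c : G} (ha : a ∈ A) (hb : b ∈ A)
    (hc : c ∈ A) (hI : Indep a b c) {t : G} (ht : t ∈ A) :
    (t = 1 ∨ t = a ∨ t = b ∨ t = a * b) ∨ (t = c ∨ t = a * c ∨ t = b * c ∨ t = a * b * c) := by
  obtain ⟨h1, h2, h3, h4, h5, h6, h7⟩ := hI
  have hcomm : ∀ x ∈ A, ∀ y ∈ A, x * y = y * x := by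
    intro x hx y hy
    have h := hsq _ (mul_mem hx hy)
    calc x * y = x * (x * y * (x * y)) * y := by rw [h, mul_one]
      _ = (x * x) * (y * x) * (y * y) := by group
      _ = y * x := by rw [hsq x hx, hsq y hy, one_mul, mul_one]
  have hab := hcomm a ha b hb
  set F := four a b (hsq a ha) (hsq b hb) hab with hF
  have hFA : F ≤ A := by
    intro x hx
    rw [hF, mem_four] at hx
    rcases hx with rfl | rfl | rfl | rfl
    · exact one_mem _
    · exact ha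
    · exact hb
    · exact mul_mem ha hb
  have hF4 : Nat.card F = 4 := card_four _ _ _ h1 h2 h3
  have hcF : c ∉ F := by
    rw [hF, mem_four]
    push Not
    exact ⟨h4, h5, h6, h7⟩
  by_cases htF : t ∈ F
  · left
    rwa [hF, mem_four] at htF
  · right
    -- index
    have hidx : (F.subgroupOf A).index = 2 := by
      have h8 : Nat.card (F.subgroupOf A) = 4 := by
        rw [← hF4]; exact Nat.card_congr (subgroupOfEquivOfLe hFA).toEquiv
      have h9 := (F.subgroupOf A).card_mul_index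
      rw [h8] at h9
      have h10 : (F.subgroupOf A).index ≠ 1 := by
        intro h
        rw [index_eq_one] at h
        have : (⟨c, hc⟩ : A) ∈ F.subgroupOf A := h ▸ mem_top _
        exact hcF this
      have h11 : (F.subgroupOf A).index ≠ 0 := index_ne_zero_of_finite
      omega
    have h12 : (⟨t, ht⟩ : A) * ⟨c, hc⟩ ∈ F.subgroupOf A := by
      rw [mul_mem_iff_of_index_two hidx]
      constructor
      · intro h; exact absurd h htF
      · intro h; exact absurd h hcF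
    have h13 : t * c ∈ F := h12
    rw [hF, mem_four] at h13
    have hcc := hsq c hc
    have e : ∀ u, t * c = u → t = u * c := by
      intro u hu
      rw [← hu, mul_assoc, hcc, mul_one]
    rcases h13 with h | h | h | h
    · left; rw [e _ h, one_mul]
    · right; left; exact e _ h
    · right; right; left; exact e _ h
    · right; right; right; exact e _ h

end Cfsg.Agent.ONType.Span
end

-- part: ONType/Ext
section
/-!
# O'Nan type groups: the extension of the homocyclic group by `S4`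

`Γ` is a finite group, `T` a normal homocyclic subgroup of rank 3 and exponent `2^n`, self-centralising, every
automorphism of `A = Ω₁(T)` is induced by `Γ`, there is an involution outside `T` and there is no elementary abelian
subgroup of order 16.  Then the relations `Rel` hold for suitable elements.
-/

set_option autoImplicit false
set_option linter.unusedSectionVars false
set_option linter.unusedVariables false

namespace Cfsg.Agent.ONType.Ext

open Subgroup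
open scoped IsMulCommutative
open Cfsg.Agent.ONType.Coord Cfsg.Agent.ONType.Rel Cfsg.Agent.ONType.Span

/-- The hypotheses. -/
structure Hyp {Γ : Type*} [Group Γ] (T : Subgroup Γ) (n : ℕ) : Prop where
  hn : 1 ≤ n
  card : Nat.card T = 8 ^ n
  exp : ∀ t ∈ T, t ^ (2 ^ n) = 1
  eight : Nat.card {t : Γ // t ∈ T ∧ t * t = 1} ≤ 8
  faith : ∀ g : Γ, (∀ t ∈ T, t * t = 1 → g * t = t * g) → g ∈ T
  full : ∀ a b c a' b' c' : Γ, a ∈ T → a * a = 1 → b ∈ T → b * b = 1 → c ∈ T → c * c = 1 →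
    a' ∈ T → a' * a' = 1 → b' ∈ T → b' * b' = 1 → c' ∈ T → c' * c' = 1 → Indep a b c → Indep a' b' c' →
    ∃ g : Γ, g * a * g⁻¹ = a' ∧ g * b * g⁻¹ = b' ∧ g * c * g⁻¹ = c'
  inv : ∃ y : Γ, y ∉ T ∧ y * y = 1
  no16 : ∀ E : Subgroup Γ, (∀ x ∈ E, x * x = 1) → Nat.card E ≤ 8

section

variable {Γ : Type*} [Group Γ] (T : Subgroup Γ) [T.Normal] [IsMulCommutative T]

/-- conjugation on `T` -/
noncomputable def act (g : Γ) : Additive T →+ Additive T :=
  MonoidHom.toAdditive (MulAut.conjNormal g : T ≃* T).toMonoidHom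

variable {T}

theorem coe_act (g : Γ) (t : Additive T) : (((act T g t).toMul : T) : Γ) = g * ((t.toMul : T) : Γ) * g⁻¹ := rfl

theorem act_mul (g h : Γ) (t : Additive T) : act T (g * h) t = act T g (act T h t) := by
  apply Additive.toMul.injective
  apply Subtype.ext
  rw [coe_act, coe_act, coe_act]
  group

theorem act_one (t : Additive T) : act T (1 : Γ) t = t := by
  apply Additive.toMul.injective
  apply Subtype.ext
  rw [coe_act]
  simp

theorem act_of_mem {g : Γ} (hg : g ∈ T) (t : Additive T) : act T g t = t := by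
  apply Additive.toMul.injective
  apply Subtype.ext
  rw [coe_act]
  have := setLike_mul_comm hg (t.toMul).2
  rw [this, mul_inv_cancel_right]

/-- `A = Ω₁(T)` -/
def om (T : Subgroup Γ) [IsMulCommutative T] : Subgroup Γ where
  carrier := {t | t ∈ T ∧ t * t = 1}
  one_mem' := ⟨one_mem _, one_mul _⟩
  mul_mem' := by
    rintro a b ⟨ha, ha2⟩ ⟨hb, hb2⟩
    refine ⟨mul_mem ha hb, ?_⟩
    have hab : b * a = a * b := setLike_mul_comm hb ha
    calc a * b * (a * b) = a * (b * a) * b := by group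
      _ = (a * a) * (b * b) := by rw [hab]; group
      _ = 1 := by rw [ha2, hb2, one_mul]
  inv_mem' := by
    rintro a ⟨ha, ha2⟩
    refine ⟨inv_mem ha, ?_⟩
    rw [← mul_inv_rev, ha2, inv_one]

theorem mem_om {t : Γ} : t ∈ om T ↔ t ∈ T ∧ t * t = 1 := Iff.rfl

end

namespace Hyp

variable {Γ : Type*} [Group Γ] {T : Subgroup Γ} [T.Normal] [IsMulCommutative T] {n : ℕ} (h : Hyp T n)
include h

/-- elements which agree on `A` agree on `T` -/
theorem agree {g k : Γ} (hgk : ∀ t ∈ T, t * t = 1 → g * t * g⁻¹ = k * t * k⁻¹) (t : Additive T) : act T g t = act T k t := by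
  have h1 : k⁻¹ * g ∈ T := by
    apply h.faith
    intro t ht ht2
    have := hgk t ht ht2
    have e : k⁻¹ * (g * t * g⁻¹) * g = k⁻¹ * (k * t * k⁻¹) * g := by rw [this]
    calc k⁻¹ * g * t = k⁻¹ * (g * t * g⁻¹) * g := by group
      _ = k⁻¹ * (k * t * k⁻¹) * g := e
      _ = t * (k⁻¹ * g) := by group
  have e : g = k * (k⁻¹ * g) := by group
  rw [e, act_mul, act_of_mem h1]

variable [Finite Γ]

theorem card_om : Nat.card (om T) ≤ 8 := h.eight

theorem span {a b c : Γ} (ha : a ∈ om T) (hb : b ∈ om T) (hc : c ∈ om T) (hI : Indep a b c) {t : Γ} (ht : t ∈ om T) :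
    (t = 1 ∨ t = a ∨ t = b ∨ t = a * b) ∨ (t = c ∨ t = a * c ∨ t = b * c ∨ t = a * b * c) :=
  Span.span h.card_om (fun _ hx => hx.2) ha hb hc hI ht

/-- agreement on a basis -/
theorem agree_basis {a b c : Γ} (ha : a ∈ om T) (hb : b ∈ om T) (hc : c ∈ om T) (hI : Indep a b c) {g k : Γ}
    (h1 : g * a * g⁻¹ = k * a * k⁻¹) (h2 : g * b * g⁻¹ = k * b * k⁻¹) (h3 : g * c * g⁻¹ = k * c * k⁻¹) (t : Additive T) :
    act T g t = act T k t := by
  apply h.agree
  intro u hu hu2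
  have key : ∀ x y : Γ, g * x * g⁻¹ = k * x * k⁻¹ → g * y * g⁻¹ = k * y * k⁻¹ →
      g * (x * y) * g⁻¹ = k * (x * y) * k⁻¹ := by
    intro x y hx hy
    calc g * (x * y) * g⁻¹ = (g * x * g⁻¹) * (g * y * g⁻¹) := by group
      _ = (k * x * k⁻¹) * (k * y * k⁻¹) := by rw [hx, hy]
      _ = k * (x * y) * k⁻¹ := by group
  rcases h.span ha hb hc hI (t := u) ⟨hu, hu2⟩ with (rfl | rfl | rfl | rfl) | (rfl | rfl | rfl | rfl)
  · simp
  · exact h1
  · exact h2
  · exact key _ _ h1 h2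
  · exact h3
  · exact key _ _ h1 h3
  · exact key _ _ h2 h3
  · exact key _ _ (key _ _ h1 h2) h3

theorem card_om_eq : Nat.card (om T) = 8 := by
  have hn := h.hn
  have h1 : Nat.card (pw (Additive T) 1).ker = Nat.card (om T) := by
    refine Nat.card_congr
      { toFun := fun x => ⟨((x : Additive T).toMul : T), ?_⟩
        invFun := fun x => ⟨Additive.ofMul ⟨x.1, x.2.1⟩, ?_⟩
        left_inv := fun x => rfl
        right_inv := fun x => rfl }
    · refine ⟨((x : Additive T).toMul).2, ?_⟩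
      have := x.2
      rw [AddMonoidHom.mem_ker, pw_apply, pow_one, two_smul] at this
      exact congrArg (fun u : Additive T => ((u.toMul : T) : Γ)) this
    · rw [AddMonoidHom.mem_ker, pw_apply, pow_one, two_smul]
      apply Additive.toMul.injective
      apply Subtype.ext
      exact x.2.2
  have hcard : Nat.card (Additive T) = 8 ^ n := h.card
  have hle := h.card_om
  have hexp : ∀ m : Additive T, (2 ^ n : ℕ) • m = 0 := by
    intro m
    apply Additive.toMul.injective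
    apply Subtype.ext
    have := h.exp _ (m.toMul).2
    rw [toMul_nsmul]
    exact this
  obtain ⟨k, rfl⟩ : ∃ k, n = k + 1 := ⟨n - 1, by omega⟩
  have hk := card_ker_le (M := Additive T) (by rw [h1]; exact hle) k
  have h2 : Nat.card (Additive T) = Nat.card (pw (Additive T) k).ker * Nat.card (pw (Additive T) k).range := by
    rw [← Nat.card_congr (QuotientAddGroup.quotientKerEquivRange (pw (Additive T) k)).toEquiv, mul_comm]
    exact AddSubgroup.card_eq_card_quotient_mul_card_addSubgroup _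
  have hle3 : (pw (Additive T) k).range ≤ (pw (Additive T) 1).ker := by
    rintro _ ⟨m, rfl⟩
    rw [AddMonoidHom.mem_ker, pw_apply, pow_one, pw_apply, smul_smul, ← pow_succ']
    exact hexp m
  have hr := AddSubgroup.card_le_of_le hle3
  rw [h1] at hr
  rw [hcard, pow_succ] at h2
  have h8k : 0 < 8 ^ k := by positivity
  have : 8 ^ k * 8 ≤ 8 ^ k * Nat.card (om T) := by
    rw [h2]; exact Nat.mul_le_mul hk hr
  have := Nat.le_of_mul_le_mul_left this h8k
  omega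

/-- basis through a given element -/
theorem exists_basis {z : Γ} (hz : z ∈ om T) (hz1 : z ≠ 1) : ∃ a b, a ∈ om T ∧ b ∈ om T ∧ Indep a b z := by
  have hsq : ∀ x ∈ om T, x * x = 1 := fun x hx => hx.2
  have hc : Nat.card (om T) = ((om T : Subgroup Γ) : Set Γ).ncard := rfl
  have hex1 : ∃ a ∈ om T, a ∉ ({1, z} : Set Γ) := by
    by_contra hcon
    push Not at hcon
    have h1 : ((om T : Subgroup Γ) : Set Γ) ⊆ {1, z} := hcon
    have h2 := Set.ncard_le_ncard h1 (Set.toFinite _)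
    have h3 := Set.ncard_insert_le (1 : Γ) {z}
    rw [Set.ncard_singleton] at h3
    have := h.card_om_eq
    omega
  obtain ⟨a, ha, ha'⟩ := hex1
  have hex2 : ∃ b ∈ om T, b ∉ ({1, z, a, a * z} : Set Γ) := by
    by_contra hcon
    push Not at hcon
    have h1 : ((om T : Subgroup Γ) : Set Γ) ⊆ {1, z, a, a * z} := hcon
    have h2 := Set.ncard_le_ncard h1 (Set.toFinite _)
    have h3 := Set.ncard_insert_le (1 : Γ) {z, a, a * z}
    have h4 := Set.ncard_insert_le (z : Γ) {a, a * z}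
    have h5 := Set.ncard_insert_le (a : Γ) {a * z}
    rw [Set.ncard_singleton] at h5
    have := h.card_om_eq
    omega
  obtain ⟨b, hb, hb'⟩ := hex2
  simp only [Set.mem_insert_iff, Set.mem_singleton_iff, not_or] at ha' hb'
  refine ⟨a, b, ha, hb, ha'.1, hb'.1, hb'.2.2.1, hz1, fun e => ha'.2 e.symm, fun e => hb'.2.1 e.symm, ?_⟩
  intro e
  apply hb'.2.2.2
  rw [e, ← mul_assoc, hsq a ha, one_mul]

theorem exists_x3 {z a1 a2 : Γ} (hz : z ∈ om T) (h1 : a1 ∈ om T) (h2 : a2 ∈ om T) (hI : Indep a1 a2 z) :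
    ∃ x : Γ, x * x = 1 ∧ x * a1 * x⁻¹ = a1 * z ∧ x * a2 * x⁻¹ = a2 * z ∧ x * z * x⁻¹ = z := by
  obtain ⟨y, hyT, hyy⟩ := h.inv
  have hsq : ∀ x ∈ om T, x * x = 1 := fun x hx => hx.2
  have hcomm : ∀ x ∈ om T, ∀ y ∈ om T, x * y = y * x := fun x hx y hy => setLike_mul_comm hx.1 hy.1
  have hyinv : y⁻¹ = y := inv_eq_of_mul_eq_one_left hyy
  have hyom : ∀ x ∈ om T, y * x * y⁻¹ ∈ om T := by
    intro x hx
    refine ⟨Subgroup.Normal.conj_mem ‹_› x hx.1 y, ?_⟩
    calc y * x * y⁻¹ * (y * x * y⁻¹) = y * (x * x) * y⁻¹ := by group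
      _ = 1 := by rw [hsq x hx]; group
  have hyy' : ∀ x, y * (y * x * y⁻¹) * y⁻¹ = x := by
    intro x
    calc y * (y * x * y⁻¹) * y⁻¹ = (y * y) * x * (y * y)⁻¹ := by group
      _ = x := by rw [hyy]; group
  have hym : ∀ u v, y * (u * v) * y⁻¹ = (y * u * y⁻¹) * (y * v * y⁻¹) := by intro u v; group
  -- a moved element
  obtain ⟨a, ha, hya⟩ : ∃ a ∈ om T, y * a * y⁻¹ ≠ a := by
    by_contra hcon
    push Not at hcon
    apply hyT
    apply h.faith
    intro t ht ht2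
    have := hcon t ⟨ht, ht2⟩
    calc y * t = (y * t * y⁻¹) * y := by group
      _ = t * y := by rw [this]
  set c := a * (y * a * y⁻¹) with hc
  have hcA : c ∈ om T := mul_mem ha (hyom a ha)
  have hc1 : c ≠ 1 := by
    intro e
    apply hya
    have : a * (y * a * y⁻¹) = a * a := by rw [hsq a ha]; exact e
    exact mul_left_cancel this
  have hyac : y * a * y⁻¹ = a * c := by
    rw [hc, ← mul_assoc, hsq a ha, one_mul]
  have hyc : y * c * y⁻¹ = c := by
    rw [hc, hym, hyy', hcomm _ (hyom a ha) _ ha]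
  have ha1 : a ≠ 1 := by rintro rfl; apply hya; simp
  have hac : a ≠ c := by
    intro e; apply hya; rw [e]; exact hyc
  -- a fixed element outside `⟨c⟩`
  obtain ⟨b, hb, hyb, hb1, hbc⟩ : ∃ b ∈ om T, y * b * y⁻¹ = b ∧ b ≠ 1 ∧ b ≠ c := by
    obtain ⟨b0, hb0, hb0'⟩ : ∃ b0 ∈ om T, b0 ∉ ({1, a, c, a * c} : Set Γ) := by
      by_contra hcon
      push Not at hcon
      have h1 : ((om T : Subgroup Γ) : Set Γ) ⊆ {1, a, c, a * c} := hcon
      have h2 := Set.ncard_le_ncard h1 (Set.toFinite _)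
      have h3 := Set.ncard_insert_le (1 : Γ) {a, c, a * c}
      have h4 := Set.ncard_insert_le (a : Γ) {c, a * c}
      have h5 := Set.ncard_insert_le (c : Γ) {a * c}
      rw [Set.ncard_singleton] at h5
      have := h.card_om_eq
      have hc : Nat.card (om T) = ((om T : Subgroup Γ) : Set Γ).ncard := rfl
      omega
    simp only [Set.mem_insert_iff, Set.mem_singleton_iff, not_or] at hb0'
    by_cases hf : y * b0 * y⁻¹ = b0
    · exact ⟨b0, hb0, hf, hb0'.1, hb0'.2.2.1⟩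
    · set c' := b0 * (y * b0 * y⁻¹) with hc'
      have hc'A : c' ∈ om T := mul_mem hb0 (hyom b0 hb0)
      have hyb0 : y * b0 * y⁻¹ = b0 * c' := by rw [hc', ← mul_assoc, hsq b0 hb0, one_mul]
      by_cases hcc : c' = c
      · refine ⟨a * b0, mul_mem ha hb0, ?_, ?_, ?_⟩
        · rw [hym, hyac, hyb0, hcc]
          calc a * c * (b0 * c) = a * b0 * (c * c) := by
                rw [mul_assoc a c, ← mul_assoc c b0 c, hcomm c hcA b0 hb0]; group
            _ = a * b0 := by rw [hsq c hcA, mul_one]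
        · intro e
          apply hb0'.2.1
          have : a * b0 = a * a := by rw [e, hsq a ha]
          exact mul_left_cancel this
        · intro e
          apply hb0'.2.2.2
          rw [← e, ← mul_assoc, hsq a ha, one_mul]
      · refine ⟨c', hc'A, ?_, ?_, hcc⟩
        · rw [hc', hym, hyy', hcomm _ (hyom b0 hb0) _ hb0]
        · intro e
          apply hf
          have : b0 * (y * b0 * y⁻¹) = b0 * b0 := by rw [hsq b0 hb0]; exact e
          exact mul_left_cancel this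
  have hab : b ≠ a := by rintro rfl; exact hya hyb
  have hIabc : Indep a b c := by
    refine ⟨ha1, hb1, hab, hc1, fun e => hac e.symm, fun e => hbc e.symm, ?_⟩
    intro e
    apply hya
    -- `a = c * b` is fixed
    have ea : a = c * b := by rw [e, mul_assoc, hsq b hb, mul_one]
    rw [ea, hym, hyc, hyb]
  have hI' : Indep a1 (a1 * a2) z := by
    obtain ⟨i1, i2, i3, i4, i5, i6, i7⟩ := hI
    refine ⟨i1, ?_, ?_, i4, i5, i7, ?_⟩
    · intro e
      apply i3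
      have : a1 * a2 = a1 * a1 := by rw [e, hsq a1 h1]
      exact mul_left_cancel this
    · intro e
      exact i2 (by rwa [mul_eq_left] at e)
    · intro e
      apply i6
      rw [e, ← mul_assoc, hsq a1 h1, one_mul]
  obtain ⟨g, hga, hgb, hgc⟩ := h.full a b c a1 (a1 * a2) z ha.1 ha.2 hb.1 hb.2 hcA.1 hcA.2 h1.1 h1.2
    (mul_mem h1 h2).1 (mul_mem h1 h2).2 hz.1 hz.2 hIabc hI'
  have key : ∀ u v : Γ, y * u * y⁻¹ = v → (g * y * g⁻¹) * (g * u * g⁻¹) * (g * y * g⁻¹)⁻¹ = g * v * g⁻¹ := by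
    intro u v huv
    rw [← huv]; group
  refine ⟨g * y * g⁻¹, ?_, ?_, ?_, ?_⟩
  · calc g * y * g⁻¹ * (g * y * g⁻¹) = g * (y * y) * g⁻¹ := by group
      _ = 1 := by rw [hyy]; group
  · have := key a (a * c) hyac
    rw [hga] at this
    rw [this]
    calc g * (a * c) * g⁻¹ = (g * a * g⁻¹) * (g * c * g⁻¹) := by group
      _ = a1 * z := by rw [hga, hgc]
  · have e : a2 = g * (a * b) * g⁻¹ := by
      calc a2 = a1 * (a1 * a2) := by rw [← mul_assoc, hsq a1 h1, one_mul]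
        _ = (g * a * g⁻¹) * (g * b * g⁻¹) := by rw [hga, hgb]
        _ = g * (a * b) * g⁻¹ := by group
    have hyab : y * (a * b) * y⁻¹ = (a * b) * c := by
      have hcb := hcomm c hcA b hb
      calc y * (a * b) * y⁻¹ = (y * a * y⁻¹) * (y * b * y⁻¹) := hym _ _
        _ = a * (c * b) := by rw [hyac, hyb, mul_assoc]
        _ = a * b * c := by rw [hcb, mul_assoc]
    have := key (a * b) (a * b * c) hyab
    rw [← e] at this
    rw [this]
    calc g * (a * b * c) * g⁻¹ = (g * (a * b) * g⁻¹) * (g * c * g⁻¹) := by group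
      _ = a2 * z := by rw [← e, hgc]
  · have := key c c hyc
    rwa [hgc] at this

end Hyp

end Cfsg.Agent.ONType.Ext
end

-- part: ONType/ExtPre
section
/-!
# O'Nan type groups: the extension, step 1

Coordinates and elements which induce the stabiliser of `z`.
-/

set_option autoImplicit false
set_option linter.unusedSectionVars false
set_option linter.unusedVariables false
set_option linter.unusedSimpArgs false
set_option linter.unusedTactic false
set_option linter.unreachableTactic false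

namespace Cfsg.Agent.ONType.ExtPre

open Subgroup
open scoped IsMulCommutative
open Cfsg.Agent.ONType.Coord Cfsg.Agent.ONType.Rel Cfsg.Agent.ONType.Span Cfsg.Agent.ONType.Ext

/-- Coordinates and the action. -/
structure Pre {Γ : Type*} [Group Γ] (T : Subgroup Γ) (n : ℕ) (z : Γ) (τ : ℤ → ℤ → ℤ → Γ) (x3 ξ s k : Γ) : Prop where
  mul : ∀ a b c a' b' c', τ a b c * τ a' b' c' = τ (a + a') (b + b') (c + c')
  one : ∀ a b c, τ a b c = 1 ↔ (2 : ℤ) ^ n ∣ a ∧ (2 : ℤ) ^ n ∣ b ∧ (2 : ℤ) ^ n ∣ c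
  mem : ∀ g, g ∈ T ↔ ∃ a b c, g = τ a b c
  x3x3 : x3 * x3 = 1
  ξξξ : ξ * ξ * ξ = 1
  x3τ : ∀ a b c, x3 * τ a b c = τ (-a - b - c) c b * x3
  ξτ : ∀ a b c, ξ * τ a b c = τ a (-a - b - c) b * ξ
  sτ : ∀ a b c, s * τ a b c = τ (-a) (-c) (-b) * s
  kxτ : ∀ a b c, k * x3 * k⁻¹ * τ a b c = τ (-a) (-c) (-b) * (k * x3 * k⁻¹)
  hz : τ (2 ^ (n - 1)) (2 ^ (n - 1)) (2 ^ (n - 1)) = z

variable {Γ : Type*} [Group Γ] {T : Subgroup Γ} [T.Normal] [IsMulCommutative T] {n : ℕ} (h : Hyp T n) [Finite Γ]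
include h

theorem agree_conj {a b c : Γ} (ha : a ∈ om T) (hb : b ∈ om T) (hc : c ∈ om T) (hI : Indep a b c) {g k : Γ}
    (h1 : MulAut.conj g a = MulAut.conj k a) (h2 : MulAut.conj g b = MulAut.conj k b)
    (h3 : MulAut.conj g c = MulAut.conj k c) (t : Additive T) :
    act T g t = act T k t := h.agree_basis ha hb hc hI h1 h2 h3 t

omit h in
omit [Finite Γ] in
theorem coe_act' (g : Γ) (t : Additive T) : (((act T g t).toMul : T) : Γ) = MulAut.conj g ((t.toMul : T) : Γ) := rfl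

theorem exists_xi {a1 a2 z : Γ} (hz : z ∈ om T) (h1 : a1 ∈ om T) (h2 : a2 ∈ om T) (hI : Indep a1 a2 z) :
    ∃ ξ : Γ, ξ * ξ * ξ = 1 ∧ MulAut.conj ξ a1 = a2 ∧ MulAut.conj ξ a2 = a1 * a2 * z ∧ MulAut.conj ξ z = z := by
  have hsq : ∀ x ∈ om T, x * x = 1 := fun x hx => hx.2
  have hcomm : ∀ x ∈ om T, ∀ y ∈ om T, x * y = y * x := fun x hx y hy => setLike_mul_comm hx.1 hy.1
  have hIξ : Indep a2 (a1 * a2 * z) z := by
    obtain ⟨i1, i2, i3, i4, i5, i6, i7⟩ := hI
    refine ⟨i2, ?_, ?_, i4, i6, ?_, ?_⟩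
    · intro e
      apply i7
      have : a1 * a2 * z = z * z := by rw [e, hsq z hz]
      exact (mul_right_cancel this).symm
    · intro e
      apply i5
      have e2 : a1 * z = 1 := by
        have : a1 * a2 * z = a1 * z * a2 := by rw [mul_assoc, mul_assoc, hcomm a2 h2 z hz]
        rw [this] at e
        exact mul_eq_right.mp e
      have : a1 * z = a1 * a1 := by rw [e2, hsq a1 h1]
      exact mul_left_cancel this
    · intro e
      apply i3
      have e2 : a1 * a2 = 1 := mul_eq_right.mp e.symm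
      have : a1 * a2 = a1 * a1 := by rw [e2, hsq a1 h1]
      exact mul_left_cancel this
    · intro e
      apply i1
      have : a2 * (a1 * a2 * z) = a1 * z := by
        rw [hcomm a1 h1 a2 h2, mul_assoc, ← mul_assoc, hsq a2 h2, one_mul]
      rw [this] at e
      exact mul_eq_right.mp e.symm
  obtain ⟨g, hg1, hg2, hg3⟩ := h.full a1 a2 z a2 (a1 * a2 * z) z h1.1 h1.2 h2.1 h2.2 hz.1 hz.2 h2.1 h2.2
    (mul_mem (mul_mem h1 h2) hz).1 (mul_mem (mul_mem h1 h2) hz).2 hz.1 hz.2 hI hIξ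
  have c1 : MulAut.conj g a1 = a2 := hg1
  have c2 : MulAut.conj g a2 = a1 * a2 * z := hg2
  have c3 : MulAut.conj g z = z := hg3
  -- `g^3` is in `T`
  have r1 : a1 * a1 = 1 := hsq a1 h1
  have r2 : a2 * a2 = 1 := hsq a2 h2
  have r3 : z * z = 1 := hsq z hz
  have r1' : ∀ x, a1 * (a1 * x) = x := fun x => by rw [← mul_assoc, r1, one_mul]
  have r2' : ∀ x, a2 * (a2 * x) = x := fun x => by rw [← mul_assoc, r2, one_mul]
  have r3' : ∀ x, z * (z * x) = x := fun x => by rw [← mul_assoc, r3, one_mul]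
  have q1 : a2 * a1 = a1 * a2 := hcomm _ h2 _ h1
  have q2 : z * a1 = a1 * z := hcomm _ hz _ h1
  have q3 : z * a2 = a2 * z := hcomm _ hz _ h2
  have q1' : ∀ x, a2 * (a1 * x) = a1 * (a2 * x) := fun x => by rw [← mul_assoc, q1, mul_assoc]
  have q2' : ∀ x, z * (a1 * x) = a1 * (z * x) := fun x => by rw [← mul_assoc, q2, mul_assoc]
  have q3' : ∀ x, z * (a2 * x) = a2 * (z * x) := fun x => by rw [← mul_assoc, q3, mul_assoc]
  have hggg : g * g * g ∈ T := by
    apply h.faith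
    have e1 : MulAut.conj (g * g * g) a1 = a1 := by
      simp only [map_mul, MulAut.mul_apply, c1, c2, c3, mul_assoc, r1, r2, r3, r1', r2', r3', q1, q2, q3, q1', q2', q3',
        mul_one, one_mul]
    have e2 : MulAut.conj (g * g * g) a2 = a2 := by
      simp only [map_mul, MulAut.mul_apply, c1, c2, c3, mul_assoc, r1, r2, r3, r1', r2', r3', q1, q2, q3, q1', q2', q3',
        mul_one, one_mul]
    have e3 : MulAut.conj (g * g * g) z = z := by
      simp only [map_mul, MulAut.mul_apply, c3]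
    intro t ht ht2
    have e : MulAut.conj (g * g * g) t = t := by
      rcases h.span h1 h2 hz hI (t := t) ⟨ht, ht2⟩ with (rfl | rfl | rfl | rfl) | (rfl | rfl | rfl | rfl)
      · exact map_one _
      · exact e1
      · exact e2
      · rw [(MulAut.conj (g * g * g)).map_mul, e1, e2]
      · exact e3
      · rw [(MulAut.conj (g * g * g)).map_mul, e1, e3]
      · rw [(MulAut.conj (g * g * g)).map_mul, e2, e3]
      · rw [(MulAut.conj (g * g * g)).map_mul, (MulAut.conj (g * g * g)).map_mul, e1, e2, e3]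
    rw [MulAut.conj_apply] at e
    calc g * g * g * t = (g * g * g * t * (g * g * g)⁻¹) * (g * g * g) := by group
      _ = t * (g * g * g) := by rw [e]
  obtain ⟨j, hj⟩ : ∃ j : ℕ, 4 ^ n = 1 + 3 * j := by
    have : 4 ^ n % 3 = 1 := by
      rw [Nat.pow_mod]; simp
    exact ⟨4 ^ n / 3, by omega⟩
  have hT : (g * g * g) ^ j ∈ T := pow_mem hggg j
  have e3 : g ^ 3 = g * g * g := by rw [pow_succ, pow_two]
  have hξ : g ^ (4 ^ n) = g * (g * g * g) ^ j := by
    rw [hj, pow_add, pow_one, pow_mul, e3]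
  have hact : ∀ t ∈ om T, MulAut.conj (g ^ (4 ^ n)) t = MulAut.conj g t := by
    intro t ht
    rw [hξ, map_mul, MulAut.mul_apply]
    congr 1
    rw [MulAut.conj_apply]
    have := setLike_mul_comm hT ht.1
    rw [this, mul_inv_cancel_right]
  refine ⟨g ^ (4 ^ n), ?_, ?_, ?_, ?_⟩
  · have e4 : g ^ (4 ^ n) * g ^ (4 ^ n) * g ^ (4 ^ n) = ((g * g * g) ^ (2 ^ n)) ^ (2 ^ n) := by
      rw [← pow_mul, ← mul_pow, ← e3, ← pow_mul, ← pow_add, ← pow_add]
      congr 1
      ring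
    rw [e4, h.exp _ hggg, one_pow]
  · rw [hact _ h1, c1]
  · rw [hact _ h2, c2]
  · rw [hact _ hz, c3]

/-- coordinates for given elements -/
theorem exists_coord {a1 a2 z x ξ s k : Γ} (hz : z ∈ om T) (h1 : a1 ∈ om T) (h2 : a2 ∈ om T) (hI : Indep a1 a2 z)
    (X1 : MulAut.conj x a1 = a1 * z) (X2 : MulAut.conj x a2 = a2 * z) (X3 : MulAut.conj x z = z)
    (Y1 : MulAut.conj ξ a1 = a2) (Y2 : MulAut.conj ξ a2 = a1 * a2 * z) (Y3 : MulAut.conj ξ z = z)
    (S1 : MulAut.conj s a1 = a2) (S2 : MulAut.conj s a2 = a1) (S3 : MulAut.conj s z = z)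
    (K1 : MulAut.conj k a1 = a1) (K2 : MulAut.conj k a2 = a1 * z) (K3 : MulAut.conj k z = a1 * a2) :
    ∃ φ : ℤ → ℤ → ℤ → Additive T,
      IsCoord n (act T (ξ * x * (ξ * ξ))) (act T (ξ * ξ * x * ξ)) (act T x) (act T ξ) (act T s) φ ∧
      (∀ m, act T k (act T x m) = act T s (act T k m)) ∧
      φ (2 ^ (n - 1)) (2 ^ (n - 1)) (2 ^ (n - 1)) = Additive.ofMul ⟨z, hz.1⟩ := by
  have hsq : ∀ x ∈ om T, x * x = 1 := fun x hx => hx.2
  have hcomm : ∀ x ∈ om T, ∀ y ∈ om T, x * y = y * x := fun x hx y hy => setLike_mul_comm hx.1 hy.1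
  have r1 : a1 * a1 = 1 := hsq a1 h1
  have r2 : a2 * a2 = 1 := hsq a2 h2
  have r3 : z * z = 1 := hsq z hz
  have r1' : ∀ x, a1 * (a1 * x) = x := fun x => by rw [← mul_assoc, r1, one_mul]
  have r2' : ∀ x, a2 * (a2 * x) = x := fun x => by rw [← mul_assoc, r2, one_mul]
  have r3' : ∀ x, z * (z * x) = x := fun x => by rw [← mul_assoc, r3, one_mul]
  have q1 : a2 * a1 = a1 * a2 := hcomm _ h2 _ h1
  have q2 : z * a1 = a1 * z := hcomm _ hz _ h1
  have q3 : z * a2 = a2 * z := hcomm _ hz _ h2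
  have q1' : ∀ x, a2 * (a1 * x) = a1 * (a2 * x) := fun x => by rw [← mul_assoc, q1, mul_assoc]
  have q2' : ∀ x, z * (a1 * x) = a1 * (z * x) := fun x => by rw [← mul_assoc, q2, mul_assoc]
  have q3' : ∀ x, z * (a2 * x) = a2 * (z * x) := fun x => by rw [← mul_assoc, q3, mul_assoc]
  have hone : ∀ u : Γ, MulAut.conj (1 : Γ) u = u := fun u => by simp
  -- transfer of an identity
  have tr : ∀ g g' : Γ, MulAut.conj g a1 = MulAut.conj g' a1 → MulAut.conj g a2 = MulAut.conj g' a2 →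
      MulAut.conj g z = MulAut.conj g' z → ∀ t, act T g t = act T g' t :=
    fun g g' e1 e2 e3 t => agree_conj h h1 h2 hz hI e1 e2 e3 t
  have two : ∀ m : Additive T, 2 • m = 0 → ((m.toMul : T) : Γ) ∈ om T := by
    intro m hm
    refine ⟨(m.toMul).2, ?_⟩
    rw [two_smul] at hm
    exact congrArg (fun u : Additive T => ((u.toMul : T) : Γ)) hm
  have act_iff : ∀ (g : Γ) (m m' : Additive T), act T g m = m' ↔
      MulAut.conj g ((m.toMul : T) : Γ) = ((m'.toMul : T) : Γ) := by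
    intro g m m'
    rw [← coe_act' ]
    exact ⟨fun e => by rw [e], fun e => Additive.toMul.injective (Subtype.ext e)⟩
  have ex2 : ∀ u, u ∈ om T → u * u = 1 := hsq
  obtain ⟨i1, i2, i3, i4, i5, i6, i7⟩ := id hI
  have inj : ∀ u v : Γ, u * u = 1 → u * v = 1 → v = u := fun u v e e' => mul_left_cancel (e'.trans e.symm)
  have n3 : a1 * a2 ≠ 1 := fun e => i3 (inj _ _ r1 e)
  have n5 : a1 * z ≠ 1 := fun e => i5 (inj _ _ r1 e)
  have n6 : a2 * z ≠ 1 := fun e => i6 (inj _ _ r2 e)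
  have n7 : a1 * (a2 * z) ≠ 1 := by
    intro e
    apply i7
    apply inj (a1 * a2) z (hsq _ (mul_mem h1 h2))
    rw [mul_assoc]; exact e
  have hA : Act (Additive T) n (act T (ξ * x * (ξ * ξ))) (act T (ξ * ξ * x * ξ)) (act T x) (act T ξ) (act T s)
      (Additive.ofMul ⟨z, hz.1⟩) := by
    have hexp : ∀ m : Additive T, (2 ^ n : ℕ) • m = 0 := by
      intro m
      apply Additive.toMul.injective
      apply Subtype.ext
      have := h.exp _ (m.toMul).2
      rw [toMul_nsmul]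
      exact this
    have h8 : Nat.card (pw (Additive T) 1).ker ≤ 8 := by
      refine le_trans (Nat.card_le_card_of_injective (β := om T)
        (fun x : (pw (Additive T) 1).ker => ⟨((x : Additive T).toMul : T), ?_⟩) ?_) h.card_om
      · apply two
        have := x.2
        rw [AddMonoidHom.mem_ker, pw_apply, pow_one] at this
        exact this
      · intro u v huv
        apply Subtype.ext
        apply Additive.toMul.injective
        apply Subtype.ext
        exact congrArg (fun w : om T => (w : Γ)) huv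
    have hz2 : 2 • (Additive.ofMul (⟨z, hz.1⟩ : T)) = 0 := by
      rw [two_smul]
      apply Additive.toMul.injective
      exact Subtype.ext r3
    have hz0 : (Additive.ofMul (⟨z, hz.1⟩ : T)) ≠ 0 := by
      intro e
      exact i4 (congrArg (fun u : Additive T => ((u.toMul : T) : Γ)) e)
    refine ⟨h.hn, h.card, hexp, h8, ?_, ?_, ?_, ?_, ?_, ?_, ?_, ?_, ?_, ?_, ?_, ?_, ?_, ?_, ?_, ?_, ?_, hz2, hz0,
      ?_, ?_, ?_, ?_, ?_, ?_, ?_, ?_, ?_⟩
    case refine_1 | refine_2 | refine_3 | refine_10 =>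
      intro m
      simp only [← act_mul]
      rw [← act_one m, ← act_mul, mul_one]
      apply tr <;>
      simp only [map_mul, MulAut.mul_apply, X1, X2, X3, Y1, Y2, Y3, S1, S2, S3, mul_assoc, r1, r2, r3, r1', r2', r3', q1, q2, q3,
        q1', q2', q3', mul_one, one_mul, map_one, MulAut.one_apply]
    case refine_4 | refine_5 | refine_6 | refine_7 | refine_8 | refine_9 | refine_11 | refine_12 | refine_13 | refine_14 |
        refine_15 | refine_16 | refine_17 =>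
      intro m
      simp only [← act_mul]
      apply tr <;>
      simp only [map_mul, MulAut.mul_apply, X1, X2, X3, Y1, Y2, Y3, S1, S2, S3, mul_assoc, r1, r2, r3, r1', r2', r3', q1, q2, q3,
        q1', q2', q3', mul_one, one_mul, map_one, MulAut.one_apply]
    case refine_18 | refine_19 | refine_20 | refine_21 =>
      rw [act_iff]
      simp only [toMul_ofMul, map_mul, MulAut.mul_apply, X1, X2, X3, Y1, Y2, Y3, S1, S2, S3]
    case refine_22 =>
      intro m hm hm1 hm2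
      rw [act_iff] at hm1 hm2
      have hu := two m hm
      set u : Γ := ((m.toMul : T) : Γ) with hudef
      have e1 : MulAut.conj (ξ * x * (ξ * ξ)) u * u = 1 := by rw [hm1]; exact hsq _ hu
      have e2 : MulAut.conj (ξ * ξ * x * ξ) u * u = 1 := by rw [hm2]; exact hsq _ hu
      have key : u = 1 ∨ u = z := by
        rcases h.span h1 h2 hz hI hu with (e | e | e | e) | (e | e | e | e) <;> rw [e] at e1 e2 ⊢ <;>
        simp only [map_mul, MulAut.mul_apply, X1, X2, X3, Y1, Y2, Y3, S1, S2, S3, mul_assoc, r1, r2, r3, r1', r2', r3',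
          q1, q2, q3, q1', q2', q3', mul_one, one_mul, map_one, MulAut.one_apply, i4, i1, i2, n3, n5, n6, n7, true_or,
          or_true, or_false, false_or] at e1 e2 ⊢
      rcases key with e | e
      · left; exact Additive.toMul.injective (Subtype.ext e)
      · right; exact Additive.toMul.injective (Subtype.ext e)
    case refine_23 =>
      intro m hm hm1
      rw [act_iff] at hm1
      have hu := two m hm
      set u : Γ := ((m.toMul : T) : Γ) with hudef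
      have e1 : MulAut.conj ξ u * u = 1 := by rw [hm1]; exact hsq _ hu
      have key : u = 1 ∨ u = z := by
        rcases h.span h1 h2 hz hI hu with (e | e | e | e) | (e | e | e | e) <;> rw [e] at e1 ⊢ <;>
        simp only [map_mul, MulAut.mul_apply, X1, X2, X3, Y1, Y2, Y3, S1, S2, S3, mul_assoc, r1, r2, r3, r1', r2', r3',
          q1, q2, q3, q1', q2', q3', mul_one, one_mul, map_one, MulAut.one_apply, i4, i1, i2, n3, n5, n6, n7, true_or,
          or_true, or_false, false_or] at e1 ⊢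
      rcases key with e | e
      · left; exact Additive.toMul.injective (Subtype.ext e)
      · right; exact Additive.toMul.injective (Subtype.ext e)
    case refine_24 =>
      intro m hm
      have hu := two m hm
      rw [act_iff, act_iff]
      have e0 : (((m + Additive.ofMul (⟨z, hz.1⟩ : T)).toMul : T) : Γ) = ((m.toMul : T) : Γ) * z := rfl
      rw [e0]
      set u : Γ := ((m.toMul : T) : Γ) with hudef
      rcases h.span h1 h2 hz hI hu with (e | e | e | e) | (e | e | e | e) <;> rw [e] <;>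
        simp only [map_mul, MulAut.mul_apply, X1, X2, X3, Y1, Y2, Y3, S1, S2, S3, mul_assoc, r1, r2, r3, r1', r2', r3',
          q1, q2, q3, q1', q2', q3', mul_one, one_mul, map_one, MulAut.one_apply, true_or, or_true]
    case refine_25 =>
      intro m hm
      have hu := two m hm
      rw [act_iff, act_iff]
      have e0 : (((m + Additive.ofMul (⟨z, hz.1⟩ : T)).toMul : T) : Γ) = ((m.toMul : T) : Γ) * z := rfl
      rw [e0]
      set u : Γ := ((m.toMul : T) : Γ) with hudef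
      rcases h.span h1 h2 hz hI hu with (e | e | e | e) | (e | e | e | e) <;> rw [e] <;>
        simp only [map_mul, MulAut.mul_apply, X1, X2, X3, Y1, Y2, Y3, S1, S2, S3, mul_assoc, r1, r2, r3, r1', r2', r3',
          q1, q2, q3, q1', q2', q3', mul_one, one_mul, map_one, MulAut.one_apply, true_or, or_true]
    case refine_26 =>
      refine ⟨Additive.ofMul ⟨a2, h2.1⟩, ?_, ?_⟩
      · rw [two_smul]
        apply Additive.toMul.injective
        exact Subtype.ext r2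
      · rw [act_iff]
        have e0 : (((Additive.ofMul (⟨a2, h2.1⟩ : T) + Additive.ofMul (⟨z, hz.1⟩ : T)).toMul : T) : Γ) = a2 * z := rfl
        rw [e0]
        simp only [toMul_ofMul, map_mul, MulAut.mul_apply, X1, X2, X3, Y1, Y2, Y3, S1, S2, S3, mul_assoc, r1, r2, r3, r1', r2', r3',
          q1, q2, q3, q1', q2', q3', mul_one, one_mul, map_one, MulAut.one_apply, true_or, or_true]
  have hK : ∀ m, act T k (act T x m) = act T s (act T k m) := by
    intro m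
    simp only [← act_mul]
    apply tr <;>
    simp only [map_mul, MulAut.mul_apply, X1, X2, X3, Y1, Y2, Y3, S1, S2, S3, K1, K2, K3, mul_assoc, r1, r2, r3, r1', r2', r3',
      q1, q2, q3, q1', q2', q3', mul_one, one_mul, map_one, MulAut.one_apply]
  obtain ⟨φ, hφ⟩ := hA.exists_coord (act T k) (map_zero _) (map_add _)
    (fun m => ⟨act T k⁻¹ m, by rw [← act_mul, mul_inv_cancel, act_one]⟩) hK
  refine ⟨φ, hφ, hK, ?_⟩
  have hn := h.hn
  have hpow : (2 : ℤ) ^ n = 2 ^ (n - 1) * 2 := by rw [← pow_succ, Nat.sub_add_cancel hn]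
  have hcongr : ∀ a b c a' b' c', (2 : ℤ) ^ n ∣ a - a' → (2 : ℤ) ^ n ∣ b - b' → (2 : ℤ) ^ n ∣ c - c' →
      φ a b c = φ a' b' c' := by
    intro a b c a' b' c' h1 h2 h3
    have : φ a b c = φ (a - a') (b - b') (c - c') + φ a' b' c' := by
      rw [hφ.add]; congr 1 <;> ring
    rw [this, (hφ.eq_zero _ _ _).mpr ⟨h1, h2, h3⟩, zero_add]
  have d1 : (2 : ℤ) ^ n ∣ 2 ^ (n - 1) - 2 ^ (n - 1) := by rw [sub_self]; exact dvd_zero _
  have d2 : (2 : ℤ) ^ n ∣ -2 ^ (n - 1) - 2 ^ (n - 1) - 2 ^ (n - 1) - 2 ^ (n - 1) :=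
    ⟨-2, by rw [hpow]; ring⟩
  have f1 : 2 • φ (2 ^ (n - 1)) (2 ^ (n - 1)) (2 ^ (n - 1)) = 0 := by
    rw [two_smul, hφ.add, hφ.eq_zero]
    refine ⟨⟨1, ?_⟩, ⟨1, ?_⟩, ⟨1, ?_⟩⟩ <;> rw [hpow] <;> ring
  have f2 : act T (ξ * x * (ξ * ξ)) (φ (2 ^ (n - 1)) (2 ^ (n - 1)) (2 ^ (n - 1))) =
      φ (2 ^ (n - 1)) (2 ^ (n - 1)) (2 ^ (n - 1)) := by
    rw [hφ.R1_φ]
    exact hcongr _ _ _ _ _ _ d1 d1 d2
  have f3 : act T (ξ * ξ * x * ξ) (φ (2 ^ (n - 1)) (2 ^ (n - 1)) (2 ^ (n - 1))) =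
      φ (2 ^ (n - 1)) (2 ^ (n - 1)) (2 ^ (n - 1)) := by
    rw [hφ.R2_φ]
    exact hcongr _ _ _ _ _ _ d1 d2 d1
  rcases hA.fixV _ f1 f2 f3 with e | e
  · exfalso
    have := ((hφ.eq_zero _ _ _).mp e).1
    have h3 := Int.le_of_dvd (by positivity) this
    rw [hpow] at h3
    have : (0 : ℤ) < 2 ^ (n - 1) := by positivity
    omega
  · exact e

/-- **Step 1.** -/
theorem exists_pre {z : Γ} (hz : z ∈ om T) (hz1 : z ≠ 1) :
    ∃ (τ : ℤ → ℤ → ℤ → Γ) (x3 ξ s k : Γ), Pre T n z τ x3 ξ s k := by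
  obtain ⟨a1, a2, h1, h2, hI⟩ := h.exists_basis hz hz1
  obtain ⟨x, xx, X1, X2, X3⟩ := h.exists_x3 hz h1 h2 hI
  obtain ⟨ξ, ξξξ, Y1, Y2, Y3⟩ := exists_xi h hz h1 h2 hI
  have hsq : ∀ x ∈ om T, x * x = 1 := fun x hx => hx.2
  have hcomm : ∀ x ∈ om T, ∀ y ∈ om T, x * y = y * x := fun x hx y hy => setLike_mul_comm hx.1 hy.1
  obtain ⟨i1, i2, i3, i4, i5, i6, i7⟩ := id hI
  have inj : ∀ u v : Γ, u * u = 1 → u * v = 1 → v = u := fun u v e e' => mul_left_cancel (e'.trans e.symm)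
  have hIs : Indep a2 a1 z := by
    refine ⟨i2, i1, i3.symm, i4, i6, i5, ?_⟩
    rw [hcomm a2 h2 a1 h1]; exact i7
  have hIk : Indep a1 (a1 * z) (a1 * a2) := by
    refine ⟨i1, ?_, ?_, ?_, ?_, ?_, ?_⟩
    · intro e; exact i5 (inj _ _ (hsq _ h1) e)
    · intro e; exact i4 (mul_eq_left.mp e)
    · intro e; exact i3 (inj _ _ (hsq _ h1) e)
    · intro e; exact i2 (mul_eq_left.mp e)
    · intro e; exact i6 (mul_left_cancel e).symm
    · rw [← mul_assoc, hsq _ h1, one_mul]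
      intro e; exact i7 e.symm
  obtain ⟨s, S1, S2, S3⟩ := h.full a1 a2 z a2 a1 z h1.1 h1.2 h2.1 h2.2 hz.1 hz.2 h2.1 h2.2 h1.1 h1.2 hz.1 hz.2 hI hIs
  obtain ⟨k, K1, K2, K3⟩ := h.full a1 a2 z a1 (a1 * z) (a1 * a2) h1.1 h1.2 h2.1 h2.2 hz.1 hz.2 h1.1 h1.2
    (mul_mem h1 hz).1 (mul_mem h1 hz).2 (mul_mem h1 h2).1 (mul_mem h1 h2).2 hI hIk
  obtain ⟨φ, hφ, hK, hφz⟩ := exists_coord h hz h1 h2 hI (x := x) (ξ := ξ) (s := s) (k := k) X1 X2 X3 Y1 Y2 Y3 S1 S2 S3 K1 K2 K3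
  have cj : ∀ (g : Γ) (m m' : Additive T), act T g m = m' → g * ((m.toMul : T) : Γ) = ((m'.toMul : T) : Γ) * g := by
    intro g m m' e
    rw [← e, coe_act]
    group
  refine ⟨fun a b c => (((φ a b c).toMul : T) : Γ), x, ξ, s, k, ?_, ?_, ?_, xx, ξξξ, ?_, ?_, ?_, ?_, ?_⟩
  · intro a b c a' b' c'
    rw [← hφ.add]; rfl
  · intro a b c
    rw [← hφ.eq_zero]
    constructor
    · intro e; exact Additive.toMul.injective (Subtype.ext e)
    · intro e; rw [e]; rfl
  · intro g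
    constructor
    · intro hg
      obtain ⟨a, b, c, e⟩ := hφ.surj (Additive.ofMul ⟨g, hg⟩)
      exact ⟨a, b, c, by rw [← e]; rfl⟩
    · rintro ⟨a, b, c, rfl⟩
      exact ((φ a b c).toMul).2
  · intro a b c
    exact cj _ _ _ (hφ.R3_φ a b c)
  · intro a b c
    exact cj _ _ _ (hφ.X_φ a b c)
  · intro a b c
    exact cj _ _ _ (hφ.s_φ a b c)
  · intro a b c
    apply cj
    rw [← hφ.s_φ]
    have := hK (act T k⁻¹ (φ a b c))
    simp only [← act_mul] at this
    rw [show k * (x * k⁻¹) = k * x * k⁻¹ by group, show s * (k * k⁻¹) = s by group] at this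
    exact this
  · -- `z`
    simp only [hφz]
    rfl

end Cfsg.Agent.ONType.ExtPre
end

-- part: ONType/ExtRel
section
/-!
# O'Nan type groups: the extension, steps 2 to 4

The relations.
-/

set_option autoImplicit false
set_option linter.unusedSectionVars false
set_option linter.unusedVariables false
set_option linter.unusedSimpArgs false
set_option linter.unusedTactic false
set_option linter.unreachableTactic false

namespace Cfsg.Agent.ONType.ExtRel

open Subgroup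
open scoped IsMulCommutative
open Cfsg.Agent.ONType.Coord Cfsg.Agent.ONType.Rel Cfsg.Agent.ONType.Span Cfsg.Agent.ONType.Ext Cfsg.Agent.ONType.ExtPre

/-- relations of the element of order 3 -/
structure XiRel {G : Type*} [Group G] (τ : ℤ → ℤ → ℤ → G) (x1 x2 x3 s ξ : G) : Prop where
  ξξξ : ξ * ξ * ξ = 1
  ξτ : ∀ a b c, ξ * τ a b c = τ a (-a - b - c) b * ξ
  ξx3 : ξ * x3 = x1 * ξ
  ξx1 : ξ * x1 = x2 * ξ
  ξx2 : ξ * x2 = x3 * ξ
  sξ : s * ξ = ξ * ξ * s

/-- inverse of 3 modulo `2^n` -/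
theorem exists_third (n : ℕ) (b : ℤ) : ∃ r : ℤ, (2 : ℤ) ^ n ∣ 3 * r - b := by
  have hc : IsCoprime (3 : ℤ) (2 ^ n) := by
    apply IsCoprime.pow_right
    rw [Int.isCoprime_iff_gcd_eq_one]; decide
  obtain ⟨u, v, huv⟩ := hc
  exact ⟨u * b, ⟨-(v * b), by linear_combination b * huv⟩⟩

section

variable {Γ : Type*} [Group Γ] {T : Subgroup Γ} [T.Normal] [IsMulCommutative T] {n : ℕ} {z : Γ} {τ : ℤ → ℤ → ℤ → Γ}
  {x3 ξ s k : Γ} (P : Pre T n z τ x3 ξ s k)
include P

theorem τ_mem (a b c : ℤ) : τ a b c ∈ T := (P.mem _).mpr ⟨a, b, c, rfl⟩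

theorem mulr (a b c a' b' c' : ℤ) (y : Γ) : τ a b c * (τ a' b' c' * y) = τ (a + a') (b + b') (c + c') * y := by
  rw [← mul_assoc, P.mul]

theorem zero : τ 0 0 0 = 1 := (P.one _ _ _).mpr ⟨dvd_zero _, dvd_zero _, dvd_zero _⟩

theorem inv (a b c : ℤ) : (τ a b c)⁻¹ = τ (-a) (-b) (-c) := by
  rw [inv_eq_iff_mul_eq_one, P.mul]
  have : τ (a + -a) (b + -b) (c + -c) = τ 0 0 0 := by congr 1 <;> ring
  rw [this, zero P]

theorem cong {a b c a' b' c' : ℤ} : τ a b c = τ a' b' c' ↔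
    (2 : ℤ) ^ n ∣ a - a' ∧ (2 : ℤ) ^ n ∣ b - b' ∧ (2 : ℤ) ^ n ∣ c - c' := by
  rw [← P.one, ← mul_inv_eq_one, inv P, P.mul]
  simp only [sub_eq_add_neg]

theorem x3τr (a b c : ℤ) (y : Γ) : x3 * (τ a b c * y) = τ (-a - b - c) c b * (x3 * y) := by
  rw [← mul_assoc, P.x3τ, mul_assoc]

theorem ξτr (a b c : ℤ) (y : Γ) : ξ * (τ a b c * y) = τ a (-a - b - c) b * (ξ * y) := by
  rw [← mul_assoc, P.ξτ, mul_assoc]

theorem sτr (a b c : ℤ) (y : Γ) : s * (τ a b c * y) = τ (-a) (-c) (-b) * (s * y) := by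
  rw [← mul_assoc, P.sτ, mul_assoc]

theorem x3r (y : Γ) : x3 * (x3 * y) = y := by rw [← mul_assoc, P.x3x3, one_mul]

theorem ξr (y : Γ) : ξ * (ξ * (ξ * y)) = y := by rw [← mul_assoc, ← mul_assoc, P.ξξξ, one_mul]

theorem ξξ : ξ * (ξ * ξ) = 1 := by rw [← mul_assoc, P.ξξξ]

theorem ξinv : ξ⁻¹ = ξ * ξ := by rw [inv_eq_iff_mul_eq_one, ξξ P]

/-- the action of an element of `TT`: elements of `T` commute -/
theorem comm {t : Γ} (ht : t ∈ T) (a b c : ℤ) : t * τ a b c = τ a b c * t := setLike_mul_comm ht (τ_mem P a b c)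

theorem replace {t : Γ} (ht : t ∈ T) (h2 : t * x3 * (t * x3) = 1) : Pre T n z τ (t * x3) ξ s k where
  mul := P.mul
  one := P.one
  mem := P.mem
  x3x3 := h2
  ξξξ := P.ξξξ
  x3τ := by
    intro a b c
    rw [mul_assoc, P.x3τ, ← mul_assoc, comm P ht, mul_assoc]
  ξτ := P.ξτ
  sτ := P.sτ
  kxτ := by
    intro a b c
    have e : k * (t * x3) * k⁻¹ = (k * t * k⁻¹) * (k * x3 * k⁻¹) := by group
    have hk : k * t * k⁻¹ ∈ T := Subgroup.Normal.conj_mem ‹_› t ht k
    rw [e, mul_assoc, P.kxτ, ← mul_assoc, comm P hk, mul_assoc]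
  hz := P.hz

theorem replace_s {t : Γ} (ht : t ∈ T) : Pre T n z τ x3 ξ (t * s) k where
  mul := P.mul
  one := P.one
  mem := P.mem
  x3x3 := P.x3x3
  ξξξ := P.ξξξ
  x3τ := P.x3τ
  ξτ := P.ξτ
  sτ := by
    intro a b c
    rw [mul_assoc, P.sτ, ← mul_assoc, comm P ht, mul_assoc]
  kxτ := P.kxτ
  hz := P.hz

/-- **Step 2.** -/
theorem step2 (triv : ∀ g, (∀ a b c, g * τ a b c = τ a b c * g) → g ∈ T) :
    ∃ x3' : Γ, Pre T n z τ x3' ξ s k ∧ x3' * (ξ * x3' * (ξ * ξ)) * (ξ * ξ * x3' * ξ) = 1 := by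
  have hp : x3 * (ξ * x3 * (ξ * ξ)) * (ξ * ξ * x3 * ξ) ∈ T := by
    apply triv
    intro a b c
    simp only [mul_assoc, P.x3τ, P.ξτ, x3τr P, ξτr P, ← comm P (τ_mem P a b c)]
    congr 1
    congr 1 <;> ring
  obtain ⟨a, b, c, hp⟩ := (P.mem _).mp hp
  have e1 : x3 * τ a b c * x3 = ξ * τ a b c * (ξ * ξ) := by
    rw [← hp]
    simp only [mul_assoc, x3r P, ξr P, ξξ P, mul_one, P.x3x3]
  have e2 : τ (-a - b - c) c b = τ a (-a - b - c) b := by
    have : τ (-a - b - c) c b * (x3 * x3) = τ a (-a - b - c) b * (ξ * (ξ * ξ)) := by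
      simp only [mul_assoc, P.x3τ, P.ξτ, x3τr P, ξτr P] at e1
      exact e1
    rwa [P.x3x3, ξξ P, mul_one, mul_one] at this
  rw [cong P] at e2
  obtain ⟨d1, d2, -⟩ := e2
  have hinv : τ 0 a (-a) * x3 * (τ 0 a (-a) * x3) = 1 := by
    simp only [mul_assoc, x3τr P, mulr P, P.x3x3, mul_one, P.mul]
    rw [P.one]
    refine ⟨⟨0, by ring⟩, ⟨0, by ring⟩, ⟨0, by ring⟩⟩
  refine ⟨τ 0 a (-a) * x3, replace P (τ_mem P _ _ _) hinv, ?_⟩
  have e3 : τ 0 a (-a) * x3 * (ξ * (τ 0 a (-a) * x3) * (ξ * ξ)) * (ξ * ξ * (τ 0 a (-a) * x3) * ξ) =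
      τ (-a) (3 * a) (-a) * (x3 * (ξ * x3 * (ξ * ξ)) * (ξ * ξ * x3 * ξ)) := by
    simp only [mul_assoc, P.x3τ, P.ξτ, x3τr P, ξτr P, mulr P]
    congr 1
    congr 1 <;> ring
  rw [e3, hp, P.mul, P.one]
  obtain ⟨u, hu⟩ := d1
  obtain ⟨v, hv⟩ := d2
  exact ⟨⟨0, by ring⟩, ⟨-2 * u - v, by linear_combination (-2) * hu - hv⟩, ⟨u + v, by linear_combination hu + hv⟩⟩

/-- **Step 3.** -/
theorem step3 (triv : ∀ g, (∀ a b c, g * τ a b c = τ a b c * g) → g ∈ T) :
    ∃ s' : Γ, Pre T n z τ x3 ξ s' k ∧ s' * ξ = ξ * ξ * s' ∧ s' * s' = 1 := by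
  have hinv := ξinv P
  have ht : s * ξ * s⁻¹ * ξ ∈ T := by
    apply triv
    intro a b c
    have hs' : ∀ a b c, s⁻¹ * τ a b c = τ (-a) (-c) (-b) * s⁻¹ := by
      intro a b c
      rw [inv_mul_eq_iff_eq_mul, ← mul_assoc, P.sτ, mul_assoc, mul_inv_cancel, mul_one]
      congr 1 <;> ring
    have hs'' : ∀ a b c y, s⁻¹ * (τ a b c * y) = τ (-a) (-c) (-b) * (s⁻¹ * y) := by
      intro a b c y
      rw [← mul_assoc, hs', mul_assoc]
    simp only [mul_assoc, P.ξτ, ξτr P, P.sτ, sτr P, hs', hs'', ← comm P (τ_mem P a b c)]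
    congr 1
    congr 1 <;> ring
  obtain ⟨a, b, c, ht⟩ := (P.mem _).mp ht
  -- `s ξ s⁻¹ = t ξ⁻¹`
  have e1 : s * ξ = τ a b c * (ξ * ξ) * s := by
    rw [← ht]
    calc s * ξ = s * ξ * s⁻¹ * (ξ * (ξ * ξ)) * s := by rw [ξξ P]; group
      _ = s * ξ * s⁻¹ * ξ * (ξ * ξ) * s := by group
  -- the cube
  have e2 : τ (a + a + a) (-a) (-a) = 1 := by
    have h1 : (s * ξ * s⁻¹) * (s * ξ * s⁻¹) * (s * ξ * s⁻¹) = 1 := by
      calc (s * ξ * s⁻¹) * (s * ξ * s⁻¹) * (s * ξ * s⁻¹) = s * (ξ * ξ * ξ) * s⁻¹ := by group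
        _ = 1 := by rw [P.ξξξ]; group
    have h2 : s * ξ * s⁻¹ = τ a b c * (ξ * ξ) := by rw [e1]; group
    rw [h2] at h1
    simp only [mul_assoc, P.ξτ, ξτr P, mulr P, ξξ P, ξr P, mul_one, P.mul] at h1
    rw [← h1]
    congr 1 <;> ring
  rw [P.one] at e2
  obtain ⟨-, ⟨u, hu⟩, -⟩ := e2
  obtain ⟨r, ⟨v, hv⟩⟩ := exists_third n (b - c)
  set s0 := τ 0 (r - b) r * s with hs0
  have P0 : Pre T n z τ x3 ξ s0 k := replace_s P (τ_mem P _ _ _)
  have e3 : s0 * ξ = ξ * ξ * s0 := by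
    rw [hs0, mul_assoc, e1]
    simp only [mul_assoc, P.ξτ, ξτr P, mulr P, ξξ P, ξr P, mul_one]
    congr 1
    rw [cong P]
    refine ⟨⟨-u, ?_⟩, ⟨0 * v, ?_⟩, ⟨v, ?_⟩⟩
    · linear_combination -hu
    · ring
    · linear_combination hv
  clear_value s0
  -- the square
  have hq : s0 * s0 ∈ T := by
    apply triv
    intro a b c
    simp only [mul_assoc, P0.sτ, sτr P0, ← comm P (τ_mem P a b c)]
    congr 1
    congr 1 <;> ring
  obtain ⟨a', b', c', hq⟩ := (P.mem _).mp hq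
  have f1 : 2 ^ n ∣ a' + 3 * b' ∧ (2 : ℤ) ^ n ∣ c' - b' := by
    have g1 : ξ * (s0 * s0) = (s0 * s0) * ξ := by
      have g0 : s0 * (ξ * ξ) = ξ * s0 := by
        rw [← mul_assoc, e3, mul_assoc, e3, ← mul_assoc, ← mul_assoc, mul_assoc (ξ * ξ) ξ ξ]
        have : ξ * ξ * (ξ * ξ) = ξ := by rw [← mul_assoc, P.ξξξ, one_mul]
        rw [this]
      rw [← mul_assoc, ← g0, mul_assoc, ← e3, mul_assoc]
    rw [hq, P.ξτ] at g1
    have g2 := mul_right_cancel g1
    rw [cong P] at g2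
    obtain ⟨-, ⟨u1, h1⟩, ⟨u2, h2⟩⟩ := g2
    exact ⟨⟨-u1 + u2, by linear_combination -h1 + h2⟩, ⟨-u2, by linear_combination -h2⟩⟩
  have f2 : (2 : ℤ) ^ n ∣ b' + c' := by
    have g1 : s0 * (s0 * s0) = (s0 * s0) * s0 := by rw [mul_assoc]
    rw [hq, P0.sτ] at g1
    have g2 := mul_right_cancel g1
    rw [cong P] at g2
    obtain ⟨-, ⟨u1, h1⟩, -⟩ := g2
    exact ⟨-u1, by linear_combination -h1⟩
  -- the involution `k x3 k⁻¹`
  have f3 : (2 : ℤ) ^ n ∣ a' := by
    have hmem : k * x3 * k⁻¹ * s0 ∈ T := by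
      apply triv
      intro a b c
      have := P.kxτ (-a) (-c) (-b)
      rw [mul_assoc (k * x3 * k⁻¹), P0.sτ, ← mul_assoc, this]
      simp only [neg_neg, mul_assoc]
    obtain ⟨a, b, c, hy⟩ := (P.mem _).mp hmem
    have g1 : (k * x3 * k⁻¹) * (k * x3 * k⁻¹) = 1 := by
      calc (k * x3 * k⁻¹) * (k * x3 * k⁻¹) = k * (x3 * x3) * k⁻¹ := by group
        _ = 1 := by rw [P.x3x3]; group
    have g2 : τ a b c * s0⁻¹ = k * x3 * k⁻¹ := by rw [← hy]; group
    rw [← g2] at g1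
    have g3 : s0⁻¹ * τ a b c * s0 = τ (-a) (-c) (-b) := by
      rw [mul_assoc, inv_mul_eq_iff_eq_mul, P0.sτ]
      congr 1
      congr 1 <;> ring
    have g4 : τ a b c * τ (-a) (-c) (-b) = s0 * s0 := by
      rw [← g3]
      calc τ a b c * (s0⁻¹ * τ a b c * s0) = (τ a b c * s0⁻¹ * (τ a b c * s0⁻¹)) * (s0 * s0) := by group
        _ = s0 * s0 := by rw [g1, one_mul]
    rw [P.mul, hq, cong P] at g4
    obtain ⟨⟨u1, h1⟩, -, -⟩ := g4
    exact ⟨-u1, by linear_combination -h1⟩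
  refine ⟨s0, P0, e3, ?_⟩
  rw [hq, P.one]
  have f4 : (2 : ℤ) ^ n ∣ b' := by
    have hc : IsCoprime ((2 : ℤ) ^ n) 3 := by
      apply IsCoprime.pow_left
      rw [Int.isCoprime_iff_gcd_eq_one]; decide
    have : (2 : ℤ) ^ n ∣ 3 * b' := by
      have := dvd_sub f1.1 f3
      rwa [add_sub_cancel_left] at this
    exact hc.dvd_of_dvd_mul_left this
  refine ⟨f3, f4, ?_⟩
  have := dvd_add f1.2 f4
  rwa [sub_add_cancel] at this

/-- **Step 4.** -/
theorem step4 (triv : ∀ g, (∀ a b c, g * τ a b c = τ a b c * g) → g ∈ T)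
    (hK : ∀ y, x3 * (ξ * (x3 * y)) = ξ * (ξ * (x3 * (ξ * (ξ * y)))))
    (hsξ : s * ξ = ξ * ξ * s) (hss : s * s = 1) : ∃ p, s * x3 * s * x3 = τ p 0 0 := by
  have hssr : ∀ y, s * (s * y) = y := fun y => by rw [← mul_assoc, hss, one_mul]
  have hsξr : ∀ y, s * (ξ * y) = ξ * (ξ * (s * y)) := fun y => by rw [← mul_assoc, hsξ, mul_assoc, mul_assoc]
  have hsξ' : s * ξ = ξ * (ξ * s) := by rw [hsξ, mul_assoc]
  have hd : s * x3 * s * x3 ∈ T := by
    apply triv
    intro a b c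
    simp only [mul_assoc, P.sτ, sτr P, P.x3τ, x3τr P, ← comm P (τ_mem P a b c)]
    congr 1
    congr 1 <;> ring
  obtain ⟨p, q, r, hd⟩ := (P.mem _).mp hd
  have hsx : s * x3 = τ p q r * (x3 * s) := by
    rw [← hd]
    simp only [mul_assoc, x3r P, hss, mul_one]
  have hsxr : ∀ y, s * (x3 * y) = τ p q r * (x3 * (s * y)) := fun y => by rw [← mul_assoc, hsx, mul_assoc, mul_assoc]
  have c1 : (2 : ℤ) ^ n ∣ q + r := by
    have h1 : s * (x3 * x3) = s := by rw [P.x3x3, mul_one]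
    simp only [hsx, hsxr, P.x3τ, x3τr P, mulr P, mul_assoc, x3r P] at h1
    rw [mul_eq_right, P.one] at h1
    obtain ⟨-, h2, -⟩ := h1
    exact h2
  have c2 : (2 : ℤ) ^ n ∣ r := by
    -- `s x3 (ξ ξ) = ...` and the cube
    have h0 : x3 * (ξ * (x3 * (ξ * (x3 * ξ)))) = 1 := by
      rw [hK]
      simp only [ξr P, x3r P, ξξ P]
    have h1 : s * (x3 * (ξ * (x3 * (ξ * (x3 * ξ))))) = s := by rw [h0, mul_one]
    simp only [hsx, hsxr, hsξr, hsξ', P.x3τ, x3τr P, mulr P, mul_assoc, x3r P, P.ξτ, ξτr P] at h1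
    have h2 : x3 * (ξ * (ξ * (x3 * (ξ * (ξ * (x3 * (ξ * (ξ * s)))))))) = s := by
      rw [← hK (x3 * (ξ * (ξ * s)))]
      simp only [x3r P, ξr P]
    rw [h2, mul_eq_right, P.one] at h1
    obtain ⟨⟨v, hv⟩, -, -⟩ := h1
    exact ⟨-v, by linear_combination -hv⟩
  refine ⟨p, ?_⟩
  rw [hd, cong P]
  refine ⟨⟨0, by ring⟩, ?_, ?_⟩
  · rw [sub_zero]
    exact (Int.dvd_iff_dvd_of_dvd_add c1).mpr c2
  · rw [sub_zero]; exact c2

theorem mkRel (hn : 1 ≤ n) (hK : ∀ y, x3 * (ξ * (x3 * y)) = ξ * (ξ * (x3 * (ξ * (ξ * y)))))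
    (hsξ : s * ξ = ξ * ξ * s) (hss : s * s = 1) (hd : s * x3 * s * x3 = τ 1 0 0) :
    Rel n T τ (ξ * x3 * (ξ * ξ)) (ξ * ξ * x3 * ξ) x3 s ∧ XiRel τ (ξ * x3 * (ξ * ξ)) (ξ * ξ * x3 * ξ) x3 s ξ := by
  have hssr : ∀ y, s * (s * y) = y := fun y => by rw [← mul_assoc, hss, one_mul]
  have hsξr : ∀ y, s * (ξ * y) = ξ * (ξ * (s * y)) := fun y => by rw [← mul_assoc, hsξ, mul_assoc, mul_assoc]
  have hsξ' : s * ξ = ξ * (ξ * s) := by rw [hsξ, mul_assoc]
  have hsx : s * x3 = τ 1 0 0 * (x3 * s) := by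
    rw [← hd]
    simp only [mul_assoc, x3r P, hss, mul_one]
  have hsxr : ∀ y, s * (x3 * y) = τ 1 0 0 * (x3 * (s * y)) := fun y => by rw [← mul_assoc, hsx, mul_assoc, mul_assoc]
  have hK1 : x3 * (ξ * x3) = ξ * (ξ * (x3 * (ξ * ξ))) := by
    have := hK 1
    simpa only [mul_one] using this
  have x1τ : ∀ a b c, (ξ * x3 * (ξ * ξ)) * τ a b c = τ b a (-a - b - c) * (ξ * x3 * (ξ * ξ)) := by
    intro a b c
    simp only [mul_assoc, P.ξτ, ξτr P, P.x3τ, x3τr P]
    congr 1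
    congr 1 <;> ring
  have x2τ : ∀ a b c, (ξ * ξ * x3 * ξ) * τ a b c = τ c (-a - b - c) a * (ξ * ξ * x3 * ξ) := by
    intro a b c
    simp only [mul_assoc, P.ξτ, ξτr P, P.x3τ, x3τr P]
    congr 1
    congr 1 <;> ring
  have hpow : ¬ (2 : ℤ) ^ n ∣ 1 := by
    intro hdvd
    have h2 : (2 : ℤ) ∣ 1 := dvd_trans (dvd_pow_self 2 (by omega)) hdvd
    omega
  -- an element which moves something is not in `T`
  have ncos : ∀ w : Γ, (∃ u ∈ T, ∃ v ∈ T, w * u = v * w ∧ v ≠ u) → ∀ a b c, τ a b c ≠ w := by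
    rintro w ⟨u, hu, v, hv, huv, hne⟩ a b c e
    apply hne
    have hw : w ∈ T := by rw [← e]; exact τ_mem P _ _ _
    rw [setLike_mul_comm hw hu] at huv
    exact (mul_right_cancel huv).symm
  have hne1 : ∀ a b c a' b' c' : ℤ, (a - a' = 1 ∨ b - b' = 1 ∨ c - c' = 1 ∨ a - a' = -1 ∨ b - b' = -1 ∨ c - c' = -1) →
      τ a b c ≠ τ a' b' c' := by
    intro a b c a' b' c' hh e
    rw [cong P] at e
    obtain ⟨e1, e2, e3⟩ := e
    rcases hh with hh | hh | hh | hh | hh | hh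
    · rw [hh] at e1; exact hpow e1
    · rw [hh] at e2; exact hpow e2
    · rw [hh] at e3; exact hpow e3
    · rw [hh, dvd_neg] at e1; exact hpow e1
    · rw [hh, dvd_neg] at e2; exact hpow e2
    · rw [hh, dvd_neg] at e3; exact hpow e3
  refine ⟨⟨P.mul, P.one, P.mem, ?_, ?_, P.x3x3, ?_, ?_, ?_, x1τ, x2τ, P.x3τ, hss, P.sτ, ?_, ?_, ?_, ?_⟩,
    ⟨P.ξξξ, P.ξτ, ?_, ?_, ?_, hsξ⟩⟩
  · simp only [mul_assoc, ξr P, x3r P, ξξ P]
  · simp only [mul_assoc, ξr P, x3r P, ξξ P]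
  · simp only [mul_assoc, ξr P, x3r P, ξξ P, hK, hK1, mul_one]
  · simp only [mul_assoc, ξr P, x3r P, ξξ P, hK, hK1, mul_one]
  · simp only [mul_assoc, ξr P, x3r P, ξξ P, hK, hK1, mul_one]
  · simp only [mul_assoc, hsξr, hsξ', hsxr, ξτr P, ξr P]
    congr 1
  · simp only [mul_assoc, hsξr, hsξ', hsxr, ξτr P, ξr P]
    congr 1
  · rw [hsx, mul_assoc]
  · intro a b c
    refine ⟨ncos _ ⟨τ 1 0 0, τ_mem P _ _ _, τ 0 1 (-1 - 0 - 0), τ_mem P _ _ _, x1τ _ _ _, hne1 _ _ _ _ _ _ (by norm_num)⟩ a b c,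
      ncos _ ⟨τ 1 0 0, τ_mem P _ _ _, τ 0 (-1 - 0 - 0) 1, τ_mem P _ _ _, x2τ _ _ _, hne1 _ _ _ _ _ _ (by norm_num)⟩ a b c,
      ncos _ ⟨τ 0 1 0, τ_mem P _ _ _, τ (-0 - 1 - 0) 0 1, τ_mem P _ _ _, P.x3τ _ _ _, hne1 _ _ _ _ _ _ (by norm_num)⟩ a b c,
      ncos _ ⟨τ 0 1 0, τ_mem P _ _ _, τ (-0) (-0) (-1), τ_mem P _ _ _, P.sτ _ _ _, hne1 _ _ _ _ _ _ (by norm_num)⟩ a b c,
      ncos _ ⟨τ 1 0 0, τ_mem P _ _ _, τ (-0) (-1) (- -1 - -0 - -0), τ_mem P _ _ _, ?_, hne1 _ _ _ _ _ _ (by norm_num)⟩ a b c,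
      ncos _ ⟨τ 1 0 0, τ_mem P _ _ _, τ (-0) (- -1 - -0 - -0) (-1), τ_mem P _ _ _, ?_, hne1 _ _ _ _ _ _ (by norm_num)⟩ a b c,
      ncos _ ⟨τ 0 1 0, τ_mem P _ _ _, τ (- -0 - -0 - -1) (-1) (-0), τ_mem P _ _ _, ?_, hne1 _ _ _ _ _ _ (by norm_num)⟩ a b c⟩
    · rw [mul_assoc, P.sτ, ← mul_assoc, x1τ, mul_assoc]
    · rw [mul_assoc, P.sτ, ← mul_assoc, x2τ, mul_assoc]
    · rw [mul_assoc, P.sτ, ← mul_assoc, P.x3τ, mul_assoc]
  · simp only [mul_assoc, ξr P, x3r P, ξξ P, mul_one]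
  · simp only [mul_assoc, ξr P, x3r P, ξξ P, mul_one]
  · simp only [mul_assoc, ξr P, x3r P, ξξ P, mul_one]

end

/-- a group generated by commuting involutions -/
theorem sq_closure {G : Type*} [Group G] (S : Set G) (hc : ∀ x ∈ S, ∀ y ∈ S, x * y = y * x) (h2 : ∀ x ∈ S, x * x = 1) :
    ∀ x ∈ closure S, x * x = 1 := by
  have hcomm : ∀ x ∈ closure S, ∀ y ∈ closure S, x * y = y * x := by
    have h1 : closure S ≤ centralizer S := by
      rw [closure_le]
      intro x hx y hy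
      exact hc y hy x hx
    have h3 : S ⊆ (centralizer (closure S : Set G) : Set G) := by
      intro x hx
      rw [SetLike.mem_coe, mem_centralizer_iff]
      intro y hy
      exact ((mem_centralizer_iff.mp (h1 hy)) x hx).symm
    have h4 : closure S ≤ centralizer (closure S : Set G) := (closure_le _).mpr h3
    intro x hx y hy
    exact ((mem_centralizer_iff.mp (h4 hx)) y hy).symm
  intro x hx
  induction hx using closure_induction with
  | mem x hx => exact h2 x hx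
  | one => exact one_mul 1
  | mul x y hx hy ihx ihy =>
    have := hcomm y hy x hx
    calc x * y * (x * y) = x * (y * x) * y := by group
      _ = (x * x) * (y * y) := by rw [this]; group
      _ = 1 := by rw [ihx, ihy, one_mul]
  | inv x hx ih => rw [← mul_inv_rev, ih, inv_one]

section

variable {Γ : Type*} [Group Γ] {T : Subgroup Γ} [T.Normal] [IsMulCommutative T] {n : ℕ} {z : Γ} {τ : ℤ → ℤ → ℤ → Γ}
  {x3 ξ s k : Γ} (P : Pre T n z τ x3 ξ s k) [Finite Γ]
include P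

/-- no elementary abelian subgroup of order 16 -/
theorem not_comm (hn : 1 ≤ n) (no16 : ∀ E : Subgroup Γ, (∀ x ∈ E, x * x = 1) → Nat.card E ≤ 8) (hss : s * s = 1)
    (hcomm : s * x3 = x3 * s) : False := by
  have hpow : (2 : ℤ) ^ n = 2 ^ (n - 1) * 2 := by rw [← pow_succ, Nat.sub_add_cancel hn]
  have hnd : ¬ (2 : ℤ) ^ n ∣ 2 ^ (n - 1) := by
    intro hd
    have h3 := Int.le_of_dvd (by positivity) hd
    rw [hpow] at h3
    have : (0 : ℤ) < 2 ^ (n - 1) := by positivity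
    omega
  have hnd1 : ¬ (2 : ℤ) ^ n ∣ 1 := by
    intro hdvd
    have h2 : (2 : ℤ) ∣ 1 := dvd_trans (dvd_pow_self 2 (by omega)) hdvd
    omega
  set e : ℤ := 2 ^ (n - 1) with he
  set u := τ e e e with hu
  set w := τ e 0 0 with hw
  have huw : u * w = w * u := by
    rw [hu, hw, P.mul, P.mul]; congr 1 <;> ring
  have hu2 : u * u = 1 := by
    rw [hu, P.mul, P.one]; refine ⟨⟨1, ?_⟩, ⟨1, ?_⟩, ⟨1, ?_⟩⟩ <;> rw [hpow] <;> ring
  have hw2 : w * w = 1 := by
    rw [hw, P.mul, P.one]; refine ⟨⟨1, ?_⟩, ⟨0, ?_⟩, ⟨0, ?_⟩⟩ <;> rw [hpow] <;> ring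
  have hxu : x3 * u = u * x3 := by
    rw [hu, P.x3τ]; congr 1
    rw [cong P]
    refine ⟨⟨-2, ?_⟩, ⟨0, ?_⟩, ⟨0, ?_⟩⟩ <;> rw [hpow] <;> ring
  have hxw : x3 * w = w * x3 := by
    rw [hw, P.x3τ]; congr 1
    rw [cong P]
    refine ⟨⟨-1, ?_⟩, ⟨0, ?_⟩, ⟨0, ?_⟩⟩ <;> rw [hpow] <;> ring
  have hsu : s * u = u * s := by
    rw [hu, P.sτ]; congr 1
    rw [cong P]
    refine ⟨⟨-1, ?_⟩, ⟨-1, ?_⟩, ⟨-1, ?_⟩⟩ <;> rw [hpow] <;> ring
  have hsw : s * w = w * s := by
    rw [hw, P.sτ]; congr 1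
    rw [cong P]
    refine ⟨⟨-1, ?_⟩, ⟨0, ?_⟩, ⟨0, ?_⟩⟩ <;> rw [hpow] <;> ring
  set S : Set Γ := {u, w, x3, s} with hS
  have hE : ∀ x ∈ closure S, x * x = 1 := by
    apply sq_closure
    · intro x hx y hy
      simp only [hS, Set.mem_insert_iff, Set.mem_singleton_iff] at hx hy
      rcases hx with rfl | rfl | rfl | rfl <;> rcases hy with rfl | rfl | rfl | rfl <;>
        first | rfl | assumption | (symm; assumption)
    · intro x hx
      simp only [hS, Set.mem_insert_iff, Set.mem_singleton_iff] at hx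
      rcases hx with rfl | rfl | rfl | rfl
      · exact hu2
      · exact hw2
      · exact P.x3x3
      · exact hss
  have hcard := no16 _ hE
  have huT : u ∈ T := τ_mem P _ _ _
  have hwT : w ∈ T := τ_mem P _ _ _
  -- `x3` and `s`, `x3 s` are not in `T`
  have nT : ∀ g : Γ, (∀ v ∈ T, g * v = v * g) → g * τ 0 1 0 = τ 0 1 0 * g := fun g hg => hg _ (τ_mem P _ _ _)
  have hcT : ∀ g ∈ T, g * τ 0 1 0 = τ 0 1 0 * g := fun g hg => setLike_mul_comm hg (τ_mem P _ _ _)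
  have hx3T : x3 ∉ T := by
    intro hx
    have := hcT _ hx
    rw [P.x3τ] at this
    have := mul_right_cancel this
    rw [cong P] at this
    apply hnd1
    have h3 := this.2.2
    norm_num at h3
    exact h3
  have hsT : s ∉ T := by
    intro hx
    have := hcT _ hx
    rw [P.sτ] at this
    have := mul_right_cancel this
    rw [cong P] at this
    apply hnd1
    have h3 := this.2.2
    norm_num at h3
    exact h3
  have hI : Indep u w x3 := by
    refine ⟨?_, ?_, ?_, ?_, ?_, ?_, ?_⟩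
    · rw [hu, Ne, P.one]; rintro ⟨h1, -⟩; exact hnd h1
    · rw [hw, Ne, P.one]; rintro ⟨h1, -⟩; exact hnd h1
    · rw [hu, hw, Ne, cong P]
      rintro ⟨-, h1, -⟩
      rw [zero_sub, dvd_neg] at h1
      exact hnd h1
    · rintro e1; exact hx3T (e1 ▸ one_mem _)
    · rintro e1; exact hx3T (e1 ▸ huT)
    · rintro e1; exact hx3T (e1 ▸ hwT)
    · rintro e1; exact hx3T (e1 ▸ mul_mem huT hwT)
  have key := Span.span hcard hE (a := u) (b := w) (c := x3) (subset_closure (by simp [hS])) (subset_closure (by simp [hS]))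
    (subset_closure (by simp [hS])) hI (t := s) (subset_closure (by simp [hS]))
  have key2 : s ∈ T ∨ ∃ v ∈ T, s = v * x3 := by
    rcases key with (e | e | e | e) | (e | e | e | e)
    · exact absurd (e ▸ one_mem _) hsT
    · exact absurd (e ▸ huT) hsT
    · exact absurd (e ▸ hwT) hsT
    · exact absurd (e ▸ mul_mem huT hwT) hsT
    · exact Or.inr ⟨1, one_mem _, by rw [one_mul]; exact e⟩
    · exact Or.inr ⟨u, huT, e⟩
    · exact Or.inr ⟨w, hwT, e⟩
    · exact Or.inr ⟨u * w, mul_mem huT hwT, e⟩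
  rcases key2 with h1 | ⟨v, hv, e1⟩
  · exact hsT h1
  · have h1 := P.sτ 0 1 0
    rw [e1, mul_assoc, P.x3τ, ← mul_assoc, setLike_mul_comm hv (τ_mem P _ _ _), mul_assoc] at h1
    have := mul_right_cancel h1
    rw [cong P] at this
    apply hnd1
    have h3 := this.1
    norm_num at h3
    exact h3

end

/-- **The extension.** -/
theorem exists_rel {Γ : Type*} [Group Γ] {T : Subgroup Γ} [T.Normal] [IsMulCommutative T] {n : ℕ} (h : Hyp T n) [Finite Γ]
    {z : Γ} (hz : z ∈ om T) (hz1 : z ≠ 1) :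
    ∃ (τ : ℤ → ℤ → ℤ → Γ) (x1 x2 x3 s ξ : Γ), Rel n T τ x1 x2 x3 s ∧ XiRel τ x1 x2 x3 s ξ ∧
      τ (2 ^ (n - 1)) (2 ^ (n - 1)) (2 ^ (n - 1)) = z := by
  obtain ⟨τ, x3, ξ, s, k, P⟩ := ExtPre.exists_pre h hz hz1
  have triv : ∀ g, (∀ a b c, g * τ a b c = τ a b c * g) → g ∈ T := by
    intro g hg
    apply h.faith
    intro t ht _
    obtain ⟨a, b, c, rfl⟩ := (P.mem _).mp ht
    exact hg a b c
  obtain ⟨x3, P, hprod⟩ := step2 P triv
  have toK : ∀ x3 : Γ, x3 * x3 = 1 → x3 * (ξ * (x3 * (ξ * (x3 * ξ)))) = 1 →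
      ∀ y, x3 * (ξ * (x3 * y)) = ξ * (ξ * (x3 * (ξ * (ξ * y)))) := by
    intro x3 h1 h2 y
    have e1 : ξ⁻¹ = ξ * ξ := ξinv P
    have e2 : x3⁻¹ = x3 := inv_eq_of_mul_eq_one_left h1
    have e3 : x3 * ξ * x3 = ξ⁻¹ * x3⁻¹ * ξ⁻¹ := by
      calc x3 * ξ * x3 = x3 * (ξ * (x3 * (ξ * (x3 * ξ)))) * ξ⁻¹ * x3⁻¹ * ξ⁻¹ := by group
        _ = ξ⁻¹ * x3⁻¹ * ξ⁻¹ := by rw [h2, one_mul]
    rw [e2, e1] at e3
    calc x3 * (ξ * (x3 * y)) = (x3 * ξ * x3) * y := by group
      _ = ξ * (ξ * (x3 * (ξ * (ξ * y)))) := by rw [e3]; simp only [mul_assoc]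
  have h0 : x3 * (ξ * (x3 * (ξ * (x3 * ξ)))) = 1 := by
    rw [← hprod]
    simp only [mul_assoc, ξr P]
  obtain ⟨s, P, hsξ, hss⟩ := step3 P triv
  obtain ⟨p, hp⟩ := step4 P triv (toK x3 P.x3x3 h0) hsξ hss
  have hsx : s * x3 = τ p 0 0 * (x3 * s) := by
    rw [← hp]
    simp only [mul_assoc, x3r P, hss, mul_one]
  have hsxr : ∀ y, s * (x3 * y) = τ p 0 0 * (x3 * (s * y)) := fun y => by rw [← mul_assoc, hsx, mul_assoc, mul_assoc]
  have hssr : ∀ y, s * (s * y) = y := fun y => by rw [← mul_assoc, hss, one_mul]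
  -- the replacement
  have hrep : ∀ a : ℤ, (τ a 0 0 * x3 * (τ a 0 0 * x3) = 1) ∧
      (τ a 0 0 * x3) * (ξ * ((τ a 0 0 * x3) * (ξ * ((τ a 0 0 * x3) * ξ)))) = 1 ∧
      s * (τ a 0 0 * x3) * s * (τ a 0 0 * x3) = τ (p - 2 * a) 0 0 := by
    intro a
    refine ⟨?_, ?_, ?_⟩
    · simp only [mul_assoc, x3τr P, mulr P, P.x3x3, mul_one, P.mul]
      rw [P.one]
      refine ⟨⟨0, by ring⟩, ⟨0, by ring⟩, ⟨0, by ring⟩⟩
    · simp only [mul_assoc, x3τr P, ξτr P, mulr P, P.mul]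
      rw [h0, mul_one, P.one]
      refine ⟨⟨0, by ring⟩, ⟨0, by ring⟩, ⟨0, by ring⟩⟩
    · simp only [mul_assoc, x3τr P, ξτr P, sτr P, hsxr, hsx, mulr P, P.mul, hss, hssr, mul_one, P.x3x3, x3r P]
      rw [cong P]
      refine ⟨⟨0, by ring⟩, ⟨0, by ring⟩, ⟨0, by ring⟩⟩
  rcases Int.even_or_odd' p with ⟨a, ha | ha⟩
  · exfalso
    obtain ⟨e1, e2, e3⟩ := hrep a
    have P' := replace P (τ_mem P a 0 0) e1
    have e4 : s * (τ a 0 0 * x3) * s * (τ a 0 0 * x3) = 1 := by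
      rw [e3, ha, sub_self]; exact zero P
    refine not_comm P' h.hn h.no16 hss ?_
    calc s * (τ a 0 0 * x3) = (s * (τ a 0 0 * x3) * s * (τ a 0 0 * x3)) * (τ a 0 0 * x3)⁻¹ * s⁻¹ := by group
      _ = (τ a 0 0 * x3) * s := by
        rw [e4, one_mul, inv_eq_of_mul_eq_one_left e1, inv_eq_of_mul_eq_one_left hss]
  · obtain ⟨e1, e2, e3⟩ := hrep a
    have P' := replace P (τ_mem P a 0 0) e1
    have e4 : s * (τ a 0 0 * x3) * s * (τ a 0 0 * x3) = τ 1 0 0 := by
      rw [e3, ha]; congr 1; ring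
    obtain ⟨hR, hX⟩ := mkRel P' h.hn (toK _ e1 e2) hsξ hss e4
    exact ⟨τ, _, _, _, s, ξ, hR, hX, P.hz⟩

end Cfsg.Agent.ONType.ExtRel
end

-- part: ONType/Sit
section
/-!
# O'Nan type groups: the situation in `G`

`Frame` is the input (S1730, (B7)), `Sit` the situation after the extension step.
-/

set_option autoImplicit false
set_option linter.dupNamespace false

namespace Cfsg.Agent.ONType.Sit

open Subgroup
open Cfsg.Agent.ONType.Rel Cfsg.Agent.ONType.Span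

/-- The input: `T` is homocyclic of rank 3 and exponent `2^n`, normal in `S`, self-centralising in `S` in the strong sense
`C_S(Ω₁(T)) = T`, `N_G(T)` induces all automorphisms of `Ω₁(T)`. -/
structure Frame {G : Type*} [Group G] (n : ℕ) (S : Sylow 2 G) (T : Subgroup G) : Prop where
  hn : 2 ≤ n
  le : T ≤ (S : Subgroup G)
  norm : (S : Subgroup G) ≤ normalizer (T : Set G)
  comm : ∀ x ∈ T, ∀ y ∈ T, x * y = y * x
  card : Nat.card T = 8 ^ n
  cardS : Nat.card (S : Subgroup G) = 8 * 8 ^ n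
  exp : ∀ t ∈ T, t ^ (2 ^ n) = 1
  eight : Nat.card {t : G // t ∈ T ∧ t * t = 1} ≤ 8
  self : ∀ g ∈ (S : Subgroup G), (∀ t ∈ T, t * t = 1 → g * t = t * g) → g ∈ T
  full : ∀ a b c a' b' c' : G, a ∈ T → a * a = 1 → b ∈ T → b * b = 1 → c ∈ T → c * c = 1 →
    a' ∈ T → a' * a' = 1 → b' ∈ T → b' * b' = 1 → c' ∈ T → c' * c' = 1 → Indep a b c → Indep a' b' c' →
    ∃ g ∈ normalizer (T : Set G), g * a * g⁻¹ = a' ∧ g * b * g⁻¹ = b' ∧ g * c * g⁻¹ = c'
  inv : ∃ y ∈ (S : Subgroup G), y ∉ T ∧ y * y = 1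
  no16 : ∀ E : Subgroup G, (∀ x ∈ E, x * x = 1) → Nat.card E ≤ 8

/-- The situation after the extension step. `O` is the group of the elements of odd order of `C_G(T)`. -/
structure Sit {G : Type*} [Group G] (n : ℕ) (S : Sylow 2 G) (T O : Subgroup G) (τ : ℤ → ℤ → ℤ → G) (x1 x2 x3 s ξ : G) :
    Prop where
  hn : 2 ≤ n
  rel : RelS n T (S : Subgroup G) τ x1 x2 x3 s
  /-- the element of odd order over the element of order 3 -/
  oddξ : Odd (orderOf ξ)
  ξτ : ∀ a b c, ξ * τ a b c = τ a (-a - b - c) b * ξ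
  ξx3 : ξ * x3 = x1 * ξ
  ξx1 : ξ * x1 = x2 * ξ
  ξx2 : ξ * x2 = x3 * ξ
  /-- the centraliser of `T` -/
  O_le : ∀ o ∈ O, ∀ t ∈ T, o * t = t * o
  O_odd : ∀ o ∈ O, Odd (orderOf o)
  O_norm : normalizer (T : Set G) ≤ normalizer (O : Set G)
  /-- an element of `N_G(T)` which centralises `Ω₁(T)` is in `T O` -/
  faith : ∀ g ∈ normalizer (T : Set G), (∀ t ∈ T, t * t = 1 → g * t = t * g) → ∃ t ∈ T, ∃ o ∈ O, g = t * o
  full : ∀ a b c a' b' c' : G, a ∈ T → a * a = 1 → b ∈ T → b * b = 1 → c ∈ T → c * c = 1 →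
    a' ∈ T → a' * a' = 1 → b' ∈ T → b' * b' = 1 → c' ∈ T → c' * c' = 1 → Indep a b c → Indep a' b' c' →
    ∃ g ∈ normalizer (T : Set G), g * a * g⁻¹ = a' ∧ g * b * g⁻¹ = b' ∧ g * c * g⁻¹ = c'
  no16 : ∀ E : Subgroup G, (∀ x ∈ E, x * x = 1) → Nat.card E ≤ 8

/-- the output of the first fusion step: `h ∈ C(z)`, `x3^h = w`, `v^h = v^±1`, `C_S(x3)^h ≤ T⟨x3⟩`. -/
structure Conj {G : Type*} [Group G] (n : ℕ) (S : Sylow 2 G) (T : Subgroup G) (τ : ℤ → ℤ → ℤ → G) (x3 h : G) : Prop where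
  hz : h * τ (2 ^ (n - 1)) (2 ^ (n - 1)) (2 ^ (n - 1)) = τ (2 ^ (n - 1)) (2 ^ (n - 1)) (2 ^ (n - 1)) * h
  hx : h * x3 * h⁻¹ = τ (2 ^ (n - 1)) 0 0
  hv : h * τ (2 ^ (n - 2)) (2 ^ (n - 2)) (2 ^ (n - 2)) * h⁻¹ = τ (2 ^ (n - 2)) (2 ^ (n - 2)) (2 ^ (n - 2)) ∨
    h * τ (2 ^ (n - 2)) (2 ^ (n - 2)) (2 ^ (n - 2)) * h⁻¹ = (τ (2 ^ (n - 2)) (2 ^ (n - 2)) (2 ^ (n - 2)))⁻¹
  hD : ∀ y ∈ (S : Subgroup G), y * x3 = x3 * y → ∃ t ∈ T, h * y * h⁻¹ = t ∨ h * y * h⁻¹ = t * x3

end Cfsg.Agent.ONType.Sit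
end
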