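import Cfsg.Agent.SporadicA.FieldFour
set_option linter.all false

/-!
# Root elements of `PSL(3,4)`: the relations used for the O'Nan type centraliser
-/

set_option autoImplicit false
set_option linter.constructorNameAsVariable false

namespace Cfsg.Agent.ONType.Psl

open Matrix
open Cfsg.Agent.SporadicA.FieldFour

/-- `SL(3,4)` -/
abbrev SL3 : Type := SpecialLinearGroup (Fin 3) F4
/-- `PSL(3,4)` -/
abbrev PSL3 : Type := ProjectiveSpecialLinearGroup (Fin 3) F4

/-- The generator of the multiplicative group. -/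
abbrev ω : F4 := F4.w
/-- its square -/
abbrev ω2 : F4 := F4.v

/-- root matrix (identity if `i = j`) -/
def tm (i j : Fin 3) (u : F4) : Matrix (Fin 3) (Fin 3) F4 := fun a b =>
  if a = b then 1 else if a = i ∧ b = j then u else 0

/-- the matrix `diag(1, ω, ω²)` -/
def hm : Matrix (Fin 3) (Fin 3) F4 := fun a b =>
  if a = b then (if a = 0 then 1 else if a = 1 then ω else ω2) else 0

theorem det_tm (i j : Fin 3) (u : F4) : (tm i j u).det = 1 := by
  rw [Matrix.det_fin_three]; revert i j u; decide +kernel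

theorem det_hm : hm.det = 1 := by
  rw [Matrix.det_fin_three]; decide +kernel

/-- root element -/
def T (i j : Fin 3) (u : F4) : SL3 := ⟨tm i j u, det_tm i j u⟩
/-- torus element -/
def H : SL3 := ⟨hm, det_hm⟩

/-- the character of the torus on a root group -/
def kap (i j : Fin 3) : F4 := if j = i + 1 then ω else ω2

/-- Weyl element -/
def N (i j : Fin 3) : SL3 := T i j 1 * T j i 1 * T i j 1

theorem T_add (i j : Fin 3) (u v : F4) (h : i ≠ j) : T i j u * T i j v = T i j (u + v) := by
  apply Subtype.ext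
  show tm i j u * tm i j v = tm i j (u + v)
  revert i j u v; decide +kernel

theorem T_zero (i j : Fin 3) : T i j 0 = 1 := by
  apply Subtype.ext
  show tm i j 0 = 1
  revert i j; decide +kernel

theorem T_H (i j : Fin 3) (u : F4) (h : i ≠ j) : T i j u * H = H * T i j (kap i j * u) := by
  apply Subtype.ext
  show tm i j u * hm = hm * tm i j (kap i j * u)
  revert i j u; decide +kernel

theorem T_sum (i j k : Fin 3) (u v : F4) (h1 : i ≠ j) (h2 : i ≠ k) (h3 : j ≠ k) :
    T i k u * T k j v = T k j v * T i k u * T i j (u * v) := by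
  apply Subtype.ext
  show tm i k u * tm k j v = tm k j v * tm i k u * tm i j (u * v)
  revert i j k u v; decide +kernel

theorem T_row (i j k : Fin 3) (u v : F4) (h1 : i ≠ j) (h2 : i ≠ k) :
    T i j u * T i k v = T i k v * T i j u := by
  apply Subtype.ext
  show tm i j u * tm i k v = tm i k v * tm i j u
  revert i j k u v; decide +kernel

theorem T_col (i j k : Fin 3) (u v : F4) (h1 : i ≠ j) (h2 : k ≠ j) :
    T i j u * T k j v = T k j v * T i j u := by
  apply Subtype.ext
  show tm i j u * tm k j v = tm k j v * tm i j u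
  revert i j k u v; decide +kernel

theorem T_N (i j k l : Fin 3) (u : F4) (h : i ≠ j) (h' : k ≠ l) :
    T k l u * N i j = N i j * T (Equiv.swap i j k) (Equiv.swap i j l) u := by
  apply Subtype.ext
  show tm k l u * (tm i j 1 * tm j i 1 * tm i j 1)
    = (tm i j 1 * tm j i 1 * tm i j 1) * tm (Equiv.swap i j k) (Equiv.swap i j l) u
  revert i j k l u; decide +kernel

theorem H_pow : H ^ 3 = 1 := by
  apply Subtype.ext
  show hm ^ 3 = 1
  rw [pow_three]
  decide +kernel

/-- scalar factor -/
def sc (i j : Fin 3) : F4 := if i ≠ 0 ∧ j ≠ 0 then 1 else if i ≠ 2 ∧ j ≠ 2 then ω else ω2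

theorem HNH (i j : Fin 3) (h : i ≠ j) :
    ((H * N i j * H : SL3) : Matrix (Fin 3) (Fin 3) F4) =
      ((N i j : SL3) : Matrix (Fin 3) (Fin 3) F4) * Matrix.scalar (Fin 3) (sc i j) := by
  show hm * (tm i j 1 * tm j i 1 * tm i j 1) * hm =
    (tm i j 1 * tm j i 1 * tm i j 1) * Matrix.diagonal (fun _ => sc i j)
  revert i j; decide +kernel

/-- the class of a root element in `PSL` -/
def t (i j : Fin 3) (u : F4) : PSL3 := (QuotientGroup.mk (T i j u) : PSL3)
/-- the class of the torus element -/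
def hh : PSL3 := (QuotientGroup.mk H : PSL3)
/-- the class of the Weyl element -/
def nn (i j : Fin 3) : PSL3 := t i j 1 * t j i 1 * t i j 1

theorem t_add (i j : Fin 3) (u v : F4) (h : i ≠ j) : t i j u * t i j v = t i j (u + v) :=
  congrArg (QuotientGroup.mk : SL3 → PSL3) (T_add i j u v h)

theorem t_zero (i j : Fin 3) : t i j 0 = 1 :=
  congrArg (QuotientGroup.mk : SL3 → PSL3) (T_zero i j)

theorem t_h (i j : Fin 3) (u : F4) (h : i ≠ j) : t i j u * hh = hh * t i j (kap i j * u) :=
  congrArg (QuotientGroup.mk : SL3 → PSL3) (T_H i j u h)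

theorem t_sum (i j k : Fin 3) (u v : F4) (h1 : i ≠ j) (h2 : i ≠ k) (h3 : j ≠ k) :
    t i k u * t k j v = t k j v * t i k u * t i j (u * v) :=
  congrArg (QuotientGroup.mk : SL3 → PSL3) (T_sum i j k u v h1 h2 h3)

theorem t_row (i j k : Fin 3) (u v : F4) (h1 : i ≠ j) (h2 : i ≠ k) :
    t i j u * t i k v = t i k v * t i j u :=
  congrArg (QuotientGroup.mk : SL3 → PSL3) (T_row i j k u v h1 h2)

theorem t_col (i j k : Fin 3) (u v : F4) (h1 : i ≠ j) (h2 : k ≠ j) :
    t i j u * t k j v = t k j v * t i j u :=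
  congrArg (QuotientGroup.mk : SL3 → PSL3) (T_col i j k u v h1 h2)

theorem t_n (i j k l : Fin 3) (u : F4) (h : i ≠ j) (h' : k ≠ l) :
    t k l u * nn i j = nn i j * t (Equiv.swap i j k) (Equiv.swap i j l) u :=
  congrArg (QuotientGroup.mk : SL3 → PSL3) (T_N i j k l u h h')

theorem hh_pow : hh ^ 3 = 1 :=
  congrArg (QuotientGroup.mk : SL3 → PSL3) H_pow

theorem scalar_mem (c : SL3) (r : F4) (h : (c : Matrix (Fin 3) (Fin 3) F4) = Matrix.scalar (Fin 3) r) :
    c ∈ Subgroup.center SL3 := by
  rw [Subgroup.mem_center_iff]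
  intro g
  apply Subtype.ext
  show (g : Matrix (Fin 3) (Fin 3) F4) * c = c * g
  rw [h]
  exact (Matrix.scalar_commute r (fun r' => mul_comm _ _) _).symm.eq

theorem hnh (i j : Fin 3) (h : i ≠ j) : hh * nn i j * hh = nn i j := by
  show (QuotientGroup.mk (H * N i j * H) : PSL3) = QuotientGroup.mk (N i j)
  symm
  rw [QuotientGroup.eq]
  apply scalar_mem _ (sc i j)
  show ((N i j)⁻¹ * (H * N i j * H) : SL3).1 = _
  have h1 : ((N i j)⁻¹ * (H * N i j * H) : SL3).1 =
      ((N i j)⁻¹ : SL3).1 * ((N i j : SL3).1 * Matrix.scalar (Fin 3) (sc i j)) := by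
    rw [← HNH i j h]; rfl
  rw [h1, ← mul_assoc]
  have h2 : ((N i j)⁻¹ : SL3).1 * (N i j : SL3).1 = 1 := by
    have := congrArg Subtype.val (inv_mul_cancel (N i j))
    exact this
  rw [h2, one_mul]

end Cfsg.Agent.ONType.Psl
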