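import Cfsg.Agent.ONType.Lift
import Cfsg.Agent.ONType.OuterL
set_option linter.all false

-- part: ONType/OuterM
section
/-!
Automorphisms of a central extension `M` of `PSL(3,4)` act, up to inner automorphisms, on the
canonical lifts of the root elements exactly as a field automorphism, possibly combined with the
graph automorphism.
-/

set_option autoImplicit false
set_option linter.constructorNameAsVariable false

namespace Cfsg.Agent.ONType.OuterM

open Cfsg.Agent.SporadicA.FieldFour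
open Cfsg.Agent.ONType.Psl
open Cfsg.Agent.ONType.Lift
open Cfsg.Agent.ONType.OuterL

/-- trace of `F4` as a natural number -/
def trn (u : F4) : ℕ := if u = 0 ∨ u = 1 then 0 else 1

theorem T_hh : T 1 2 (kap 1 2) * T 2 1 (kap 2 1) * T 1 2 (kap 1 2) * N 1 2 = H := by
  apply Subtype.ext
  show tm 1 2 (kap 1 2) * tm 2 1 (kap 2 1) * tm 1 2 (kap 1 2) * (tm 1 2 1 * tm 2 1 1 * tm 1 2 1)
    = hm
  decide +kernel

theorem T_hh01_aux : ((T 0 1 (kap 0 1) * T 1 0 (kap 1 0) * T 0 1 (kap 0 1) * N 0 1 : SL3) :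
    Matrix (Fin 3) (Fin 3) F4) = ((H : SL3) : Matrix (Fin 3) (Fin 3) F4) *
      Matrix.scalar (Fin 3) ω := by
  show tm 0 1 (kap 0 1) * tm 1 0 (kap 1 0) * tm 0 1 (kap 0 1) * (tm 0 1 1 * tm 1 0 1 * tm 0 1 1)
    = hm * Matrix.diagonal (fun _ => ω)
  decide +kernel

theorem T_hhinv_aux : T 1 2 (kap 2 1) * T 2 1 (kap 1 2) * T 1 2 (kap 2 1) * N 1 2 * H = 1 := by
  apply Subtype.ext
  show tm 1 2 (kap 2 1) * tm 2 1 (kap 1 2) * tm 1 2 (kap 2 1) * (tm 1 2 1 * tm 2 1 1 * tm 1 2 1)
    * hm = 1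
  decide +kernel

theorem hh12 : t 1 2 (kap 1 2) * t 2 1 (kap 2 1) * t 1 2 (kap 1 2) * nn 1 2 = hh :=
  congrArg (QuotientGroup.mk : SL3 → PSL3) T_hh

theorem hh12_inv : t 1 2 (kap 2 1) * t 2 1 (kap 1 2) * t 1 2 (kap 2 1) * nn 1 2 = hh⁻¹ := by
  have h : t 1 2 (kap 2 1) * t 2 1 (kap 1 2) * t 1 2 (kap 2 1) * nn 1 2 * hh = 1 :=
    congrArg (QuotientGroup.mk : SL3 → PSL3) T_hhinv_aux
  exact eq_inv_of_mul_eq_one_left h

theorem hh01 : t 0 1 (kap 0 1) * t 1 0 (kap 1 0) * t 0 1 (kap 0 1) * nn 0 1 = hh := by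
  show (QuotientGroup.mk (T 0 1 (kap 0 1) * T 1 0 (kap 1 0) * T 0 1 (kap 0 1) * N 0 1) : PSL3)
    = QuotientGroup.mk H
  symm
  rw [QuotientGroup.eq]
  apply scalar_mem _ ω
  have h1 : (H⁻¹ * (T 0 1 (kap 0 1) * T 1 0 (kap 1 0) * T 0 1 (kap 0 1) * N 0 1) : SL3).1 =
      (H⁻¹ : SL3).1 * ((H : SL3).1 * Matrix.scalar (Fin 3) ω) := by
    rw [← T_hh01_aux]; rfl
  show (H⁻¹ * (T 0 1 (kap 0 1) * T 1 0 (kap 1 0) * T 0 1 (kap 0 1) * N 0 1) : SL3).1 = _
  rw [h1, ← mul_assoc]
  have h2 : (H⁻¹ : SL3).1 * (H : SL3).1 = 1 := congrArg Subtype.val (inv_mul_cancel H)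
  rw [h2, one_mul]

/-- the effect on `hh` in the non-graph case -/
theorem map_hh_one (β : MulAut PSL3) {σ : F4 → F4} {d : F4}
    (hσ : (∀ u, σ u = u) ∨ (∀ u, σ u = u * u))
    (h : ∀ i j : Fin 3, i ≠ j → ∀ u : F4, β (t i j u) = t i j (dd d i * (dd d j)⁻¹ * σ u)) :
    β hh = hh ∨ β hh = hh⁻¹ := by
  have e1 : dd d 1 * (dd d 2)⁻¹ = 1 := by clear * -; revert d; decide
  have e2 : dd d 2 * (dd d 1)⁻¹ = 1 := by clear * -; revert d; decide
  have h1 : ∀ u, β (t 1 2 u) = t 1 2 (σ u) := fun u => by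
    rw [h 1 2 (by decide) u, e1, one_mul]
  have h2 : ∀ u, β (t 2 1 u) = t 2 1 (σ u) := fun u => by
    rw [h 2 1 (by decide) u, e2, one_mul]
  have s1 : σ 1 = 1 := by rcases hσ with h | h <;> rw [h]; rfl
  have key : β hh = t 1 2 (σ (kap 1 2)) * t 2 1 (σ (kap 2 1)) * t 1 2 (σ (kap 1 2)) * nn 1 2 := by
    rw [← hh12, map_mul, map_mul, map_mul, h1, h2, nn, map_mul, map_mul, h1, h2, s1]
  rcases hσ with hs | hs
  · left; rw [key, hs, hs, hh12]
  · right
    rw [key, hs, hs, show kap 1 2 * kap 1 2 = kap 2 1 from by decide,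
      show kap 2 1 * kap 2 1 = kap 1 2 from by decide, hh12_inv]

/-- the effect on `hh` in the graph case -/
theorem map_hh_two (β : MulAut PSL3) {σ : F4 → F4} {d : F4}
    (hσ : (∀ u, σ u = u) ∨ (∀ u, σ u = u * u))
    (h : ∀ i j : Fin 3, i ≠ j → ∀ u : F4,
      β (t i j u) = t (rv j) (rv i) (dd d (rv j) * (dd d (rv i))⁻¹ * σ u)) :
    β hh = hh ∨ β hh = hh⁻¹ := by
  have e1 : dd d (rv 1) * (dd d (rv 0))⁻¹ = 1 := by clear * -; revert d; decide
  have e2 : dd d (rv 0) * (dd d (rv 1))⁻¹ = 1 := by clear * -; revert d; decide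
  have h1 : ∀ u, β (t 0 1 u) = t 1 2 (σ u) := fun u => by
    rw [h 0 1 (by decide) u, e1, one_mul]; rfl
  have h2 : ∀ u, β (t 1 0 u) = t 2 1 (σ u) := fun u => by
    rw [h 1 0 (by decide) u, e2, one_mul]; rfl
  have s1 : σ 1 = 1 := by rcases hσ with h | h <;> rw [h]; rfl
  have key : β hh = t 1 2 (σ (kap 0 1)) * t 2 1 (σ (kap 1 0)) * t 1 2 (σ (kap 0 1)) * nn 1 2 := by
    rw [← hh01, map_mul, map_mul, map_mul, h1, h2, nn, map_mul, map_mul, h1, h2, s1]; rfl
  rcases hσ with hs | hs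
  · left; rw [key, hs, hs]; exact hh12
  · right
    rw [key, hs, hs, show kap 0 1 * kap 0 1 = kap 2 1 from by decide,
      show kap 1 0 * kap 1 0 = kap 1 2 from by decide, hh12_inv]

variable {M : Type*} [Group M] {π : M →* PSL3}

/-- An automorphism of `M` induces an automorphism of `PSL(3,4)`. -/
theorem exists_induced (C : CExt π) (hcen : ∀ k : M, (∀ m, k * m = m * k) → π k = 1)
    (α : MulAut M) : ∃ β : MulAut PSL3, ∀ m, β (π m) = π (α m) := by
  have hk : ∀ k : M, k ∈ π.ker ↔ ∀ m, k * m = m * k :=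
    fun k => ⟨fun h => C.cen k h, fun h => hcen k h⟩
  have hle : ∀ α : MulAut M, π.ker ≤ π.ker.comap α.toMonoidHom := by
    intro α k h
    rw [Subgroup.mem_comap, hk]
    intro m
    have := congrArg α ((hk k).1 h (α.symm m))
    rw [map_mul, map_mul, MulEquiv.apply_symm_apply] at this
    exact this
  have hmap : π.ker.map α.toMonoidHom = π.ker := by
    apply le_antisymm
    · rw [Subgroup.map_le_iff_le_comap]
      exact hle α
    · intro k h
      refine ⟨α.symm k, ?_, MulEquiv.apply_symm_apply α k⟩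
      exact hle α.symm h
  let e := QuotientGroup.quotientKerEquivOfSurjective π C.surj
  have he : ∀ m : M, e (QuotientGroup.mk m) = π m := fun m => rfl
  refine ⟨(e.symm.trans (QuotientGroup.congr π.ker π.ker α hmap)).trans e, ?_⟩
  intro m
  have h1 : e.symm (π m) = QuotientGroup.mk m := by
    rw [← he, MulEquiv.symm_apply_apply]
  show e (QuotientGroup.congr π.ker π.ker α hmap (e.symm (π m))) = π (α m)
  rw [h1]
  rfl

/-- **Outer part.**  An automorphism of `M` acts on the canonical lifts of the root elements, up to an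
inner automorphism, exactly as a field automorphism, or a field automorphism times the graph
automorphism. -/
theorem exists_outer (C : CExt π) (hcen : ∀ k : M, (∀ m, k * m = m * k) → π k = 1)
    (t' : M) (ht1 : t' ≠ 1)
    (hrow : ∀ u v : F4, C.x 0 1 u * C.x 0 2 v = C.x 0 2 v * C.x 0 1 u * t' ^ trn (u * v))
    (hcol : ∀ u v : F4, C.x 1 2 u * C.x 0 2 v = C.x 0 2 v * C.x 1 2 u * t' ^ trn (u * v))
    (α : MulAut M) (hαt : ∀ m : M, (MulAut.conj m * α) t' = t') :
    ∃ (m : M) (σ : F4 → F4), ((∀ u, σ u = u) ∨ (∀ u, σ u = u * u)) ∧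
      ((MulAut.conj m * α) C.h = C.h ∨ (MulAut.conj m * α) C.h = (C.h)⁻¹) ∧
      ((∀ i j : Fin 3, i ≠ j → ∀ u : F4, (MulAut.conj m * α) (C.x i j u) = C.x i j (σ u)) ∨
       (∀ i j : Fin 3, i ≠ j → ∀ u : F4,
          (MulAut.conj m * α) (C.x i j u) = C.x (rv j) (rv i) (σ u))) := by
  obtain ⟨β, hβ⟩ := exists_induced C hcen α
  obtain ⟨l, d, hd, σ, hσ⟩ := exists_std β
  obtain ⟨m, hm⟩ := C.surj l
  set γ : MulAut M := MulAut.conj m * α with hγ
  have hind : ∀ y, (MulAut.conj l * β) (π y) = π (γ y) := by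
    intro y
    rw [hγ, MulAut.mul_apply, MulAut.mul_apply, MulAut.conj_apply, MulAut.conj_apply, hβ, map_mul,
      map_mul, map_inv, hm]
  have hσ' : (∀ u, (σ : F4 → F4) u = u) ∨ (∀ u, (σ : F4 → F4) u = u * u) := ringEquiv_eq σ
  -- effect on `h`
  have hh' : γ C.h = C.h ∨ γ C.h = (C.h)⁻¹ := by
    have h1 : (MulAut.conj l * β) hh = hh ∨ (MulAut.conj l * β) hh = hh⁻¹ := by
      rcases hσ with h | h
      · exact map_hh_one _ hσ' h
      · exact map_hh_two _ hσ' h
    have h3 : (γ C.h) ^ 3 = 1 := by rw [← map_pow, C.h_pow, map_one]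
    rw [← C.map_h, hind] at h1
    rcases h1 with h1 | h1
    · left; exact C.eq_of_cube h1 h3 C.h_pow
    · right
      refine C.eq_of_cube (by rw [h1, map_inv]) h3 (by rw [inv_pow, C.h_pow, inv_one])
  -- the diagonal part is trivial
  have tpow : ∀ a b : ℕ, a ≤ 1 → b ≤ 1 → t' ^ a = t' ^ b → a = b := by
    intro a b ha hb hab
    interval_cases a <;> interval_cases b
    · rfl
    · rw [pow_zero, pow_one] at hab; exact absurd hab.symm ht1
    · rw [pow_zero, pow_one] at hab; exact absurd hab ht1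
    · rfl
  have trn_le : ∀ u, trn u ≤ 1 := by decide
  have hfin : ∀ d : F4, d ≠ 0 → (∀ u : F4, trn (d * u) = trn u) → d = 1 := by decide
  have hfin2 : ∀ d : F4, d ≠ 0 → (∀ u : F4, trn (d * (u * u)) = trn u) → d = 1 := by decide
  rcases hσ with hσ | hσ
  · have hx : ∀ i j : Fin 3, i ≠ j → ∀ u : F4,
        γ (C.x i j u) = C.x i j (dd d i * (dd d j)⁻¹ * σ u) := by
      intro i j hij u
      exact C.x_map γ.toMonoidHom hh' hij hij (C.map_x i j hij u)
        (by
          show π (γ (C.x i j u)) = _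
          rw [← hind, C.map_x i j hij u, hσ i j hij])
    have hd1 : d = 1 := by
      have hdd : ∀ u : F4, trn (d * d * σ u) = trn u := by
        intro u
        have h1 := congrArg γ (hrow u 1)
        rw [map_mul, map_mul, map_mul, map_pow, hx 0 1 (by decide), hx 0 2 (by decide),
          hαt m, hrow] at h1
        have h2 := mul_left_cancel h1
        have h3 := tpow _ _ (trn_le _) (trn_le _) h2
        rw [mul_one] at h3
        rw [← h3, map_one, mul_one]
        congr 1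
        show d * d * σ u = (dd d 0 * (dd d 1)⁻¹ * σ u) * (dd d 0 * (dd d 2)⁻¹)
        have : ∀ x : F4, d * d * x = (dd d 0 * (dd d 1)⁻¹ * x) * (dd d 0 * (dd d 2)⁻¹) := by
          clear * -
          revert d; decide
        exact this _
      have hdd' : d * d = 1 := by
        rcases hσ' with hs | hs
        · exact hfin _ (mul_ne_zero hd hd) (fun u => by rw [← hdd u]; congr 2; exact (hs u).symm)
        · exact hfin2 _ (mul_ne_zero hd hd) (fun u => by rw [← hdd u]; congr 2; exact (hs u).symm)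
      revert hdd'; clear * -; revert d; decide
    refine ⟨m, σ, hσ', hh', Or.inl ?_⟩
    intro i j hij u
    rw [← hγ, hx i j hij u, hd1]
    congr 1
    have : ∀ i j : Fin 3, dd 1 i * (dd 1 j)⁻¹ = 1 := by decide
    rw [this, one_mul]
  · have hx : ∀ i j : Fin 3, i ≠ j → ∀ u : F4,
        γ (C.x i j u) = C.x (rv j) (rv i) (dd d (rv j) * (dd d (rv i))⁻¹ * σ u) := by
      intro i j hij u
      exact C.x_map γ.toMonoidHom hh' hij (rv_ne hij.symm) (C.map_x i j hij u)
        (by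
          show π (γ (C.x i j u)) = _
          rw [← hind, C.map_x i j hij u, hσ i j hij])
    have hd1 : d = 1 := by
      have hdd : ∀ u : F4, trn (d * σ u) = trn u := by
        intro u
        have h1 := congrArg γ (hrow u 1)
        rw [map_mul, map_mul, map_mul, map_pow, hx 0 1 (by decide), hx 0 2 (by decide),
          hαt m] at h1
        change C.x 1 2 _ * C.x 0 2 _ = C.x 0 2 _ * C.x 1 2 _ * _ at h1
        rw [hcol] at h1
        have h2 := mul_left_cancel h1
        have h3 := tpow _ _ (trn_le _) (trn_le _) h2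
        rw [mul_one] at h3
        rw [← h3, map_one, mul_one]
        congr 1
        have : ∀ x : F4, d * x = (dd d (rv 1) * (dd d (rv 0))⁻¹ * x) *
            (dd d (rv 2) * (dd d (rv 0))⁻¹) := by
          clear * -
          revert d; decide
        exact this _
      rcases hσ' with hs | hs
      · exact hfin _ hd (fun u => by rw [← hdd u]; congr 2; exact (hs u).symm)
      · exact hfin2 _ hd (fun u => by rw [← hdd u]; congr 2; exact (hs u).symm)
    refine ⟨m, σ, hσ', hh', Or.inr ?_⟩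
    intro i j hij u
    rw [← hγ, hx i j hij u, hd1]
    congr 1
    have : ∀ i j : Fin 3, dd 1 i * (dd 1 j)⁻¹ = 1 := by decide
    rw [this, one_mul]

end Cfsg.Agent.ONType.OuterM
end

-- part: ONType/OuterC
section
/-!
The outer element `τ` of a group `C₀` with a normal subgroup `M` of index two which is a perfect
central extension of `PSL(3,4)`.
-/

set_option autoImplicit false
set_option linter.constructorNameAsVariable false

namespace Cfsg.Agent.ONType.OuterC

open Cfsg.Agent.SporadicA.FieldFour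
open Cfsg.Agent.ONType.Psl
open Cfsg.Agent.ONType.Lift
open Cfsg.Agent.ONType.OuterL
open Cfsg.Agent.ONType.OuterM
open Cfsg.Agent.ClassicalGeometry.AutPSL.Root
open scoped commutatorElement

/-- The root elements generate `PSL(3,4)`. -/
theorem closure_t :
    Subgroup.closure {y : PSL3 | ∃ (i j : Fin 3) (u : F4), i ≠ j ∧ y = t i j u} = ⊤ := by
  rw [eq_top_iff]
  intro y _
  obtain ⟨x, rfl⟩ := pr_surjective y
  refine Cfsg.Agent.LieClassical.SLGen.transvection_induction
    (fun x => (pr x : PSL3) ∈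
      Subgroup.closure {y : PSL3 | ∃ (i j : Fin 3) (u : F4), i ≠ j ∧ y = t i j u})
    (fun i j hij c => ?_) (fun A B hA hB => ?_) x
  · exact Subgroup.subset_closure ⟨i, j, c, hij, t_eq i j hij c⟩
  · rw [map_mul]; exact mul_mem hA hB

variable {M : Type*} [Group M] {π : M →* PSL3}

/-- In a perfect central extension the canonical lifts generate. -/
theorem closure_x (C : CExt π) (hperf : commutator M = ⊤) :
    Subgroup.closure {y : M | ∃ (i j : Fin 3) (u : F4), i ≠ j ∧ y = C.x i j u} = ⊤ := by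
  set K := Subgroup.closure {y : M | ∃ (i j : Fin 3) (u : F4), i ≠ j ∧ y = C.x i j u} with hK
  have hmap : K.map π = ⊤ := by
    rw [eq_top_iff, ← closure_t, Subgroup.closure_le]
    rintro y ⟨i, j, u, hij, rfl⟩
    exact ⟨C.x i j u, Subgroup.subset_closure ⟨i, j, u, hij, rfl⟩, C.map_x i j hij u⟩
  have hdec : ∀ m : M, ∃ k ∈ K, ∃ c : M, π c = 1 ∧ m = k * c := by
    intro m
    have : π m ∈ K.map π := by rw [hmap]; trivial
    obtain ⟨k, hk, hkm⟩ := this
    obtain ⟨c, hc, hc'⟩ := CExt.eq_mul_of_map_eq hkm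
    exact ⟨k, hk, c, hc, hc'⟩
  rw [eq_top_iff, ← hperf, commutator_def, Subgroup.commutator_le]
  intro a _ b _
  obtain ⟨k, hk, c, hc, rfl⟩ := hdec a
  obtain ⟨l, hl, d, hd, rfl⟩ := hdec b
  have cc := C.cen c hc
  have cd := C.cen d hd
  have hcomm : ⁅k * c, l * d⁆ = ⁅k, l⁆ := by
    have e1 : ∀ x y z : M, π z = 1 → ⁅x * z, y⁆ = ⁅x, y⁆ := by
      intro x y z hz
      have h1 := C.cen z hz
      have h2 : z * y * z⁻¹ = y := by rw [h1 y, mul_inv_cancel_right]
      calc ⁅x * z, y⁆ = x * (z * y * z⁻¹) * x⁻¹ * y⁻¹ := by rw [commutatorElement_def]; group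
        _ = ⁅x, y⁆ := by rw [h2, commutatorElement_def]
    rw [e1 k (l * d) c hc, ← commutatorElement_inv, e1 l k d hd, commutatorElement_inv]
  rw [hcomm, commutatorElement_def]
  exact K.mul_mem (K.mul_mem (K.mul_mem hk hl) (K.inv_mem hk)) (K.inv_mem hl)

/-- Endomorphisms agreeing on the canonical lifts are equal. -/
theorem hom_ext (C : CExt π) (hperf : commutator M = ⊤) {N : Type*} [Group N] {f g : M →* N}
    (h : ∀ i j : Fin 3, i ≠ j → ∀ u : F4, f (C.x i j u) = g (C.x i j u)) : f = g := by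
  refine MonoidHom.eq_of_eqOn_dense (closure_x C hperf) ?_
  rintro y ⟨i, j, u, hij, rfl⟩
  exact h i j hij u

/-- **The outer element.** -/
theorem exists_tau {C₀ : Type*} [Group C₀] (M : Subgroup C₀) [M.Normal] (hne : M ≠ ⊤)
    (hout : Subgroup.centralizer (M : Set C₀) ≤ M) {π : M →* PSL3} (C : CExt π)
    (hcen : ∀ k : M, (∀ m, k * m = m * k) → π k = 1) (hperf : commutator M = ⊤)
    (t' : M) (ht1 : t' ≠ 1) (htc : ∀ c : C₀, c * (t' : C₀) * c⁻¹ = t')
    (hrow : ∀ u v : F4, C.x 0 1 u * C.x 0 2 v = C.x 0 2 v * C.x 0 1 u * t' ^ trn (u * v))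
    (hcol : ∀ u v : F4, C.x 1 2 u * C.x 0 2 v = C.x 0 2 v * C.x 1 2 u * t' ^ trn (u * v)) :
    ∃ (τ : C₀) (σ : F4 → F4), τ ∉ M ∧ ((∀ u, σ u = u) ∨ (∀ u, σ u = u * u)) ∧
      (τ⁻¹ * (C.h : C₀) * τ = C.h ∨ τ⁻¹ * (C.h : C₀) * τ = ((C.h)⁻¹ : M)) ∧
      (((∀ u, σ u = u * u) ∧
          ∀ i j : Fin 3, i ≠ j → ∀ u : F4, τ⁻¹ * (C.x i j u : C₀) * τ = C.x i j (σ u)) ∨
       (∀ i j : Fin 3, i ≠ j → ∀ u : F4,
          τ⁻¹ * (C.x i j u : C₀) * τ = C.x (rv j) (rv i) (σ u))) ∧
      (∃ c : M, (c : C₀) = τ * τ ∧ π c = 1) := by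
  obtain ⟨g, hg⟩ : ∃ g : C₀, g ∉ M := by
    by_contra hcon
    push Not at hcon
    exact hne (eq_top_iff.2 fun x _ => hcon x)
  obtain ⟨m, σ, hσ, hh', hx⟩ := exists_outer C hcen t' ht1 hrow hcol (MulAut.conjNormal g)
    (fun m => by
      apply Subtype.ext
      rw [MulAut.mul_apply, MulAut.conj_apply]
      show (m : C₀) * (MulAut.conjNormal g t' : M) * (m : C₀)⁻¹ = t'
      rw [MulAut.conjNormal_apply, htc, htc])
  set τ' : C₀ := m * g with hτ'
  have hτ'M : τ' ∉ M := fun h => hg ((Subgroup.mul_mem_cancel_left M m.2).1 h)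
  have hact : ∀ y : M, (((MulAut.conj m * MulAut.conjNormal g : MulAut M) y : M) : C₀)
      = τ' * (y : C₀) * τ'⁻¹ := by
    intro y
    rw [MulAut.mul_apply, MulAut.conj_apply]
    show (m : C₀) * (MulAut.conjNormal g y : M) * (m : C₀)⁻¹ = _
    rw [MulAut.conjNormal_apply, hτ']
    group
  have hσσ : ∀ u, σ (σ u) = u := by
    intro u
    rcases hσ with h | h
    · rw [h, h]
    · rw [h, h]; cases u <;> rfl
  -- `τ'` acts on the canonical lifts
  have hx' : (∀ i j : Fin 3, i ≠ j → ∀ u : F4, τ' * (C.x i j u : C₀) * τ'⁻¹ = C.x i j (σ u)) ∨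
       (∀ i j : Fin 3, i ≠ j → ∀ u : F4,
          τ' * (C.x i j u : C₀) * τ'⁻¹ = C.x (rv j) (rv i) (σ u)) := by
    rcases hx with h | h
    · left; intro i j hij u; rw [← hact, h i j hij u]
    · right; intro i j hij u; rw [← hact, h i j hij u]
  -- an element acting trivially on the canonical lifts centralises `M`
  have hcent : ∀ y : C₀, (∀ i j : Fin 3, i ≠ j → ∀ u : F4,
      y * (C.x i j u : C₀) * y⁻¹ = C.x i j u) → y ∈ Subgroup.centralizer (M : Set C₀) := by
    intro y hy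
    have h1 : (MulAut.conjNormal y : MulAut M).toMonoidHom = MonoidHom.id M := by
      apply hom_ext C hperf
      intro i j hij u
      apply Subtype.ext
      show ((MulAut.conjNormal y (C.x i j u) : M) : C₀) = _
      rw [MulAut.conjNormal_apply]
      exact hy i j hij u
    rw [Subgroup.mem_centralizer_iff]
    intro k hk
    have h2 := congrArg (fun f : M →* M => ((f ⟨k, hk⟩ : M) : C₀)) h1
    change ((MulAut.conjNormal y ⟨k, hk⟩ : M) : C₀) = k at h2
    rw [MulAut.conjNormal_apply] at h2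
    change y * k * y⁻¹ = k at h2
    rw [mul_inv_eq_iff_eq_mul] at h2
    exact h2.symm
  have hsq : τ' * τ' ∈ Subgroup.centralizer (M : Set C₀) := by
    apply hcent
    intro i j hij u
    have e : τ' * τ' * (C.x i j u : C₀) * (τ' * τ')⁻¹ = τ' * (τ' * (C.x i j u : C₀) * τ'⁻¹) * τ'⁻¹ := by
      group
    rw [e]
    rcases hx' with h | h
    · rw [h i j hij u, h i j hij, hσσ]
    · rw [h i j hij u, h _ _ (rv_ne hij.symm), hσσ, rv_rv, rv_rv]
  refine ⟨τ'⁻¹, σ, fun h => hτ'M ((Subgroup.inv_mem_iff M).1 h), hσ, ?_, ?_, ?_⟩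
  · rw [inv_inv]
    rcases hh' with h | h
    · left; rw [← hact, h]
    · right; rw [← hact, h]
  · rw [inv_inv]
    rcases hx' with h | h
    · rcases hσ with hs | hs
      · exfalso
        apply hτ'M
        apply hout
        apply hcent
        intro i j hij u
        rw [h i j hij u, hs]
      · exact Or.inl ⟨hs, h⟩
    · exact Or.inr h
  · have hM : τ' * τ' ∈ M := hout hsq
    have h1 : π ⟨τ' * τ', hM⟩ = 1 := by
      apply hcen
      intro m
      apply Subtype.ext
      exact ((Subgroup.mem_centralizer_iff.1 hsq) m m.2).symm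
    refine ⟨⟨τ' * τ', hM⟩⁻¹, ?_, by rw [map_inv, h1, inv_one]⟩
    rw [Subgroup.coe_inv]
    show (τ' * τ')⁻¹ = _
    rw [mul_inv_rev]

end Cfsg.Agent.ONType.OuterC
end
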