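import Cfsg.Agent.ONType.Lift
import Mathlib
import Cfsg.Agent.ONType.PslCard
set_option linter.all false

-- part: ONType/Comm
section
/-!
# Commutators of the canonical lifts
-/

set_option autoImplicit false
set_option linter.constructorNameAsVariable false
set_option linter.unusedVariables false

namespace Cfsg.Agent.ONType.Comm

open Cfsg.Agent.SporadicA.FieldFour
open Cfsg.Agent.ONType.Psl
open Cfsg.Agent.ONType.Lift

variable {M : Type*} [Group M] {π : M →* PSL3}

/-- commutator `a⁻¹ b⁻¹ a b` -/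
def cm (a b : M) : M := a⁻¹ * b⁻¹ * a * b

theorem cm_spec (a b : M) : a * b = b * a * cm a b := by unfold cm; group

theorem cm_mul_left (a b c : M) : cm (a * b) c = b⁻¹ * cm a c * b * cm b c := by
  unfold cm; group

theorem cm_mul_right (a b c : M) : cm a (b * c) = cm a c * (c⁻¹ * cm a b * c) := by
  unfold cm; group

theorem cm_conj (a b m : M) : m⁻¹ * cm a b * m = cm (m⁻¹ * a * m) (m⁻¹ * b * m) := by
  unfold cm; group

theorem cm_inv (a b : M) : (cm a b)⁻¹ = cm b a := by unfold cm; group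

theorem cm_one_left (b : M) : cm 1 b = 1 := by unfold cm; group
theorem cm_one_right (b : M) : cm b 1 = 1 := by unfold cm; group

/-- conjugating a central element -/
theorem conj_central {c : M} (hc : ∀ m : M, c * m = m * c) (m : M) : m⁻¹ * c * m = c := by
  rw [mul_assoc, hc, ← mul_assoc, inv_mul_cancel, one_mul]

end Cfsg.Agent.ONType.Comm

namespace Cfsg.Agent.ONType

namespace Lift.CExt

open Cfsg.Agent.SporadicA.FieldFour
open Cfsg.Agent.ONType.Psl
open Cfsg.Agent.ONType.Comm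

variable {M : Type*} [Group M] {π : M →* PSL3} (C : CExt π)
include C

/-- every permutation of the indices is induced by an element -/
theorem exists_perm (σ : Equiv.Perm (Fin 3)) :
    ∃ m : M, ∀ i j : Fin 3, i ≠ j → ∀ u : F4, m⁻¹ * C.x i j u * m = C.x (σ i) (σ j) u := by
  induction σ using Equiv.Perm.swap_induction_on with
  | one => exact ⟨1, fun i j _ u => by simp⟩
  | swap_mul f a b hab ih =>
    obtain ⟨m, hm⟩ := ih
    refine ⟨m * C.n a b, fun i j hij u => ?_⟩
    have h1 := hm i j hij u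
    have h2 := C.n_conj_x a b (f i) (f j) hab (fun e => hij (f.injective e)) u
    calc (m * C.n a b)⁻¹ * C.x i j u * (m * C.n a b)
        = (C.n a b)⁻¹ * (m⁻¹ * C.x i j u * m) * C.n a b := by group
      _ = C.x (Equiv.swap a b (f i)) (Equiv.swap a b (f j)) u := by rw [h1, h2]
      _ = _ := rfl

omit C in
theorem exists_sigma (i j k : Fin 3) (h1 : i ≠ j) (h2 : i ≠ k) (h3 : j ≠ k) :
    ∃ σ : Equiv.Perm (Fin 3), σ 0 = i ∧ σ 1 = j ∧ σ 2 = k := by
  revert i j k; decide

/-- row commutator -/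
noncomputable def F (u v : F4) : M := cm (C.x 0 1 u) (C.x 0 2 v)
/-- column commutator -/
noncomputable def F' (u v : F4) : M := cm (C.x 0 2 u) (C.x 1 2 v)
/-- central part of the Chevalley commutator -/
noncomputable def K (u v : F4) : M := (C.x 0 2 (u * v))⁻¹ * cm (C.x 0 1 u) (C.x 1 2 v)

theorem map_cm_row (i j k : Fin 3) (h1 : i ≠ j) (h2 : i ≠ k) (u v : F4) :
    π (cm (C.x i j u) (C.x i k v)) = 1 := by
  unfold cm
  simp only [map_mul, map_inv, C.map_x i j h1, C.map_x i k h2]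
  rw [mul_assoc, t_row i j k u v h1 h2]; group

theorem map_cm_col (i j k : Fin 3) (h1 : i ≠ j) (h2 : k ≠ j) (u v : F4) :
    π (cm (C.x i j u) (C.x k j v)) = 1 := by
  unfold cm
  simp only [map_mul, map_inv, C.map_x i j h1, C.map_x k j h2]
  rw [mul_assoc, t_col i j k u v h1 h2]; group

theorem map_cm_sum (i j k : Fin 3) (h1 : i ≠ j) (h2 : i ≠ k) (h3 : j ≠ k) (u v : F4) :
    π (cm (C.x i k u) (C.x k j v)) = t i j (u * v) := by
  unfold cm
  simp only [map_mul, map_inv, C.map_x i k h2, C.map_x k j h3.symm]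
  rw [mul_assoc, t_sum i j k u v h1 h2 h3]; group

theorem F_map (u v : F4) : π (C.F u v) = 1 := C.map_cm_row 0 1 2 (by decide) (by decide) u v
theorem F'_map (u v : F4) : π (C.F' u v) = 1 := C.map_cm_col 0 2 1 (by decide) (by decide) u v
theorem K_map (u v : F4) : π (C.K u v) = 1 := by
  rw [K, map_mul, map_inv, C.map_x 0 2 (by decide),
    C.map_cm_sum 0 2 1 (by decide) (by decide) (by decide), inv_mul_cancel]

theorem F_cen (u v : F4) (m : M) : C.F u v * m = m * C.F u v := C.cen _ (C.F_map u v) m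
theorem F'_cen (u v : F4) (m : M) : C.F' u v * m = m * C.F' u v := C.cen _ (C.F'_map u v) m
theorem K_cen (u v : F4) (m : M) : C.K u v * m = m * C.K u v := C.cen _ (C.K_map u v) m

theorem cm_row (i j k : Fin 3) (h1 : i ≠ j) (h2 : i ≠ k) (h3 : j ≠ k) (u v : F4) :
    cm (C.x i j u) (C.x i k v) = C.F u v := by
  obtain ⟨σ, s0, s1, s2⟩ := exists_sigma i j k h1 h2 h3
  obtain ⟨m, hm⟩ := C.exists_perm σ
  have e1 := hm 0 1 (by decide) u
  have e2 := hm 0 2 (by decide) v
  rw [s0, s1] at e1; rw [s0, s2] at e2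
  rw [← e1, ← e2, ← cm_conj]
  exact conj_central (C.F_cen u v) m

theorem cm_col (i j k : Fin 3) (h1 : i ≠ j) (h2 : i ≠ k) (h3 : j ≠ k) (u v : F4) :
    cm (C.x i j u) (C.x k j v) = C.F' u v := by
  obtain ⟨σ, s0, s1, s2⟩ := exists_sigma i k j h2 h1 h3.symm
  obtain ⟨m, hm⟩ := C.exists_perm σ
  have e1 := hm 0 2 (by decide) u
  have e2 := hm 1 2 (by decide) v
  rw [s0, s2] at e1; rw [s1, s2] at e2
  rw [← e1, ← e2, ← cm_conj]
  exact conj_central (C.F'_cen u v) m

theorem cm_sum (i j k : Fin 3) (h1 : i ≠ j) (h2 : i ≠ k) (h3 : j ≠ k) (u v : F4) :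
    cm (C.x i k u) (C.x k j v) = C.x i j (u * v) * C.K u v := by
  obtain ⟨σ, s0, s1, s2⟩ := exists_sigma i k j h2 h1 h3.symm
  obtain ⟨m, hm⟩ := C.exists_perm σ
  have e1 := hm 0 1 (by decide) u
  have e2 := hm 1 2 (by decide) v
  have e3 := hm 0 2 (by decide) (u * v)
  rw [s0, s1] at e1; rw [s1, s2] at e2; rw [s0, s2] at e3
  rw [← e1, ← e2, ← e3, ← cm_conj]
  have : cm (C.x 0 1 u) (C.x 1 2 v) = C.x 0 2 (u * v) * C.K u v := by unfold K; group
  rw [this]
  have h := conj_central (C.K_cen u v) m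
  calc m⁻¹ * (C.x 0 2 (u * v) * C.K u v) * m
      = (m⁻¹ * C.x 0 2 (u * v) * m) * (m⁻¹ * C.K u v * m) := by group
    _ = _ := by rw [h]

/-! ### additivity -/

theorem F_add_left (u u' v : F4) : C.F (u + u') v = C.F u v * C.F u' v := by
  show cm _ _ = _
  rw [← C.x_add 0 1 (by decide), cm_mul_left]
  show (C.x 0 1 u')⁻¹ * C.F u v * C.x 0 1 u' * C.F u' v = _
  rw [conj_central (C.F_cen u v)]

theorem F_add_right (u v v' : F4) : C.F u (v + v') = C.F u v * C.F u v' := by
  show cm _ _ = _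
  rw [← C.x_add 0 2 (by decide), cm_mul_right]
  show C.F u v' * ((C.x 0 2 v')⁻¹ * C.F u v * C.x 0 2 v') = _
  rw [conj_central (C.F_cen u v), C.F_cen]

theorem F'_add_left (u u' v : F4) : C.F' (u + u') v = C.F' u v * C.F' u' v := by
  show cm _ _ = _
  rw [← C.x_add 0 2 (by decide), cm_mul_left]
  show (C.x 0 2 u')⁻¹ * C.F' u v * C.x 0 2 u' * C.F' u' v = _
  rw [conj_central (C.F'_cen u v)]

theorem F'_add_right (u v v' : F4) : C.F' u (v + v') = C.F' u v * C.F' u v' := by
  show cm _ _ = _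
  rw [← C.x_add 1 2 (by decide), cm_mul_right]
  show C.F' u v' * ((C.x 1 2 v')⁻¹ * C.F' u v * C.x 1 2 v') = _
  rw [conj_central (C.F'_cen u v), C.F'_cen]

theorem F_zero_left (v : F4) : C.F 0 v = 1 := by
  show cm _ _ = _
  rw [C.x_zero 0 1 (by decide), cm_one_left]

theorem F_zero_right (v : F4) : C.F v 0 = 1 := by
  show cm _ _ = _
  rw [C.x_zero 0 2 (by decide), cm_one_right]

theorem F'_zero_left (v : F4) : C.F' 0 v = 1 := by
  show cm _ _ = _
  rw [C.x_zero 0 2 (by decide), cm_one_left]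

theorem F'_zero_right (v : F4) : C.F' v 0 = 1 := by
  show cm _ _ = _
  rw [C.x_zero 1 2 (by decide), cm_one_right]

omit C in
theorem add_self (u : F4) : u + u = 0 := by revert u; decide

theorem F_sq (u v : F4) : C.F u v * C.F u v = 1 := by
  rw [← C.F_add_left, add_self, C.F_zero_left]

theorem F'_sq (u v : F4) : C.F' u v * C.F' u v = 1 := by
  rw [← C.F'_add_left, add_self, C.F'_zero_left]

/-! ### invariance under the torus -/

theorem F_h (u v : F4) : C.F (ω * u) (ω2 * v) = C.F u v := by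
  have e1 := C.h_conj_x 0 1 (by decide) u
  have e2 := C.h_conj_x 0 2 (by decide) v
  have k1 : kap 0 1 = ω := by decide
  have k2 : kap 0 2 = ω2 := by decide
  rw [k1] at e1; rw [k2] at e2
  show cm _ _ = _
  rw [← e1, ← e2, ← cm_conj]
  exact conj_central (C.F_cen u v) _

theorem F'_h (u v : F4) : C.F' (ω2 * u) (ω * v) = C.F' u v := by
  have e1 := C.h_conj_x 0 2 (by decide) u
  have e2 := C.h_conj_x 1 2 (by decide) v
  have k1 : kap 0 2 = ω2 := by decide
  have k2 : kap 1 2 = ω := by decide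
  rw [k1] at e1; rw [k2] at e2
  show cm _ _ = _
  rw [← e1, ← e2, ← cm_conj]
  exact conj_central (C.F'_cen u v) _

theorem K_h (u v : F4) : C.K (ω * u) (ω * v) = C.K u v := by
  have e1 := C.h_conj_x 0 1 (by decide) u
  have e2 := C.h_conj_x 1 2 (by decide) v
  have e3 := C.h_conj_x 0 2 (by decide) (u * v)
  have k1 : kap 0 1 = ω := by decide
  have k2 : kap 1 2 = ω := by decide
  have k3 : kap 0 2 = ω2 := by decide
  rw [k1] at e1; rw [k2] at e2; rw [k3] at e3
  have h4 : ω * u * (ω * v) = ω2 * (u * v) := by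
    have : ∀ u v : F4, ω * u * (ω * v) = ω2 * (u * v) := by decide
    exact this u v
  unfold K
  rw [h4, ← e1, ← e2, ← e3, ← cm_conj]
  have h5 : (C.h)⁻¹ * C.K u v * C.h = C.K u v := conj_central (C.K_cen u v) _
  unfold K at h5
  rw [← h5]; group

/-- the row form -/
noncomputable def f (s : F4) : M := C.F 1 s
/-- the column form -/
noncomputable def f' (s : F4) : M := C.F' 1 s
/-- the quadratic function -/
noncomputable def g (s : F4) : M := C.K s 1

theorem F_eq (u v : F4) : C.F u v = C.f (u * v) := by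
  unfold f
  have key : ∀ a b c d : F4, C.F (ω * a) (ω2 * b) = C.F a b := fun a b _ _ => C.F_h a b
  cases u
  · have h0 : (F4.z : F4) = 0 := rfl
    rw [h0, zero_mul, C.F_zero_left, C.F_zero_right]
  · have h0 : (F4.o : F4) = 1 := rfl
    rw [h0, one_mul]
  · have := C.F_h 1 (ω * v)
    have e1 : ω2 * (ω * v) = v := by
      have : ∀ v : F4, ω2 * (ω * v) = v := by decide
      exact this v
    rw [e1, mul_one] at this
    exact this
  · have h1 := C.F_h ω (ω * v)
    have e1 : ω2 * (ω * v) = v := by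
      have : ∀ v : F4, ω2 * (ω * v) = v := by decide
      exact this v
    have e2 : ω * ω = F4.v := by decide
    rw [e1, e2] at h1
    have h2 := C.F_h 1 (ω * (ω * v))
    have e3 : ω2 * (ω * (ω * v)) = ω * v := by
      have : ∀ v : F4, ω2 * (ω * (ω * v)) = ω * v := by decide
      exact this v
    rw [e3, mul_one] at h2
    have e4 : F4.v * v = ω * (ω * v) := by
      have : ∀ v : F4, F4.v * v = ω * (ω * v) := by decide
      exact this v
    rw [h1, h2, e4]

theorem F'_eq (u v : F4) : C.F' u v = C.f' (u * v) := by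
  unfold f'
  cases u
  · have h0 : (F4.z : F4) = 0 := rfl
    rw [h0, zero_mul, C.F'_zero_left, C.F'_zero_right]
  · have h0 : (F4.o : F4) = 1 := rfl
    rw [h0, one_mul]
  · have h1 := C.F'_h ω2 (ω2 * v)
    have e1 : ω * (ω2 * v) = v := by
      have : ∀ v : F4, ω * (ω2 * v) = v := by decide
      exact this v
    have e2 : ω2 * ω2 = F4.w := by decide
    rw [e1, e2] at h1
    have h2 := C.F'_h 1 (ω2 * (ω2 * v))
    have e3 : ω * (ω2 * (ω2 * v)) = ω2 * v := by
      have : ∀ v : F4, ω * (ω2 * (ω2 * v)) = ω2 * v := by decide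
      exact this v
    rw [e3, mul_one] at h2
    have e4 : F4.w * v = ω2 * (ω2 * v) := by
      have : ∀ v : F4, F4.w * v = ω2 * (ω2 * v) := by decide
      exact this v
    rw [h1, h2, e4]
  · have := C.F'_h 1 (ω2 * v)
    have e1 : ω * (ω2 * v) = v := by
      have : ∀ v : F4, ω * (ω2 * v) = v := by decide
      exact this v
    rw [e1, mul_one] at this
    exact this

theorem K_eq (u v : F4) : C.K u v = C.g (u * (v * v)) := by
  unfold g
  cases v
  · have h0 : (F4.z : F4) = 0 := rfl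
    rw [h0, zero_mul, mul_zero]
    unfold K
    rw [C.x_zero 1 2 (by decide), zero_mul, C.x_zero 0 1 (by decide), cm_one_left, cm_one_right,
      mul_zero]
  · have h0 : (F4.o : F4) = 1 := rfl
    rw [h0, one_mul, mul_one]
  · have h1 := C.K_h (ω2 * u) 1
    have e1 : ω * (ω2 * u) = u := by
      have : ∀ v : F4, ω * (ω2 * v) = v := by decide
      exact this u
    rw [e1, mul_one] at h1
    have e4 : u * (F4.w * F4.w) = ω2 * u := by
      have : ∀ v : F4, v * (F4.w * F4.w) = ω2 * v := by decide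
      exact this u
    rw [h1, e4]
  · have h1 := C.K_h (ω2 * u) ω
    have e1 : ω * (ω2 * u) = u := by
      have : ∀ v : F4, ω * (ω2 * v) = v := by decide
      exact this u
    have e2 : ω * ω = F4.v := by decide
    rw [e1, e2] at h1
    have h2 := C.K_h (ω * u) 1
    have e3 : ω * (ω * u) = ω2 * u := by
      have : ∀ v : F4, ω * (ω * v) = ω2 * v := by decide
      exact this u
    rw [e3, mul_one] at h2
    have e4 : u * (F4.v * F4.v) = ω * u := by
      have : ∀ v : F4, v * (F4.v * F4.v) = ω * v := by decide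
      exact this u
    rw [h1, h2, e4]

theorem f_add (s s' : F4) : C.f (s + s') = C.f s * C.f s' := C.F_add_right 1 s s'
theorem f'_add (s s' : F4) : C.f' (s + s') = C.f' s * C.f' s' := C.F'_add_right 1 s s'
theorem f_zero : C.f 0 = 1 := C.F_zero_right 1
theorem f'_zero : C.f' 0 = 1 := C.F'_zero_right 1
theorem f_sq (s : F4) : C.f s * C.f s = 1 := C.F_sq 1 s
theorem f'_sq (s : F4) : C.f' s * C.f' s = 1 := C.F'_sq 1 s
theorem f_cen (s : F4) (m : M) : C.f s * m = m * C.f s := C.F_cen 1 s m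
theorem f'_cen (s : F4) (m : M) : C.f' s * m = m * C.f' s := C.F'_cen 1 s m
theorem g_cen (s : F4) (m : M) : C.g s * m = m * C.g s := C.K_cen s 1 m
theorem f_map (s : F4) : π (C.f s) = 1 := C.F_map 1 s
theorem g_map (s : F4) : π (C.g s) = 1 := C.K_map s 1

theorem g_zero : C.g 0 = 1 := by
  show C.K 0 1 = 1
  unfold K
  rw [C.x_zero 0 1 (by decide), cm_one_left, zero_mul, C.x_zero 0 2 (by decide)]; group

theorem K_add_left (u u' v : F4) : C.K (u + u') v = C.K u v * C.K u' v * C.F u' (u * v) := by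
  have h1 : cm (C.x 0 1 (u + u')) (C.x 1 2 v) = C.x 0 2 ((u + u') * v) * C.K (u + u') v :=
    C.cm_sum 0 2 1 (by decide) (by decide) (by decide) _ _
  have h2 : cm (C.x 0 1 u) (C.x 1 2 v) = C.x 0 2 (u * v) * C.K u v :=
    C.cm_sum 0 2 1 (by decide) (by decide) (by decide) _ _
  have h3 : cm (C.x 0 1 u') (C.x 1 2 v) = C.x 0 2 (u' * v) * C.K u' v :=
    C.cm_sum 0 2 1 (by decide) (by decide) (by decide) _ _
  rw [← C.x_add 0 1 (by decide), cm_mul_left, h2, h3] at h1
  have h4 : (C.x 0 1 u')⁻¹ * C.x 0 2 (u * v) * C.x 0 1 u' = C.x 0 2 (u * v) * C.F u' (u * v) := by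
    have := C.cm_row 0 1 2 (by decide) (by decide) (by decide) u' (u * v)
    have hs := C.F_sq u' (u * v)
    have hi : C.F u' (u * v) = (C.F u' (u * v))⁻¹ := by
      rw [eq_comm]; exact inv_eq_of_mul_eq_one_left hs
    rw [hi, ← this, cm_inv]
    unfold cm; group
  have h5 : (C.x 0 1 u')⁻¹ * (C.x 0 2 (u * v) * C.K u v) * C.x 0 1 u' =
      C.x 0 2 (u * v) * C.F u' (u * v) * C.K u v := by
    calc _ = (C.x 0 1 u')⁻¹ * C.x 0 2 (u * v) * (C.K u v * C.x 0 1 u') := by group
      _ = (C.x 0 1 u')⁻¹ * C.x 0 2 (u * v) * (C.x 0 1 u' * C.K u v) := by rw [C.K_cen]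
      _ = ((C.x 0 1 u')⁻¹ * C.x 0 2 (u * v) * C.x 0 1 u') * C.K u v := by group
      _ = _ := by rw [h4]
  rw [h5, add_mul, ← C.x_add 0 2 (by decide)] at h1
  have h6 : C.x 0 2 (u * v) * C.F u' (u * v) * C.K u v * (C.x 0 2 (u' * v) * C.K u' v) =
      C.x 0 2 (u * v) * C.x 0 2 (u' * v) * (C.K u v * C.K u' v * C.F u' (u * v)) := by
    calc _ = C.x 0 2 (u * v) * (C.F u' (u * v) * (C.K u v * C.x 0 2 (u' * v)) * C.K u' v) := by group
      _ = C.x 0 2 (u * v) * (C.F u' (u * v) * C.x 0 2 (u' * v) * (C.K u v * C.K u' v)) := by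
          rw [C.K_cen]; group
      _ = C.x 0 2 (u * v) * (C.x 0 2 (u' * v) * (C.F u' (u * v) * (C.K u v * C.K u' v))) := by
          rw [C.F_cen]; group
      _ = C.x 0 2 (u * v) * (C.x 0 2 (u' * v) * ((C.K u v * C.K u' v) * C.F u' (u * v))) := by
          rw [C.F_cen u' (u * v) (C.K u v * C.K u' v)]
      _ = _ := by group
  rw [h6] at h1
  exact (mul_left_cancel h1).symm

theorem g_add (s s' : F4) : C.g (s + s') = C.g s * C.g s' * C.f (s * s') := by
  have h := C.K_add_left s s' 1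
  rw [mul_one, C.F_eq, mul_comm s' s] at h
  exact h

theorem K_add_right (u v v' : F4) : C.K u (v + v') = C.K u v * C.K u v' * C.F' (u * v) v' := by
  have h1 : cm (C.x 0 1 u) (C.x 1 2 (v + v')) = C.x 0 2 (u * (v + v')) * C.K u (v + v') :=
    C.cm_sum 0 2 1 (by decide) (by decide) (by decide) _ _
  have h2 : cm (C.x 0 1 u) (C.x 1 2 v) = C.x 0 2 (u * v) * C.K u v :=
    C.cm_sum 0 2 1 (by decide) (by decide) (by decide) _ _
  have h3 : cm (C.x 0 1 u) (C.x 1 2 v') = C.x 0 2 (u * v') * C.K u v' :=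
    C.cm_sum 0 2 1 (by decide) (by decide) (by decide) _ _
  rw [← C.x_add 1 2 (by decide), cm_mul_right, h2, h3] at h1
  have h4 : (C.x 1 2 v')⁻¹ * C.x 0 2 (u * v) * C.x 1 2 v' = C.x 0 2 (u * v) * C.F' (u * v) v' := by
    show _ = C.x 0 2 (u * v) * cm _ _
    unfold cm; group
  have h5 : (C.x 1 2 v')⁻¹ * (C.x 0 2 (u * v) * C.K u v) * C.x 1 2 v' =
      C.x 0 2 (u * v) * C.F' (u * v) v' * C.K u v := by
    calc _ = (C.x 1 2 v')⁻¹ * C.x 0 2 (u * v) * (C.K u v * C.x 1 2 v') := by group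
      _ = (C.x 1 2 v')⁻¹ * C.x 0 2 (u * v) * (C.x 1 2 v' * C.K u v) := by rw [C.K_cen]
      _ = ((C.x 1 2 v')⁻¹ * C.x 0 2 (u * v) * C.x 1 2 v') * C.K u v := by group
      _ = _ := by rw [h4]
  rw [h5, mul_add, ← C.x_add 0 2 (by decide)] at h1
  have hx : C.x 0 2 (u * v) * C.x 0 2 (u * v') = C.x 0 2 (u * v') * C.x 0 2 (u * v) := by
    rw [C.x_add 0 2 (by decide), C.x_add 0 2 (by decide), add_comm]
  have h6 : C.x 0 2 (u * v') * C.K u v' * (C.x 0 2 (u * v) * C.F' (u * v) v' * C.K u v) =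
      C.x 0 2 (u * v) * C.x 0 2 (u * v') * (C.K u v * C.K u v' * C.F' (u * v) v') := by
    rw [hx]
    calc _ = C.x 0 2 (u * v') * (C.K u v' * (C.x 0 2 (u * v) * (C.F' (u * v) v' * C.K u v))) := by
            group
      _ = C.x 0 2 (u * v') * (C.x 0 2 (u * v) * (C.F' (u * v) v' * (C.K u v * C.K u v'))) := by
          rw [C.K_cen u v']; group
      _ = C.x 0 2 (u * v') * (C.x 0 2 (u * v) * ((C.K u v * C.K u v') * C.F' (u * v) v')) := by
          rw [C.F'_cen (u * v) v' (C.K u v * C.K u v')]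
      _ = _ := by group
  rw [h6] at h1
  exact (mul_left_cancel h1).symm

theorem f'_eq (s : F4) : C.f' s = C.f (s * s) := by
  have h := C.K_add_right 1 s 1
  simp only [one_mul, C.K_eq, C.F'_eq, mul_one] at h
  have e : (s + 1) * (s + 1) = s * s + 1 := by
    have : ∀ s : F4, (s + 1) * (s + 1) = s * s + 1 := by decide
    exact this s
  rw [e, C.g_add, mul_one] at h
  exact (mul_left_cancel h).symm

theorem g_sq (s : F4) : C.g s * C.g s = C.f (s * s) := by
  have h := C.g_add s s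
  rw [add_self, C.g_zero] at h
  have h2 := C.f_sq (s * s)
  calc C.g s * C.g s = C.g s * C.g s * C.f (s * s) * C.f (s * s) := by
        rw [mul_assoc (C.g s * C.g s), h2, mul_one]
    _ = C.f (s * s) := by rw [← h, one_mul]

/-- the relations between the canonical lifts -/
theorem rel_row (i j k : Fin 3) (h1 : i ≠ j) (h2 : i ≠ k) (h3 : j ≠ k) (u v : F4) :
    C.x i j u * C.x i k v = C.x i k v * C.x i j u * C.f (u * v) := by
  rw [← C.F_eq, ← C.cm_row i j k h1 h2 h3]; exact cm_spec _ _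

theorem rel_col (i j k : Fin 3) (h1 : i ≠ j) (h2 : i ≠ k) (h3 : j ≠ k) (u v : F4) :
    C.x i j u * C.x k j v = C.x k j v * C.x i j u * C.f (u * u * (v * v)) := by
  have e : u * u * (v * v) = u * v * (u * v) := by ring
  rw [e, ← C.f'_eq, ← C.F'_eq, ← C.cm_col i j k h1 h2 h3]; exact cm_spec _ _

theorem rel_sum (i j k : Fin 3) (h1 : i ≠ j) (h2 : i ≠ k) (h3 : j ≠ k) (u v : F4) :
    C.x i k u * C.x k j v = C.x k j v * C.x i k u * (C.x i j (u * v) * C.g (u * (v * v))) := by
  rw [← C.K_eq, ← C.cm_sum i j k h1 h2 h3]; exact cm_spec _ _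

end Lift.CExt

end Cfsg.Agent.ONType
end

-- part: ONType/Transfer
section
set_option autoImplicit false

/-! Transfer: a central element detected by a character of exponent two of a subgroup of odd
index is not in the commutator subgroup. -/

namespace Cfsg.Agent.ONType.Transfer

/-- If `P ≤ N` has odd index, `z ∈ P` is central in `N`, and some homomorphism from `P` to an abelian
group of exponent two does not kill `z`, then `z` is not in the commutator subgroup of `N`. -/
theorem not_mem_commutator {N : Type*} [Group N] {A : Type*} [CommGroup A]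
    (P : Subgroup N) (hodd : Odd P.index) (z : N) (hzP : z ∈ P) (hz : z ∈ Subgroup.center N)
    (φ : P →* A) (hφ : φ ⟨z, hzP⟩ ≠ 1) (hA : ∀ a : A, a ^ 2 = 1) :
    z ∉ commutator N := by
  haveI : P.FiniteIndex := ⟨fun h => by rw [h] at hodd; exact absurd hodd (by decide)⟩
  intro hmem
  have key : ∀ (k : ℕ) (g₀ : N), g₀⁻¹ * z ^ k * g₀ ∈ P → g₀⁻¹ * z ^ k * g₀ = z ^ k := by
    intro k g₀ _
    have : z ^ k ∈ Subgroup.center N := (Subgroup.center N).pow_mem hz k
    have h := Subgroup.mem_center_iff.mp this g₀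
    rw [mul_assoc, ← h, ← mul_assoc, inv_mul_cancel, one_mul]
  have h1 : MonoidHom.transfer φ z = φ ⟨z ^ P.index, MonoidHom.transfer_eq_pow_aux z key⟩ :=
    MonoidHom.transfer_eq_pow φ z key
  have h2 : MonoidHom.transfer φ z = 1 := by
    have := Abelianization.commutator_subset_ker (MonoidHom.transfer φ) hmem
    exact this
  obtain ⟨m, hm⟩ := hodd
  have h3 : (⟨z ^ P.index, MonoidHom.transfer_eq_pow_aux z key⟩ : P) = ⟨z, hzP⟩ ^ P.index := by
    ext; simp
  rw [h1, h3, map_pow, hm, pow_add, pow_mul, hA, one_pow, one_mul, pow_one] at h2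
  exact hφ h2

/-- Corollary: such a group is not perfect. -/
theorem commutator_ne_top {N : Type*} [Group N] {A : Type*} [CommGroup A]
    (P : Subgroup N) (hodd : Odd P.index) (z : N) (hzP : z ∈ P) (hz : z ∈ Subgroup.center N)
    (φ : P →* A) (hφ : φ ⟨z, hzP⟩ ≠ 1) (hA : ∀ a : A, a ^ 2 = 1) :
    commutator N ≠ ⊤ := by
  intro h
  exact not_mem_commutator P hodd z hzP hz φ hφ hA (h ▸ Subgroup.mem_top z)

/-- Subgroup version: `Q ≤ P` of index two in `P`, `P` of odd index in `N`, `z ∈ P \ Q` central. -/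
theorem not_mem_commutator_of_index_two {N : Type*} [Group N]
    (P : Subgroup N) (hodd : Odd P.index) (Q : Subgroup P) (hQ : Q.index = 2)
    (z : N) (hzP : z ∈ P) (hz : z ∈ Subgroup.center N) (hzQ : (⟨z, hzP⟩ : P) ∉ Q) :
    z ∉ commutator N := by
  haveI : Q.Normal := Subgroup.normal_of_index_eq_two hQ
  have hc : Nat.card (P ⧸ Q) = 2 := hQ
  haveI : Fact (Nat.Prime 2) := ⟨Nat.prime_two⟩
  haveI hcyc : IsCyclic (P ⧸ Q) := isCyclic_of_prime_card hc
  letI : CommGroup (P ⧸ Q) := IsCyclic.commGroup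
  refine not_mem_commutator (A := P ⧸ Q) P hodd z hzP hz (QuotientGroup.mk' Q) ?_ ?_
  · intro h
    exact hzQ ((QuotientGroup.eq_one_iff _).mp h)
  · intro a
    have := pow_card_eq_one' (x := a)
    rwa [hc] at this

end Cfsg.Agent.ONType.Transfer
end

-- part: ONType/Nontriv
section
/-!
# The commutator form is not trivial when the extension is perfect with centre of order four
-/

set_option autoImplicit false
set_option linter.constructorNameAsVariable false
set_option linter.unusedVariables false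

namespace Cfsg.Agent.ONType.Lift.CExt

open Cfsg.Agent.SporadicA.FieldFour
open Cfsg.Agent.ONType.Psl
open Cfsg.Agent.ONType.PslCard
open Cfsg.Agent.ONType.Comm

variable {M : Type*} [Group M] {π : M →* PSL3} (C : CExt π)
include C

theorem mul_swap (hf : ∀ s, C.f s = 1) (b a : F4) :
    C.x 1 2 b * C.x 0 1 a = C.x 0 1 a * C.x 1 2 b * C.x 0 2 (a * b) * (C.g (a * (b * b)))⁻¹ := by
  have h := C.rel_sum 0 2 1 (by decide) (by decide) (by decide) a b
  have h2 := C.rel_row 0 2 1 (by decide) (by decide) (by decide) (a * b) a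
  have h3 := C.rel_col 0 2 1 (by decide) (by decide) (by decide) (a * b) b
  rw [hf, mul_one] at h2 h3
  have hi := C.x_inv 0 2 (by decide) (a * b)
  have hg := C.g_cen (a * (b * b))
  rw [h]
  calc C.x 1 2 b * C.x 0 1 a = C.x 1 2 b * C.x 0 1 a * (C.x 0 2 (a * b) * (C.x 0 2 (a * b))⁻¹) *
        (C.g (a * (b * b)) * (C.g (a * (b * b)))⁻¹) := by group
    _ = C.x 1 2 b * C.x 0 1 a * (C.x 0 2 (a * b) * ((C.x 0 2 (a * b))⁻¹ *
        C.g (a * (b * b))) * (C.g (a * (b * b)))⁻¹) := by group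
    _ = C.x 1 2 b * C.x 0 1 a * (C.x 0 2 (a * b) * (C.g (a * (b * b)) * C.x 0 2 (a * b)) *
        (C.g (a * (b * b)))⁻¹) := by rw [← hg, hi]
    _ = _ := by group

/-- normal form product -/
noncomputable def nf (a b c : F4) (k : M) : M := C.x 0 1 a * C.x 1 2 b * C.x 0 2 c * k

theorem map_nf (a b c : F4) (k : M) (hk : π k = 1) :
    π (C.nf a b c k) = t 0 1 a * t 1 2 b * t 0 2 c := by
  unfold nf
  rw [map_mul, map_mul, map_mul, C.map_x 0 1 (by decide), C.map_x 1 2 (by decide),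
    C.map_x 0 2 (by decide), hk, mul_one]

theorem nf_mul (hf : ∀ s, C.f s = 1) (a b c a' b' c' : F4) (k k' : M) (hk : π k = 1)
    (hk' : π k' = 1) : C.nf a b c k * C.nf a' b' c' k' =
      C.nf (a + a') (b + b') (a' * b + c + c') (k * k' * (C.g (a' * (b * b)))⁻¹) := by
  have h2 := C.rel_row 0 2 1 (by decide) (by decide) (by decide) c a'
  have h3 := C.rel_col 0 2 1 (by decide) (by decide) (by decide) c b'
  have h3' := C.rel_col 0 2 1 (by decide) (by decide) (by decide) (a' * b) b'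
  rw [hf, mul_one] at h2 h3 h3'
  have ck := C.cen k hk
  have ck' := C.cen k' hk'
  have cg : ∀ m : M, (C.g (a' * (b * b)))⁻¹ * m = m * (C.g (a' * (b * b)))⁻¹ := by
    intro m
    exact C.cen _ (by rw [map_inv, C.g_map, inv_one]) m
  unfold nf
  calc C.x 0 1 a * C.x 1 2 b * C.x 0 2 c * k * (C.x 0 1 a' * C.x 1 2 b' * C.x 0 2 c' * k')
      = C.x 0 1 a * C.x 1 2 b * C.x 0 2 c * (k * (C.x 0 1 a' * C.x 1 2 b' * C.x 0 2 c')) * k' := by
        group
    _ = C.x 0 1 a * C.x 1 2 b * (C.x 0 2 c * C.x 0 1 a') * C.x 1 2 b' * C.x 0 2 c' * (k * k') := by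
        rw [ck]; group
    _ = C.x 0 1 a * C.x 1 2 b * C.x 0 1 a' * (C.x 0 2 c * C.x 1 2 b') * C.x 0 2 c' * (k * k') := by
        rw [h2]; group
    _ = C.x 0 1 a * (C.x 1 2 b * C.x 0 1 a') * C.x 1 2 b' * (C.x 0 2 c * C.x 0 2 c') * (k * k') := by
        rw [h3]; group
    _ = C.x 0 1 a * (C.x 0 1 a' * C.x 1 2 b * C.x 0 2 (a' * b)) *
        ((C.g (a' * (b * b)))⁻¹ * (C.x 1 2 b' * (C.x 0 2 c * C.x 0 2 c') * (k * k'))) := by
        rw [C.mul_swap hf]; group
    _ = (C.x 0 1 a * C.x 0 1 a') * C.x 1 2 b * (C.x 0 2 (a' * b) * C.x 1 2 b') *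
        (C.x 0 2 c * C.x 0 2 c') * (k * k') * (C.g (a' * (b * b)))⁻¹ := by
        rw [cg]; group
    _ = (C.x 0 1 a * C.x 0 1 a') * (C.x 1 2 b * C.x 1 2 b') * (C.x 0 2 (a' * b) *
        (C.x 0 2 c * C.x 0 2 c')) * (k * k' * (C.g (a' * (b * b)))⁻¹) := by
        rw [h3']; group
    _ = _ := by
        rw [C.x_add 0 1 (by decide), C.x_add 1 2 (by decide), C.x_add 0 2 (by decide),
          C.x_add 0 2 (by decide), add_assoc (a' * b)]

theorem nf_inv (hf : ∀ s, C.f s = 1) (a b c : F4) (k : M) (hk : π k = 1) :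
    (C.nf a b c k)⁻¹ = C.nf a b (a * b + c) (k⁻¹ * C.g (a * (b * b))) := by
  apply inv_eq_of_mul_eq_one_right
  have hk2 : π (k⁻¹ * C.g (a * (b * b))) = 1 := by
    rw [map_mul, map_inv, hk, C.g_map, inv_one, one_mul]
  rw [C.nf_mul hf _ _ _ _ _ _ _ _ hk hk2]
  have e1 : a + a = 0 := add_self a
  have e2 : b + b = 0 := add_self b
  have e3 : a * b + c + (a * b + c) = 0 := add_self _
  rw [e1, e2, e3]
  unfold nf
  rw [C.x_zero 0 1 (by decide), C.x_zero 1 2 (by decide), C.x_zero 0 2 (by decide)]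
  group

theorem nf_inj {a b c a' b' c' : F4} {k k' : M} (hk : π k = 1) (hk' : π k' = 1)
    (h : C.nf a b c k = C.nf a' b' c' k') : a = a' ∧ b = b' ∧ c = c' ∧ k = k' := by
  have h1 := congrArg π h
  rw [C.map_nf _ _ _ _ hk, C.map_nf _ _ _ _ hk'] at h1
  obtain ⟨ea, eb, ec⟩ := t_inj h1
  subst ea eb ec
  exact ⟨rfl, rfl, rfl, mul_left_cancel h⟩

/-- the subgroup of the unitriangular elements times a central subgroup -/
noncomputable def W (hf : ∀ s, C.f s = 1) (A : Subgroup M) (hA : A ≤ π.ker) (hg : ∀ s, C.g s ∈ A) :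
    Subgroup M where
  carrier := {m | ∃ (a b c : F4) (k : M), k ∈ A ∧ m = C.nf a b c k}
  mul_mem' := by
    rintro _ _ ⟨a, b, c, k, hk, rfl⟩ ⟨a', b', c', k', hk', rfl⟩
    refine ⟨_, _, _, _, ?_, C.nf_mul hf _ _ _ _ _ _ _ _ (hA hk) (hA hk')⟩
    exact A.mul_mem (A.mul_mem hk hk') (A.inv_mem (hg _))
  one_mem' := by
    refine ⟨0, 0, 0, 1, A.one_mem, ?_⟩
    unfold nf
    rw [C.x_zero 0 1 (by decide), C.x_zero 1 2 (by decide), C.x_zero 0 2 (by decide)]
    group
  inv_mem' := by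
    rintro _ ⟨a, b, c, k, hk, rfl⟩
    exact ⟨_, _, _, _, A.mul_mem (A.inv_mem hk) (hg _), C.nf_inv hf _ _ _ _ (hA hk)⟩

theorem card_W (hf : ∀ s, C.f s = 1) (A : Subgroup M) (hA : A ≤ π.ker) (hg : ∀ s, C.g s ∈ A) :
    Nat.card (C.W hf A hA hg) = 64 * Nat.card A := by
  have e : Nat.card (C.W hf A hA hg) = Nat.card (F4 × F4 × F4 × A) := by
    symm
    apply Nat.card_congr
    refine Equiv.ofBijective (fun p => ⟨C.nf p.1 p.2.1 p.2.2.1 p.2.2.2.1,
      ⟨p.1, p.2.1, p.2.2.1, p.2.2.2.1, p.2.2.2.2, rfl⟩⟩) ⟨?_, ?_⟩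
    · rintro ⟨a, b, c, k, hk⟩ ⟨a', b', c', k', hk'⟩ h
      have h' := congrArg Subtype.val h
      obtain ⟨h1, h2, h3, h4⟩ := C.nf_inj (hA hk) (hA hk') h'
      simp only [Prod.mk.injEq, Subtype.mk.injEq]
      exact ⟨h1, h2, h3, h4⟩
    · rintro ⟨_, a, b, c, k, hk, rfl⟩
      exact ⟨⟨a, b, c, k, hk⟩, rfl⟩
  rw [e, Nat.card_prod, Nat.card_prod, Nat.card_prod]
  have : Nat.card F4 = 4 := by rw [Nat.card_eq_fintype_card]; exact F4.card_eq
  rw [this]; ring

theorem card_M : Nat.card M = Nat.card π.ker * 20160 := by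
  have h := Subgroup.card_mul_index π.ker
  rw [Subgroup.index_ker, MonoidHom.range_eq_top.mpr C.surj, Subgroup.card_top, card_PSL3] at h
  exact h.symm

/-- the row form is not trivial -/
theorem exists_f_ne_one [Finite M] (hperf : commutator M = ⊤) (hker : Nat.card π.ker = 4)
    (z : M) (hz : π z = 1) (hz2 : z * z ≠ 1) : ∃ s, C.f s ≠ 1 := by
  by_contra hcon
  push Not at hcon
  have hg2 : ∀ s, C.g s * C.g s = 1 := fun s => by rw [C.g_sq, hcon]
  -- the subgroup of elements of the kernel of square one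
  let A : Subgroup M :=
    { carrier := {k | π k = 1 ∧ k * k = 1}
      mul_mem' := by
        rintro a b ⟨ha, ha2⟩ ⟨hb, hb2⟩
        refine ⟨by rw [map_mul, ha, hb, one_mul], ?_⟩
        have := C.cen a ha b
        calc a * b * (a * b) = a * (b * a) * b := by group
          _ = (a * a) * (b * b) := by rw [← this]; group
          _ = 1 := by rw [ha2, hb2, one_mul]
      one_mem' := ⟨map_one π, one_mul 1⟩
      inv_mem' := by
        rintro a ⟨ha, ha2⟩
        refine ⟨by rw [map_inv, ha, inv_one], ?_⟩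
        have := congrArg (·⁻¹) ha2
        simpa using this }
  have hA : A ≤ π.ker := fun k hk => hk.1
  have hgA : ∀ s, C.g s ∈ A := fun s => ⟨C.g_map s, hg2 s⟩
  have hgK : ∀ s, C.g s ∈ π.ker := fun s => C.g_map s
  have hAne : A ≠ π.ker := by
    intro e
    have : z ∈ A := by rw [e]; exact hz
    exact hz2 this.2
  have hz4 := C.exp z hz
  have hz2A : z * z ∈ A := by
    refine ⟨by rw [map_mul, hz, one_mul], ?_⟩
    rw [← hz4]; simp only [pow_succ, pow_zero, one_mul, mul_assoc]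
  have hcA : Nat.card A = 2 := by
    have hdvd : Nat.card A ∣ 4 := hker ▸ Subgroup.card_dvd_of_le hA
    have hlt : Nat.card A < 4 := by
      rcases Nat.lt_or_ge (Nat.card A) 4 with h | h
      · exact h
      · exact absurd (Subgroup.eq_of_le_of_card_ge hA (by rw [hker]; exact h)) hAne
    have h1 : Nat.card A ≠ 1 := by
      intro h
      have := Subgroup.card_eq_one.mp h
      rw [this] at hz2A
      exact hz2 hz2A
    have h0 : 0 < Nat.card A := Nat.card_pos
    have h3 : Nat.card A ≠ 3 := by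
      intro h; rw [h] at hdvd; exact absurd hdvd (by decide)
    omega
  set P := C.W hcon π.ker le_rfl hgK with hP
  set Q := C.W hcon A hA hgA with hQ
  have cP : Nat.card P = 256 := by rw [hP, C.card_W, hker]
  have cQ : Nat.card Q = 128 := by rw [hQ, C.card_W, hcA]
  have hQP : Q ≤ P := by
    rintro _ ⟨a, b, c, k, hk, rfl⟩
    exact ⟨a, b, c, k, hA hk, rfl⟩
  have hidx : P.index = 315 := by
    have h := Subgroup.card_mul_index P
    rw [cP, C.card_M, hker] at h
    omega
  have hrel : (Q.subgroupOf P).index = 2 := by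
    have h := Subgroup.card_mul_index (Q.subgroupOf P)
    have h2 : Nat.card (Q.subgroupOf P) = 128 := by
      rw [← cQ]
      exact Nat.card_congr (Subgroup.subgroupOfEquivOfLe hQP).toEquiv
    rw [h2, cP] at h
    omega
  have hzP : z ∈ P := by
    refine ⟨0, 0, 0, z, hz, ?_⟩
    unfold nf
    rw [C.x_zero 0 1 (by decide), C.x_zero 1 2 (by decide), C.x_zero 0 2 (by decide)]
    group
  have hzc : z ∈ Subgroup.center M := by
    rw [Subgroup.mem_center_iff]
    intro m
    exact (C.cen z hz m).symm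
  refine Cfsg.Agent.ONType.Transfer.not_mem_commutator_of_index_two P (by rw [hidx]; decide)
    (Q.subgroupOf P) hrel z hzP hzc ?_ (by rw [hperf]; exact Subgroup.mem_top z)
  intro hmem
  rw [Subgroup.mem_subgroupOf] at hmem
  obtain ⟨a, b, c, k, hk, e⟩ := hmem
  have e0 : C.nf 0 0 0 z = C.nf a b c k := by
    rw [← e]
    unfold nf
    rw [C.x_zero 0 1 (by decide), C.x_zero 1 2 (by decide), C.x_zero 0 2 (by decide)]
    group
  obtain ⟨-, -, -, h4⟩ := C.nf_inj hz (hA hk) e0
  exact hz2 (h4 ▸ hk.2)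

end Cfsg.Agent.ONType.Lift.CExt
end
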