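import Cfsg.Agent.ONType.Sit
set_option linter.all false

-- part: ONType/Facts
section
/-!
# O'Nan type groups: elementary facts on the Sylow 2-subgroup `S = T⟨x1, x2, x3, s⟩` (coordinates of `ONType/Rel.lean`)
-/

set_option autoImplicit false

namespace Cfsg.Agent.ONType.Facts

open Cfsg.Agent.ONType.Rel
open scoped commutatorElement

variable {G : Type*} [Group G] {n : ℕ} {T S : Subgroup G} {τ : ℤ → ℤ → ℤ → G} {x1 x2 x3 s : G}

/-! ## Arithmetic in `T` -/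

theorem τ_zero (h : Rel n T τ x1 x2 x3 s) : τ 0 0 0 = 1 := (h.one 0 0 0).2 (by simp)

theorem τ_inv (h : Rel n T τ x1 x2 x3 s) (a b c : ℤ) : (τ a b c)⁻¹ = τ (-a) (-b) (-c) := by
  rw [inv_eq_iff_mul_eq_one, h.mul]
  simpa using τ_zero h

theorem τ_eq (h : Rel n T τ x1 x2 x3 s) (a b c a' b' c' : ℤ) :
    τ a b c = τ a' b' c' ↔ (2 : ℤ) ^ n ∣ a - a' ∧ (2 : ℤ) ^ n ∣ b - b' ∧ (2 : ℤ) ^ n ∣ c - c' := by
  rw [← mul_inv_eq_one, τ_inv h, h.mul, h.one]
  simp only [sub_eq_add_neg]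

theorem τ_comm (h : Rel n T τ x1 x2 x3 s) (a b c a' b' c' : ℤ) :
    τ a b c * τ a' b' c' = τ a' b' c' * τ a b c := by
  rw [h.mul, h.mul, add_comm a, add_comm b, add_comm c]

theorem τ_pow (h : Rel n T τ x1 x2 x3 s) (a b c : ℤ) (k : ℕ) :
    (τ a b c) ^ k = τ (k * a) (k * b) (k * c) := by
  induction k with
  | zero => simpa using (τ_zero h).symm
  | succ k ih =>
    rw [pow_succ, ih, h.mul]
    congr 1 <;> push_cast <;> ring

theorem τ_zpow (h : Rel n T τ x1 x2 x3 s) (a b c : ℤ) (k : ℤ) :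
    (τ a b c) ^ k = τ (k * a) (k * b) (k * c) := by
  obtain ⟨m, rfl | rfl⟩ := k.eq_nat_or_neg
  · rw [zpow_natCast, τ_pow h]
  · rw [zpow_neg, zpow_natCast, τ_pow h, τ_inv h]
    congr 1 <;> ring

theorem mem_τ (h : Rel n T τ x1 x2 x3 s) (a b c : ℤ) : τ a b c ∈ T := (h.mem _).2 ⟨a, b, c, rfl⟩

theorem comm_T (h : Rel n T τ x1 x2 x3 s) : ∀ t ∈ T, ∀ u ∈ T, t * u = u * t := by
  intro t ht u hu
  obtain ⟨a, b, c, rfl⟩ := (h.mem t).1 ht
  obtain ⟨a', b', c', rfl⟩ := (h.mem u).1 hu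
  exact τ_comm h _ _ _ _ _ _

theorem four_dvd (hn : 2 ≤ n) {x : ℤ} (hx : (2 : ℤ) ^ n ∣ x) : (4 : ℤ) ∣ x :=
  dvd_trans (by simpa using pow_dvd_pow (2 : ℤ) hn) hx

/-! ## The eight cosets -/

/-- The eight representatives. -/
def W (x1 x2 x3 s : G) : Fin 8 → G := ![1, x1, x2, x3, s, x1 * s, x2 * s, x3 * s]

/-- The action of the representatives on `T`. -/
def M : Fin 8 → ℤ → ℤ → ℤ → ℤ × ℤ × ℤ :=
  ![fun a b c => (a, b, c), fun a b c => (b, a, -a - b - c), fun a b c => (c, -a - b - c, a),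
    fun a b c => (-a - b - c, c, b), fun a b c => (-a, -c, -b), fun a b c => (-c, -a, a + b + c),
    fun a b c => (-b, a + b + c, -a), fun a b c => (a + b + c, -b, -c)]

/-- `τ` of a triple. -/
abbrev tp (τ : ℤ → ℤ → ℤ → G) (x : ℤ × ℤ × ℤ) : G := τ x.1 x.2.1 x.2.2

theorem rep_iff (w : G) : Cfsg.Agent.ONType.Rel.Rep x1 x2 x3 s w ↔ ∃ i, w = W x1 x2 x3 s i := by
  constructor
  · rintro (rfl | rfl | rfl | rfl | rfl | rfl | rfl | rfl)
    exacts [⟨0, rfl⟩, ⟨1, rfl⟩, ⟨2, rfl⟩, ⟨3, rfl⟩, ⟨4, rfl⟩, ⟨5, rfl⟩, ⟨6, rfl⟩, ⟨7, rfl⟩]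
  · rintro ⟨i, rfl⟩
    fin_cases i <;> simp [Cfsg.Agent.ONType.Rel.Rep, W]

theorem W_τ (h : Rel n T τ x1 x2 x3 s) (i : Fin 8) (a b c : ℤ) :
    W x1 x2 x3 s i * τ a b c = tp τ (M i a b c) * W x1 x2 x3 s i := by
  fin_cases i
  · simp [W, M, tp]
  · simpa [W, M, tp] using h.x1τ a b c
  · simpa [W, M, tp] using h.x2τ a b c
  · simpa [W, M, tp] using h.x3τ a b c
  · simpa [W, M, tp] using h.sτ a b c
  · change x1 * s * τ a b c = τ (-c) (-a) (a + b + c) * (x1 * s)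
    rw [mul_assoc, h.sτ, ← mul_assoc, h.x1τ, mul_assoc]
    congr 2
    ring
  · change x2 * s * τ a b c = τ (-b) (a + b + c) (-a) * (x2 * s)
    rw [mul_assoc, h.sτ, ← mul_assoc, h.x2τ, mul_assoc]
    congr 2
    ring
  · change x3 * s * τ a b c = τ (a + b + c) (-b) (-c) * (x3 * s)
    rw [mul_assoc, h.sτ, ← mul_assoc, h.x3τ, mul_assoc]
    congr 2
    ring

/-- If `τ(t) W_i = τ(t') W_j` then the actions agree modulo `2^n`. -/
theorem act_eq (h : Rel n T τ x1 x2 x3 s) {i j : Fin 8} {t t' : G} (ht : t ∈ T) (ht' : t' ∈ T)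
    (e : t * W x1 x2 x3 s i = t' * W x1 x2 x3 s j) (a b c : ℤ) :
    tp τ (M i a b c) = tp τ (M j a b c) := by
  have e1 : (t * W x1 x2 x3 s i) * τ a b c * (t * W x1 x2 x3 s i)⁻¹ = tp τ (M i a b c) := by
    rw [mul_assoc t, W_τ h, mul_inv_rev]
    have := comm_T h t ht _ (mem_τ h (M i a b c).1 (M i a b c).2.1 (M i a b c).2.2)
    change t * (tp τ (M i a b c) * W x1 x2 x3 s i) * ((W x1 x2 x3 s i)⁻¹ * t⁻¹) = _
    calc t * (tp τ (M i a b c) * W x1 x2 x3 s i) * ((W x1 x2 x3 s i)⁻¹ * t⁻¹)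
        = (t * tp τ (M i a b c)) * t⁻¹ := by group
      _ = _ := by rw [this]; group
  have e2 : (t' * W x1 x2 x3 s j) * τ a b c * (t' * W x1 x2 x3 s j)⁻¹ = tp τ (M j a b c) := by
    rw [mul_assoc t', W_τ h, mul_inv_rev]
    have := comm_T h t' ht' _ (mem_τ h (M j a b c).1 (M j a b c).2.1 (M j a b c).2.2)
    calc t' * (tp τ (M j a b c) * W x1 x2 x3 s j) * ((W x1 x2 x3 s j)⁻¹ * t'⁻¹)
        = (t' * tp τ (M j a b c)) * t'⁻¹ := by group
      _ = _ := by rw [this]; group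
  rw [← e1, ← e2, e]

theorem M_inj (hn : 2 ≤ n) (h : Rel n T τ x1 x2 x3 s) {i j : Fin 8}
    (e : ∀ a b c, tp τ (M i a b c) = tp τ (M j a b c)) : i = j := by
  have e1 := e 1 0 0
  have e2 := e 0 1 0
  rw [tp, tp, τ_eq h] at e1 e2
  obtain ⟨p1, p2, p3⟩ := e1
  obtain ⟨r1, r2, r3⟩ := e2
  replace p1 := four_dvd hn p1
  replace p2 := four_dvd hn p2
  replace p3 := four_dvd hn p3
  replace r1 := four_dvd hn r1
  replace r2 := four_dvd hn r2
  replace r3 := four_dvd hn r3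
  fin_cases i <;> fin_cases j <;> first
    | rfl
    | (exfalso
       simp [M] at p1 p2 p3 r1 r2 r3
       try omega)


theorem W_uniq (hn : 2 ≤ n) (h : Rel n T τ x1 x2 x3 s) {i j : Fin 8} {t t' : G} (ht : t ∈ T) (ht' : t' ∈ T)
    (e : t * W x1 x2 x3 s i = t' * W x1 x2 x3 s j) : i = j :=
  M_inj hn h (act_eq h ht ht' e)

theorem conj_τ (h : Rel n T τ x1 x2 x3 s) (i : Fin 8) {t : G} (ht : t ∈ T) (a b c : ℤ) :
    (t * W x1 x2 x3 s i) * τ a b c * (t * W x1 x2 x3 s i)⁻¹ = tp τ (M i a b c) := by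
  rw [mul_assoc t, W_τ h, mul_inv_rev]
  have := comm_T h t ht _ (mem_τ h (M i a b c).1 (M i a b c).2.1 (M i a b c).2.2)
  calc t * (tp τ (M i a b c) * W x1 x2 x3 s i) * ((W x1 x2 x3 s i)⁻¹ * t⁻¹)
      = (t * tp τ (M i a b c)) * t⁻¹ := by group
    _ = _ := by rw [this]; group

theorem mem_S (h : RelS n T S τ x1 x2 x3 s) (g : G) :
    g ∈ S ↔ ∃ t ∈ T, ∃ i, g = t * W x1 x2 x3 s i := by
  rw [h.memS]
  constructor
  · rintro ⟨a, b, c, w, hw, rfl⟩
    obtain ⟨i, rfl⟩ := (rep_iff w).1 hw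
    exact ⟨_, mem_τ h.toRel a b c, i, rfl⟩
  · rintro ⟨t, ht, i, rfl⟩
    obtain ⟨a, b, c, rfl⟩ := (h.mem t).1 ht
    exact ⟨a, b, c, _, (rep_iff _).2 ⟨i, rfl⟩, rfl⟩

theorem T_le_S (h : RelS n T S τ x1 x2 x3 s) : T ≤ S := fun t ht =>
  (mem_S h t).2 ⟨t, ht, 0, by simp [W]⟩

theorem W_mem_S (h : RelS n T S τ x1 x2 x3 s) (i : Fin 8) : W x1 x2 x3 s i ∈ S :=
  (mem_S h _).2 ⟨1, one_mem T, i, by simp⟩

/-- `T` is normal in `S` -/
theorem T_normal (h : RelS n T S τ x1 x2 x3 s) : ∀ g ∈ S, ∀ t ∈ T, g * t * g⁻¹ ∈ T := by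
  intro g hg t ht
  obtain ⟨u, hu, i, rfl⟩ := (mem_S h g).1 hg
  obtain ⟨a, b, c, rfl⟩ := (h.mem t).1 ht
  rw [conj_τ h.toRel i hu]
  exact mem_τ h.toRel _ _ _

theorem S_le_normalizer (h : RelS n T S τ x1 x2 x3 s) : S ≤ Subgroup.normalizer (T : Set G) := by
  intro g hg
  rw [Subgroup.mem_normalizer_iff]
  intro t
  refine ⟨fun ht => T_normal h g hg t ht, fun ht => ?_⟩
  have := T_normal h g⁻¹ (inv_mem hg) _ ht
  simpa [mul_assoc] using this

/-! ## Counting -/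

theorem card_range {Z Z' : Type*} [AddCommGroup Z] [AddCommGroup Z'] (f : Z →+ Z') (hf : Function.Surjective f)
    (P : Z → G) (hP : ∀ x y, P (x + y) = P x * P y) (h1 : ∀ x, P x = 1 ↔ f x = 0) (H : Subgroup G)
    (hH : ∀ g, g ∈ H ↔ ∃ x, g = P x) : Nat.card H = Nat.card Z' := by
  have h0 : P 0 = 1 := (h1 0).2 (map_zero f)
  have hneg : ∀ x, P (-x) = (P x)⁻¹ := fun x => by
    rw [eq_comm, inv_eq_iff_mul_eq_one, ← hP, add_neg_cancel, h0]
  have key : ∀ x y, P x = P y ↔ f x = f y := fun x y => by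
    rw [← mul_inv_eq_one, ← hneg, ← hP, h1, ← sub_eq_add_neg, map_sub, sub_eq_zero]
  symm
  refine Nat.card_congr (Equiv.ofBijective
    (fun y : Z' => (⟨P (Function.surjInv hf y), (hH _).2 ⟨_, rfl⟩⟩ : H)) ⟨?_, ?_⟩)
  · intro y y' e
    have e' : P (Function.surjInv hf y) = P (Function.surjInv hf y') := congrArg Subtype.val e
    rw [key, Function.surjInv_eq hf, Function.surjInv_eq hf] at e'
    exact e'
  · rintro ⟨g, hg⟩
    obtain ⟨x, rfl⟩ := (hH g).1 hg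
    refine ⟨f x, Subtype.ext ?_⟩
    change P (Function.surjInv hf (f x)) = P x
    rw [key, Function.surjInv_eq hf]


theorem intCast_surj (m : ℕ) : Function.Surjective (Int.castAddHom (ZMod m)) := ZMod.intCast_surjective

theorem card_T (h : Rel n T τ x1 x2 x3 s) : Nat.card T = 8 ^ n := by
  have key := card_range ((Int.castAddHom (ZMod (2 ^ n))).prodMap
    ((Int.castAddHom (ZMod (2 ^ n))).prodMap (Int.castAddHom (ZMod (2 ^ n)))))
    ((intCast_surj _).prodMap ((intCast_surj _).prodMap (intCast_surj _)))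
    (fun x : ℤ × ℤ × ℤ => tp τ x) (fun x y => by simp [tp, h.mul]) (fun x => by
      simp only [tp, h.one]
      simp [Prod.ext_iff, ZMod.intCast_zmod_eq_zero_iff_dvd]) T (fun g => by
      rw [h.mem]
      constructor
      · rintro ⟨a, b, c, rfl⟩
        exact ⟨(a, b, c), rfl⟩
      · rintro ⟨x, rfl⟩
        exact ⟨_, _, _, rfl⟩)
  rw [key, Nat.card_prod, Nat.card_prod, Nat.card_zmod, ← pow_add, ← pow_add, show (8 : ℕ) = 2 ^ 3 from rfl,
    ← pow_mul]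
  congr 1
  ring

theorem two_pow_eq (hn : 1 ≤ n) : (2 : ℤ) ^ n = 2 * 2 ^ (n - 1) := by
  conv_lhs => rw [← Nat.sub_add_cancel hn, pow_succ]
  ring

theorem half_dvd (hn : 1 ≤ n) {x : ℤ} (hx : (2 : ℤ) ^ n ∣ 2 * x) : (2 : ℤ) ^ (n - 1) ∣ x := by
  rw [two_pow_eq hn] at hx
  exact (mul_dvd_mul_iff_left two_ne_zero).1 hx

theorem dvd_half_iff (hn : 1 ≤ n) (x : ℤ) : (2 : ℤ) ^ n ∣ 2 ^ (n - 1) * x ↔ (2 : ℤ) ∣ x := by
  rw [two_pow_eq hn, mul_comm (2 : ℤ)]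
  exact mul_dvd_mul_iff_left (by positivity)

/-- counting with parameters `(i, δ)` modulo `(2^n, 2)` -/
theorem card_two (hn : 1 ≤ n) (P : ℤ → ℤ → G) (hP : ∀ i j i' j', P (i + i') (j + j') = P i j * P i' j')
    (h1 : ∀ i j, P i j = 1 ↔ (2 : ℤ) ^ n ∣ i ∧ (2 : ℤ) ∣ j) (H : Subgroup G)
    (hH : ∀ g, g ∈ H ↔ ∃ i j, g = P i j) : Nat.card H = 2 ^ (n + 1) := by
  have key := card_range ((Int.castAddHom (ZMod (2 ^ n))).prodMap (Int.castAddHom (ZMod 2)))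
    ((intCast_surj _).prodMap (intCast_surj _))
    (fun x : ℤ × ℤ => P x.1 x.2) (fun x y => hP _ _ _ _) (fun x => by
      rw [h1]
      have e1 := ZMod.intCast_zmod_eq_zero_iff_dvd x.1 (2 ^ n)
      have e2 := ZMod.intCast_zmod_eq_zero_iff_dvd x.2 2
      push_cast at e1 e2
      simp [Prod.ext_iff, e1, e2]) H (fun g => by
      rw [hH]
      constructor
      · rintro ⟨a, b, rfl⟩
        exact ⟨(a, b), rfl⟩
      · rintro ⟨x, rfl⟩
        exact ⟨_, _, rfl⟩)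
  rw [key, Nat.card_prod, Nat.card_zmod, Nat.card_zmod, pow_succ]

/-- counting with a parameter modulo `2^n` -/
theorem card_one (P : ℤ → G) (hP : ∀ i i', P (i + i') = P i * P i')
    (h1 : ∀ i, P i = 1 ↔ (2 : ℤ) ^ n ∣ i) (H : Subgroup G)
    (hH : ∀ g, g ∈ H ↔ ∃ i, g = P i) : Nat.card H = 2 ^ n := by
  have key := card_range (Int.castAddHom (ZMod (2 ^ n))) (intCast_surj _) P hP (fun x => by
      rw [h1]
      have e1 := ZMod.intCast_zmod_eq_zero_iff_dvd x (2 ^ n)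
      push_cast at e1
      simp [e1]) H hH
  rw [key, Nat.card_zmod]

/-- the centraliser of `t W_i` in `T` -/
theorem mem_cenT (h : Rel n T τ x1 x2 x3 s) (i : Fin 8) {t : G} (ht : t ∈ T) (a b c : ℤ) :
    τ a b c ∈ T ⊓ Subgroup.centralizer {t * W x1 x2 x3 s i} ↔ tp τ (M i a b c) = τ a b c := by
  rw [Subgroup.mem_inf, Subgroup.mem_centralizer_singleton_iff]
  have e := conj_τ h i ht a b c
  constructor
  · rintro ⟨-, e1⟩
    rw [← e]
    rw [mul_inv_eq_iff_eq_mul]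
    exact e1.symm
  · intro e1
    refine ⟨mem_τ h _ _ _, ?_⟩
    rw [e1, mul_inv_eq_iff_eq_mul] at e
    exact e.symm

theorem mem_cenT' (h : Rel n T τ x1 x2 x3 s) (i : Fin 8) {t : G} (ht : t ∈ T) (g : G) :
    g ∈ T ⊓ Subgroup.centralizer {t * W x1 x2 x3 s i} ↔ ∃ a b c, g = τ a b c ∧ tp τ (M i a b c) = τ a b c := by
  constructor
  · intro hg
    obtain ⟨a, b, c, rfl⟩ := (h.mem g).1 (Subgroup.mem_inf.1 hg).1
    exact ⟨a, b, c, rfl, (mem_cenT h i ht a b c).1 hg⟩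
  · rintro ⟨a, b, c, rfl, e⟩
    exact (mem_cenT h i ht a b c).2 e


theorem card_cen (hn : 1 ≤ n) (h : Rel n T τ x1 x2 x3 s) (i : Fin 8)
    (hi : i = 1 ∨ i = 2 ∨ i = 3 ∨ i = 4 ∨ i = 7) {t : G} (ht : t ∈ T) :
    Nat.card (T ⊓ Subgroup.centralizer {t * W x1 x2 x3 s i} : Subgroup G) = 2 ^ (n + 1) := by
  have E := two_pow_eq hn
  rcases hi with rfl | rfl | rfl | rfl | rfl
  · refine card_two hn (fun i j => τ i i (-i + 2 ^ (n - 1) * j)) (fun i j i' j' => ?_) (fun i j => ?_) _ fun g => ?_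
    · rw [h.mul]; congr 1; ring
    · rw [h.one]
      constructor
      · rintro ⟨h1, -, h2⟩
        refine ⟨h1, (dvd_half_iff hn j).1 ?_⟩
        have := dvd_add h1 h2
        rwa [← add_assoc, add_neg_cancel, zero_add] at this
      · rintro ⟨h1, h2⟩
        exact ⟨h1, h1, dvd_add (dvd_neg.2 h1) ((dvd_half_iff hn j).2 h2)⟩
    · rw [mem_cenT' h _ ht]
      constructor
      · rintro ⟨a, b, c, rfl, e⟩
        change τ b a (-a - b - c) = τ a b c at e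
        rw [τ_eq h] at e
        obtain ⟨e1, -, e3⟩ := e
        have e4 : (2 : ℤ) ^ n ∣ 2 * (a + c) := by
          obtain ⟨k1, hk1⟩ := e1
          obtain ⟨k3, hk3⟩ := e3
          exact ⟨-k1 - k3, by linear_combination -hk1 - hk3⟩
        obtain ⟨k, hk⟩ := half_dvd hn e4
        refine ⟨a, k, ?_⟩
        rw [τ_eq h]
        refine ⟨by simp, e1, ⟨0, by linear_combination hk⟩⟩
      · rintro ⟨a, k, rfl⟩
        refine ⟨_, _, _, rfl, ?_⟩
        change τ a a (-a - a - (-a + 2 ^ (n - 1) * k)) = _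
        rw [τ_eq h]
        exact ⟨by simp, by simp, ⟨-k, by rw [E]; ring⟩⟩
  · refine card_two hn (fun i j => τ i (-i + 2 ^ (n - 1) * j) i) (fun i j i' j' => ?_) (fun i j => ?_) _ fun g => ?_
    · rw [h.mul]; congr 1; ring
    · rw [h.one]
      constructor
      · rintro ⟨h1, h2, -⟩
        refine ⟨h1, (dvd_half_iff hn j).1 ?_⟩
        have := dvd_add h1 h2
        rwa [← add_assoc, add_neg_cancel, zero_add] at this
      · rintro ⟨h1, h2⟩
        exact ⟨h1, dvd_add (dvd_neg.2 h1) ((dvd_half_iff hn j).2 h2), h1⟩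
    · rw [mem_cenT' h _ ht]
      constructor
      · rintro ⟨a, b, c, rfl, e⟩
        change τ c (-a - b - c) a = τ a b c at e
        rw [τ_eq h] at e
        obtain ⟨e1, e3, -⟩ := e
        have e4 : (2 : ℤ) ^ n ∣ 2 * (a + b) := by
          obtain ⟨k1, hk1⟩ := e1
          obtain ⟨k3, hk3⟩ := e3
          exact ⟨-k1 - k3, by linear_combination -hk1 - hk3⟩
        obtain ⟨k, hk⟩ := half_dvd hn e4
        refine ⟨a, k, ?_⟩
        rw [τ_eq h]
        refine ⟨by simp, ⟨0, by linear_combination hk⟩, e1⟩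
      · rintro ⟨a, k, rfl⟩
        refine ⟨_, _, _, rfl, ?_⟩
        change τ a (-a - (-a + 2 ^ (n - 1) * k) - a) a = _
        rw [τ_eq h]
        exact ⟨by simp, ⟨-k, by rw [E]; ring⟩, by simp⟩
  · refine card_two hn (fun i j => τ (-i + 2 ^ (n - 1) * j) i i) (fun i j i' j' => ?_) (fun i j => ?_) _ fun g => ?_
    · rw [h.mul]; congr 1; ring
    · rw [h.one]
      constructor
      · rintro ⟨h2, h1, -⟩
        refine ⟨h1, (dvd_half_iff hn j).1 ?_⟩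
        have := dvd_add h1 h2
        rwa [← add_assoc, add_neg_cancel, zero_add] at this
      · rintro ⟨h1, h2⟩
        exact ⟨dvd_add (dvd_neg.2 h1) ((dvd_half_iff hn j).2 h2), h1, h1⟩
    · rw [mem_cenT' h _ ht]
      constructor
      · rintro ⟨a, b, c, rfl, e⟩
        change τ (-a - b - c) c b = τ a b c at e
        rw [τ_eq h] at e
        obtain ⟨e3, e1, -⟩ := e
        have e4 : (2 : ℤ) ^ n ∣ 2 * (b + a) := by
          obtain ⟨k1, hk1⟩ := e1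
          obtain ⟨k3, hk3⟩ := e3
          exact ⟨-k1 - k3, by linear_combination -hk1 - hk3⟩
        obtain ⟨k, hk⟩ := half_dvd hn e4
        refine ⟨b, k, ?_⟩
        rw [τ_eq h]
        refine ⟨⟨0, by linear_combination hk⟩, by simp, e1⟩
      · rintro ⟨a, k, rfl⟩
        refine ⟨_, _, _, rfl, ?_⟩
        change τ (-(-a + 2 ^ (n - 1) * k) - a - a) a a = _
        rw [τ_eq h]
        exact ⟨⟨-k, by rw [E]; ring⟩, by simp, by simp⟩
  · refine card_two hn (fun i j => τ (2 ^ (n - 1) * j) i (-i)) (fun i j i' j' => ?_) (fun i j => ?_) _ fun g => ?_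
    · rw [h.mul]; congr 1 <;> ring
    · rw [h.one]
      constructor
      · rintro ⟨h2, h1, -⟩
        exact ⟨h1, (dvd_half_iff hn j).1 h2⟩
      · rintro ⟨h1, h2⟩
        exact ⟨(dvd_half_iff hn j).2 h2, h1, dvd_neg.2 h1⟩
    · rw [mem_cenT' h _ ht]
      constructor
      · rintro ⟨a, b, c, rfl, e⟩
        change τ (-a) (-c) (-b) = τ a b c at e
        rw [τ_eq h] at e
        obtain ⟨e3, e1, -⟩ := e
        have e4 : (2 : ℤ) ^ n ∣ 2 * a := by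
          obtain ⟨k3, hk3⟩ := e3
          exact ⟨-k3, by linear_combination -hk3⟩
        obtain ⟨k, hk⟩ := half_dvd hn e4
        refine ⟨b, k, ?_⟩
        rw [τ_eq h]
        obtain ⟨k1, hk1⟩ := e1
        refine ⟨⟨0, by linear_combination hk⟩, by simp, ⟨-k1, by linear_combination -hk1⟩⟩
      · rintro ⟨a, k, rfl⟩
        refine ⟨_, _, _, rfl, ?_⟩
        change τ (-(2 ^ (n - 1) * k)) (- -a) (-a) = _
        rw [τ_eq h]
        exact ⟨⟨-k, by rw [E]; ring⟩, by simp, by simp⟩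
  · refine card_two hn (fun i j => τ i (2 ^ (n - 1) * j) (-(2 ^ (n - 1) * j))) (fun i j i' j' => ?_) (fun i j => ?_)
      _ fun g => ?_
    · rw [h.mul]; congr 1 <;> ring
    · rw [h.one]
      constructor
      · rintro ⟨h1, h2, -⟩
        exact ⟨h1, (dvd_half_iff hn j).1 h2⟩
      · rintro ⟨h1, h2⟩
        exact ⟨h1, (dvd_half_iff hn j).2 h2, dvd_neg.2 ((dvd_half_iff hn j).2 h2)⟩
    · rw [mem_cenT' h _ ht]
      constructor
      · rintro ⟨a, b, c, rfl, e⟩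
        change τ (a + b + c) (-b) (-c) = τ a b c at e
        rw [τ_eq h] at e
        obtain ⟨e1, e3, -⟩ := e
        have e4 : (2 : ℤ) ^ n ∣ 2 * b := by
          obtain ⟨k3, hk3⟩ := e3
          exact ⟨-k3, by linear_combination -hk3⟩
        obtain ⟨k, hk⟩ := half_dvd hn e4
        refine ⟨a, k, ?_⟩
        rw [τ_eq h]
        obtain ⟨k1, hk1⟩ := e1
        refine ⟨by simp, ⟨0, by linear_combination hk⟩, ⟨k1, by linear_combination hk1 - hk⟩⟩
      · rintro ⟨a, k, rfl⟩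
        refine ⟨_, _, _, rfl, ?_⟩
        change τ (a + 2 ^ (n - 1) * k + -(2 ^ (n - 1) * k)) (-(2 ^ (n - 1) * k)) (- -(2 ^ (n - 1) * k)) = _
        rw [τ_eq h]
        exact ⟨by simp, ⟨-k, by rw [E]; ring⟩, ⟨k, by rw [E]; ring⟩⟩

theorem card_cen' (h : Rel n T τ x1 x2 x3 s) (i : Fin 8)
    (hi : i = 5 ∨ i = 6) {t : G} (ht : t ∈ T) :
    Nat.card (T ⊓ Subgroup.centralizer {t * W x1 x2 x3 s i} : Subgroup G) = 2 ^ n := by
  have E : ∀ i : Fin 8, i = 5 ∨ i = 6 → Nat.card (T ⊓ Subgroup.centralizer {t * W x1 x2 x3 s i} : Subgroup G) = 2 ^ n := by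
    rintro i (rfl | rfl)
    · refine card_one (fun i => τ i (-i) (-i)) (fun i i' => ?_) (fun i => ?_) _ fun g => ?_
      · rw [h.mul]; congr 1 <;> ring
      · rw [h.one]
        exact ⟨fun e => e.1, fun e => ⟨e, dvd_neg.2 e, dvd_neg.2 e⟩⟩
      · rw [mem_cenT' h _ ht]
        constructor
        · rintro ⟨a, b, c, rfl, e⟩
          change τ (-c) (-a) (a + b + c) = τ a b c at e
          rw [τ_eq h] at e
          obtain ⟨⟨k1, hk1⟩, ⟨k2, hk2⟩, -⟩ := e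
          refine ⟨a, ?_⟩
          rw [τ_eq h]
          exact ⟨by simp, ⟨-k2, by linear_combination -hk2⟩, ⟨-k1, by linear_combination -hk1⟩⟩
        · rintro ⟨a, rfl⟩
          refine ⟨_, _, _, rfl, ?_⟩
          change τ (- -a) (-a) (a + -a + -a) = _
          congr 1 <;> ring
    · refine card_one (fun i => τ i (-i) (-i)) (fun i i' => ?_) (fun i => ?_) _ fun g => ?_
      · rw [h.mul]; congr 1 <;> ring
      · rw [h.one]
        exact ⟨fun e => e.1, fun e => ⟨e, dvd_neg.2 e, dvd_neg.2 e⟩⟩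
      · rw [mem_cenT' h _ ht]
        constructor
        · rintro ⟨a, b, c, rfl, e⟩
          change τ (-b) (a + b + c) (-a) = τ a b c at e
          rw [τ_eq h] at e
          obtain ⟨⟨k1, hk1⟩, -, ⟨k2, hk2⟩⟩ := e
          refine ⟨a, ?_⟩
          rw [τ_eq h]
          exact ⟨by simp, ⟨-k1, by linear_combination -hk1⟩, ⟨-k2, by linear_combination -hk2⟩⟩
        · rintro ⟨a, rfl⟩
          refine ⟨_, _, _, rfl, ?_⟩
          change τ (- -a) (a + -a + -a) (-a) = _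
          congr 1 <;> ring
  exact E i hi

theorem card_cen_le (hn : 1 ≤ n) (h : Rel n T τ x1 x2 x3 s) (i : Fin 8) (hi : i ≠ 0) {t : G} (ht : t ∈ T) :
    Nat.card (T ⊓ Subgroup.centralizer {t * W x1 x2 x3 s i} : Subgroup G) ≤ 2 ^ (n + 1) := by
  by_cases h5 : i = 5 ∨ i = 6
  · rw [card_cen' h i h5 ht]
    exact Nat.pow_le_pow_right (by norm_num) (Nat.le_succ n)
  · refine (card_cen hn h i ?_ ht).le
    revert hi h5
    fin_cases i <;> simp


theorem card_S (hn : 2 ≤ n) (h : RelS n T S τ x1 x2 x3 s) : Nat.card S = 8 ^ (n + 1) := by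
  have e : Nat.card (T × Fin 8) = Nat.card S := by
    refine Nat.card_congr (Equiv.ofBijective
      (fun p : T × Fin 8 => (⟨(p.1 : G) * W x1 x2 x3 s p.2, (mem_S h _).2 ⟨_, p.1.2, _, rfl⟩⟩ : S)) ⟨?_, ?_⟩)
    · rintro ⟨⟨t, ht⟩, i⟩ ⟨⟨t', ht'⟩, j⟩ e
      have e' : t * W x1 x2 x3 s i = t' * W x1 x2 x3 s j := congrArg Subtype.val e
      obtain rfl := W_uniq hn h.toRel ht ht' e'
      have := mul_right_cancel e'
      subst this
      rfl
    · rintro ⟨g, hg⟩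
      obtain ⟨t, ht, i, rfl⟩ := (mem_S h g).1 hg
      exact ⟨(⟨t, ht⟩, i), rfl⟩
  rw [← e, Nat.card_prod, card_T h.toRel, Nat.card_eq_fintype_card, Fintype.card_fin, pow_succ]

theorem card_le_of_codes [Finite G] (h : RelS n T S τ x1 x2 x3 s) (H : Subgroup G) (hH : H ≤ S)
    (J : Finset (Fin 8)) (hJ : ∀ i, (∃ t ∈ T, t * W x1 x2 x3 s i ∈ H) → i ∈ J) :
    Nat.card H ≤ Nat.card (T ⊓ H : Subgroup G) * J.card := by
  classical
  have hc : ∀ g : H, ∃ j : J, ∃ t ∈ T, (g : G) = t * W x1 x2 x3 s (j : Fin 8) := by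
    intro g
    obtain ⟨t, ht, i, e⟩ := (mem_S h (g : G)).1 (hH g.2)
    exact ⟨⟨i, hJ i ⟨t, ht, e ▸ g.2⟩⟩, t, ht, e⟩
  choose c hc using hc
  have hr : ∀ j : J, ∃ r : G, (∃ g : H, c g = j) → r ∈ H ∧ ∃ t ∈ T, r = t * W x1 x2 x3 s (j : Fin 8) := by
    intro j
    by_cases hj : ∃ g : H, c g = j
    · obtain ⟨g, rfl⟩ := hj
      exact ⟨g, fun _ => ⟨g.2, hc g⟩⟩
    · exact ⟨1, fun hj' => absurd hj' hj⟩
  choose r hr using hr
  have key : ∀ g : H, (g : G) * (r (c g))⁻¹ ∈ T ⊓ H := by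
    intro g
    obtain ⟨h1, t', ht', e'⟩ := hr (c g) ⟨g, rfl⟩
    obtain ⟨t, ht, e⟩ := hc g
    refine Subgroup.mem_inf.2 ⟨?_, H.mul_mem g.2 (H.inv_mem h1)⟩
    have : (g : G) * (r (c g))⁻¹ = t * t'⁻¹ := by
      rw [e', e]
      group
    rw [this]
    exact T.mul_mem ht (T.inv_mem ht')
  have hinj : Function.Injective (fun g : H => ((⟨_, key g⟩ : (T ⊓ H : Subgroup G)), c g)) := by
    intro g g' e
    obtain ⟨e1, e2⟩ := Prod.mk.inj e
    have e1' : (g : G) * (r (c g))⁻¹ = (g' : G) * (r (c g'))⁻¹ := congrArg Subtype.val e1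
    rw [e2] at e1'
    exact Subtype.ext (mul_right_cancel e1')
  have := Nat.card_le_card_of_injective _ hinj
  rwa [Nat.card_prod, Nat.card_eq_fintype_card (α := J), Fintype.card_coe] at this

/-- action on triples -/
abbrev M' (i : Fin 8) (x : ℤ × ℤ × ℤ) : ℤ × ℤ × ℤ := M i x.1 x.2.1 x.2.2

theorem act_comm (h : Rel n T τ x1 x2 x3 s) {i j : Fin 8} {t t' : G} (ht : t ∈ T) (ht' : t' ∈ T)
    (e : (t * W x1 x2 x3 s i) * (t' * W x1 x2 x3 s j) = (t' * W x1 x2 x3 s j) * (t * W x1 x2 x3 s i))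
    (x : ℤ × ℤ × ℤ) : tp τ (M' i (M' j x)) = tp τ (M' j (M' i x)) := by
  have e1 : ∀ i j : Fin 8, ∀ t ∈ T, ∀ t' ∈ T, ((t * W x1 x2 x3 s i) * (t' * W x1 x2 x3 s j)) * tp τ x *
      ((t * W x1 x2 x3 s i) * (t' * W x1 x2 x3 s j))⁻¹ = tp τ (M' i (M' j x)) := by
    intro i j t ht t' ht'
    have a1 := conj_τ h j ht' x.1 x.2.1 x.2.2
    have a2 := conj_τ h i ht (M' j x).1 (M' j x).2.1 (M' j x).2.2
    rw [← a2]
    change _ = t * W x1 x2 x3 s i * tp τ (M j x.1 x.2.1 x.2.2) * (t * W x1 x2 x3 s i)⁻¹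
    rw [← a1]
    group
  rw [← e1 i j t ht t' ht', ← e1 j i t' ht' t ht, e]

theorem codes_aux (hn : 2 ≤ n) (h : Rel n T τ x1 x2 x3 s) {i j : Fin 8} {t t' : G} (ht : t ∈ T) (ht' : t' ∈ T)
    (e : (t * W x1 x2 x3 s i) * (t' * W x1 x2 x3 s j) = (t' * W x1 x2 x3 s j) * (t * W x1 x2 x3 s i)) :
    (i = 1 ∨ i = 2 → j ∈ ({0, 1, 2, 3} : Finset (Fin 8))) ∧ (i = 4 ∨ i = 7 → j ∈ ({0, 3, 4, 7} : Finset (Fin 8))) ∧
      (i = 5 ∨ i = 6 → j ∈ ({0, 3, 5, 6} : Finset (Fin 8))) := by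
  have e1 := act_comm h ht ht' e (1, 0, 0)
  have e2 := act_comm h ht ht' e (0, 1, 0)
  rw [tp, tp, τ_eq h] at e1 e2
  obtain ⟨p1, p2, p3⟩ := e1
  obtain ⟨r1, r2, r3⟩ := e2
  replace p1 := four_dvd hn p1
  replace p2 := four_dvd hn p2
  replace p3 := four_dvd hn p3
  replace r1 := four_dvd hn r1
  replace r2 := four_dvd hn r2
  replace r3 := four_dvd hn r3
  clear e ht ht'
  refine ⟨?_, ?_, ?_⟩
  · rintro (rfl | rfl) <;> fin_cases j <;> first
      | decide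
      | (exfalso
         simp [M, M'] at p1 p2 p3 r1 r2 r3
         try omega)
  · rintro (rfl | rfl) <;> fin_cases j <;> first
      | decide
      | (exfalso
         simp [M, M'] at p1 p2 p3 r1 r2 r3
         try omega)
  · rintro (rfl | rfl) <;> fin_cases j <;> first
      | decide
      | (exfalso
         simp [M, M'] at p1 p2 p3 r1 r2 r3
         try omega)


theorem card_ge_of_codes [Finite G] (hn : 2 ≤ n) (h : RelS n T S τ x1 x2 x3 s) (H : Subgroup G)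
    (J : Finset (Fin 8)) (hJ : ∀ i ∈ J, ∃ t ∈ T, t * W x1 x2 x3 s i ∈ H) :
    Nat.card (T ⊓ H : Subgroup G) * J.card ≤ Nat.card H := by
  classical
  have hr : ∀ j : J, ∃ r ∈ H, ∃ t ∈ T, r = t * W x1 x2 x3 s (j : Fin 8) := by
    rintro ⟨j, hj⟩
    obtain ⟨t, ht, hH⟩ := hJ j hj
    exact ⟨_, hH, t, ht, rfl⟩
  choose r hrH hr using hr
  have hinj : Function.Injective (fun p : (T ⊓ H : Subgroup G) × J =>
      (⟨(p.1 : G) * r p.2, H.mul_mem (Subgroup.mem_inf.1 p.1.2).2 (hrH _)⟩ : H)) := by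
    rintro ⟨⟨t, ht⟩, j⟩ ⟨⟨t', ht'⟩, j'⟩ e
    have e' : t * r j = t' * r j' := congrArg Subtype.val e
    obtain ⟨u, hu, hru⟩ := hr j
    obtain ⟨u', hu', hru'⟩ := hr j'
    have e2 : (t * u) * W x1 x2 x3 s (j : Fin 8) = (t' * u') * W x1 x2 x3 s (j' : Fin 8) := by
      rw [mul_assoc, mul_assoc, ← hru, ← hru', e']
    have hj : (j : Fin 8) = j' := W_uniq hn h.toRel (T.mul_mem (Subgroup.mem_inf.1 ht).1 hu)
      (T.mul_mem (Subgroup.mem_inf.1 ht').1 hu') e2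
    obtain rfl := Subtype.ext hj
    have := mul_right_cancel e'
    subst this
    rfl
  have := Nat.card_le_card_of_injective _ hinj
  rwa [Nat.card_prod, Nat.card_eq_fintype_card (α := J), Fintype.card_coe] at this

/-! ## Involutions -/

theorem sq_eq_one_iff (hn : 1 ≤ n) (h : Rel n T τ x1 x2 x3 s) (a b c : ℤ) :
    τ a b c * τ a b c = 1 ↔ (2 : ℤ) ^ (n - 1) ∣ a ∧ (2 : ℤ) ^ (n - 1) ∣ b ∧ (2 : ℤ) ^ (n - 1) ∣ c := by
  rw [h.mul, h.one, ← two_mul, ← two_mul, ← two_mul, two_pow_eq hn]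
  simp only [mul_dvd_mul_iff_left (two_ne_zero (α := ℤ))]

/-- the involutions of `T` -/
theorem invol_T (hn : 1 ≤ n) (h : Rel n T τ x1 x2 x3 s) (t : G) :
    (t ∈ T ∧ t * t = 1) ↔ ∃ i j k : ℤ, (i = 0 ∨ i = 1) ∧ (j = 0 ∨ j = 1) ∧ (k = 0 ∨ k = 1) ∧
      t = τ (2 ^ (n - 1) * i) (2 ^ (n - 1) * j) (2 ^ (n - 1) * k) := by
  constructor
  · rintro ⟨ht, e⟩
    obtain ⟨a, b, c, rfl⟩ := (h.mem t).1 ht
    obtain ⟨⟨i, rfl⟩, ⟨j, rfl⟩, ⟨k, rfl⟩⟩ := (sq_eq_one_iff hn h a b c).1 e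
    refine ⟨i % 2, j % 2, k % 2, by omega, by omega, by omega, ?_⟩
    rw [τ_eq h, ← mul_sub, ← mul_sub, ← mul_sub, dvd_half_iff hn, dvd_half_iff hn, dvd_half_iff hn]
    refine ⟨by omega, by omega, by omega⟩
  · rintro ⟨i, j, k, -, -, -, rfl⟩
    exact ⟨mem_τ h _ _ _, (sq_eq_one_iff hn h _ _ _).2 ⟨dvd_mul_right _ _, dvd_mul_right _ _, dvd_mul_right _ _⟩⟩

theorem x21 (h : Rel n T τ x1 x2 x3 s) : x2 * x1 = x3 := by
  rw [← h.x23, ← mul_assoc, h.x2x2, one_mul]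

theorem x13 (h : Rel n T τ x1 x2 x3 s) : x1 * x3 = x2 := by
  rw [← h.x12, ← mul_assoc, h.x1x1, one_mul]

theorem x32 (h : Rel n T τ x1 x2 x3 s) : x3 * x2 = x1 := by
  rw [← h.x12, mul_assoc, h.x2x2, mul_one]

theorem W55 (h : Rel n T τ x1 x2 x3 s) :
    W x1 x2 x3 s 5 * W x1 x2 x3 s 5 = tp τ (0, 1, 0) * W x1 x2 x3 s 3 := by
  change x1 * s * (x1 * s) = τ 0 1 0 * x3
  calc x1 * s * (x1 * s) = x1 * (s * x1) * s := by group
    _ = x1 * (τ 1 0 (-1) * x2 * s) * s := by rw [h.sx1]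
    _ = (x1 * τ 1 0 (-1)) * x2 * (s * s) := by group
    _ = τ 0 1 0 * x3 := by
      rw [h.ss, h.x1τ, mul_one, mul_assoc, h.x12]
      congr 2

theorem W66 (h : Rel n T τ x1 x2 x3 s) :
    W x1 x2 x3 s 6 * W x1 x2 x3 s 6 = tp τ (0, 0, 1) * W x1 x2 x3 s 3 := by
  change x2 * s * (x2 * s) = τ 0 0 1 * x3
  calc x2 * s * (x2 * s) = x2 * (s * x2) * s := by group
    _ = x2 * (τ 1 (-1) 0 * x1 * s) * s := by rw [h.sx2]
    _ = (x2 * τ 1 (-1) 0) * x1 * (s * s) := by group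
    _ = τ 0 0 1 * x3 := by
      rw [h.ss, h.x2τ, mul_one, mul_assoc, x21 h]
      congr 2

/-- the cosets of `x1 s` and `x2 s` contain no involution -/
theorem no_invol (hn : 2 ≤ n) (h : Rel n T τ x1 x2 x3 s) {i : Fin 8} (hi : i = 5 ∨ i = 6) {t : G} (ht : t ∈ T) :
    (t * W x1 x2 x3 s i) * (t * W x1 x2 x3 s i) ≠ 1 := by
  intro e
  obtain ⟨a, b, c, rfl⟩ := (h.mem t).1 ht
  have e1 : (τ a b c * W x1 x2 x3 s i) * (τ a b c * W x1 x2 x3 s i) =
      (τ a b c * tp τ (M i a b c)) * (W x1 x2 x3 s i * W x1 x2 x3 s i) := by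
    calc (τ a b c * W x1 x2 x3 s i) * (τ a b c * W x1 x2 x3 s i)
        = τ a b c * (W x1 x2 x3 s i * τ a b c) * W x1 x2 x3 s i := by group
      _ = _ := by rw [W_τ h]; group
  rw [e1] at e
  have hm := mem_τ h (M i a b c).1 (M i a b c).2.1 (M i a b c).2.2
  have e0 : (1 : G) = 1 * W x1 x2 x3 s 0 := by simp [W]
  rcases hi with rfl | rfl
  · rw [W55 h, ← mul_assoc, e0] at e
    have := W_uniq hn h (T.mul_mem (T.mul_mem ht hm) (mem_τ h _ _ _)) T.one_mem e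
    revert this
    decide
  · rw [W66 h, ← mul_assoc, e0] at e
    have := W_uniq hn h (T.mul_mem (T.mul_mem ht hm) (mem_τ h _ _ _)) T.one_mem e
    revert this
    decide

/-- the cocycle of `x3` -/
def cc : Fin 8 → ℤ × ℤ × ℤ :=
  ![(0, 0, 0), (0, 0, 0), (0, 0, 0), (0, 0, 0), (1, 0, 0), (0, 1, -1), (0, -1, 1), (-1, 0, 0)]

theorem W_x3 (h : Rel n T τ x1 x2 x3 s) (i : Fin 8) :
    W x1 x2 x3 s i * x3 = tp τ (cc i) * (x3 * W x1 x2 x3 s i) := by
  have h0 := τ_zero h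
  fin_cases i
  · change 1 * x3 = τ 0 0 0 * (x3 * 1)
    rw [h0]; group
  · change x1 * x3 = τ 0 0 0 * (x3 * x1)
    rw [h0, x13 h, h.x31, one_mul]
  · change x2 * x3 = τ 0 0 0 * (x3 * x2)
    rw [h0, x32 h, h.x23, one_mul]
  · change x3 * x3 = τ 0 0 0 * (x3 * x3)
    rw [h0, one_mul]
  · change s * x3 = τ 1 0 0 * (x3 * s)
    rw [h.sx3, mul_assoc]
  · change x1 * s * x3 = τ 0 1 (-1) * (x3 * (x1 * s))
    rw [mul_assoc, h.sx3, ← mul_assoc, ← mul_assoc, h.x1τ, mul_assoc _ x1 x3, x13 h, ← mul_assoc x3, h.x31, mul_assoc]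
    congr 2
  · change x2 * s * x3 = τ 0 (-1) 1 * (x3 * (x2 * s))
    rw [mul_assoc, h.sx3, ← mul_assoc, ← mul_assoc, h.x2τ, mul_assoc _ x2 x3, h.x23, ← mul_assoc x3, x32 h, mul_assoc]
    congr 2
  · change x3 * s * x3 = τ (-1) 0 0 * (x3 * (x3 * s))
    rw [mul_assoc, h.sx3, ← mul_assoc, ← mul_assoc, h.x3τ, mul_assoc _ x3 x3, ← mul_assoc x3, mul_assoc]
    congr 2

/-- the parity argument: an involution `τ a b c * x3` commutes with no element of the cosets of `s, x1 s, x2 s, x3 s` -/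
theorem not_comm_x3 (hn : 2 ≤ n) (h : Rel n T τ x1 x2 x3 s) {i : Fin 8} (hi : 4 ≤ (i : ℕ)) {t : G} (ht : t ∈ T)
    (a b c : ℤ) (hbc : (2 : ℤ) ∣ b + c) :
    (t * W x1 x2 x3 s i) * (τ a b c * x3) ≠ (τ a b c * x3) * (t * W x1 x2 x3 s i) := by
  intro e
  obtain ⟨u, v, w, rfl⟩ := (h.mem t).1 ht
  have e1 : (τ u v w * W x1 x2 x3 s i) * (τ a b c * x3) =
      (τ u v w * tp τ (M i a b c) * tp τ (cc i)) * (x3 * W x1 x2 x3 s i) := by
    calc (τ u v w * W x1 x2 x3 s i) * (τ a b c * x3)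
        = τ u v w * (W x1 x2 x3 s i * τ a b c) * x3 := by group
      _ = τ u v w * tp τ (M i a b c) * (W x1 x2 x3 s i * x3) := by rw [W_τ h]; group
      _ = _ := by rw [W_x3 h]; group
  have e2 : (τ a b c * x3) * (τ u v w * W x1 x2 x3 s i) =
      (τ a b c * τ (-u - v - w) w v) * (x3 * W x1 x2 x3 s i) := by
    calc (τ a b c * x3) * (τ u v w * W x1 x2 x3 s i)
        = τ a b c * (x3 * τ u v w) * W x1 x2 x3 s i := by group
      _ = _ := by rw [h.x3τ]; group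
  rw [e1, e2] at e
  replace e := mul_right_cancel e
  rw [tp, tp, h.mul, h.mul, h.mul, τ_eq h] at e
  obtain ⟨p1, p2, -⟩ := e
  replace p1 := four_dvd hn p1
  replace p2 := four_dvd hn p2
  clear e1 e2 ht
  fin_cases i
  · simp at hi
  · simp at hi
  · simp at hi
  · simp at hi
  all_goals
    simp [M, cc] at p1 p2
    omega


/-! ## The centraliser `D` of `x3` in `S` -/

theorem W_comm_x3 (h : Rel n T τ x1 x2 x3 s) {i : Fin 8} (hi : (i : ℕ) < 4) :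
    W x1 x2 x3 s i * x3 = x3 * W x1 x2 x3 s i := by
  have := W_x3 h i
  rw [this]
  have h0 : tp τ (cc i) = 1 := by
    rw [← τ_zero h]
    fin_cases i <;> simp_all [cc, tp]
  rw [h0, one_mul]

/-- (F2) -/
theorem mem_D (hn : 2 ≤ n) (h : RelS n T S τ x1 x2 x3 s) (g : G) :
    (g ∈ S ∧ g * x3 = x3 * g) ↔ ∃ a b c w, (w = 1 ∨ w = x1 ∨ w = x2 ∨ w = x3) ∧ g = τ a b c * w ∧
      (2 : ℤ) ^ n ∣ 2 * a + b + c ∧ (2 : ℤ) ^ n ∣ b - c := by
  have hR := h.toRel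
  constructor
  · rintro ⟨hg, e⟩
    obtain ⟨t, ht, i, rfl⟩ := (mem_S h g).1 hg
    by_cases hi : 4 ≤ (i : ℕ)
    · refine absurd ?_ (not_comm_x3 hn hR hi ht 0 0 0 (by simp))
      rw [τ_zero hR, one_mul]
      exact e
    push Not at hi
    have hw : W x1 x2 x3 s i = 1 ∨ W x1 x2 x3 s i = x1 ∨ W x1 x2 x3 s i = x2 ∨ W x1 x2 x3 s i = x3 := by
      clear e hg
      fin_cases i <;> simp_all [W]
    obtain ⟨a, b, c, rfl⟩ := (hR.mem t).1 ht
    refine ⟨a, b, c, _, hw, rfl, ?_⟩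
    have e1 : τ a b c * x3 = x3 * τ a b c := by
      rw [mul_assoc, W_comm_x3 hR hi, ← mul_assoc, ← mul_assoc] at e
      exact mul_right_cancel e
    rw [hR.x3τ] at e1
    have e2 := mul_right_cancel e1
    rw [τ_eq hR] at e2
    obtain ⟨⟨k1, hk1⟩, e3, -⟩ := e2
    exact ⟨⟨k1, by linear_combination hk1⟩, e3⟩
  · rintro ⟨a, b, c, w, hw, rfl, hd1, hd2⟩
    have e1 : τ a b c * x3 = x3 * τ a b c := by
      rw [hR.x3τ]
      congr 1
      rw [τ_eq hR]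
      obtain ⟨k1, hk1⟩ := hd1
      obtain ⟨k2, hk2⟩ := hd2
      exact ⟨⟨k1, by linear_combination hk1⟩, ⟨k2, hk2⟩, ⟨-k2, by linear_combination -hk2⟩⟩
    have e2 : w * x3 = x3 * w ∧ ∃ i, w = W x1 x2 x3 s i := by
      rcases hw with rfl | rfl | rfl | rfl
      · exact ⟨by group, 0, rfl⟩
      · exact ⟨W_comm_x3 hR (i := 1) (by decide), 1, rfl⟩
      · exact ⟨W_comm_x3 hR (i := 2) (by decide), 2, rfl⟩
      · exact ⟨rfl, 3, rfl⟩
    obtain ⟨e2, i, rfl⟩ := e2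
    refine ⟨(mem_S h _).2 ⟨_, mem_τ hR _ _ _, i, rfl⟩, ?_⟩
    rw [mul_assoc, e2, ← mul_assoc, e1, mul_assoc]

theorem inf_cen_eq (h : RelS n T S τ x1 x2 x3 s) (y : G) :
    T ⊓ (S ⊓ Subgroup.centralizer {y}) = T ⊓ Subgroup.centralizer {y} := by
  rw [← inf_assoc, inf_eq_left.2 (T_le_S h)]

theorem card_D [Finite G] (hn : 2 ≤ n) (h : RelS n T S τ x1 x2 x3 s) :
    Nat.card (S ⊓ Subgroup.centralizer {x3} : Subgroup G) = 2 ^ (n + 3) := by
  have hR := h.toRel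
  have hC : Nat.card (T ⊓ (S ⊓ Subgroup.centralizer {x3}) : Subgroup G) = 2 ^ (n + 1) := by
    rw [inf_cen_eq h]
    have := card_cen (by omega) hR 3 (by simp) T.one_mem
    rw [one_mul] at this
    exact this
  have hJ : (({0, 1, 2, 3} : Finset (Fin 8))).card = 4 := by decide
  refine le_antisymm ?_ ?_
  · refine (card_le_of_codes h _ inf_le_left {0, 1, 2, 3} ?_).trans (by rw [hC, hJ]; exact (by ring_nf; rfl))
    rintro i ⟨t, ht, hi⟩
    by_contra hne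
    have h4 : 4 ≤ (i : ℕ) := by
      clear hi
      revert hne
      fin_cases i <;> simp
    refine not_comm_x3 hn hR h4 ht 0 0 0 (by simp) ?_
    rw [τ_zero hR, one_mul]
    exact Subgroup.mem_centralizer_singleton_iff.1 (Subgroup.mem_inf.1 hi).2 
  · refine le_trans (by rw [hC, hJ]; exact (by ring_nf; rfl)) (card_ge_of_codes hn h _ {0, 1, 2, 3} ?_)
    intro i hi
    refine ⟨1, T.one_mem, ?_⟩
    rw [one_mul]
    refine Subgroup.mem_inf.2 ⟨W_mem_S h i, Subgroup.mem_centralizer_singleton_iff.2 ?_⟩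
    refine W_comm_x3 hR ?_
    revert hi
    fin_cases i <;> simp

/-- (F3) -/
theorem card_cen_invol [Finite G] (hn : 2 ≤ n) (h : RelS n T S τ x1 x2 x3 s) {y : G} (hy : y ∈ S) (hyT : y ∉ T)
    (hyy : y * y = 1) : Nat.card (S ⊓ Subgroup.centralizer {y} : Subgroup G) ≤ 2 ^ (n + 3) := by
  have hR := h.toRel
  obtain ⟨t, ht, i, rfl⟩ := (mem_S h y).1 hy
  have hi0 : i ≠ 0 := by
    rintro rfl
    exact hyT (by simpa [W] using ht)
  have hi56 : ¬(i = 5 ∨ i = 6) := fun hi => no_invol hn hR hi ht hyy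
  have hC : Nat.card (T ⊓ (S ⊓ Subgroup.centralizer {t * W x1 x2 x3 s i}) : Subgroup G) ≤ 2 ^ (n + 1) := by
    rw [inf_cen_eq h]
    exact card_cen_le (by omega) hR i hi0 ht
  have main : ∀ J : Finset (Fin 8), J.card = 4 →
      (∀ j, (∃ u ∈ T, u * W x1 x2 x3 s j ∈ S ⊓ Subgroup.centralizer {t * W x1 x2 x3 s i}) → j ∈ J) →
      Nat.card (S ⊓ Subgroup.centralizer {t * W x1 x2 x3 s i} : Subgroup G) ≤ 2 ^ (n + 3) := by
    intro J hJ hJ'
    refine (card_le_of_codes h _ inf_le_left J hJ').trans ?_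
    rw [hJ]
    refine (Nat.mul_le_mul_right 4 hC).trans ?_
    exact (by ring_nf; rfl)
  have hcomm : ∀ j, ∀ u ∈ T, u * W x1 x2 x3 s j ∈ S ⊓ Subgroup.centralizer {t * W x1 x2 x3 s i} →
      (t * W x1 x2 x3 s i) * (u * W x1 x2 x3 s j) = (u * W x1 x2 x3 s j) * (t * W x1 x2 x3 s i) := by
    intro j u _ hu
    exact (Subgroup.mem_centralizer_singleton_iff.1 (Subgroup.mem_inf.1 hu).2).symm
  by_cases hi3 : i = 3
  · subst hi3
    refine main {0, 1, 2, 3} (by decide) ?_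
    rintro j ⟨u, hu, hj⟩
    by_contra hne
    have h4 : 4 ≤ (j : ℕ) := by
      clear hj
      revert hne
      fin_cases j <;> simp
    obtain ⟨a, b, c, rfl⟩ := (hR.mem t).1 ht
    have hsq : (2 : ℤ) ^ n ∣ b + c := by
      have e1 : τ a b c * W x1 x2 x3 s 3 * (τ a b c * W x1 x2 x3 s 3) = τ (-b - c) (b + c) (b + c) := by
        change τ a b c * x3 * (τ a b c * x3) = _
        calc τ a b c * x3 * (τ a b c * x3) = τ a b c * (x3 * τ a b c) * x3 := by group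
          _ = τ a b c * τ (-a - b - c) c b * (x3 * x3) := by rw [hR.x3τ]; group
          _ = _ := by
            rw [hR.x3x3, mul_one, hR.mul]
            congr 1 <;> ring
      rw [e1, hR.one] at hyy
      exact hyy.2.1
    have h2 : (2 : ℤ) ∣ b + c := dvd_trans (dvd_pow_self 2 (by omega)) hsq
    exact not_comm_x3 hn hR h4 hu a b c h2 (hcomm j u hu hj).symm
  · by_cases hi12 : i = 1 ∨ i = 2
    · refine main {0, 1, 2, 3} (by decide) ?_
      rintro j ⟨u, hu, hj⟩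
      exact (codes_aux hn hR ht hu (hcomm j u hu hj)).1 hi12
    · refine main {0, 3, 4, 7} (by decide) ?_
      rintro j ⟨u, hu, hj⟩
      refine (codes_aux hn hR ht hu (hcomm j u hu hj)).2.1 ?_
      clear hj hcomm main hC hyy hyT hy
      revert hi0 hi3 hi12 hi56
      fin_cases i <;> simp

/-- (F4): `T` is the only commutative subgroup of its order in `S` -/
theorem eq_T_of_comm [Finite G] (hn : 2 ≤ n) (h : RelS n T S τ x1 x2 x3 s) {X : Subgroup G} (hX : X ≤ S)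
    (hc : ∀ a ∈ X, ∀ b ∈ X, a * b = b * a) (hcard : Nat.card X = 8 ^ n) : X = T := by
  have hR := h.toRel
  have hle : X ≤ T := by
    by_contra hXT
    obtain ⟨g, hgX, hgT⟩ := SetLike.not_le_iff_exists.1 hXT
    have hsmall : ∀ g ∈ X, g ∉ T → Nat.card (T ⊓ X : Subgroup G) ≤ 2 ^ (n + 1) := by
      intro g hgX hgT
      obtain ⟨t, ht, i, rfl⟩ := (mem_S h g).1 (hX hgX)
      have hi0 : i ≠ 0 := by
        rintro rfl
        exact hgT (by simpa [W] using ht)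
      refine le_trans ?_ (card_cen_le (by omega) hR i hi0 ht)
      refine Nat.card_mono (Set.toFinite _) ?_
      intro u hu
      refine Subgroup.mem_inf.2 ⟨(Subgroup.mem_inf.1 hu).1, Subgroup.mem_centralizer_singleton_iff.2 ?_⟩
      exact hc _ (Subgroup.mem_inf.1 hu).2 _ hgX
    have hX4 : ∃ J : Finset (Fin 8), J.card ≤ 4 ∧ ∀ j, (∃ u ∈ T, u * W x1 x2 x3 s j ∈ X) → j ∈ J := by
      by_cases hj : ∃ j, (∃ u ∈ T, u * W x1 x2 x3 s j ∈ X) ∧ j ≠ 0 ∧ j ≠ 3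
      · obtain ⟨i, ⟨t, ht, hti⟩, hi0, hi3⟩ := hj
        by_cases h12 : i = 1 ∨ i = 2
        · refine ⟨{0, 1, 2, 3}, by decide, ?_⟩
          rintro j ⟨u, hu, hj⟩
          exact (codes_aux hn hR ht hu (hc _ hti _ hj)).1 h12
        · by_cases h47 : i = 4 ∨ i = 7
          · refine ⟨{0, 3, 4, 7}, by decide, ?_⟩
            rintro j ⟨u, hu, hj⟩
            exact (codes_aux hn hR ht hu (hc _ hti _ hj)).2.1 h47
          · refine ⟨{0, 3, 5, 6}, by decide, ?_⟩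
            rintro j ⟨u, hu, hj⟩
            refine (codes_aux hn hR ht hu (hc _ hti _ hj)).2.2 ?_
            clear hj hti
            revert hi0 hi3 h12 h47
            fin_cases i <;> simp
      · refine ⟨{0, 3}, by decide, ?_⟩
        intro j hj'
        by_contra hne
        refine hj ⟨j, hj', ?_, ?_⟩
        · rintro rfl
          exact hne (by decide)
        · rintro rfl
          exact hne (by decide)
    obtain ⟨J, hJ4, hJ⟩ := hX4
    have h1 := card_le_of_codes h X hX J hJ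
    have h2 : 8 ^ n ≤ 2 ^ (n + 1) * 4 := by
      rw [← hcard]
      exact h1.trans (Nat.mul_le_mul (hsmall g hgX hgT) hJ4)
    have h3 : (8 : ℕ) ^ n = 2 ^ (3 * n) := by rw [show (8 : ℕ) = 2 ^ 3 from rfl, ← pow_mul]
    have h4 : (2 : ℕ) ^ (n + 1) * 4 = 2 ^ (n + 3) := by ring
    rw [h3, h4] at h2
    have := (Nat.pow_le_pow_iff_right (by norm_num : 1 < 2)).1 h2
    omega
  refine Subgroup.eq_of_le_of_card_ge hle ?_
  rw [hcard, card_T hR]


/-! ## The derived subgroup of `D` -/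

theorem mem_D' (hn : 2 ≤ n) (h : RelS n T S τ x1 x2 x3 s) (g : G) :
    g ∈ S ⊓ Subgroup.centralizer {x3} ↔ ∃ a b c w, (w = 1 ∨ w = x1 ∨ w = x2 ∨ w = x3) ∧ g = τ a b c * w ∧
      (2 : ℤ) ^ n ∣ 2 * a + b + c ∧ (2 : ℤ) ^ n ∣ b - c := by
  rw [← mem_D hn h, Subgroup.mem_inf, Subgroup.mem_centralizer_singleton_iff]

/-- `⟨c⟩`, `c = τ 1 (-1) (-1)`: `τ a b c ∈ ⟨c ^ 2⟩`. -/
theorem mem_zpowers_iff (h : Rel n T τ x1 x2 x3 s) (g : G) :
    g ∈ Subgroup.zpowers (τ 1 (-1) (-1) ^ 2) ↔ ∃ k : ℤ, g = τ (2 * k) (-(2 * k)) (-(2 * k)) := by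
  rw [Subgroup.mem_zpowers_iff]
  constructor
  · rintro ⟨k, rfl⟩
    refine ⟨k, ?_⟩
    rw [τ_pow h, τ_zpow h]
    congr 1 <;> push_cast <;> ring
  · rintro ⟨k, rfl⟩
    refine ⟨k, ?_⟩
    rw [τ_pow h, τ_zpow h]
    congr 1 <;> push_cast <;> ring

theorem V_comm (h : Rel n T τ x1 x2 x3 s) {w w' : G} (hw : w = 1 ∨ w = x1 ∨ w = x2 ∨ w = x3)
    (hw' : w' = 1 ∨ w' = x1 ∨ w' = x2 ∨ w' = x3) : w * w' = w' * w := by
  rcases hw with rfl | rfl | rfl | rfl <;> rcases hw' with rfl | rfl | rfl | rfl <;>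
    simp [h.x12, h.x23, h.x31, x13 h, x21 h, x32 h]

theorem V_inv (h : Rel n T τ x1 x2 x3 s) {w : G} (hw : w = 1 ∨ w = x1 ∨ w = x2 ∨ w = x3) : w⁻¹ = w := by
  rw [inv_eq_iff_mul_eq_one]
  rcases hw with rfl | rfl | rfl | rfl
  exacts [one_mul 1, h.x1x1, h.x2x2, h.x3x3]

theorem V_commutator (hn : 2 ≤ n) (h : Rel n T τ x1 x2 x3 s) {w : G} (hw : w = 1 ∨ w = x1 ∨ w = x2 ∨ w = x3)
    {a b c : ℤ} (h1 : (2 : ℤ) ^ n ∣ 2 * a + b + c) (h2 : (2 : ℤ) ^ n ∣ b - c) :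
    w * τ a b c * w⁻¹ * (τ a b c)⁻¹ ∈ Subgroup.zpowers (τ 1 (-1) (-1) ^ 2) := by
  rw [mem_zpowers_iff h]
  have h4 : (4 : ℤ) ∣ 2 ^ n := by simpa using pow_dvd_pow (2 : ℤ) hn
  obtain ⟨k1, hk1⟩ := h1
  obtain ⟨k2, hk2⟩ := h2
  obtain ⟨m, hm⟩ := h4
  have hb : b - a = 2 * (m * (k1 + k2) - a) := by
    have : 2 * b = 2 * (2 * m * (k1 + k2) - a) := by linear_combination hk1 + hk2 + (k1 + k2) * hm
    linarith
  have he : ∀ g : G, w * τ a b c = g * w → w * τ a b c * w⁻¹ * (τ a b c)⁻¹ = g * (τ a b c)⁻¹ := by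
    intro g e
    rw [e, mul_inv_cancel_right]
  rcases hw with rfl | rfl | rfl | rfl
  · refine ⟨0, ?_⟩
    have : (1 : G) * τ a b c * 1⁻¹ * (τ a b c)⁻¹ = 1 := by group
    rw [this]
    simpa using (τ_zero h).symm
  · refine ⟨m * (k1 + k2) - a, ?_⟩
    rw [he _ (h.x1τ a b c), τ_inv h, h.mul, τ_eq h]
    exact ⟨⟨0, by linear_combination hb⟩, ⟨0, by linear_combination -hb⟩,
      ⟨k2 - k1, by linear_combination -hb - hk1 + hk2⟩⟩
  · refine ⟨m * (k1 + k2) - a, ?_⟩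
    rw [he _ (h.x2τ a b c), τ_inv h, h.mul, τ_eq h]
    exact ⟨⟨-k2, by linear_combination hb - hk2⟩, ⟨-k1, by linear_combination -hb - hk1⟩,
      ⟨k2, by linear_combination -hb + hk2⟩⟩
  · refine ⟨0, ?_⟩
    rw [he _ (h.x3τ a b c), τ_inv h, h.mul, τ_eq h]
    exact ⟨⟨-k1, by linear_combination -hk1⟩, ⟨-k2, by linear_combination -hk2⟩, ⟨k2, by linear_combination hk2⟩⟩

/-- (F5) the derived subgroup of `D` -/
theorem commutator_D (hn : 2 ≤ n) (h : RelS n T S τ x1 x2 x3 s) :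
    ⁅S ⊓ Subgroup.centralizer {x3}, S ⊓ Subgroup.centralizer {x3}⁆ = Subgroup.zpowers (τ 1 (-1) (-1) ^ 2) := by
  have hR := h.toRel
  apply le_antisymm
  · rw [Subgroup.commutator_le]
    intro g1 hg1 g2 hg2
    obtain ⟨a, b, c, w, hw, rfl, h1, h2⟩ := (mem_D' hn h g1).1 hg1
    obtain ⟨a', b', c', w', hw', rfl, h1', h2'⟩ := (mem_D' hn h g2).1 hg2
    have e1 := V_commutator hn hR hw h1' h2'
    have e2 := V_commutator hn hR hw' h1 h2
    have hmem : ∀ (v : G), (v = 1 ∨ v = x1 ∨ v = x2 ∨ v = x3) → ∀ p q r, v * τ p q r * v⁻¹ ∈ T := by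
      intro v hv p q r
      have : ∃ i, v = W x1 x2 x3 s i := by
        rcases hv with rfl | rfl | rfl | rfl
        exacts [⟨0, rfl⟩, ⟨1, rfl⟩, ⟨2, rfl⟩, ⟨3, rfl⟩]
      obtain ⟨i, rfl⟩ := this
      have := conj_τ hR i T.one_mem p q r
      rw [one_mul] at this
      rw [this]
      exact mem_τ hR _ _ _
    have key : ⁅τ a b c * w, τ a' b' c' * w'⁆ =
        (w * τ a' b' c' * w⁻¹ * (τ a' b' c')⁻¹) * (w' * τ a b c * w'⁻¹ * (τ a b c)⁻¹)⁻¹ := by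
      have c1 := V_comm hR hw hw'
      have m1 := hmem w hw a' b' c'
      have m2 := hmem w' hw' a b c
      have t1 := mem_τ hR a b c
      have t2 := mem_τ hR a' b' c'
      generalize τ a b c = t at *
      generalize τ a' b' c' = t' at *
      have cT := comm_T hR
      have d1 : w⁻¹ * w'⁻¹ = w'⁻¹ * w⁻¹ := by
        rw [← mul_inv_rev, ← mul_inv_rev, c1]
      calc ⁅t * w, t' * w'⁆ = t * (w * t' * w⁻¹) * (w * w' * w⁻¹ * t⁻¹ * w'⁻¹) * t'⁻¹ := by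
            rw [commutatorElement_def]; group
        _ = t * (w * t' * w⁻¹) * (w' * t * w'⁻¹)⁻¹ * t'⁻¹ := by
            rw [c1]; group
        _ = (w * t' * w⁻¹ * t) * (w' * t * w'⁻¹)⁻¹ * t'⁻¹ := by rw [cT t t1 _ m1]
        _ = w * t' * w⁻¹ * (t * (w' * t * w'⁻¹)⁻¹) * t'⁻¹ := by group
        _ = w * t' * w⁻¹ * (t'⁻¹ * (t * (w' * t * w'⁻¹)⁻¹)) := by
            rw [mul_assoc, cT _ (T.mul_mem t1 (T.inv_mem m2)) _ (T.inv_mem t2)]
        _ = _ := by group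
    rw [key]
    exact Subgroup.mul_mem _ e1 (Subgroup.inv_mem _ e2)
  · rw [Subgroup.zpowers_le]
    have hc : τ 1 (-1) (-1) ∈ S ⊓ Subgroup.centralizer {x3} :=
      (mem_D' hn h _).2 ⟨1, -1, -1, 1, Or.inl rfl, by rw [mul_one], by simp, by simp⟩
    have hx : x1 ∈ S ⊓ Subgroup.centralizer {x3} :=
      (mem_D' hn h _).2 ⟨0, 0, 0, x1, Or.inr (Or.inl rfl), by rw [τ_zero hR, one_mul], by simp, by simp⟩
    have := Subgroup.commutator_mem_commutator hc hx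
    have e : ⁅τ 1 (-1) (-1), x1⁆ = τ 1 (-1) (-1) ^ 2 := by
      rw [commutatorElement_def, τ_inv hR, mul_assoc (τ 1 (-1) (-1)) x1, hR.x1τ, pow_two, ← mul_assoc,
        mul_inv_cancel_right]
      congr 2
    rwa [e] at this

theorem z_mem (hn : 2 ≤ n) (h : Rel n T τ x1 x2 x3 s) :
    τ (2 ^ (n - 1)) (2 ^ (n - 1)) (2 ^ (n - 1)) ∈ Subgroup.zpowers (τ 1 (-1) (-1) ^ 2) := by
  rw [mem_zpowers_iff h]
  have E := two_pow_eq (n := n) (by omega)
  have E' := two_pow_eq (n := n - 1) (by omega)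
  refine ⟨2 ^ (n - 1 - 1), ?_⟩
  rw [τ_eq h]
  exact ⟨⟨0, by linear_combination E'⟩, ⟨1, by linear_combination -E - E'⟩,
    ⟨1, by linear_combination -E - E'⟩⟩

/-- `z` is the only involution of `⟨c ^ 2⟩` -/
theorem eq_z_of_sq (hn : 2 ≤ n) (h : Rel n T τ x1 x2 x3 s) {g : G}
    (hg : g ∈ Subgroup.zpowers (τ 1 (-1) (-1) ^ 2)) (hgg : g * g = 1) (hg1 : g ≠ 1) :
    g = τ (2 ^ (n - 1)) (2 ^ (n - 1)) (2 ^ (n - 1)) := by
  obtain ⟨k, rfl⟩ := (mem_zpowers_iff h g).1 hg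
  rw [sq_eq_one_iff (by omega) h] at hgg
  obtain ⟨m, hm⟩ := hgg.1
  have hm2 : ¬ (2 : ℤ) ∣ m := by
    intro hd
    refine hg1 ((h.one _ _ _).2 ?_)
    have : (2 : ℤ) ^ n ∣ 2 * k := by
      rw [hm]
      exact (dvd_half_iff (by omega) m).2 hd
    exact ⟨this, dvd_neg.2 this, dvd_neg.2 this⟩
  obtain ⟨j, rfl⟩ : ∃ j, m = 2 * j + 1 := ⟨m / 2, by omega⟩
  have E := two_pow_eq (n := n) (by omega)
  rw [τ_eq h]
  exact ⟨⟨j, by linear_combination hm - j * E⟩, ⟨-j - 1, by linear_combination -hm + (j + 1) * E⟩,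
    ⟨-j - 1, by linear_combination -hm + (j + 1) * E⟩⟩

theorem z_ne_one (hn : 1 ≤ n) (h : Rel n T τ x1 x2 x3 s) :
    τ (2 ^ (n - 1)) (2 ^ (n - 1)) (2 ^ (n - 1)) ≠ 1 := by
  intro e
  have := ((h.one _ _ _).1 e).1
  have h2 := (dvd_half_iff hn 1).1 (by simpa using this)
  omega

theorem z_sq (hn : 1 ≤ n) (h : Rel n T τ x1 x2 x3 s) :
    τ (2 ^ (n - 1)) (2 ^ (n - 1)) (2 ^ (n - 1)) * τ (2 ^ (n - 1)) (2 ^ (n - 1)) (2 ^ (n - 1)) = 1 :=
  (sq_eq_one_iff hn h _ _ _).2 ⟨dvd_rfl, dvd_rfl, dvd_rfl⟩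

/-- `z = v ^ 2`, `v = τ e' e' e'`, `e' = 2 ^ (n - 2)` -/
theorem v_sq (hn : 2 ≤ n) (h : Rel n T τ x1 x2 x3 s) :
    τ (2 ^ (n - 2)) (2 ^ (n - 2)) (2 ^ (n - 2)) * τ (2 ^ (n - 2)) (2 ^ (n - 2)) (2 ^ (n - 2)) =
      τ (2 ^ (n - 1)) (2 ^ (n - 1)) (2 ^ (n - 1)) := by
  have E' : (2 : ℤ) ^ (n - 1) = 2 * 2 ^ (n - 2) := by
    have := two_pow_eq (n := n - 1) (by omega)
    rwa [show n - 1 - 1 = n - 2 by omega] at this
  rw [h.mul, E', two_mul]

/-- every element which normalises `D = C_S(x3)` commutes with `z` -/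
theorem comm_z_of_normalizes (hn : 2 ≤ n) (h : RelS n T S τ x1 x2 x3 s) {g : G}
    (hg : g ∈ Subgroup.normalizer ((S ⊓ Subgroup.centralizer {x3} : Subgroup G) : Set G)) :
    g * τ (2 ^ (n - 1)) (2 ^ (n - 1)) (2 ^ (n - 1)) = τ (2 ^ (n - 1)) (2 ^ (n - 1)) (2 ^ (n - 1)) * g := by
  have hR := h.toRel
  set D : Subgroup G := S ⊓ Subgroup.centralizer {x3} with hD
  set z := τ (2 ^ (n - 1)) (2 ^ (n - 1)) (2 ^ (n - 1)) with hz
  have hmap : D.map (MulAut.conj g).toMonoidHom = D := by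
    ext y
    rw [Subgroup.mem_map]
    constructor
    · rintro ⟨d, hd, rfl⟩
      exact (Subgroup.mem_normalizer_iff.1 hg d).1 hd
    · intro hy
      refine ⟨g⁻¹ * y * g, ?_, ?_⟩
      · have := (Subgroup.mem_normalizer_iff.1 (inv_mem hg) y).1 hy
        simpa using this
      · simp [mul_assoc]
  have hmap2 : (⁅D, D⁆ : Subgroup G).map (MulAut.conj g).toMonoidHom = ⁅D, D⁆ := by
    rw [Subgroup.map_commutator, hmap]
  have hz1 : z ∈ (⁅D, D⁆ : Subgroup G) := by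
    rw [commutator_D hn h]
    exact z_mem hn hR
  have hz2 : g * z * g⁻¹ ∈ Subgroup.zpowers (τ 1 (-1) (-1) ^ 2) := by
    rw [← commutator_D hn h, ← hmap2]
    exact ⟨z, hz1, rfl⟩
  have e := eq_z_of_sq hn hR hz2 (by
    have := z_sq (n := n) (by omega) hR
    rw [← hz] at this
    calc g * z * g⁻¹ * (g * z * g⁻¹) = g * (z * z) * g⁻¹ := by group
      _ = 1 := by rw [this]; group) (by
    intro e1
    refine z_ne_one (n := n) (by omega) hR ?_
    rw [← hz]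
    have : z = g⁻¹ * (g * z * g⁻¹) * g := by group
    rw [this, e1]
    group)
  rw [← hz] at e
  exact (mul_inv_eq_iff_eq_mul.1 e)

end Cfsg.Agent.ONType.Facts
end

-- part: ONType/Control
section
/-!
# O'Nan type groups: control of fusion by `N_G(T)`

(WT) `weakly`, `weakly'`; (TC) `control`; (AZ) `exists_dec`; (INV) `exists_conj_x3`; (TR) `trans`.
-/

set_option autoImplicit false
set_option linter.dupNamespace false

open scoped Pointwise

namespace Cfsg.Agent.ONType.Control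

open Subgroup
open Cfsg.Agent.ONType.Rel Cfsg.Agent.ONType.Span Cfsg.Agent.ONType.Sit Cfsg.Agent.ONType.Facts

/-- the elements of order two of `T` -/
def el {G : Type*} (n : ℕ) (τ : ℤ → ℤ → ℤ → G) (i j k : ℤ) : G :=
  τ (2 ^ (n - 1) * i) (2 ^ (n - 1) * j) (2 ^ (n - 1) * k)

theorem el_111 {G : Type*} (n : ℕ) (τ : ℤ → ℤ → ℤ → G) :
    el n τ 1 1 1 = τ (2 ^ (n - 1)) (2 ^ (n - 1)) (2 ^ (n - 1)) := by
  unfold el; rw [mul_one]

theorem el_100 {G : Type*} (n : ℕ) (τ : ℤ → ℤ → ℤ → G) : el n τ 1 0 0 = τ (2 ^ (n - 1)) 0 0 := by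
  unfold el; rw [mul_one, mul_zero]

theorem M_0 (a b c : ℤ) : M 0 a b c = (a, b, c) := rfl
theorem M_1 (a b c : ℤ) : M 1 a b c = (b, a, -a - b - c) := rfl
theorem M_2 (a b c : ℤ) : M 2 a b c = (c, -a - b - c, a) := rfl
theorem M_3 (a b c : ℤ) : M 3 a b c = (-a - b - c, c, b) := rfl
theorem M_4 (a b c : ℤ) : M 4 a b c = (-a, -c, -b) := rfl
theorem M_7 (a b c : ℤ) : M 7 a b c = (a + b + c, -b, -c) := rfl

section RelLemmas

variable {G : Type*} [Group G] {n : ℕ} {T : Subgroup G} {τ : ℤ → ℤ → ℤ → G} {x1 x2 x3 s : G}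

variable (R : Rel n T τ x1 x2 x3 s)
include R

theorem el_mem (i j k : ℤ) : el n τ i j k ∈ T := mem_τ R _ _ _

theorem el_mul (i j k i' j' k' : ℤ) : el n τ i j k * el n τ i' j' k' = el n τ (i + i') (j + j') (k + k') := by
  unfold el; rw [R.mul, ← mul_add, ← mul_add, ← mul_add]

/-- only the parities matter -/
theorem el_eq (hn : 1 ≤ n) {i j k i' j' k' : ℤ} : el n τ i j k = el n τ i' j' k' ↔
    (2 : ℤ) ∣ i - i' ∧ (2 : ℤ) ∣ j - j' ∧ (2 : ℤ) ∣ k - k' := by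
  have hp : (2 : ℤ) ^ n = 2 ^ (n - 1) * 2 := by rw [← pow_succ, Nat.sub_add_cancel hn]
  have key : ∀ i i' : ℤ, (2 : ℤ) ^ n ∣ 2 ^ (n - 1) * i - 2 ^ (n - 1) * i' ↔ (2 : ℤ) ∣ i - i' := by
    intro i i'
    rw [← mul_sub, hp]
    exact mul_dvd_mul_iff_left (by positivity)
  unfold el
  rw [τ_eq R, key, key, key]

theorem el_000 : el n τ 0 0 0 = 1 := by
  unfold el; rw [mul_zero]; exact τ_zero R

theorem el_one (hn : 1 ≤ n) {i j k : ℤ} : el n τ i j k = 1 ↔ (2 : ℤ) ∣ i ∧ (2 : ℤ) ∣ j ∧ (2 : ℤ) ∣ k := by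
  rw [← el_000 R, el_eq R hn, sub_zero, sub_zero, sub_zero]

theorem el_sq (hn : 1 ≤ n) (i j k : ℤ) : el n τ i j k * el n τ i j k = 1 := by
  rw [el_mul R, el_one R hn]
  exact ⟨⟨i, by ring⟩, ⟨j, by ring⟩, ⟨k, by ring⟩⟩

theorem exists_el (hn : 1 ≤ n) {t : G} (ht : t ∈ T) (h2 : t * t = 1) :
    ∃ i j k : ℤ, (i = 0 ∨ i = 1) ∧ (j = 0 ∨ j = 1) ∧ (k = 0 ∨ k = 1) ∧ t = el n τ i j k :=
  (invol_T hn R t).1 ⟨ht, h2⟩

theorem indep (hn : 1 ≤ n) {i j k i' j' k' i'' j'' k'' : ℤ}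
    (h1 : ¬ ((2 : ℤ) ∣ i ∧ (2 : ℤ) ∣ j ∧ (2 : ℤ) ∣ k)) (h2 : ¬ ((2 : ℤ) ∣ i' ∧ (2 : ℤ) ∣ j' ∧ (2 : ℤ) ∣ k'))
    (h3 : ¬ ((2 : ℤ) ∣ i' - i ∧ (2 : ℤ) ∣ j' - j ∧ (2 : ℤ) ∣ k' - k))
    (h4 : ¬ ((2 : ℤ) ∣ i'' ∧ (2 : ℤ) ∣ j'' ∧ (2 : ℤ) ∣ k''))
    (h5 : ¬ ((2 : ℤ) ∣ i'' - i ∧ (2 : ℤ) ∣ j'' - j ∧ (2 : ℤ) ∣ k'' - k))
    (h6 : ¬ ((2 : ℤ) ∣ i'' - i' ∧ (2 : ℤ) ∣ j'' - j' ∧ (2 : ℤ) ∣ k'' - k'))
    (h7 : ¬ ((2 : ℤ) ∣ i'' - (i + i') ∧ (2 : ℤ) ∣ j'' - (j + j') ∧ (2 : ℤ) ∣ k'' - (k + k'))) :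
    Indep (el n τ i j k) (el n τ i' j' k') (el n τ i'' j'' k'') := by
  refine ⟨?_, ?_, ?_, ?_, ?_, ?_, ?_⟩
  · rw [Ne, el_one R hn]; exact h1
  · rw [Ne, el_one R hn]; exact h2
  · rw [Ne, el_eq R hn]; exact h3
  · rw [Ne, el_one R hn]; exact h4
  · rw [Ne, el_eq R hn]; exact h5
  · rw [Ne, el_eq R hn]; exact h6
  · rw [el_mul R, Ne, el_eq R hn]; exact h7

/-- the action of `S` on the elements of order two -/
theorem W_el (i : Fin 8) {t : G} (ht : t ∈ T) (a b c : ℤ) :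
    (t * W x1 x2 x3 s i) * el n τ a b c * (t * W x1 x2 x3 s i)⁻¹ =
      el n τ (M i a b c).1 (M i a b c).2.1 (M i a b c).2.2 := by
  unfold el
  rw [conj_τ R i ht]
  fin_cases i <;> simp [M, tp] <;> ring_nf

/-- An element commuting with `el 1 0 0`, `el 0 1 0`, `el 0 0 1` centralises `Ω₁(T)`. -/
theorem comm_om (hn : 1 ≤ n) {g : G} (h1 : g * el n τ 1 0 0 = el n τ 1 0 0 * g)
    (h2 : g * el n τ 0 1 0 = el n τ 0 1 0 * g) (h3 : g * el n τ 0 0 1 = el n τ 0 0 1 * g) :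
    ∀ t ∈ T, t * t = 1 → g * t = t * g := by
  intro t ht htt
  obtain ⟨i, j, k, hi, hj, hk, rfl⟩ := exists_el R hn ht htt
  have e1 : Commute g (el n τ i 0 0) := by
    rcases hi with rfl | rfl
    · rw [el_000 R]; exact Commute.one_right g
    · exact h1
  have e2 : Commute g (el n τ 0 j 0) := by
    rcases hj with rfl | rfl
    · rw [el_000 R]; exact Commute.one_right g
    · exact h2
  have e3 : Commute g (el n τ 0 0 k) := by
    rcases hk with rfl | rfl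
    · rw [el_000 R]; exact Commute.one_right g
    · exact h3
  have e4 : el n τ i j k = el n τ i 0 0 * el n τ 0 j 0 * el n τ 0 0 k := by
    rw [el_mul R, el_mul R]; simp
  rw [e4]
  exact ((e1.mul_right e2).mul_right e3).eq

end RelLemmas

variable {G : Type*} [Group G] [Finite G] {n : ℕ} {S : Sylow 2 G} {T O : Subgroup G} {τ : ℤ → ℤ → ℤ → G}
  {x1 x2 x3 s ξ : G} (h : Sit n S T O τ x1 x2 x3 s ξ)

include h

/-- `T` is weakly closed in `S`. -/
theorem weakly {g : G} (hg : ∀ y ∈ T, g * y * g⁻¹ ∈ (S : Subgroup G)) :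
    g ∈ normalizer (T : Set G) := by
  have R := h.rel.toRel
  have hX : T.map (MulAut.conj g).toMonoidHom = T := by
    apply eq_T_of_comm h.hn h.rel
    · rintro _ ⟨y, hy, rfl⟩
      exact hg y hy
    · rintro _ ⟨y, hy, rfl⟩ _ ⟨z, hz, rfl⟩
      rw [← map_mul, comm_T R y hy z hz, map_mul]
    · rw [card_map_of_injective (MulAut.conj g).injective, card_T R]
  rw [mem_normalizer_iff]
  intro y
  constructor
  · intro hy
    rw [← hX]
    exact ⟨y, hy, rfl⟩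
  · intro hy
    rw [← hX] at hy
    obtain ⟨y', hy', he⟩ := hy
    have : y = y' := by
      have he' : g * y' * g⁻¹ = g * y * g⁻¹ := he
      exact (mul_left_cancel (mul_right_cancel he')).symm
    rwa [this]

/-- If a 2-subgroup contains `T` and `T^g` then `g` normalises `T`. -/
theorem weakly' {P : Subgroup G} (hP : IsPGroup 2 P) (hTP : T ≤ P) {g : G}
    (hg : ∀ y ∈ T, g * y * g⁻¹ ∈ P) : g ∈ normalizer (T : Set G) := by
  obtain ⟨Q, hQ⟩ := hP.exists_le_sylow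
  obtain ⟨k, hk⟩ := MulAction.exists_smul_eq G Q S
  have hkQ : ∀ q ∈ Q, k * q * k⁻¹ ∈ (S : Subgroup G) := by
    intro q hq
    rw [← hk, Sylow.coe_subgroup_smul]
    exact Subgroup.smul_mem_pointwise_smul _ (MulAut.conj k) _ hq
  have h1 : k ∈ normalizer (T : Set G) := weakly h (fun y hy => hkQ _ (hQ (hTP hy)))
  have h2 : k * g ∈ normalizer (T : Set G) := by
    apply weakly h
    intro y hy
    have := hkQ _ (hQ (hg y hy))
    rwa [show k * (g * y * g⁻¹) * k⁻¹ = k * g * y * (k * g)⁻¹ by group] at this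
  have := mul_mem (inv_mem h1) h2
  rwa [inv_mul_cancel_left] at this

/-- Fusion in `T` is controlled by `N_G(T)`. -/
theorem control (X : Set G) (hX : ∀ x ∈ X, x ∈ T) {g : G}
    (hg : ∀ x ∈ X, g * x * g⁻¹ ∈ T) : ∃ m ∈ normalizer (T : Set G), ∀ x ∈ X, m * x * m⁻¹ = g * x * g⁻¹ := by
  have R := h.rel.toRel
  let C : Subgroup G := centralizer ((fun x => g * x * g⁻¹) '' X)
  have hT2 : IsPGroup 2 T := S.2.to_le (T_le_S h.rel)
  have hTC : T ≤ C := by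
    intro t ht
    rw [mem_centralizer_iff]
    rintro _ ⟨x, hx, rfl⟩
    exact comm_T R _ (hg x hx) _ ht
  have hTgC : T.map (MulAut.conj g).toMonoidHom ≤ C := by
    rintro _ ⟨t, ht, rfl⟩
    rw [mem_centralizer_iff]
    rintro _ ⟨x, hx, rfl⟩
    change g * x * g⁻¹ * (g * t * g⁻¹) = g * t * g⁻¹ * (g * x * g⁻¹)
    calc g * x * g⁻¹ * (g * t * g⁻¹) = g * (x * t) * g⁻¹ := by group
      _ = g * (t * x) * g⁻¹ := by rw [comm_T R _ (hX x hx) _ ht]
      _ = g * t * g⁻¹ * (g * x * g⁻¹) := by group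
  obtain ⟨P1, hP1⟩ := (hT2.comap_of_injective C.subtype C.subtype_injective).exists_le_sylow
  obtain ⟨P2, hP2⟩ := ((hT2.map (MulAut.conj g).toMonoidHom).comap_of_injective C.subtype
    C.subtype_injective).exists_le_sylow
  obtain ⟨c, hc⟩ := MulAction.exists_smul_eq C P2 P1
  have hm : (c : G) * g ∈ normalizer (T : Set G) := by
    apply weakly' h (P1.2.map C.subtype)
    · intro t ht
      exact ⟨⟨t, hTC ht⟩, hP1 (mem_comap.mpr ht), rfl⟩
    · intro t ht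
      have h1 : (⟨g * t * g⁻¹, hTgC ⟨t, ht, rfl⟩⟩ : C) ∈ P2 := hP2 (mem_comap.mpr ⟨t, ht, rfl⟩)
      have h2 : c * ⟨g * t * g⁻¹, hTgC ⟨t, ht, rfl⟩⟩ * c⁻¹ ∈ P1 := by
        rw [← hc]
        change _ ∈ ((c • P2 : Sylow 2 C) : Subgroup C)
        rw [Sylow.coe_subgroup_smul]
        exact Subgroup.smul_mem_pointwise_smul _ (MulAut.conj c) _ h1
      refine ⟨_, h2, ?_⟩
      change (c : G) * (g * t * g⁻¹) * (c : G)⁻¹ = _
      group
  refine ⟨(c : G) * g, hm, ?_⟩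
  intro x hx
  have h3 := (mem_centralizer_iff.mp c.2) _ ⟨x, hx, rfl⟩
  have h3' : g * x * g⁻¹ * (c : G) = (c : G) * (g * x * g⁻¹) := h3
  calc (c : G) * g * x * ((c : G) * g)⁻¹ = (c : G) * (g * x * g⁻¹) * (c : G)⁻¹ := by group
    _ = g * x * g⁻¹ := by rw [← h3', mul_inv_cancel_right]

omit [Finite G]

omit h in
theorem conj_mem {k t : G} (hk : k ∈ normalizer (T : Set G)) (ht : t ∈ T) : k * t * k⁻¹ ∈ T :=
  (mem_normalizer_iff.mp hk t).mp ht

omit h in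
theorem conj_mem' {k t : G} (hk : k ∈ normalizer (T : Set G)) (ht : t ∈ T) : k⁻¹ * t * k ∈ T := by
  have := (mem_normalizer_iff.mp (inv_mem hk) t).mp ht
  rwa [inv_inv] at this

theorem ξ_mem : ξ ∈ normalizer (T : Set G) := by
  have R := h.rel.toRel
  have key : ∀ y ∈ T, ξ * y * ξ⁻¹ ∈ T := by
    intro y hy
    obtain ⟨a, b, c, rfl⟩ := (R.mem _).1 hy
    rw [h.ξτ, mul_inv_cancel_right]
    exact mem_τ R _ _ _
  rw [mem_normalizer_iff]
  intro y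
  refine ⟨key y, fun hy => ?_⟩
  obtain ⟨a, b, c, hc⟩ := (R.mem _).1 hy
  have h1 : ξ * τ a c (-a - b - c) = τ a b c * ξ := by
    rw [h.ξτ]
    congr 2; ring
  have : y = τ a c (-a - b - c) := by
    have h2 : ξ * y = τ a b c * ξ := by rw [← hc]; group
    rw [← h1] at h2
    exact mul_left_cancel h2
  rw [this]
  exact mem_τ R _ _ _

theorem ξ_el (a b c : ℤ) : ξ * el n τ a b c * ξ⁻¹ = el n τ a (-a - b - c) b := by
  unfold el
  rw [h.ξτ, mul_inv_cancel_right]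
  congr 1; ring

theorem O_le_normalizer : O ≤ normalizer (T : Set G) := by
  intro o ho
  rw [mem_normalizer_iff]
  intro y
  constructor
  · intro hy
    rw [h.O_le o ho y hy, mul_inv_cancel_right]; exact hy
  · intro hy
    have h1 := h.O_le o ho _ hy
    have : y = o * y * o⁻¹ := by
      have h2 : o * (o * y * o⁻¹) = (o * y * o⁻¹) * o := h1
      have h3 : o * y * o⁻¹ * o = o * y := by group
      rw [h3] at h2
      exact (mul_left_cancel h2).symm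
    rw [this]; exact hy

theorem el_ne (hn : 1 ≤ n) {i j k i' j' k' : ℤ} (hne : ¬ ((2 : ℤ) ∣ i - i' ∧ (2 : ℤ) ∣ j - j' ∧ (2 : ℤ) ∣ k - k')) :
    el n τ i j k ≠ el n τ i' j' k' := fun h0 => hne ((el_eq h.rel.toRel hn).1 h0)

theorem el_congr (hn : 1 ≤ n) {i j k : ℤ} (i' j' k' : ℤ) (he : (2 : ℤ) ∣ i - i' ∧ (2 : ℤ) ∣ j - j' ∧ (2 : ℤ) ∣ k - k') :
    el n τ i j k = el n τ i' j' k' := (el_eq h.rel.toRel hn).2 he

theorem W_mem_normalizer (i : Fin 8) : W x1 x2 x3 s i ∈ normalizer (T : Set G) :=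
  S_le_normalizer h.rel (W_mem_S h.rel i)

theorem W_el' (i : Fin 8) (a b c : ℤ) :
    W x1 x2 x3 s i * el n τ a b c * (W x1 x2 x3 s i)⁻¹ =
      el n τ (M i a b c).1 (M i a b c).2.1 (M i a b c).2.2 := by
  have := W_el h.rel.toRel i (one_mem T) a b c
  rwa [one_mul] at this

theorem O_conj {k o : G} (hk : k ∈ normalizer (T : Set G)) (ho : o ∈ O) : k * o * k⁻¹ ∈ O :=
  (mem_normalizer_iff.mp (h.O_norm hk) o).mp ho

theorem dec_one {k : G} (hk : k ∈ normalizer (T : Set G)) (hkz : k * el n τ 1 1 1 * k⁻¹ = el n τ 1 1 1)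
    (hk1 : k * el n τ 1 0 0 * k⁻¹ = el n τ 1 0 0) : ∃ o ∈ O, ∃ g ∈ (S : Subgroup G), k = o * g := by
  have R := h.rel.toRel
  have hn1 : 1 ≤ n := by have := h.hn; omega
  obtain ⟨i, j, l, hi, hj, hl, he⟩ := exists_el R hn1 (conj_mem hk (el_mem R 1 1 0)) (by
    calc k * el n τ 1 1 0 * k⁻¹ * (k * el n τ 1 1 0 * k⁻¹) = k * (el n τ 1 1 0 * el n τ 1 1 0) * k⁻¹ := by
          group
      _ = 1 := by rw [el_sq R hn1]; group)
  have hinj : ∀ u v : G, k * u * k⁻¹ = k * v * k⁻¹ → u = v := fun u v huv =>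
    mul_left_cancel (mul_right_cancel huv)
  have h011 : k * el n τ 0 1 1 * k⁻¹ = el n τ 0 1 1 := by
    have e : el n τ 0 1 1 = el n τ 1 1 1 * el n τ 1 0 0 := by
      rw [el_mul R]; exact el_congr h hn1 _ _ _ (by norm_num)
    calc k * el n τ 0 1 1 * k⁻¹ = (k * el n τ 1 1 1 * k⁻¹) * (k * el n τ 1 0 0 * k⁻¹) := by rw [e]; group
      _ = el n τ 0 1 1 := by rw [hkz, hk1, ← e]
  -- the element `r`
  obtain ⟨w, hw1, hw2, hw3⟩ : ∃ w : Fin 8,
      (W x1 x2 x3 s w * el n τ 1 1 1 * (W x1 x2 x3 s w)⁻¹ = el n τ 1 1 1) ∧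
      (W x1 x2 x3 s w * el n τ 1 0 0 * (W x1 x2 x3 s w)⁻¹ = el n τ 1 0 0) ∧
      (W x1 x2 x3 s w * el n τ 1 1 0 * (W x1 x2 x3 s w)⁻¹ = k * el n τ 1 1 0 * k⁻¹) := by
    have hbad : ∀ u, k * u * k⁻¹ = u → u ≠ el n τ 1 1 0 → k * el n τ 1 1 0 * k⁻¹ ≠ u := by
      intro u hu hne h0
      apply hne
      apply hinj
      rw [hu, h0]
    have key : ∀ w : Fin 8, ∀ a b c a' b' c' : ℤ, ((2 : ℤ) ∣ (M w a b c).1 - a' ∧ (2 : ℤ) ∣ (M w a b c).2.1 - b' ∧
        (2 : ℤ) ∣ (M w a b c).2.2 - c') →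
        W x1 x2 x3 s w * el n τ a b c * (W x1 x2 x3 s w)⁻¹ = el n τ a' b' c' := by
      intro w a b c a' b' c' hd
      rw [W_el' h w]
      exact el_congr h hn1 _ _ _ hd
    rw [he]
    rcases hi with rfl | rfl <;> rcases hj with rfl | rfl <;> rcases hl with rfl | rfl
    · exact absurd (he.trans (el_000 R)) (hbad 1 (by group) (by
        rw [← el_000 R]; exact el_ne h hn1 (by norm_num)))
    · exact ⟨3, key _ _ _ _ _ _ _ (by norm_num [M_0, M_1, M_3, M_4, M_7]), key _ _ _ _ _ _ _ (by norm_num [M_0, M_1, M_3, M_4, M_7]),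
        key _ _ _ _ _ _ _ (by norm_num [M_0, M_1, M_3, M_4, M_7])⟩
    · exact ⟨7, key _ _ _ _ _ _ _ (by norm_num [M_0, M_1, M_3, M_4, M_7]), key _ _ _ _ _ _ _ (by norm_num [M_0, M_1, M_3, M_4, M_7]),
        key _ _ _ _ _ _ _ (by norm_num [M_0, M_1, M_3, M_4, M_7])⟩
    · exact absurd he (hbad _ h011 (el_ne h hn1 (by norm_num)))
    · exact absurd he (hbad _ hk1 (el_ne h hn1 (by norm_num)))
    · exact ⟨4, key _ _ _ _ _ _ _ (by norm_num [M_0, M_1, M_3, M_4, M_7]), key _ _ _ _ _ _ _ (by norm_num [M_0, M_1, M_3, M_4, M_7]),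
        key _ _ _ _ _ _ _ (by norm_num [M_0, M_1, M_3, M_4, M_7])⟩
    · exact ⟨0, key _ _ _ _ _ _ _ (by norm_num [M_0, M_1, M_3, M_4, M_7]), key _ _ _ _ _ _ _ (by norm_num [M_0, M_1, M_3, M_4, M_7]),
        key _ _ _ _ _ _ _ (by norm_num [M_0, M_1, M_3, M_4, M_7])⟩
    · exact absurd he (hbad _ hkz (el_ne h hn1 (by norm_num)))
  set r := W x1 x2 x3 s w with hr
  have hrN : r ∈ normalizer (T : Set G) := W_mem_normalizer h w
  have hcomm : ∀ u, r * u * r⁻¹ = k * u * k⁻¹ → (r⁻¹ * k) * u = u * (r⁻¹ * k) := by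
    intro u hu
    calc r⁻¹ * k * u = r⁻¹ * (k * u * k⁻¹) * k := by group
      _ = u * (r⁻¹ * k) := by rw [← hu]; group
  have c1 := hcomm _ (hw1.trans hkz.symm)
  have c2 := hcomm _ (hw2.trans hk1.symm)
  have c3 := hcomm _ hw3
  obtain ⟨t, ht, o, ho, hto⟩ := h.faith (r⁻¹ * k) (mul_mem (inv_mem hrN) hk) (by
    apply comm_om R hn1 c2
    · have e : el n τ 0 1 0 = el n τ 1 0 0 * el n τ 1 1 0 := by
        rw [el_mul R]; exact el_congr h hn1 _ _ _ (by norm_num)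
      rw [e]
      exact ((show Commute (r⁻¹ * k) _ from c2).mul_right c3).eq
    · have e : el n τ 0 0 1 = el n τ 1 1 1 * el n τ 1 1 0 := by
        rw [el_mul R]; exact el_congr h hn1 _ _ _ (by norm_num)
      rw [e]
      exact ((show Commute (r⁻¹ * k) _ from c1).mul_right c3).eq)
  have hrt : r * t ∈ (S : Subgroup G) := mul_mem (W_mem_S h.rel w) (T_le_S h.rel ht)
  refine ⟨(r * t) * o * (r * t)⁻¹, O_conj h (S_le_normalizer h.rel hrt) ho, r * t, hrt, ?_⟩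
  calc k = r * (r⁻¹ * k) := by group
    _ = r * (t * o) := by rw [hto]
    _ = _ := by group

theorem dec_two {k : G} (hk : k ∈ normalizer (T : Set G)) (hkz : k * el n τ 1 1 1 * k⁻¹ = el n τ 1 1 1)
    (hk1 : k⁻¹ * el n τ 1 0 0 * k = el n τ 1 0 0 ∨ k⁻¹ * el n τ 1 0 0 * k = el n τ 0 1 1) :
    ∃ o ∈ O, ∃ g ∈ (S : Subgroup G), k = o * g := by
  have R := h.rel.toRel
  have hn1 : 1 ≤ n := by have := h.hn; omega
  rcases hk1 with hk1 | hk1
  · apply dec_one h hk hkz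
    nth_rewrite 1 [← hk1]; group
  · have e1 : k * el n τ 0 1 1 * k⁻¹ = el n τ 1 0 0 := by rw [← hk1]; group
    have e : el n τ 1 0 0 = el n τ 1 1 1 * el n τ 0 1 1 := by
      rw [el_mul R]; exact el_congr h hn1 _ _ _ (by norm_num)
    have e' : el n τ 0 1 1 = el n τ 1 1 1 * el n τ 1 0 0 := by
      rw [el_mul R]; exact el_congr h hn1 _ _ _ (by norm_num)
    have e2 : k * el n τ 1 0 0 * k⁻¹ = el n τ 0 1 1 := by
      calc k * el n τ 1 0 0 * k⁻¹ = (k * el n τ 1 1 1 * k⁻¹) * (k * el n τ 0 1 1 * k⁻¹) := by rw [e]; group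
        _ = _ := by rw [hkz, e1, ← e']
    have hW := W_el' h (1 : Fin 8) 0 1 1
    have hWz := W_el' h (1 : Fin 8) 1 1 1
    have hW1 : W x1 x2 x3 s 1 * el n τ 0 1 1 * (W x1 x2 x3 s 1)⁻¹ = el n τ 1 0 0 := by
      rw [hW]; exact el_congr h hn1 _ _ _ (by norm_num [M_0, M_1, M_3, M_4, M_7])
    have hWz1 : W x1 x2 x3 s 1 * el n τ 1 1 1 * (W x1 x2 x3 s 1)⁻¹ = el n τ 1 1 1 := by
      rw [hWz]; exact el_congr h hn1 _ _ _ (by norm_num [M_0, M_1, M_3, M_4, M_7])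
    set r := W x1 x2 x3 s 1
    have hrN : r ∈ normalizer (T : Set G) := W_mem_normalizer h 1
    obtain ⟨o, ho, g, hg, hog⟩ := dec_one h (mul_mem hrN hk) (by
      calc r * k * el n τ 1 1 1 * (r * k)⁻¹ = r * (k * el n τ 1 1 1 * k⁻¹) * r⁻¹ := by group
        _ = _ := by rw [hkz, hWz1]) (by
      calc r * k * el n τ 1 0 0 * (r * k)⁻¹ = r * (k * el n τ 1 0 0 * k⁻¹) * r⁻¹ := by group
        _ = _ := by rw [e2, hW1])
    have hr' : r⁻¹ ∈ normalizer (T : Set G) := inv_mem hrN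
    refine ⟨r⁻¹ * o * r⁻¹⁻¹, O_conj h hr' ho, r⁻¹ * g, mul_mem (inv_mem (W_mem_S h.rel 1)) hg, ?_⟩
    calc k = r⁻¹ * (r * k) := by group
      _ = r⁻¹ * (o * g) := by rw [hog]
      _ = _ := by group

/-- (AZ) -/
theorem exists_dec {k : G} (hk : k ∈ normalizer (T : Set G))
    (hkz : k * τ (2 ^ (n - 1)) (2 ^ (n - 1)) (2 ^ (n - 1)) = τ (2 ^ (n - 1)) (2 ^ (n - 1)) (2 ^ (n - 1)) * k) :
    ∃ o ∈ O, ∃ g ∈ (S : Subgroup G), ∃ i : ℕ, i < 3 ∧ k = o * g * ξ ^ i := by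
  have R := h.rel.toRel
  have hn1 : 1 ≤ n := by have := h.hn; omega
  rw [← el_111 n τ] at hkz
  have hkz' : k * el n τ 1 1 1 * k⁻¹ = el n τ 1 1 1 := by rw [hkz, mul_inv_cancel_right]
  have hξ := ξ_mem h
  have hξz : ξ⁻¹ * el n τ 1 1 1 * ξ⁻¹⁻¹ = el n τ 1 1 1 := by
    have h1 : ξ * el n τ 1 1 1 * ξ⁻¹ = el n τ 1 1 1 := by
      rw [ξ_el h]; exact el_congr h hn1 _ _ _ (by norm_num)
    nth_rewrite 1 [← h1]; group
  obtain ⟨i, j, l, hi, hj, hl, he⟩ := exists_el R hn1 (conj_mem' hk (el_mem R 1 0 0)) (by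
    calc k⁻¹ * el n τ 1 0 0 * k * (k⁻¹ * el n τ 1 0 0 * k) = k⁻¹ * (el n τ 1 0 0 * el n τ 1 0 0) * k := by
          group
      _ = 1 := by rw [el_sq R hn1]; group)
  have he' : el n τ 1 0 0 = k * el n τ i j l * k⁻¹ := by rw [← he]; group
  -- apply `dec_two` to `k ξ⁻¹`
  have step : ∀ k : G, k ∈ normalizer (T : Set G) → k * el n τ 1 1 1 * k⁻¹ = el n τ 1 1 1 →
      k * ξ⁻¹ ∈ normalizer (T : Set G) ∧ k * ξ⁻¹ * el n τ 1 1 1 * (k * ξ⁻¹)⁻¹ = el n τ 1 1 1 := by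
    intro k hk hkz
    refine ⟨mul_mem hk (inv_mem hξ), ?_⟩
    calc k * ξ⁻¹ * el n τ 1 1 1 * (k * ξ⁻¹)⁻¹ = k * (ξ⁻¹ * el n τ 1 1 1 * ξ⁻¹⁻¹) * k⁻¹ := by group
      _ = _ := by rw [hξz, hkz]
  have e1 : (k * ξ⁻¹)⁻¹ * el n τ 1 0 0 * (k * ξ⁻¹) = el n τ i (-i - j - l) j := by
    calc (k * ξ⁻¹)⁻¹ * el n τ 1 0 0 * (k * ξ⁻¹) = ξ * (k⁻¹ * el n τ 1 0 0 * k) * ξ⁻¹ := by group
      _ = _ := by rw [he, ξ_el h]
  have e2 : (k * ξ⁻¹ * ξ⁻¹)⁻¹ * el n τ 1 0 0 * (k * ξ⁻¹ * ξ⁻¹) = el n τ i l (-i - j - l) := by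
    calc (k * ξ⁻¹ * ξ⁻¹)⁻¹ * el n τ 1 0 0 * (k * ξ⁻¹ * ξ⁻¹) =
          ξ * ((k * ξ⁻¹)⁻¹ * el n τ 1 0 0 * (k * ξ⁻¹)) * ξ⁻¹ := by simp only [mul_inv_rev, inv_inv, mul_assoc]
      _ = _ := by rw [e1, ξ_el h]; congr 1; ring
  have fin0 : (k⁻¹ * el n τ 1 0 0 * k = el n τ 1 0 0 ∨ k⁻¹ * el n τ 1 0 0 * k = el n τ 0 1 1) →
      ∃ o ∈ O, ∃ g ∈ (S : Subgroup G), ∃ i : ℕ, i < 3 ∧ k = o * g * ξ ^ i := by
    intro hh
    obtain ⟨o, ho, g, hg, hog⟩ := dec_two h hk hkz' hh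
    exact ⟨o, ho, g, hg, 0, by norm_num, by rw [pow_zero, mul_one, hog]⟩
  have fin1 : ((k * ξ⁻¹)⁻¹ * el n τ 1 0 0 * (k * ξ⁻¹) = el n τ 1 0 0 ∨
      (k * ξ⁻¹)⁻¹ * el n τ 1 0 0 * (k * ξ⁻¹) = el n τ 0 1 1) →
      ∃ o ∈ O, ∃ g ∈ (S : Subgroup G), ∃ i : ℕ, i < 3 ∧ k = o * g * ξ ^ i := by
    intro hh
    obtain ⟨hN, hz⟩ := step k hk hkz'
    obtain ⟨o, ho, g, hg, hog⟩ := dec_two h hN hz hh
    exact ⟨o, ho, g, hg, 1, by norm_num, by rw [pow_one, ← hog]; group⟩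
  have fin2 : ((k * ξ⁻¹ * ξ⁻¹)⁻¹ * el n τ 1 0 0 * (k * ξ⁻¹ * ξ⁻¹) = el n τ 1 0 0 ∨
      (k * ξ⁻¹ * ξ⁻¹)⁻¹ * el n τ 1 0 0 * (k * ξ⁻¹ * ξ⁻¹) = el n τ 0 1 1) →
      ∃ o ∈ O, ∃ g ∈ (S : Subgroup G), ∃ i : ℕ, i < 3 ∧ k = o * g * ξ ^ i := by
    intro hh
    obtain ⟨hN, hz⟩ := step k hk hkz'
    obtain ⟨hN, hz⟩ := step _ hN hz
    obtain ⟨o, ho, g, hg, hog⟩ := dec_two h hN hz hh
    exact ⟨o, ho, g, hg, 2, by norm_num, by rw [pow_two, ← hog]; group⟩
  rcases hi with rfl | rfl <;> rcases hj with rfl | rfl <;> rcases hl with rfl | rfl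
  · exfalso
    rw [el_000 R, mul_one, mul_inv_cancel] at he'
    rw [← el_000 R] at he'
    exact el_ne h hn1 (by norm_num) he'
  · -- 001
    apply fin2; right; rw [e2]; exact el_congr h hn1 _ _ _ (by norm_num)
  · -- 010
    apply fin1; right; rw [e1]; exact el_congr h hn1 _ _ _ (by norm_num)
  · -- 011
    apply fin0; right; exact he
  · -- 100
    apply fin0; left; exact he
  · -- 101
    apply fin1; left; rw [e1]; exact el_congr h hn1 _ _ _ (by norm_num)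
  · -- 110
    apply fin2; left; rw [e2]; exact el_congr h hn1 _ _ _ (by norm_num)
  · exfalso
    rw [hkz'] at he'
    exact el_ne h hn1 (by norm_num) he'

/-! ### (TR) -/

theorem trans_one {t : G} (ht : t ∈ T) (ht1 : t ≠ 1) (htt : t * t = 1) :
    ∃ m ∈ normalizer (T : Set G), m * t * m⁻¹ = el n τ 1 1 1 := by
  have R := h.rel.toRel
  have hn1 : 1 ≤ n := by have := h.hn; omega
  have key : ∀ i j k i' j' k' i'' j'' k'' : ℤ, Indep (el n τ i j k) (el n τ i' j' k') (el n τ i'' j'' k'') →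
      ∃ m ∈ normalizer (T : Set G), m * el n τ i j k * m⁻¹ = el n τ 1 1 1 := by
    intro i j k i' j' k' i'' j'' k'' hI
    obtain ⟨m, hm, h1, -, -⟩ := h.full _ _ _ (el n τ 1 1 1) (el n τ 0 1 0) (el n τ 0 0 1)
      (el_mem R i j k) (el_sq R hn1 i j k) (el_mem R i' j' k') (el_sq R hn1 i' j' k')
      (el_mem R i'' j'' k'') (el_sq R hn1 i'' j'' k'')
      (el_mem R _ _ _) (el_sq R hn1 _ _ _) (el_mem R _ _ _) (el_sq R hn1 _ _ _)
      (el_mem R _ _ _) (el_sq R hn1 _ _ _) hI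
      (indep R hn1 (by norm_num) (by norm_num) (by norm_num) (by norm_num) (by norm_num) (by norm_num) (by norm_num))
    exact ⟨m, hm, h1⟩
  obtain ⟨i, j, k, hi, hj, hk, rfl⟩ := exists_el R hn1 ht htt
  rcases hi with rfl | rfl <;> rcases hj with rfl | rfl <;> rcases hk with rfl | rfl
  · exact absurd (el_000 R) ht1
  · exact key _ _ _ 1 0 0 0 1 0 (indep R hn1 (by norm_num) (by norm_num) (by norm_num) (by norm_num)
      (by norm_num) (by norm_num) (by norm_num))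
  · exact key _ _ _ 1 0 0 0 0 1 (indep R hn1 (by norm_num) (by norm_num) (by norm_num) (by norm_num)
      (by norm_num) (by norm_num) (by norm_num))
  · exact key _ _ _ 1 0 0 0 0 1 (indep R hn1 (by norm_num) (by norm_num) (by norm_num) (by norm_num)
      (by norm_num) (by norm_num) (by norm_num))
  · exact key _ _ _ 0 1 0 0 0 1 (indep R hn1 (by norm_num) (by norm_num) (by norm_num) (by norm_num)
      (by norm_num) (by norm_num) (by norm_num))
  · exact key _ _ _ 0 1 0 0 0 1 (indep R hn1 (by norm_num) (by norm_num) (by norm_num) (by norm_num)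
      (by norm_num) (by norm_num) (by norm_num))
  · exact key _ _ _ 0 1 0 0 0 1 (indep R hn1 (by norm_num) (by norm_num) (by norm_num) (by norm_num)
      (by norm_num) (by norm_num) (by norm_num))
  · exact key _ _ _ 0 1 0 0 0 1 (indep R hn1 (by norm_num) (by norm_num) (by norm_num) (by norm_num)
      (by norm_num) (by norm_num) (by norm_num))

/-- (TR) `N_G(T)` is transitive on the involutions of `T`. -/
theorem trans {t t' : G} (ht : t ∈ T) (ht1 : t ≠ 1) (htt : t * t = 1) (ht' : t' ∈ T) (ht1' : t' ≠ 1)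
    (htt' : t' * t' = 1) : ∃ m ∈ normalizer (T : Set G), m * t * m⁻¹ = t' := by
  obtain ⟨m, hm, e⟩ := trans_one h ht ht1 htt
  obtain ⟨m', hm', e'⟩ := trans_one h ht' ht1' htt'
  refine ⟨m'⁻¹ * m, mul_mem (inv_mem hm') hm, ?_⟩
  calc m'⁻¹ * m * t * (m'⁻¹ * m)⁻¹ = m'⁻¹ * (m * t * m⁻¹) * m' := by group
    _ = t' := by rw [e, ← e']; group

/-! ### (INV) -/

/-- every element of `S` which is an involution outside `T` acts on `Ω₁(T)` as a transvection -/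
theorem exists_triple {i : Fin 8} (hi : i = 1 ∨ i = 2 ∨ i = 3 ∨ i = 4 ∨ i = 7) {t : G} (ht : t ∈ T) :
    ∃ u v w : G, u ∈ T ∧ u * u = 1 ∧ v ∈ T ∧ v * v = 1 ∧ w ∈ T ∧ w * w = 1 ∧ Indep u v w ∧
      (t * W x1 x2 x3 s i) * u * (t * W x1 x2 x3 s i)⁻¹ = u * v ∧
      (t * W x1 x2 x3 s i) * v * (t * W x1 x2 x3 s i)⁻¹ = v ∧
      (t * W x1 x2 x3 s i) * w * (t * W x1 x2 x3 s i)⁻¹ = w := by
  have R := h.rel.toRel
  have hn1 : 1 ≤ n := by have := h.hn; omega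
  have key : ∀ a b c a' b' c' a'' b'' c'' : ℤ,
      Indep (el n τ a b c) (el n τ a' b' c') (el n τ a'' b'' c'') →
      ((2 : ℤ) ∣ (M i a b c).1 - (a + a') ∧ (2 : ℤ) ∣ (M i a b c).2.1 - (b + b') ∧
        (2 : ℤ) ∣ (M i a b c).2.2 - (c + c')) →
      ((2 : ℤ) ∣ (M i a' b' c').1 - a' ∧ (2 : ℤ) ∣ (M i a' b' c').2.1 - b' ∧
        (2 : ℤ) ∣ (M i a' b' c').2.2 - c') →
      ((2 : ℤ) ∣ (M i a'' b'' c'').1 - a'' ∧ (2 : ℤ) ∣ (M i a'' b'' c'').2.1 - b'' ∧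
        (2 : ℤ) ∣ (M i a'' b'' c'').2.2 - c'') →
      ∃ u v w : G, u ∈ T ∧ u * u = 1 ∧ v ∈ T ∧ v * v = 1 ∧ w ∈ T ∧ w * w = 1 ∧ Indep u v w ∧
      (t * W x1 x2 x3 s i) * u * (t * W x1 x2 x3 s i)⁻¹ = u * v ∧
      (t * W x1 x2 x3 s i) * v * (t * W x1 x2 x3 s i)⁻¹ = v ∧
      (t * W x1 x2 x3 s i) * w * (t * W x1 x2 x3 s i)⁻¹ = w := by
    intro a b c a' b' c' a'' b'' c'' hI h1 h2 h3
    refine ⟨_, _, _, el_mem R a b c, el_sq R hn1 a b c, el_mem R a' b' c', el_sq R hn1 a' b' c',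
      el_mem R a'' b'' c'', el_sq R hn1 a'' b'' c'', hI, ?_, ?_, ?_⟩
    · rw [W_el R i ht, el_mul R]; exact el_congr h hn1 _ _ _ h1
    · rw [W_el R i ht]; exact el_congr h hn1 _ _ _ h2
    · rw [W_el R i ht]; exact el_congr h hn1 _ _ _ h3
  rcases hi with rfl | rfl | rfl | rfl | rfl
  · exact key 1 0 0 1 1 1 0 0 1 (indep R hn1 (by norm_num) (by norm_num) (by norm_num) (by norm_num)
      (by norm_num) (by norm_num) (by norm_num)) (by norm_num [M_1]) (by norm_num [M_1]) (by norm_num [M_1])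
  · exact key 1 0 0 1 1 1 0 1 0 (indep R hn1 (by norm_num) (by norm_num) (by norm_num) (by norm_num)
      (by norm_num) (by norm_num) (by norm_num)) (by norm_num [M_2]) (by norm_num [M_2]) (by norm_num [M_2])
  · exact key 0 1 0 1 1 1 1 0 0 (indep R hn1 (by norm_num) (by norm_num) (by norm_num) (by norm_num)
      (by norm_num) (by norm_num) (by norm_num)) (by norm_num [M_3]) (by norm_num [M_3]) (by norm_num [M_3])
  · exact key 0 1 0 0 1 1 1 0 0 (indep R hn1 (by norm_num) (by norm_num) (by norm_num) (by norm_num)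
      (by norm_num) (by norm_num) (by norm_num)) (by norm_num [M_4]) (by norm_num [M_4]) (by norm_num [M_4])
  · exact key 0 1 0 1 0 0 0 1 1 (indep R hn1 (by norm_num) (by norm_num) (by norm_num) (by norm_num)
      (by norm_num) (by norm_num) (by norm_num)) (by norm_num [M_7]) (by norm_num [M_7]) (by norm_num [M_7])

/-- elements of `T` have 2-power order -/
theorem T_inf_O {t : G} (ht : t ∈ T) (ho : Odd (orderOf t)) : t = 1 := by
  have R := h.rel.toRel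
  obtain ⟨a, b, c, rfl⟩ := (R.mem _).1 ht
  have h1 : (τ a b c) ^ (2 ^ n) = 1 := by
    rw [τ_pow R, R.one]
    push_cast
    exact ⟨dvd_mul_right _ _, dvd_mul_right _ _, dvd_mul_right _ _⟩
  have h2 : orderOf (τ a b c) ∣ 2 ^ n := orderOf_dvd_of_pow_eq_one h1
  have h3 : Nat.Coprime (orderOf (τ a b c)) (2 ^ n) := (Nat.coprime_two_right.mpr ho).pow_right n
  have h4 := Nat.Coprime.eq_one_of_dvd h3 h2
  exact orderOf_eq_one_iff.mp h4

theorem x3_el (a b c : ℤ) : x3 * el n τ a b c * x3⁻¹ = el n τ (-a - b - c) c b := by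
  have := W_el' h 3 a b c
  rw [M_3] at this
  exact this

/-- the last step: in the coset of `x3` -/
theorem conj_coset {t : G} (ht : t ∈ T) (h2 : t * (x3 * t * x3) = 1) :
    ∃ m ∈ normalizer (T : Set G), m * x3 * m⁻¹ = t * x3 := by
  have R := h.rel.toRel
  have hS : (S : Subgroup G) ≤ normalizer (T : Set G) := S_le_normalizer h.rel
  have hs : s ∈ (S : Subgroup G) := W_mem_S h.rel 4
  obtain ⟨a, b, c, rfl⟩ := (R.mem _).1 ht
  have e1 : x3 * τ a b c * x3 = τ (-a - b - c) c b := by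
    rw [R.x3τ, mul_assoc, R.x3x3, mul_one]
  rw [e1, R.mul, R.one] at h2
  have hbc : (2 : ℤ) ^ n ∣ b + c := h2.2.1
  have hc : τ a b c = τ a b (-b) := by
    rw [τ_eq R]
    refine ⟨by simp, by simp, ?_⟩
    rw [sub_neg_eq_add, add_comm]; exact hbc
  have hu : ∀ p q r : ℤ, τ p q r * x3 * (τ p q r)⁻¹ = τ (2 * p + q + r) (q - r) (r - q) * x3 := by
    intro p q r
    rw [τ_inv R, mul_assoc, R.x3τ, ← mul_assoc, R.mul]
    (congr 2; ring)
  rcases Int.even_or_odd' (a - b) with ⟨p, hp | hp⟩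
  · refine ⟨τ p b 0, hS (T_le_S h.rel (mem_τ R _ _ _)), ?_⟩
    rw [hu, hc]
    congr 2 <;> linarith
  · refine ⟨τ p b 0 * s, mul_mem (hS (T_le_S h.rel (mem_τ R _ _ _))) (hS hs), ?_⟩
    have hsi : s⁻¹ = s := by rw [inv_eq_iff_mul_eq_one, R.ss]
    calc τ p b 0 * s * x3 * (τ p b 0 * s)⁻¹ = τ p b 0 * (s * x3) * s⁻¹ * (τ p b 0)⁻¹ := by group
      _ = τ p b 0 * (τ 1 0 0 * x3 * s) * s⁻¹ * (τ p b 0)⁻¹ := by rw [R.sx3]
      _ = (τ p b 0 * τ 1 0 0) * x3 * (τ p b 0)⁻¹ := by group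
      _ = (τ 1 0 0 * τ p b 0) * x3 * (τ p b 0)⁻¹ := by rw [τ_comm R]
      _ = τ 1 0 0 * (τ p b 0 * x3 * (τ p b 0)⁻¹) := by group
      _ = τ a b c * x3 := by
        rw [hu, hc, ← mul_assoc, R.mul]
        congr 2 <;> linarith

/-- (INV) every involution of `S` outside `T` is conjugate to `x3` by an element of `N_G(T)`. -/
theorem exists_conj_x3 {y : G} (hy : y ∈ (S : Subgroup G)) (hyT : y ∉ T) (hyy : y * y = 1) :
    ∃ m ∈ normalizer (T : Set G), m * y * m⁻¹ = x3 := by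
  have R := h.rel.toRel
  have hn1 : 1 ≤ n := by have := h.hn; omega
  obtain ⟨t, ht, i, rfl⟩ := (mem_S h.rel y).1 hy
  have hi : i = 1 ∨ i = 2 ∨ i = 3 ∨ i = 4 ∨ i = 7 := by
    by_contra hcon
    have h0 : i ≠ 0 := by
      rintro rfl
      apply hyT
      have : W x1 x2 x3 s 0 = 1 := rfl
      rw [this, mul_one]; exact ht
    have h56 : i = 5 ∨ i = 6 := by omega
    exact no_invol h.hn R h56 ht hyy
  obtain ⟨u, v, w, hu, huu, hv, hvv, hw, hww, hI, e1, e2, e3⟩ := exists_triple h hi ht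
  set y := t * W x1 x2 x3 s i with hydef
  have hyN : y ∈ normalizer (T : Set G) := S_le_normalizer h.rel hy
  obtain ⟨m, hm, m1, m2, m3⟩ := h.full u v w (el n τ 0 1 0) (el n τ 1 1 1) (el n τ 1 0 0) hu huu hv hvv hw hww
    (el_mem R _ _ _) (el_sq R hn1 _ _ _) (el_mem R _ _ _) (el_sq R hn1 _ _ _)
    (el_mem R _ _ _) (el_sq R hn1 _ _ _) hI
    (indep R hn1 (by norm_num) (by norm_num) (by norm_num) (by norm_num) (by norm_num) (by norm_num) (by norm_num))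
  set y' := m * y * m⁻¹ with hy'
  have hy'N : y' ∈ normalizer (T : Set G) := mul_mem (mul_mem hm hyN) (inv_mem hm)
  have hy'2 : y' * y' = 1 := by
    calc y' * y' = m * (y * y) * m⁻¹ := by rw [hy']; group
      _ = 1 := by rw [hyy]; group
  have f1 : y' * el n τ 0 1 0 * y'⁻¹ = x3 * el n τ 0 1 0 * x3⁻¹ := by
    rw [x3_el h]
    calc y' * el n τ 0 1 0 * y'⁻¹ = m * (y * (m⁻¹ * el n τ 0 1 0 * m) * y⁻¹) * m⁻¹ := by rw [hy']; group
      _ = m * (y * u * y⁻¹) * m⁻¹ := by rw [← m1]; group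
      _ = (m * u * m⁻¹) * (m * v * m⁻¹) := by rw [e1]; group
      _ = _ := by rw [m1, m2, el_mul R]; exact el_congr h hn1 _ _ _ (by norm_num)
  have f2 : y' * el n τ 1 1 1 * y'⁻¹ = x3 * el n τ 1 1 1 * x3⁻¹ := by
    rw [x3_el h]
    calc y' * el n τ 1 1 1 * y'⁻¹ = m * (y * (m⁻¹ * el n τ 1 1 1 * m) * y⁻¹) * m⁻¹ := by rw [hy']; group
      _ = m * (y * v * y⁻¹) * m⁻¹ := by rw [← m2]; group
      _ = m * v * m⁻¹ := by rw [e2]
      _ = _ := by rw [m2]; exact el_congr h hn1 _ _ _ (by norm_num)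
  have f3 : y' * el n τ 1 0 0 * y'⁻¹ = x3 * el n τ 1 0 0 * x3⁻¹ := by
    rw [x3_el h]
    calc y' * el n τ 1 0 0 * y'⁻¹ = m * (y * (m⁻¹ * el n τ 1 0 0 * m) * y⁻¹) * m⁻¹ := by rw [hy']; group
      _ = m * (y * w * y⁻¹) * m⁻¹ := by rw [← m3]; group
      _ = m * w * m⁻¹ := by rw [e3]
      _ = _ := by rw [m3]; exact el_congr h hn1 _ _ _ (by norm_num)
  have hx3N : x3 ∈ normalizer (T : Set G) := W_mem_normalizer h 3
  have hx3i : x3⁻¹ = x3 := by rw [inv_eq_iff_mul_eq_one, R.x3x3]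
  have hcomm : ∀ u, y' * u * y'⁻¹ = x3 * u * x3⁻¹ → (x3⁻¹ * y') * u = u * (x3⁻¹ * y') := by
    intro u hu
    calc x3⁻¹ * y' * u = x3⁻¹ * (y' * u * y'⁻¹) * y' := by group
      _ = u * (x3⁻¹ * y') := by rw [hu]; group
  have c1 := hcomm _ f1
  have c2 := hcomm _ f2
  have c3 := hcomm _ f3
  obtain ⟨t', ht', o, ho, hto⟩ := h.faith (x3⁻¹ * y') (mul_mem (inv_mem hx3N) hy'N) (by
    apply comm_om R hn1 c3 c1
    have e : el n τ 0 0 1 = el n τ 1 0 0 * el n τ 0 1 0 * el n τ 1 1 1 := by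
      rw [el_mul R, el_mul R]; exact el_congr h hn1 _ _ _ (by norm_num)
    rw [e]
    exact (((show Commute (x3⁻¹ * y') _ from c3).mul_right c1).mul_right c2).eq)
  -- `y' = x3 t' o = t1 o1 x3`
  set t1 := x3 * t' * x3⁻¹ with ht1d
  set o1 := x3 * o * x3⁻¹ with ho1d
  have ht1 : t1 ∈ T := conj_mem hx3N ht'
  have ho1 : o1 ∈ O := O_conj h hx3N ho
  have ey : y' = t1 * o1 * x3 := by
    calc y' = x3 * (x3⁻¹ * y') := by group
      _ = x3 * (t' * o) := by rw [hto]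
      _ = _ := by rw [ht1d, ho1d]; group
  set t2 := x3 * t1 * x3 with ht2d
  set o2 := x3 * o1 * x3 with ho2d
  have ht2 : t2 ∈ T := by
    have := conj_mem hx3N ht1
    rwa [hx3i] at this
  have ho2 : o2 ∈ O := by
    have := O_conj h hx3N ho1
    rwa [hx3i] at this
  have hprod : (t1 * t2) * (o1 * o2) = 1 := by
    calc (t1 * t2) * (o1 * o2) = t1 * (t2 * o1) * o2 := by group
      _ = t1 * (o1 * t2) * o2 := by rw [h.O_le _ ho1 _ ht2]
      _ = t1 * (o1 * (x3 * t1 * x3)) * (x3 * o1 * x3) := rfl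
      _ = (t1 * o1 * x3) * t1 * (x3 * x3) * o1 * x3 := by group
      _ = (t1 * o1 * x3) * (t1 * o1 * x3) := by rw [R.x3x3]; group
      _ = 1 := by rw [← ey, hy'2]
  have ht12 : t1 * t2 = 1 := by
    apply T_inf_O h (mul_mem ht1 ht2)
    rw [eq_inv_of_mul_eq_one_left hprod, orderOf_inv]
    exact h.O_odd _ (mul_mem ho1 ho2)
  have ho12 : o1 * o2 = 1 := by rwa [ht12, one_mul] at hprod
  -- the square root of `o1`
  obtain ⟨l, hl⟩ := h.O_odd _ ho1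
  set p := o1 ^ (l + 1) with hp
  have hpO : p ∈ O := pow_mem ho1 _
  have hpp : p * p = o1 := by
    rw [hp, ← pow_add, show l + 1 + (l + 1) = (2 * l + 1) + 1 by ring, pow_succ, ← hl, pow_orderOf_eq_one, one_mul]
  have hx3o : x3 * o1 = o1⁻¹ * x3 := by
    have : o2 = o1⁻¹ := (inv_eq_of_mul_eq_one_right ho12).symm
    rw [← this, ho2d]
    calc x3 * o1 = x3 * o1 * (x3 * x3) := by rw [R.x3x3, mul_one]
      _ = _ := by group
  have hx3p : x3 * p = p⁻¹ * x3 := by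
    have key : ∀ k : ℕ, x3 * o1 ^ k = (o1 ^ k)⁻¹ * x3 := by
      intro k
      induction k with
      | zero => simp
      | succ k ih =>
        calc x3 * o1 ^ (k + 1) = (x3 * o1 ^ k) * o1 := by rw [pow_succ, mul_assoc]
          _ = (o1 ^ k)⁻¹ * (x3 * o1) := by rw [ih, mul_assoc]
          _ = (o1 ^ k)⁻¹ * o1⁻¹ * x3 := by rw [hx3o, mul_assoc]
          _ = (o1 ^ (k + 1))⁻¹ * x3 := by rw [← mul_inv_rev, ← pow_succ']
    exact key _
  obtain ⟨g, hg, hgx⟩ := conj_coset h ht1 ht12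
  have hpy : p⁻¹ * y' * p = t1 * x3 := by
    calc p⁻¹ * y' * p = p⁻¹ * (t1 * o1 * x3) * p := by rw [ey]
      _ = (p⁻¹ * t1) * (o1 * (x3 * p)) := by group
      _ = (t1 * p⁻¹) * (p * p * (p⁻¹ * x3)) := by rw [h.O_le _ (inv_mem hpO) _ ht1, hpp, hx3p]
      _ = t1 * x3 := by group
  have hpN : p ∈ normalizer (T : Set G) := O_le_normalizer h hpO
  refine ⟨g⁻¹ * p⁻¹ * m, mul_mem (mul_mem (inv_mem hg) (inv_mem hpN)) hm, ?_⟩
  calc g⁻¹ * p⁻¹ * m * y * (g⁻¹ * p⁻¹ * m)⁻¹ = g⁻¹ * (p⁻¹ * (m * y * m⁻¹) * p) * g := by group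
    _ = g⁻¹ * (g * x3 * g⁻¹) * g := by rw [← hy', hpy, hgx]
    _ = x3 := by group

end Cfsg.Agent.ONType.Control
end

-- part: ONType/Fus
section
/-!
# O'Nan type groups: the first fusion step, `Sit → Conj`

`x3 ~ z` gives `h ∈ C_G(z)` with `x3^h = w`, `C_S(x3)^h ≤ T⟨x3⟩` and `v^h = v^±1`.
-/

set_option autoImplicit false
set_option linter.unusedSectionVars false
set_option linter.unusedVariables false
set_option linter.unusedSimpArgs false
set_option linter.unusedTactic false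
set_option linter.unreachableTactic false
set_option linter.dupNamespace false
set_option linter.unnecessarySeqFocus false

namespace Cfsg.Agent.ONType.Fus

open Subgroup
open scoped Pointwise
open Cfsg.Agent.ONType.Rel Cfsg.Agent.ONType.Span Cfsg.Agent.ONType.Sit Cfsg.Agent.ONType.Facts Cfsg.Agent.ONType.Control

/-- conjugating a 2-subgroup of `H` into the Sylow 2-subgroup `S ≤ H` of `G` inside `H` -/
theorem exists_conj_into {G : Type*} [Group G] [Finite G] {S : Sylow 2 G} {H P : Subgroup G}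
    (hS : (S : Subgroup G) ≤ H) (hP : IsPGroup 2 P) (hPH : P ≤ H) :
    ∃ h ∈ H, ∀ y ∈ P, h * y * h⁻¹ ∈ (S : Subgroup G) := by
  let S' : Sylow 2 H := S.subtype hS
  have h2 : IsPGroup 2 (P.subgroupOf H) := hP.comap_of_injective _ H.subtype_injective
  obtain ⟨Q, hQ⟩ := h2.exists_le_sylow
  obtain ⟨m, hm⟩ := MulAction.exists_smul_eq H Q S'
  refine ⟨m, m.2, ?_⟩
  intro y hy
  have h3 : m * ⟨y, hPH hy⟩ * m⁻¹ ∈ S' := by
    rw [← hm, ← SetLike.mem_coe, Sylow.coe_smul]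
    exact Set.mem_image_of_mem _ (hQ (show (⟨y, hPH hy⟩ : H) ∈ P.subgroupOf H from hy))
  exact h3

/-- a 2-subgroup of `H` of order `2^k`, `2^(k+1) ∣ |H|`, is of index 2 in a subgroup of `H` -/
theorem exists_bigger {G : Type*} [Group G] [Finite G] {H D : Subgroup G} (hDH : D ≤ H) {k : ℕ} (hD : Nat.card D = 2 ^ k)
    (hH : 2 ^ (k + 1) ∣ Nat.card H) : ∃ E : Subgroup G, D ≤ E ∧ E ≤ H ∧ Nat.card E = 2 ^ (k + 1) ∧
      E ≤ normalizer (D : Set G) := by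
  obtain ⟨K, hK, hDK⟩ := Sylow.exists_subgroup_card_pow_succ (p := 2) hH (H := D.subgroupOf H)
    (by rw [Nat.card_congr (subgroupOfEquivOfLe hDH).toEquiv, hD])
  have hDE : D ≤ K.map H.subtype := by
    intro d hd
    exact ⟨⟨d, hDH hd⟩, hDK hd, rfl⟩
  have hcE : Nat.card (K.map H.subtype) = 2 ^ (k + 1) := by
    rw [← hK]; exact (Nat.card_congr (K.equivMapOfInjective _ H.subtype_injective).toEquiv).symm
  refine ⟨K.map H.subtype, hDE, map_subtype_le _, hcE, ?_⟩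
  have hidx : (D.subgroupOf (K.map H.subtype)).index = 2 := by
    have h1 := (D.subgroupOf (K.map H.subtype)).card_mul_index
    rw [hcE, Nat.card_congr (subgroupOfEquivOfLe hDE).toEquiv, hD, pow_succ] at h1
    exact Nat.eq_of_mul_eq_mul_left (by positivity) h1
  rw [← normal_subgroupOf_iff_le_normalizer hDE]
  exact normal_of_index_eq_two hidx

theorem cen_mul {G : Type*} [Group G] {a b y : G} (h1 : y * (a * b * a⁻¹) = (a * b * a⁻¹) * y) : (a⁻¹ * y * a) * b = b * (a⁻¹ * y * a) := by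
  calc (a⁻¹ * y * a) * b = a⁻¹ * (y * (a * b * a⁻¹)) * a := by group
    _ = b * (a⁻¹ * y * a) := by rw [h1]; group

section

variable {G : Type*} [Group G] [Finite G] {n : ℕ} {S : Sylow 2 G} {T O : Subgroup G} {τ : ℤ → ℤ → ℤ → G}
  {x1 x2 x3 s ξ : G} (h : Sit n S T O τ x1 x2 x3 s ξ)
include h

theorem z_central : (S : Subgroup G) ≤ centralizer {τ (2 ^ (n - 1)) (2 ^ (n - 1)) (2 ^ (n - 1))} := by
  have R := h.rel.toRel
  have hn1 : 1 ≤ n := by have := h.hn; omega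
  intro g hg
  rw [mem_centralizer_singleton_iff]
  obtain ⟨t, ht, i, rfl⟩ := (mem_S h.rel g).1 hg
  have h1 := W_el R i ht 1 1 1
  have h2 : el n τ (M i 1 1 1).1 (M i 1 1 1).2.1 (M i 1 1 1).2.2 = el n τ 1 1 1 := by
    apply (el_eq R hn1).mpr
    fin_cases i <;> simp [M]
  rw [h2, el_111] at h1
  calc t * W x1 x2 x3 s i * τ (2 ^ (n - 1)) (2 ^ (n - 1)) (2 ^ (n - 1))
      = (t * W x1 x2 x3 s i * τ (2 ^ (n - 1)) (2 ^ (n - 1)) (2 ^ (n - 1)) * (t * W x1 x2 x3 s i)⁻¹) * (t * W x1 x2 x3 s i) := by group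
    _ = _ := by rw [h1]

/-- the centraliser in `S` of `w1 = el 1 1 0` -/
theorem cen_w1 {y : G} (hy : y ∈ (S : Subgroup G)) (hc : y * el n τ 1 1 0 = el n τ 1 1 0 * y) :
    ∃ t ∈ T, y = t ∨ y = t * x1 := by
  have R := h.rel.toRel
  have hn1 : 1 ≤ n := by have := h.hn; omega
  obtain ⟨t, ht, i, rfl⟩ := (mem_S h.rel y).1 hy
  have h1 := W_el R i ht 1 1 0
  have h2 : t * W x1 x2 x3 s i * el n τ 1 1 0 * (t * W x1 x2 x3 s i)⁻¹ = el n τ 1 1 0 := by
    rw [hc]; group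
  rw [h2, el_eq R hn1] at h1
  refine ⟨t, ht, ?_⟩
  fin_cases i
  · left; simp [W]
  · right; simp [W]
  all_goals
    exfalso
    revert h1
    simp [M]
    try norm_num

/-- an involution of `T` different from `z` is conjugate to `w = el 1 0 0` by an element `m ∈ C_G(z)` with
`C_S(x')^m ≤ S` -/
theorem exists_m {x' : G} (hx : x' ∈ T) (hxx : x' * x' = 1) (hx1 : x' ≠ 1) (hxz : x' ≠ el n τ 1 1 1) :
    ∃ m : G, m ∈ normalizer (T : Set G) ∧ m * el n τ 1 1 1 = el n τ 1 1 1 * m ∧ m * x' * m⁻¹ = el n τ 1 0 0 ∧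
      ∀ y ∈ (S : Subgroup G), y * x' = x' * y → m * y * m⁻¹ ∈ (S : Subgroup G) := by
  have R := h.rel.toRel
  have hn1 : 1 ≤ n := by have := h.hn; omega
  have hzc : ∀ g ∈ (S : Subgroup G), g * el n τ 1 1 1 = el n τ 1 1 1 * g := by
    intro g hg
    rw [el_111]
    exact mem_centralizer_singleton_iff.mp (z_central h hg)
  have hSN := S_le_normalizer h.rel
  -- elements of `S`
  have hS : ∀ g ∈ (S : Subgroup G), g * x' * g⁻¹ = el n τ 1 0 0 →
      ∃ m : G, m ∈ normalizer (T : Set G) ∧ m * el n τ 1 1 1 = el n τ 1 1 1 * m ∧ m * x' * m⁻¹ = el n τ 1 0 0 ∧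
      ∀ y ∈ (S : Subgroup G), y * x' = x' * y → m * y * m⁻¹ ∈ (S : Subgroup G) := by
    intro g hg e
    exact ⟨g, hSN hg, hzc g hg, e, fun y hy _ => mul_mem (mul_mem hg hy) (inv_mem hg)⟩
  have hξz : ξ⁻¹ * el n τ 1 1 1 = el n τ 1 1 1 * ξ⁻¹ := by
    have h1 := ξ_el h 1 1 1
    have h2 : el n τ 1 (-1 - 1 - 1) 1 = el n τ 1 1 1 := by
      apply (el_eq R hn1).mpr; norm_num
    rw [h2] at h1
    calc ξ⁻¹ * el n τ 1 1 1 = ξ⁻¹ * (ξ * el n τ 1 1 1 * ξ⁻¹) := by rw [h1]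
      _ = el n τ 1 1 1 * ξ⁻¹ := by group
  have hξw : ξ⁻¹ * el n τ 1 1 0 * ξ = el n τ 1 0 0 := by
    have h1 := ξ_el h 1 0 0
    have h2 : el n τ 1 (-1 - 0 - 0) 0 = el n τ 1 1 0 := by
      apply (el_eq R hn1).mpr; norm_num
    rw [h2] at h1
    rw [← h1]; group
  have hξx : ξ⁻¹ * x1 * ξ = x3 := by
    rw [mul_assoc, ← h.ξx3, inv_mul_cancel_left]
  have hξ : ∀ g ∈ (S : Subgroup G), g * x' * g⁻¹ = el n τ 1 1 0 →
      ∃ m : G, m ∈ normalizer (T : Set G) ∧ m * el n τ 1 1 1 = el n τ 1 1 1 * m ∧ m * x' * m⁻¹ = el n τ 1 0 0 ∧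
      ∀ y ∈ (S : Subgroup G), y * x' = x' * y → m * y * m⁻¹ ∈ (S : Subgroup G) := by
    intro g hg e
    have hξN := ξ_mem h
    refine ⟨ξ⁻¹ * g, mul_mem (inv_mem hξN) (hSN hg), ?_, ?_, ?_⟩
    · rw [mul_assoc, hzc g hg, ← mul_assoc, hξz, mul_assoc]
    · calc ξ⁻¹ * g * x' * (ξ⁻¹ * g)⁻¹ = ξ⁻¹ * (g * x' * g⁻¹) * ξ := by group
        _ = el n τ 1 0 0 := by rw [e, hξw]
    · intro y hy hyx
      have h1 : g * y * g⁻¹ ∈ (S : Subgroup G) := mul_mem (mul_mem hg hy) (inv_mem hg)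
      have h2 : (g * y * g⁻¹) * el n τ 1 1 0 = el n τ 1 1 0 * (g * y * g⁻¹) := by
        rw [← e]
        calc g * y * g⁻¹ * (g * x' * g⁻¹) = g * (y * x') * g⁻¹ := by group
          _ = g * x' * g⁻¹ * (g * y * g⁻¹) := by rw [hyx]; group
      obtain ⟨t, ht, h3⟩ := cen_w1 h h1 h2
      have h4 : ξ⁻¹ * t * ξ ∈ T := conj_mem' hξN ht
      have e1 : ξ⁻¹ * g * y * (ξ⁻¹ * g)⁻¹ = ξ⁻¹ * (g * y * g⁻¹) * ξ := by group
      rw [e1]
      rcases h3 with h3 | h3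
      · rw [h3]; exact T_le_S h.rel h4
      · rw [h3]
        have e2 : ξ⁻¹ * (t * x1) * ξ = (ξ⁻¹ * t * ξ) * (ξ⁻¹ * x1 * ξ) := by group
        rw [e2, hξx]
        exact mul_mem (T_le_S h.rel h4) (W_mem_S h.rel 3)
  have hW : ∀ (i : Fin 8) (a b c a' b' c' : ℤ), ((2 : ℤ) ∣ (M i a b c).1 - a' ∧ (2 : ℤ) ∣ (M i a b c).2.1 - b' ∧
      (2 : ℤ) ∣ (M i a b c).2.2 - c') → W x1 x2 x3 s i * el n τ a b c * (W x1 x2 x3 s i)⁻¹ = el n τ a' b' c' := by
    intro i a b c a' b' c' hd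
    rw [W_el' h]
    exact (el_eq R hn1).mpr hd
  obtain ⟨i, j, k, hi, hj, hk, rfl⟩ := exists_el R hn1 hx hxx
  rcases hi with rfl | rfl <;> rcases hj with rfl | rfl <;> rcases hk with rfl | rfl
  · exact absurd (el_000 R) hx1
  · -- 001
    refine hξ (W x1 x2 x3 s 3) (W_mem_S h.rel 3) (hW 3 _ _ _ _ _ _ (by norm_num [M_3]))
  · -- 010
    refine hξ (W x1 x2 x3 s 7) (W_mem_S h.rel 7) (hW 7 _ _ _ _ _ _ (by norm_num [M_7]))
  · -- 011
    refine hS (W x1 x2 x3 s 1) (W_mem_S h.rel 1) (hW 1 _ _ _ _ _ _ (by norm_num [M_1]))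
  · refine hS 1 (one_mem _) (by group)
  · -- 101
    refine hξ (W x1 x2 x3 s 4) (W_mem_S h.rel 4) (hW 4 _ _ _ _ _ _ (by norm_num [M_4]))
  · refine hξ 1 (one_mem _) (by group)
  · exact absurd rfl hxz

/-- **(3.3)** -/
theorem exists_h (hfus : ∃ k : G, k * x3 * k⁻¹ = τ (2 ^ (n - 1)) (2 ^ (n - 1)) (2 ^ (n - 1))) :
    ∃ k : G, k * el n τ 1 1 1 = el n τ 1 1 1 * k ∧ k * x3 * k⁻¹ = el n τ 1 0 0 ∧
      ∀ y ∈ (S : Subgroup G), y * x3 = x3 * y → k * y * k⁻¹ ∈ (S : Subgroup G) := by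
  have R := h.rel.toRel
  have hn := h.hn
  have hn1 : 1 ≤ n := by omega
  obtain ⟨k, hk⟩ := hfus
  set D : Subgroup G := (S : Subgroup G) ⊓ centralizer {x3} with hD
  have hcD : Nat.card D = 2 ^ (n + 3) := card_D hn h.rel
  have hcS : Nat.card (S : Subgroup G) = 8 ^ (n + 1) := card_S hn h.rel
  have hzS := z_central h
  -- the order of `C_G(x3)`
  have hdvd : 2 ^ (n + 3 + 1) ∣ Nat.card (centralizer {x3} : Subgroup G) := by
    have h1 : (S : Subgroup G).map (MulAut.conj k⁻¹).toMonoidHom ≤ centralizer {x3} := by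
      rintro _ ⟨y, hy, rfl⟩
      have h2 := mem_centralizer_singleton_iff.mp (hzS hy)
      rw [← hk] at h2
      rw [mem_centralizer_singleton_iff]
      change (k⁻¹ * y * k⁻¹⁻¹) * x3 = x3 * (k⁻¹ * y * k⁻¹⁻¹)
      rw [inv_inv]
      exact cen_mul h2
    have h2 := card_dvd_of_le h1
    have h3 : Nat.card ((S : Subgroup G).map (MulAut.conj k⁻¹).toMonoidHom) = 8 ^ (n + 1) := by
      rw [← hcS]
      exact (Nat.card_congr ((S : Subgroup G).equivMapOfInjective _ (MulAut.conj k⁻¹).injective).toEquiv).symm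
    rw [h3] at h2
    refine dvd_trans ?_ h2
    rw [show (8 : ℕ) = 2 ^ 3 by norm_num, ← pow_mul]
    exact pow_dvd_pow 2 (by omega)
  obtain ⟨E, hDE, hEC, hcE, hEN⟩ := exists_bigger (inf_le_right : D ≤ centralizer {x3}) hcD hdvd
  have hEz : E ≤ centralizer {τ (2 ^ (n - 1)) (2 ^ (n - 1)) (2 ^ (n - 1))} := by
    intro y hy
    rw [mem_centralizer_singleton_iff]
    exact comm_z_of_normalizes hn h.rel (hEN hy)
  have hE2 : IsPGroup 2 E := IsPGroup.of_card hcE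
  obtain ⟨g, hg, hgE⟩ := exists_conj_into hzS hE2 hEz
  have hx3E : x3 ∈ E := hDE ⟨W_mem_S h.rel 3, mem_centralizer_singleton_iff.mpr rfl⟩
  set x' := g * x3 * g⁻¹ with hx'
  have hx'S : x' ∈ (S : Subgroup G) := hgE _ hx3E
  have hx'x' : x' * x' = 1 := by
    calc x' * x' = g * (x3 * x3) * g⁻¹ := by rw [hx']; group
      _ = 1 := by rw [R.x3x3]; group
  have hx'T : x' ∈ T := by
    by_contra hcon
    have h1 := card_cen_invol hn h.rel hx'S hcon hx'x'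
    have h2 : E.map (MulAut.conj g).toMonoidHom ≤ (S : Subgroup G) ⊓ centralizer {x'} := by
      rintro _ ⟨y, hy, rfl⟩
      refine mem_inf.mpr ⟨hgE y hy, ?_⟩
      rw [mem_centralizer_singleton_iff]
      have h3 := mem_centralizer_singleton_iff.mp (hEC hy)
      change (g * y * g⁻¹) * (g * x3 * g⁻¹) = (g * x3 * g⁻¹) * (g * y * g⁻¹)
      calc (g * y * g⁻¹) * (g * x3 * g⁻¹) = g * (y * x3) * g⁻¹ := by group
        _ = _ := by rw [h3]; group
    have h3 := card_le_of_le h2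
    have h4 : Nat.card (E.map (MulAut.conj g).toMonoidHom) = 2 ^ (n + 3 + 1) := by
      rw [← hcE]
      exact (Nat.card_congr (E.equivMapOfInjective _ (MulAut.conj g).injective).toEquiv).symm
    rw [h4] at h3
    have h5 : 2 ^ (n + 3) < 2 ^ (n + 3 + 1) := Nat.pow_lt_pow_right (by norm_num) (by omega)
    omega
  have hx3T : x3 ∉ T := by
    intro hx
    obtain ⟨a, b, c, e⟩ := (R.mem _).mp hx
    exact (R.cos a b c).2.2.1 e.symm
  have hgz : g * el n τ 1 1 1 = el n τ 1 1 1 * g := by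
    rw [el_111]; exact mem_centralizer_singleton_iff.mp hg
  have hx'1 : x' ≠ 1 := by
    intro e
    apply hx3T
    have : x3 = g⁻¹ * x' * g := by rw [hx']; group
    rw [this, e]
    have : g⁻¹ * 1 * g = 1 := by group
    rw [this]; exact one_mem _
  have hx'z : x' ≠ el n τ 1 1 1 := by
    intro e
    apply hx3T
    have : x3 = g⁻¹ * x' * g := by rw [hx']; group
    rw [this, e, mul_assoc, ← hgz, ← mul_assoc, inv_mul_cancel, one_mul]
    exact el_mem R _ _ _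
  obtain ⟨m, hmN, hmz, hmx, hmS⟩ := exists_m h hx'T hx'x' hx'1 hx'z
  refine ⟨m * g, ?_, ?_, ?_⟩
  · rw [mul_assoc, hgz, ← mul_assoc, hmz, mul_assoc]
  · rw [← hmx, hx']; group
  · intro y hy hyx
    have hyE : y ∈ E := hDE ⟨hy, mem_centralizer_singleton_iff.mpr hyx⟩
    have h1 := hgE y hyE
    have e : m * g * y * (m * g)⁻¹ = m * (g * y * g⁻¹) * m⁻¹ := by group
    rw [e]
    apply hmS _ h1
    rw [hx']
    calc (g * y * g⁻¹) * (g * x3 * g⁻¹) = g * (y * x3) * g⁻¹ := by group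
      _ = _ := by rw [hyx]; group

/-- the centraliser in `S` of `w = el 1 0 0` -/
theorem cen_w {y : G} (hy : y ∈ (S : Subgroup G)) (hc : y * el n τ 1 0 0 = el n τ 1 0 0 * y) :
    ∃ t ∈ T, ∃ j : Fin 8, (j = 0 ∨ j = 3 ∨ j = 4 ∨ j = 7) ∧ y = t * W x1 x2 x3 s j := by
  have R := h.rel.toRel
  have hn1 : 1 ≤ n := by have := h.hn; omega
  obtain ⟨t, ht, i, rfl⟩ := (mem_S h.rel y).1 hy
  have h1 := W_el R i ht 1 0 0
  have h2 : t * W x1 x2 x3 s i * el n τ 1 0 0 * (t * W x1 x2 x3 s i)⁻¹ = el n τ 1 0 0 := by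
    rw [hc]; group
  rw [h2, el_eq R hn1] at h1
  refine ⟨t, ht, i, ?_, rfl⟩
  clear h2 hc hy
  fin_cases i
  · left; rfl
  · exfalso
    revert h1
    simp [M]
  · exfalso
    revert h1
    simp [M]
  · right; left; rfl
  · right; right; left; rfl
  · exfalso
    revert h1
    simp [M]
  · exfalso
    revert h1
    simp [M]
  · right; right; right; rfl

/-- the action of `S` on `v` -/
theorem W_v (i : Fin 8) {t : G} (ht : t ∈ T) :
    ((i : ℕ) < 4 → (t * W x1 x2 x3 s i) * τ (2 ^ (n - 2)) (2 ^ (n - 2)) (2 ^ (n - 2)) * (t * W x1 x2 x3 s i)⁻¹ =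
      τ (2 ^ (n - 2)) (2 ^ (n - 2)) (2 ^ (n - 2))) ∧
    (4 ≤ (i : ℕ) → (t * W x1 x2 x3 s i) * τ (2 ^ (n - 2)) (2 ^ (n - 2)) (2 ^ (n - 2)) * (t * W x1 x2 x3 s i)⁻¹ =
      (τ (2 ^ (n - 2)) (2 ^ (n - 2)) (2 ^ (n - 2)))⁻¹) := by
  have R := h.rel.toRel
  have hn := h.hn
  have E : (2 : ℤ) ^ n = 4 * 2 ^ (n - 2) := by
    have : n = (n - 2) + 2 := by omega
    rw [show (2 : ℤ) ^ n = 2 ^ ((n - 2) + 2) by rw [← this], pow_add]; ring
  rw [conj_τ R i ht, τ_inv R]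
  constructor
  · intro hi
    rw [tp, τ_eq R]
    fin_cases i
    · simp [M]
    · refine ⟨⟨0, ?_⟩, ⟨0, ?_⟩, ⟨-1, ?_⟩⟩ <;> simp [M, E] <;> ring
    · refine ⟨⟨0, ?_⟩, ⟨-1, ?_⟩, ⟨0, ?_⟩⟩ <;> simp [M, E] <;> ring
    · refine ⟨⟨-1, ?_⟩, ⟨0, ?_⟩, ⟨0, ?_⟩⟩ <;> simp [M, E] <;> ring
    all_goals simp at hi
  · intro hi
    rw [tp, τ_eq R]
    fin_cases i
    · simp at hi
    · simp at hi
    · simp at hi
    · simp at hi
    · simp [M]
    · refine ⟨⟨0, ?_⟩, ⟨0, ?_⟩, ⟨1, ?_⟩⟩ <;> simp [M, E] <;> ring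
    · refine ⟨⟨0, ?_⟩, ⟨1, ?_⟩, ⟨0, ?_⟩⟩ <;> simp [M, E] <;> ring
    · refine ⟨⟨1, ?_⟩, ⟨0, ?_⟩, ⟨0, ?_⟩⟩ <;> simp [M, E] <;> ring

/-- **(3.4)**: `Sit → Conj` -/
theorem exists_conj (hfus : ∃ k : G, k * x3 * k⁻¹ = τ (2 ^ (n - 1)) (2 ^ (n - 1)) (2 ^ (n - 1))) :
    ∃ k : G, Conj n S T τ x3 k := by
  have R := h.rel.toRel
  have hn := h.hn
  have hn1 : 1 ≤ n := by omega
  obtain ⟨k, hkz, hkx, hkS⟩ := exists_h h hfus
  have E : (2 : ℤ) ^ n = 4 * 2 ^ (n - 2) := by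
    have : n = (n - 2) + 2 := by omega
    rw [show (2 : ℤ) ^ n = 2 ^ ((n - 2) + 2) by rw [← this], pow_add]; ring
  have E1 : (2 : ℤ) ^ (n - 1) = 2 * 2 ^ (n - 2) := by
    have : n - 1 = (n - 2) + 1 := by omega
    rw [this, pow_succ]; ring
  have hpos : (0 : ℤ) < 2 ^ (n - 2) := by positivity
  have hnd : ¬ (2 : ℤ) ^ n ∣ 2 ^ (n - 1) := by
    intro hd
    have h3 := Int.le_of_dvd (by positivity) hd
    rw [E, E1] at h3
    omega
  set v := τ (2 ^ (n - 2)) (2 ^ (n - 2)) (2 ^ (n - 2)) with hv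
  have hvT : v ∈ T := mem_τ R _ _ _
  have hvS : v ∈ (S : Subgroup G) := T_le_S h.rel hvT
  have hv2 : v * v = el n τ 1 1 1 := by rw [el_111]; exact v_sq hn R
  have hz1 : el n τ 1 1 1 ≠ 1 := by rw [el_111]; exact z_ne_one hn1 R
  -- `v` commutes with `T⟨x1, x2, x3⟩`
  have hvc : ∀ i : Fin 8, (i : ℕ) < 4 → ∀ t ∈ T, (t * W x1 x2 x3 s i) * v = v * (t * W x1 x2 x3 s i) := by
    intro i hi t ht
    have h1 := (W_v h i ht).1 hi
    calc (t * W x1 x2 x3 s i) * v = (t * W x1 x2 x3 s i * v * (t * W x1 x2 x3 s i)⁻¹) * (t * W x1 x2 x3 s i) := by group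
      _ = _ := by rw [h1]
  have hvx : v * x3 = x3 * v := by
    have := hvc 3 (by decide) 1 (one_mem _)
    rw [one_mul] at this
    exact this.symm
  have hDv : ∀ y ∈ (S : Subgroup G), y * x3 = x3 * y → y * v = v * y := by
    intro y hy hyx
    obtain ⟨a, b, c, w, hw, rfl, -, -⟩ := (mem_D hn h.rel y).mp ⟨hy, hyx⟩
    rcases hw with rfl | rfl | rfl | rfl
    · exact hvc 0 (by decide) _ (mem_τ R _ _ _)
    · exact hvc 1 (by decide) _ (mem_τ R _ _ _)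
    · exact hvc 2 (by decide) _ (mem_τ R _ _ _)
    · exact hvc 3 (by decide) _ (mem_τ R _ _ _)
  set v' := k * v * k⁻¹ with hv'
  have hv'2 : v' * v' = el n τ 1 1 1 := by
    calc v' * v' = k * (v * v) * k⁻¹ := by rw [hv']; group
      _ = el n τ 1 1 1 := by rw [hv2, hkz]; group
  have hkc : ∀ y, y * x3 = x3 * y → (k * y * k⁻¹) * el n τ 1 0 0 = el n τ 1 0 0 * (k * y * k⁻¹) := by
    intro y hy
    rw [← hkx]
    calc (k * y * k⁻¹) * (k * x3 * k⁻¹) = k * (y * x3) * k⁻¹ := by group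
      _ = _ := by rw [hy]; group
  have hkv : ∀ y, y * v = v * y → (k * y * k⁻¹) * v' = v' * (k * y * k⁻¹) := by
    intro y hy
    rw [hv']
    calc (k * y * k⁻¹) * (k * v * k⁻¹) = k * (y * v) * k⁻¹ := by group
      _ = _ := by rw [hy]; group
  obtain ⟨t, ht, i, hi, hvi⟩ := cen_w h (hkS v hvS hvx) (hkc v hvx)
  obtain ⟨a, b, c, rfl⟩ := (R.mem t).mp ht
  -- `v' ∈ T`
  have hv'T : v' ∈ T := by
    rcases hi with rfl | rfl | rfl | rfl
    · change v' = τ a b c * 1 at hvi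
      rw [hvi, mul_one]; exact mem_τ R _ _ _
    · -- `v' = t x3`
      exfalso
      change v' = τ a b c * x3 at hvi
      have hbc : (2 : ℤ) ∣ b + c := by
        have h1 := hv'2
        rw [hvi] at h1
        have h2 : τ a b c * x3 * (τ a b c * x3) = τ (-b - c) (b + c) (c + b) := by
          calc τ a b c * x3 * (τ a b c * x3) = τ a b c * (x3 * τ a b c) * x3 := by group
            _ = τ a b c * τ (-a - b - c) c b * (x3 * x3) := by rw [R.x3τ]; group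
            _ = _ := by rw [R.x3x3, mul_one, R.mul]; congr 1; ring
        rw [h2, el_111, τ_eq R] at h1
        obtain ⟨-, ⟨u, hu⟩, -⟩ := h1
        rw [E, E1] at hu
        exact ⟨2 ^ (n - 2) * (2 * u + 1), by linear_combination hu⟩
      -- the conjugates of the elements of `D`
      have hform : ∀ y ∈ (S : Subgroup G), y * x3 = x3 * y →
          ∃ u ∈ T, u * v' = v' * u ∧ (k * y * k⁻¹ = u ∨ k * y * k⁻¹ = u * v') := by
        intro y hy hyx
        have hyv := hkv y (hDv y hy hyx)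
        obtain ⟨t', ht', j, hj, hyj⟩ := cen_w h (hkS y hy hyx) (hkc y hyx)
        have hno : ∀ j : Fin 8, 4 ≤ (j : ℕ) → k * y * k⁻¹ = t' * W x1 x2 x3 s j → False := by
          intro j hj e
          refine not_comm_x3 hn R hj ht' a b c hbc ?_
          rw [← e, ← hvi]; exact hyv
        rcases hj with rfl | rfl | rfl | rfl
        · have e : k * y * k⁻¹ = t' := by rw [hyj]; exact mul_one _
          refine ⟨t', ht', ?_, Or.inl e⟩
          rw [← e]; exact hyv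
        · change k * y * k⁻¹ = t' * x3 at hyj
          have e : k * y * k⁻¹ * v'⁻¹ = t' * (τ a b c)⁻¹ := by rw [hyj, hvi]; group
          refine ⟨k * y * k⁻¹ * v'⁻¹, ?_, ?_, Or.inr (by group)⟩
          · rw [e]; exact mul_mem ht' (inv_mem (mem_τ R _ _ _))
          · rw [inv_mul_cancel_right, ← mul_assoc, ← hyv, mul_inv_cancel_right]
        · exact (hno 4 (by decide) hyj).elim
        · exact (hno 7 (by decide) hyj).elim
      have hcomm : ∀ y ∈ (S : Subgroup G), y * x3 = x3 * y → ∀ y' ∈ (S : Subgroup G), y' * x3 = x3 * y' → y * y' = y' * y := by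
        intro y hy hyx y' hy' hyx'
        obtain ⟨u, hu, huv, e⟩ := hform y hy hyx
        obtain ⟨u', hu', huv', e'⟩ := hform y' hy' hyx'
        have huu := comm_T R u hu u' hu'
        have key : (k * y * k⁻¹) * (k * y' * k⁻¹) = (k * y' * k⁻¹) * (k * y * k⁻¹) := by
          rcases e with e | e <;> rcases e' with e' | e' <;> rw [e, e']
          · exact huu
          · calc u * (u' * v') = (u * u') * v' := by group
              _ = u' * (u * v') := by rw [huu]; group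
              _ = u' * v' * u := by rw [huv]; group
          · calc u * v' * u' = u * (v' * u') := by group
              _ = (u * u') * v' := by rw [← huv']; group
              _ = u' * (u * v') := by rw [huu]; group
          · calc u * v' * (u' * v') = u * (v' * u') * v' := by group
              _ = (u * u') * v' * v' := by rw [← huv']; group
              _ = u' * (u * v') * v' := by rw [huu]; group
              _ = u' * (v' * u) * v' := by rw [huv]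
              _ = u' * v' * (u * v') := by group
        have e1 : (k * y * k⁻¹) * (k * y' * k⁻¹) = k * (y * y') * k⁻¹ := by group
        have e2 : (k * y' * k⁻¹) * (k * y * k⁻¹) = k * (y' * y) * k⁻¹ := by group
        rw [e1, e2] at key
        exact mul_left_cancel (mul_right_cancel key)
      have hx1 := hcomm x1 (W_mem_S h.rel 1) (by rw [x13 R, R.x31]) (τ 1 (-1) (-1)) (T_le_S h.rel (mem_τ R _ _ _)) (by
        rw [R.x3τ]; congr 1)
      rw [R.x1τ] at hx1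
      have h3 := mul_right_cancel hx1
      rw [τ_eq R] at h3
      obtain ⟨⟨u, hu⟩, -, -⟩ := h3
      rw [E] at hu
      have : (4 : ℤ) ∣ -1 - 1 := ⟨2 ^ (n - 2) * u, by rw [hu]; ring⟩
      omega
    · -- `v' = t s`
      exfalso
      change v' = τ a b c * s at hvi
      have h1 := hv'2
      rw [hvi] at h1
      have h2 : τ a b c * s * (τ a b c * s) = τ 0 (b - c) (c - b) := by
        calc τ a b c * s * (τ a b c * s) = τ a b c * (s * τ a b c) * s := by group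
          _ = τ a b c * τ (-a) (-c) (-b) * (s * s) := by rw [R.sτ]; group
          _ = _ := by rw [R.ss, mul_one, R.mul]; congr 1; ring
      rw [h2, el_111, τ_eq R] at h1
      obtain ⟨h3, -, -⟩ := h1
      rw [zero_sub, dvd_neg] at h3
      exact hnd h3
    · exfalso
      change v' = τ a b c * (x3 * s) at hvi
      have h1 := hv'2
      rw [hvi] at h1
      have h2 : τ a b c * (x3 * s) * (τ a b c * (x3 * s)) = τ (2 * a + b + c - 1) 0 0 := by
        calc τ a b c * (x3 * s) * (τ a b c * (x3 * s)) = τ a b c * (x3 * (s * τ a b c)) * x3 * s := by group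
          _ = τ a b c * ((x3 * τ (-a) (-c) (-b)) * s) * x3 * s := by rw [R.sτ]; group
          _ = τ a b c * τ (- -a - -c - -b) (-b) (-c) * x3 * (s * x3) * s := by rw [R.x3τ]; group
          _ = τ a b c * τ (- -a - -c - -b) (-b) (-c) * (x3 * τ 1 0 0) * x3 * (s * s) := by rw [R.sx3]; group
          _ = τ a b c * τ (- -a - -c - -b) (-b) (-c) * τ (-1 - 0 - 0) 0 0 * (x3 * x3) := by
            rw [R.x3τ, R.ss]; group
          _ = _ := by
            rw [R.x3x3, mul_one, R.mul, R.mul]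
            congr 1 <;> ring
      rw [h2, el_111, τ_eq R] at h1
      obtain ⟨-, h3, -⟩ := h1
      rw [zero_sub, dvd_neg] at h3
      exact hnd h3
  -- `v' = v^±1`
  have hvv : v' = v ∨ v' = v⁻¹ := by
    obtain ⟨m, hmN, hm⟩ := control h {v} (by rintro x rfl; exact hvT) (g := k) (by rintro x rfl; exact hv'T)
    have hmv : m * v * m⁻¹ = v' := hm v rfl
    have hmz : m * el n τ 1 1 1 = el n τ 1 1 1 * m := by
      have e1 : m * (v * v) * m⁻¹ = v' * v' := by rw [← hmv]; group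
      rw [hv2, hv'2] at e1
      calc m * el n τ 1 1 1 = (m * el n τ 1 1 1 * m⁻¹) * m := by group
        _ = el n τ 1 1 1 * m := by rw [e1]
    rw [el_111] at hmz
    obtain ⟨o, ho, g, hg, i, hi, e⟩ := exists_dec h hmN hmz
    have hξv : ∀ i : ℕ, ξ ^ i * v * (ξ ^ i)⁻¹ = v := by
      intro i
      have h1 : ξ * v = v * ξ := by
        rw [hv, h.ξτ]
        congr 1
        rw [τ_eq R]
        exact ⟨⟨0, by ring⟩, ⟨-1, by rw [E]; ring⟩, ⟨0, by ring⟩⟩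
      have h2 : Commute (ξ ^ i) v := (show Commute ξ v from h1).pow_left i
      rw [h2.eq, mul_inv_cancel_right]
    have hov : ∀ u ∈ T, o * u * o⁻¹ = u := by
      intro u hu
      rw [h.O_le o ho u hu, mul_inv_cancel_right]
    have e1 : v' = o * (g * (ξ ^ i * v * (ξ ^ i)⁻¹) * g⁻¹) * o⁻¹ := by
      rw [← hmv, e]; group
    rw [hξv] at e1
    obtain ⟨t', ht', j, hj⟩ := (mem_S h.rel g).1 hg
    by_cases hj4 : (j : ℕ) < 4
    · left
      have h1 := (W_v h j ht').1 hj4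
      rw [← hj] at h1
      rw [e1, h1, hov v hvT]
    · right
      have h1 := (W_v h j ht').2 (by omega)
      rw [← hj] at h1
      rw [e1, h1, hov _ (inv_mem hvT)]
  refine ⟨k, ?_, ?_, hvv, ?_⟩
  · rw [← el_111 n τ]; exact hkz
  · rw [← el_100 n τ]; exact hkx
  · intro y hy hyx
    obtain ⟨t', ht', j, hj, hyj⟩ := cen_w h (hkS y hy hyx) (hkc y hyx)
    have hyv := hkv y (hDv y hy hyx)
    have hyv2 : (k * y * k⁻¹) * v = v * (k * y * k⁻¹) := by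
      rcases hvv with e | e
      · rwa [e] at hyv
      · rw [e] at hyv
        have : Commute (k * y * k⁻¹) v⁻¹ := hyv
        rwa [Commute.inv_right_iff] at this
    have hno : ∀ j : Fin 8, 4 ≤ (j : ℕ) → k * y * k⁻¹ = t' * W x1 x2 x3 s j → False := by
      intro j hj e
      have h1 := (W_v h j ht').2 hj
      rw [← e, hyv2, mul_inv_cancel_right] at h1
      apply hz1
      rw [← hv2]
      nth_rewrite 1 [h1]
      rw [inv_mul_cancel]
    rcases hj with rfl | rfl | rfl | rfl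
    · exact ⟨t', ht', Or.inl (by rw [hyj]; exact mul_one _)⟩
    · exact ⟨t', ht', Or.inr hyj⟩
    · exact (hno 4 (by decide) hyj).elim
    · exact (hno 7 (by decide) hyj).elim

end

end Cfsg.Agent.ONType.Fus
end
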