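import Mathlib
import Cfsg.Agent.ONType.CzIso
import Cfsg.Agent.Lib.GoldschmidtFusion
import Cfsg.Agent.TypeL3.Main
import Cfsg.Agent.TypeL3.Model
import Cfsg.Agent.Lib.FieldFour
import Cfsg.Agent.S0542
import Cfsg.Agent.ONType.Fus
import Cfsg.Agent.ONType.Sit
import Cfsg.Prelude.Def_Local
import Cfsg.Agent.S0058
import Cfsg.Agent.Dichotomy.Functor
import Cfsg.Prelude.Def_Involutions
import Cfsg.Agent.SignalizersComponents.RelSylow
import Cfsg.Agent.FastGrp
import Cfsg.Agent.Prune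
set_option linter.all false

section
prune_inst 0x7ffcfefaaff8bddfffff7e7ffffddffd99fcdfffffdffb73fff8ebff9fff030ebbc5fbaffde0d8fd0ef6e2b430b87853ff7ecabfef6bdc7ffffd5ff45ffbee1ff7ffbd8111d698341f746ffffbf07fce7f3fffffffffffffffffffffffffffbeffffffffffff

-- part: ONType/CzMain
section
prune_inst 0x10004000000000000000000002000200000000088000410002000688040200000020800020001000280400300008104400000000000000000000011800800000c40212000008800000000000000000000000000000000000000000000000000000000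
set_option linter.all false
open scoped Cfsg.Agent.FastGrp

-- part: ONType/CzRel
section
/-!
# Relations of the Sylow 2-subgroup, and the elements with square `z`

`Rel q T S τ x1 x2 x3 s`: `T` homocyclic of exponent `q` and rank 3 with coordinates `(a, b, c, -a-b-c)`, `V₄ = {1, x1, x2, x3}`
acting by the regular permutations of the four coordinates, `s` by `y ↦ -(y0, y2, y1, y3)`.
-/

set_option autoImplicit false

namespace Cfsg.Agent.ONType.Cz

open Subgroup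

structure Rel {G : Type*} [Group G] (q : ℤ) (T S : Subgroup G) (τ : ℤ → ℤ → ℤ → G) (x1 x2 x3 s : G) : Prop where
  mul : ∀ a b c a' b' c', τ a b c * τ a' b' c' = τ (a + a') (b + b') (c + c')
  one : ∀ a b c, τ a b c = 1 ↔ q ∣ a ∧ q ∣ b ∧ q ∣ c
  mem : ∀ g, g ∈ T ↔ ∃ a b c, g = τ a b c
  x1_sq : x1 * x1 = 1
  x2_sq : x2 * x2 = 1
  x3_sq : x3 * x3 = 1
  x12 : x1 * x2 = x3
  x23 : x2 * x3 = x1
  x31 : x3 * x1 = x2
  x1_t : ∀ a b c, x1 * τ a b c = τ b a (-a - b - c) * x1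
  x2_t : ∀ a b c, x2 * τ a b c = τ c (-a - b - c) a * x2
  x3_t : ∀ a b c, x3 * τ a b c = τ (-a - b - c) c b * x3
  s_sq : s * s = 1
  s_t : ∀ a b c, s * τ a b c = τ (-a) (-c) (-b) * s
  s_x3 : s * x3 = τ 1 0 0 * x3 * s
  s_x1 : s * x1 = τ 1 0 (-1) * x2 * s
  s_x2 : s * x2 = τ 1 (-1) 0 * x1 * s
  S_mem : ∀ g, g ∈ S ↔ ∃ a b c, ∃ w, (w = 1 ∨ w = x1 ∨ w = x2 ∨ w = x3 ∨ w = s ∨ w = x1 * s ∨ w = x2 * s ∨ w = x3 * s) ∧
    g = τ a b c * w

variable {G : Type*} [Group G] {T S : Subgroup G} {τ : ℤ → ℤ → ℤ → G} {x1 x2 x3 s : G} {q : ℤ}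

namespace Rel

theorem τ_zero (R : Rel q T S τ x1 x2 x3 s) : τ 0 0 0 = 1 := (R.one 0 0 0).2 ⟨dvd_zero _, dvd_zero _, dvd_zero _⟩

theorem τ_inv (R : Rel q T S τ x1 x2 x3 s) (a b c : ℤ) : (τ a b c)⁻¹ = τ (-a) (-b) (-c) := by
  rw [inv_eq_iff_mul_eq_one, R.mul, R.one]
  simp

theorem τ_eq (R : Rel q T S τ x1 x2 x3 s) {a b c a' b' c' : ℤ} :
    τ a b c = τ a' b' c' ↔ q ∣ a - a' ∧ q ∣ b - b' ∧ q ∣ c - c' := by
  rw [← mul_inv_eq_one, R.τ_inv, R.mul, R.one]
  simp only [sub_eq_add_neg]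

theorem τ_mem (R : Rel q T S τ x1 x2 x3 s) (a b c : ℤ) : τ a b c ∈ T := (R.mem _).2 ⟨a, b, c, rfl⟩

theorem τ_comm (R : Rel q T S τ x1 x2 x3 s) (a b c a' b' c' : ℤ) :
    τ a b c * τ a' b' c' = τ a' b' c' * τ a b c := by
  rw [R.mul, R.mul, add_comm a, add_comm b, add_comm c]

theorem T_comm (R : Rel q T S τ x1 x2 x3 s) {g h : G} (hg : g ∈ T) (hh : h ∈ T) : g * h = h * g := by
  obtain ⟨a, b, c, rfl⟩ := (R.mem _).1 hg
  obtain ⟨a', b', c', rfl⟩ := (R.mem _).1 hh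
  exact R.τ_comm _ _ _ _ _ _

theorem S_of (R : Rel q T S τ x1 x2 x3 s) (a b c : ℤ) {w : G}
    (hw : w = 1 ∨ w = x1 ∨ w = x2 ∨ w = x3 ∨ w = s ∨ w = x1 * s ∨ w = x2 * s ∨ w = x3 * s) : τ a b c * w ∈ S :=
  (R.S_mem _).2 ⟨a, b, c, w, hw, rfl⟩

theorem S_of' (R : Rel q T S τ x1 x2 x3 s) {w : G}
    (hw : w = 1 ∨ w = x1 ∨ w = x2 ∨ w = x3 ∨ w = s ∨ w = x1 * s ∨ w = x2 * s ∨ w = x3 * s) : w ∈ S := by
  have := R.S_of 0 0 0 hw
  rwa [R.τ_zero, one_mul] at this

theorem S_cases (R : Rel q T S τ x1 x2 x3 s) {g : G} (hg : g ∈ S) : ∃ a b c, g = τ a b c ∨ g = τ a b c * x1 ∨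
    g = τ a b c * x2 ∨ g = τ a b c * x3 ∨ g = τ a b c * s ∨ g = τ a b c * (x1 * s) ∨ g = τ a b c * (x2 * s) ∨
    g = τ a b c * (x3 * s) := by
  obtain ⟨a, b, c, w, hw, hgw⟩ := (R.S_mem g).1 hg
  refine ⟨a, b, c, ?_⟩
  rw [hgw]
  rcases hw with hw | hw | hw | hw | hw | hw | hw | hw <;> rw [hw] <;> simp only [_root_.mul_one, _root_.left_eq_mul, _root_.true_or, _root_.mul_eq_left, _root_.mul_right_inj, _root_.or_true, _root_.right_eq_mul, _root_.mul_eq_right, _root_.mul_left_inj]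

theorem T_le (R : Rel q T S τ x1 x2 x3 s) : T ≤ S := by
  intro g hg
  obtain ⟨a, b, c, rfl⟩ := (R.mem _).1 hg
  have := R.S_of a b c (w := 1) (Or.inl rfl)
  rwa [mul_one] at this

theorem x1_mem (R : Rel q T S τ x1 x2 x3 s) : x1 ∈ S := R.S_of' (by simp)
theorem x2_mem (R : Rel q T S τ x1 x2 x3 s) : x2 ∈ S := R.S_of' (by simp)
theorem x3_mem (R : Rel q T S τ x1 x2 x3 s) : x3 ∈ S := R.S_of' (by simp)
theorem s_mem (R : Rel q T S τ x1 x2 x3 s) : s ∈ S := R.S_of' (by simp)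

theorem x1_inv (R : Rel q T S τ x1 x2 x3 s) : x1⁻¹ = x1 := inv_eq_of_mul_eq_one_left R.x1_sq
theorem x2_inv (R : Rel q T S τ x1 x2 x3 s) : x2⁻¹ = x2 := inv_eq_of_mul_eq_one_left R.x2_sq
theorem x3_inv (R : Rel q T S τ x1 x2 x3 s) : x3⁻¹ = x3 := inv_eq_of_mul_eq_one_left R.x3_sq
theorem s_inv (R : Rel q T S τ x1 x2 x3 s) : s⁻¹ = s := inv_eq_of_mul_eq_one_left R.s_sq

theorem x21 (R : Rel q T S τ x1 x2 x3 s) : x2 * x1 = x3 := by
  have h := congrArg (·⁻¹) R.x12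
  simp only [mul_inv_rev] at h
  rwa [R.x1_inv, R.x2_inv, R.x3_inv] at h
theorem x32 (R : Rel q T S τ x1 x2 x3 s) : x3 * x2 = x1 := by
  have h := congrArg (·⁻¹) R.x23
  simp only [mul_inv_rev] at h
  rwa [R.x1_inv, R.x2_inv, R.x3_inv] at h
theorem x13 (R : Rel q T S τ x1 x2 x3 s) : x1 * x3 = x2 := by
  have h := congrArg (·⁻¹) R.x31
  simp only [mul_inv_rev] at h
  rwa [R.x1_inv, R.x2_inv, R.x3_inv] at h

/-- `x3` is not in `T` -/
theorem x3_notMem (R : Rel 4 T S τ x1 x2 x3 s) : x3 ∉ T := by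
  intro h
  have h1 := R.T_comm h (R.τ_mem 1 0 0)
  rw [R.x3_t, mul_left_inj, R.τ_eq] at h1
  omega

theorem x2_notMem (R : Rel 4 T S τ x1 x2 x3 s) : x2 ∉ T := by
  intro h
  have h1 := R.T_comm h (R.τ_mem 1 0 0)
  rw [R.x2_t, mul_left_inj, R.τ_eq] at h1
  omega

theorem x1_notMem (R : Rel 4 T S τ x1 x2 x3 s) : x1 ∉ T := by
  intro h
  have h1 := R.T_comm h (R.τ_mem 1 0 0)
  rw [R.x1_t, mul_left_inj, R.τ_eq] at h1
  omega

/-- an element over `x3` with square `z` is conjugate to `v * x3` in `S` -/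
theorem conj_vx3 (R : Rel 4 T S τ x1 x2 x3 s) {a b c : ℤ}
    (h : τ a b c * x3 * (τ a b c * x3) = τ 2 2 2) : ∃ g ∈ S, g * (τ a b c * x3) * g⁻¹ = τ 1 1 1 * x3 := by
  have hsq : τ a b c * x3 * (τ a b c * x3) = τ (-b - c) (b + c) (b + c) := by
    rw [show τ a b c * x3 * (τ a b c * x3) = τ a b c * (x3 * τ a b c) * x3 by group, R.x3_t, ← mul_assoc, R.mul,
      mul_assoc, R.x3_sq, mul_one]
    congr 1 <;> ring
  rw [hsq, R.τ_eq] at h
  have key : ∀ a b c : ℤ, (4 : ℤ) ∣ b + c - 2 → (2 : ℤ) ∣ b - a → ∃ g ∈ S, g * (τ a b c * x3) * g⁻¹ = τ 1 1 1 * x3 := by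
    intro a b c h1 h2
    obtain ⟨m, hm⟩ := h2
    refine ⟨τ m (1 - b) 0, R.T_le (R.τ_mem _ _ _), ?_⟩
    rw [R.τ_inv, show τ m (1 - b) 0 * (τ a b c * x3) * τ (-m) (-(1 - b)) (-0) =
      τ m (1 - b) 0 * τ a b c * (x3 * τ (-m) (-(1 - b)) (-0)) by group, R.x3_t, ← mul_assoc, R.mul, R.mul,
      mul_left_inj, R.τ_eq]
    omega
  rcases Int.even_or_odd (b - a) with h2 | h2
  · exact key a b c (by omega) h2.two_dvd
  · obtain ⟨g, hg, e⟩ := key (1 - a) (-c) (-b) (by omega) (by obtain ⟨m, hm⟩ := h2; omega)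
    refine ⟨g * s, mul_mem hg R.s_mem, ?_⟩
    rw [← e, mul_inv_rev, R.s_inv]
    have : s * (τ a b c * x3) * s = τ (1 - a) (-c) (-b) * x3 := by
      rw [show s * (τ a b c * x3) * s = s * τ a b c * x3 * s by group, R.s_t,
        show τ (-a) (-c) (-b) * s * x3 * s = τ (-a) (-c) (-b) * (s * x3) * s by group, R.s_x3,
        show τ (-a) (-c) (-b) * (τ 1 0 0 * x3 * s) * s = τ (-a) (-c) (-b) * τ 1 0 0 * x3 * (s * s) by group,
        R.s_sq, mul_one, R.mul]
      congr 2 <;> ring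
    rw [← this]
    group

end Rel

/-- the element of order three -/
structure RelXi {G : Type*} [Group G] (τ : ℤ → ℤ → ℤ → G) (x1 x2 x3 ξ : G) : Prop where
  ct : ∀ a b c, ξ * τ a b c = τ a (-a - b - c) b * ξ
  c3 : ξ * x3 * ξ⁻¹ = x1
  c1 : ξ * x1 * ξ⁻¹ = x2
  c2 : ξ * x2 * ξ⁻¹ = x3

namespace Rel

/-- elements of `S` with square `z` -/
theorem of_sq (R : Rel 4 T S τ x1 x2 x3 s) {ξ : G} (X : RelXi τ x1 x2 x3 ξ) {y : G} (hy : y ∈ S)
    (h : y * y = τ 2 2 2) : y ∈ T ∨ ∃ g : G, g * y * g⁻¹ = τ 1 1 1 * x3 := by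
  obtain ⟨a, b, c, hw⟩ := R.S_cases hy
  rcases hw with rfl | rfl | rfl | rfl | rfl | rfl | rfl | rfl
  · left
    exact R.τ_mem _ _ _
  · right
    -- `ξ ^ 2` moves `x1` to `x3`
    have e : ξ * ξ * (τ a b c * x1) * (ξ * ξ)⁻¹ = τ a c (-a - b - c) * x3 := by
      have h1 : ξ * ξ * τ a b c = τ a c (-a - b - c) * (ξ * ξ) := by
        rw [mul_assoc, X.ct, ← mul_assoc, X.ct, mul_assoc]
        congr 2
        ring
      rw [show ξ * ξ * (τ a b c * x1) * (ξ * ξ)⁻¹ = (ξ * ξ * τ a b c) * x1 * (ξ * ξ)⁻¹ by group, h1, ← X.c2, ← X.c1]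
      group
    have e2 : τ a c (-a - b - c) * x3 * (τ a c (-a - b - c) * x3) = τ 2 2 2 := by
      rw [← e, show ξ * ξ * (τ a b c * x1) * (ξ * ξ)⁻¹ * (ξ * ξ * (τ a b c * x1) * (ξ * ξ)⁻¹) =
        ξ * ξ * (τ a b c * x1 * (τ a b c * x1)) * (ξ * ξ)⁻¹ by group, h]
      have h1 : ξ * ξ * τ 2 2 2 = τ 2 2 2 * (ξ * ξ) := by
        rw [mul_assoc, X.ct, ← mul_assoc, X.ct, mul_assoc, mul_left_inj, R.τ_eq]
        omega
      rw [h1]
      group
    obtain ⟨g, -, hg⟩ := R.conj_vx3 e2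
    exact ⟨g * (ξ * ξ), by rw [← hg, ← e]; group⟩
  · right
    have e : ξ * (τ a b c * x2) * ξ⁻¹ = τ a (-a - b - c) b * x3 := by
      rw [show ξ * (τ a b c * x2) * ξ⁻¹ = (ξ * τ a b c) * x2 * ξ⁻¹ by group, X.ct, ← X.c2]
      group
    have e2 : τ a (-a - b - c) b * x3 * (τ a (-a - b - c) b * x3) = τ 2 2 2 := by
      rw [← e, show ξ * (τ a b c * x2) * ξ⁻¹ * (ξ * (τ a b c * x2) * ξ⁻¹) =
        ξ * (τ a b c * x2 * (τ a b c * x2)) * ξ⁻¹ by group, h, X.ct,
        show τ 2 (-2 - 2 - 2) 2 * ξ * ξ⁻¹ = τ 2 (-2 - 2 - 2) 2 by group, R.τ_eq]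
      omega
    obtain ⟨g, -, hg⟩ := R.conj_vx3 e2
    exact ⟨g * ξ, by rw [← hg, ← e]; group⟩
  · right
    obtain ⟨g, -, hg⟩ := R.conj_vx3 h
    exact ⟨g, hg⟩
  · exfalso
    rw [show τ a b c * s * (τ a b c * s) = τ a b c * (s * τ a b c) * s by group, R.s_t, ← mul_assoc, R.mul,
      mul_assoc, R.s_sq, mul_one, R.τ_eq] at h
    omega
  · exfalso
    have e : τ a b c * (x1 * s) * (τ a b c * (x1 * s)) =
        τ a b c * τ (-c) (-a) (a + b + c) * (τ 0 1 0 * x3) := by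
      have h1 : x1 * s * τ a b c = τ (-c) (-a) (a + b + c) * (x1 * s) := by
        rw [mul_assoc, R.s_t, ← mul_assoc, R.x1_t, mul_assoc]
        congr 1
        congr 1; ring
      have h2 : x1 * s * (x1 * s) = τ 0 1 0 * x3 := by
        rw [show x1 * s * (x1 * s) = x1 * (s * x1) * s by group, R.s_x1,
          show x1 * (τ 1 0 (-1) * x2 * s) * s = x1 * τ 1 0 (-1) * x2 * (s * s) by group, R.s_sq, mul_one, R.x1_t,
          mul_assoc, R.x12]
        norm_num
      rw [show τ a b c * (x1 * s) * (τ a b c * (x1 * s)) = τ a b c * (x1 * s * τ a b c) * (x1 * s) by group, h1,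
        show τ a b c * (τ (-c) (-a) (a + b + c) * (x1 * s)) * (x1 * s) =
          τ a b c * τ (-c) (-a) (a + b + c) * (x1 * s * (x1 * s)) by group, h2]
    rw [e] at h
    have h3 : x3 = (τ a b c * τ (-c) (-a) (a + b + c) * τ 0 1 0)⁻¹ * τ 2 2 2 := by
      rw [← h]; group
    exact R.x3_notMem (h3 ▸ mul_mem (inv_mem (mul_mem (mul_mem (R.τ_mem _ _ _) (R.τ_mem _ _ _)) (R.τ_mem _ _ _)))
      (R.τ_mem _ _ _))
  · exfalso
    have e : τ a b c * (x2 * s) * (τ a b c * (x2 * s)) =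
        τ a b c * τ (-b) (a + b + c) (-a) * (τ 0 0 1 * x3) := by
      have h1 : x2 * s * τ a b c = τ (-b) (a + b + c) (-a) * (x2 * s) := by
        rw [mul_assoc, R.s_t, ← mul_assoc, R.x2_t, mul_assoc]
        congr 1
        congr 1; ring
      have h2 : x2 * s * (x2 * s) = τ 0 0 1 * x3 := by
        rw [show x2 * s * (x2 * s) = x2 * (s * x2) * s by group, R.s_x2,
          show x2 * (τ 1 (-1) 0 * x1 * s) * s = x2 * τ 1 (-1) 0 * x1 * (s * s) by group, R.s_sq, mul_one, R.x2_t,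
          mul_assoc, R.x21]
        norm_num
      rw [show τ a b c * (x2 * s) * (τ a b c * (x2 * s)) = τ a b c * (x2 * s * τ a b c) * (x2 * s) by group, h1,
        show τ a b c * (τ (-b) (a + b + c) (-a) * (x2 * s)) * (x2 * s) =
          τ a b c * τ (-b) (a + b + c) (-a) * (x2 * s * (x2 * s)) by group, h2]
    rw [e] at h
    have h3 : x3 = (τ a b c * τ (-b) (a + b + c) (-a) * τ 0 0 1)⁻¹ * τ 2 2 2 := by
      rw [← h]; group
    exact R.x3_notMem (h3 ▸ mul_mem (inv_mem (mul_mem (mul_mem (R.τ_mem _ _ _) (R.τ_mem _ _ _)) (R.τ_mem _ _ _)))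
      (R.τ_mem _ _ _))
  · exfalso
    have e : τ a b c * (x3 * s) * (τ a b c * (x3 * s)) =
        τ a b c * τ (a + b + c) (-b) (-c) * τ (-1) 0 0 := by
      have h1 : x3 * s * τ a b c = τ (a + b + c) (-b) (-c) * (x3 * s) := by
        rw [mul_assoc, R.s_t, ← mul_assoc, R.x3_t, mul_assoc]
        congr 1
        congr 1; ring
      have h2 : x3 * s * (x3 * s) = τ (-1) 0 0 := by
        rw [show x3 * s * (x3 * s) = x3 * (s * x3) * s by group, R.s_x3,
          show x3 * (τ 1 0 0 * x3 * s) * s = x3 * τ 1 0 0 * x3 * (s * s) by group, R.s_sq, mul_one, R.x3_t,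
          mul_assoc, R.x3_sq, mul_one]
        norm_num
      rw [show τ a b c * (x3 * s) * (τ a b c * (x3 * s)) = τ a b c * (x3 * s * τ a b c) * (x3 * s) by group, h1,
        show τ a b c * (τ (a + b + c) (-b) (-c) * (x3 * s)) * (x3 * s) =
          τ a b c * τ (a + b + c) (-b) (-c) * (x3 * s * (x3 * s)) by group, h2]
    rw [e, R.mul, R.mul, R.τ_eq] at h
    omega

end Rel

end Cfsg.Agent.ONType.Cz
end

-- part: ONType/CzIn
section
/-!
# From `H = C_G(z)` to `X = H/O(H)`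
-/

set_option autoImplicit false

namespace Cfsg.Agent.ONType.Cz

open Subgroup Cfsg.Agent.Lib.GoldschmidtFusion

universe u

/-- `Rel` in a homomorphic image -/
theorem Rel.map {G G' : Type*} [Group G] [Group G'] {q : ℤ} {T S : Subgroup G} {τ : ℤ → ℤ → ℤ → G} {x1 x2 x3 s : G}
    (R : Rel q T S τ x1 x2 x3 s) (f : G →* G') (hf : ∀ g ∈ S, f g = 1 → g = 1) :
    Rel q (T.map f) (S.map f) (fun a b c => f (τ a b c)) (f x1) (f x2) (f x3) (f s) where
  mul := fun a b c a' b' c' => by rw [← map_mul, R.mul]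
  one := fun a b c => by
    rw [← R.one]
    exact ⟨hf _ (R.T_le (R.τ_mem _ _ _)), fun h => by rw [h, map_one]⟩
  mem := fun g => by
    constructor
    · rintro ⟨t, ht, rfl⟩
      obtain ⟨a, b, c, rfl⟩ := (R.mem t).1 ht
      exact ⟨a, b, c, rfl⟩
    · rintro ⟨a, b, c, rfl⟩
      exact ⟨_, R.τ_mem a b c, rfl⟩
  x1_sq := by rw [← map_mul, R.x1_sq, map_one]
  x2_sq := by rw [← map_mul, R.x2_sq, map_one]
  x3_sq := by rw [← map_mul, R.x3_sq, map_one]
  x12 := by rw [← map_mul, R.x12]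
  x23 := by rw [← map_mul, R.x23]
  x31 := by rw [← map_mul, R.x31]
  x1_t := fun a b c => by rw [← map_mul, R.x1_t, map_mul]
  x2_t := fun a b c => by rw [← map_mul, R.x2_t, map_mul]
  x3_t := fun a b c => by rw [← map_mul, R.x3_t, map_mul]
  s_sq := by rw [← map_mul, R.s_sq, map_one]
  s_t := fun a b c => by rw [← map_mul, R.s_t, map_mul]
  s_x3 := by rw [← map_mul, R.s_x3, map_mul, map_mul]
  s_x1 := by rw [← map_mul, R.s_x1, map_mul, map_mul]
  s_x2 := by rw [← map_mul, R.s_x2, map_mul, map_mul]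
  S_mem := fun g => by
    constructor
    · rintro ⟨t, ht, rfl⟩
      obtain ⟨a, b, c, w, hw, rfl⟩ := (R.S_mem t).1 ht
      refine ⟨a, b, c, f w, ?_, map_mul _ _ _⟩
      rcases hw with hw | hw | hw | hw | hw | hw | hw | hw <;> rw [hw] <;> simp only [_root_.map_one, _root_.true_or, _root_.left_eq_mul, _root_.or_true, _root_.right_eq_mul, _root_.map_mul, _root_.mul_eq_left, _root_.mul_eq_right, _root_.mul_left_inj]
    · rintro ⟨a, b, c, w, hw, rfl⟩
      have key : ∀ w', (w' = 1 ∨ w' = x1 ∨ w' = x2 ∨ w' = x3 ∨ w' = s ∨ w' = x1 * s ∨ w' = x2 * s ∨ w' = x3 * s) →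
          w = f w' → f (τ a b c) * w ∈ S.map f := fun w' hw' h =>
        ⟨τ a b c * w', R.S_of a b c hw', by rw [map_mul, h]⟩
      rcases hw with h | h | h | h | h | h | h | h
      · exact key 1 (by simp) (by rw [h, map_one])
      · exact key x1 (by simp) h
      · exact key x2 (by simp) h
      · exact key x3 (by simp) h
      · exact key s (by simp) h
      · exact key (x1 * s) (by simp only [_root_.mul_eq_left, _root_.mul_eq_right, _root_.mul_left_inj, _root_.true_or, _root_.or_true]) (by rw [h, map_mul])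
      · exact key (x2 * s) (by simp only [_root_.mul_eq_left, _root_.mul_eq_right, _root_.mul_left_inj, _root_.true_or, _root_.or_true]) (by rw [h, map_mul])
      · exact key (x3 * s) (by simp only [_root_.mul_eq_left, _root_.mul_eq_right, _root_.mul_left_inj, _root_.or_true]) (by rw [h, map_mul])

theorem RelXi.map {G G' : Type*} [Group G] [Group G'] {τ : ℤ → ℤ → ℤ → G} {x1 x2 x3 ξ : G}
    (R : RelXi τ x1 x2 x3 ξ) (f : G →* G') : RelXi (fun a b c => f (τ a b c)) (f x1) (f x2) (f x3) (f ξ) where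
  ct := fun a b c => by rw [← map_mul, R.ct, map_mul]
  c3 := by rw [← map_inv, ← map_mul, ← map_mul, R.c3]
  c1 := by rw [← map_inv, ← map_mul, ← map_mul, R.c1]
  c2 := by rw [← map_inv, ← map_mul, ← map_mul, R.c2]

/-- the input of step (5), for `H = C_G(z)` -/
structure In {H : Type*} [Group H] [Finite H] (T : Subgroup H) (S : Sylow 2 H) (τ : ℤ → ℤ → ℤ → H)
    (x1 x2 x3 s ξ h : H) : Prop where
  rel : Rel 4 T (S : Subgroup H) τ x1 x2 x3 s
  xi : RelXi τ x1 x2 x3 ξ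
  xio : Odd (orderOf ξ)
  zc : ∀ g, g * τ 2 2 2 = τ 2 2 2 * g
  fus : ∀ g, g * τ 1 1 1 * g⁻¹ ∈ T → g * τ 1 1 1 * g⁻¹ = τ 1 1 1 ∨ g * τ 1 1 1 * g⁻¹ = τ (-1) (-1) (-1)
  wt : ∀ g, (∀ y ∈ T, g * y * g⁻¹ ∈ (S : Subgroup H)) → ∀ y ∈ T, g * y * g⁻¹ ∈ T
  az : ∀ k ∈ normalizer (T : Set H), ∃ c g, ∃ i : ℕ, (∀ y ∈ T, c * y = y * c) ∧ g ∈ (S : Subgroup H) ∧ k = c * g * ξ ^ i
  hx : h * x3 * h⁻¹ = τ 2 0 0
  hv : h * τ 1 1 1 * h⁻¹ = τ 1 1 1 ∨ h * τ 1 1 1 * h⁻¹ = τ (-1) (-1) (-1)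

/-- `X = H/O(H)` -/
structure XIn {X : Type*} [Group X] [Finite X] (T : Subgroup X) (S : Sylow 2 X) (τ : ℤ → ℤ → ℤ → X)
    (x1 x2 x3 s ξ h : X) : Prop where
  rel : Rel 4 T (S : Subgroup X) τ x1 x2 x3 s
  xi : RelXi τ x1 x2 x3 ξ
  xio : Odd (orderOf ξ)
  core : Cfsg.oddCore X = ⊥
  vn : ∀ g, g * τ 1 1 1 * g⁻¹ = τ 1 1 1 ∨ g * τ 1 1 1 * g⁻¹ = τ (-1) (-1) (-1)
  az : ∀ k ∈ normalizer (((S : Subgroup X) ⊓ centralizer ({τ 1 1 1} : Set X) : Subgroup X) : Set X),
    ∃ c g, ∃ i : ℕ, (∀ y ∈ T, c * y = y * c) ∧ g ∈ (S : Subgroup X) ∧ k = c * g * ξ ^ i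
  hx : h * x3 * h⁻¹ = τ 2 0 0

namespace Rel

variable {G : Type*} [Group G] {T S : Subgroup G} {τ : ℤ → ℤ → ℤ → G} {x1 x2 x3 s : G}

theorem v_sq (R : Rel 4 T S τ x1 x2 x3 s) : τ 1 1 1 * τ 1 1 1 = τ 2 2 2 := by rw [R.mul]; norm_num

theorem v_inv (R : Rel 4 T S τ x1 x2 x3 s) : (τ 1 1 1)⁻¹ = τ (-1) (-1) (-1) := R.τ_inv _ _ _

/-- the centralizer of `v` in `S` -/
theorem mem_P (R : Rel 4 T S τ x1 x2 x3 s) (g : G) : g ∈ S ⊓ centralizer ({τ 1 1 1} : Set G) ↔
    ∃ a b c, g = τ a b c ∨ g = τ a b c * x1 ∨ g = τ a b c * x2 ∨ g = τ a b c * x3 := by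
  have h1 : x1 * τ 1 1 1 = τ 1 1 1 * x1 := by rw [R.x1_t, mul_left_inj, R.τ_eq]; omega
  have h2 : x2 * τ 1 1 1 = τ 1 1 1 * x2 := by rw [R.x2_t, mul_left_inj, R.τ_eq]; omega
  have h3 : x3 * τ 1 1 1 = τ 1 1 1 * x3 := by rw [R.x3_t, mul_left_inj, R.τ_eq]; omega
  have hs : s * τ 1 1 1 = τ (-1) (-1) (-1) * s := by rw [R.s_t]
  have hinv : ∀ (a b c : ℤ) (x : G), x * τ 1 1 1 = τ 1 1 1 * x →
      ¬ τ a b c * (x * s) * τ 1 1 1 = τ 1 1 1 * (τ a b c * (x * s)) := by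
    intro a b c x hx h
    rw [show τ a b c * (x * s) * τ 1 1 1 = τ a b c * x * (s * τ 1 1 1) by group, hs,
      show τ a b c * x * (τ (-1) (-1) (-1) * s) = τ a b c * (x * τ (-1) (-1) (-1)) * s by group] at h
    have hx' : x * τ (-1) (-1) (-1) = τ (-1) (-1) (-1) * x := by
      rw [← R.v_inv]
      exact (Commute.inv_right hx).eq
    rw [hx', ← mul_assoc, ← mul_assoc, ← mul_assoc, R.mul, R.mul, mul_left_inj, mul_left_inj, R.τ_eq] at h
    omega
  rw [mem_inf, mem_centralizer_singleton_iff]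
  constructor
  · rintro ⟨hg, hc⟩
    obtain ⟨a, b, c, h⟩ := R.S_cases hg
    refine ⟨a, b, c, ?_⟩
    rcases h with rfl | rfl | rfl | rfl | rfl | rfl | rfl | rfl
    · exact Or.inl rfl
    · exact Or.inr (Or.inl rfl)
    · exact Or.inr (Or.inr (Or.inl rfl))
    · exact Or.inr (Or.inr (Or.inr rfl))
    · exact absurd (by rw [one_mul]; exact hc) (hinv a b c 1 (by simp))
    · exact absurd hc (hinv a b c x1 h1)
    · exact absurd hc (hinv a b c x2 h2)
    · exact absurd hc (hinv a b c x3 h3)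
  · have key : ∀ (a b c : ℤ) (x : G), x * τ 1 1 1 = τ 1 1 1 * x → τ a b c * x * τ 1 1 1 = τ 1 1 1 * (τ a b c * x) := by
      intro a b c x hx
      rw [mul_assoc, hx, ← mul_assoc, ← mul_assoc, R.τ_comm]
    rintro ⟨a, b, c, rfl | rfl | rfl | rfl⟩
    · exact ⟨R.T_le (R.τ_mem _ _ _), R.τ_comm _ _ _ _ _ _⟩
    · exact ⟨mul_mem (R.T_le (R.τ_mem _ _ _)) R.x1_mem, key _ _ _ _ h1⟩
    · exact ⟨mul_mem (R.T_le (R.τ_mem _ _ _)) R.x2_mem, key _ _ _ _ h2⟩
    · exact ⟨mul_mem (R.T_le (R.τ_mem _ _ _)) R.x3_mem, key _ _ _ _ h3⟩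

end Rel

namespace In

variable {H : Type u} [Group H] [Finite H] {T : Subgroup H} {S : Sylow 2 H} {τ : ℤ → ℤ → ℤ → H}
  {x1 x2 x3 s ξ h : H}

/-- `⟨v⟩` is isolated modulo `z` -/
theorem iso (D : In T S τ x1 x2 x3 s ξ h) (g : H) (hg : g * τ 1 1 1 * g⁻¹ ∈ (S : Subgroup H)) :
    g * τ 1 1 1 * g⁻¹ = τ 1 1 1 ∨ g * τ 1 1 1 * g⁻¹ = (τ 1 1 1)⁻¹ := by
  have R := D.rel
  rw [R.v_inv]
  have hsq : g * τ 1 1 1 * g⁻¹ * (g * τ 1 1 1 * g⁻¹) = τ 2 2 2 := by
    rw [show g * τ 1 1 1 * g⁻¹ * (g * τ 1 1 1 * g⁻¹) = g * (τ 1 1 1 * τ 1 1 1) * g⁻¹ by group, R.v_sq, D.zc,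
      mul_inv_cancel_right]
  rcases R.of_sq D.xi hg hsq with h1 | ⟨k, hk⟩
  · exact D.fus g h1
  · exfalso
    -- `v x3` is conjugate to `v^{±1} w`
    have h2 : h * (τ 1 1 1 * x3) * h⁻¹ = (h * τ 1 1 1 * h⁻¹) * τ 2 0 0 := by
      rw [← D.hx]; group
    have h3 : (h * k * g) * τ 1 1 1 * (h * k * g)⁻¹ = (h * τ 1 1 1 * h⁻¹) * τ 2 0 0 := by
      rw [← h2, ← hk]; group
    have h4 : (h * τ 1 1 1 * h⁻¹) * τ 2 0 0 ∈ T := by
      rcases D.hv with h5 | h5 <;> rw [h5] <;> exact mul_mem (R.τ_mem _ _ _) (R.τ_mem _ _ _)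
    have h6 := D.fus (h * k * g) (by rw [h3]; exact h4)
    rw [h3] at h6
    rcases D.hv with h5 | h5 <;> rw [h5, R.mul, R.τ_eq, R.τ_eq] at h6 <;> omega

/-- the quotient by the core -/
theorem toX (D : In T S τ x1 x2 x3 s ξ h) {X : Type u} [Group X] [Finite X] (f : H →* X)
    (hf : Function.Surjective f) (hker : f.ker = Cfsg.oddCore H) :
    XIn (T.map f) (S.mapSurjective hf) (fun a b c => f (τ a b c)) (f x1) (f x2) (f x3) (f s) (f ξ) (f h) := by
  have R := D.rel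
  have hOodd : Nat.Coprime (Nat.card (Cfsg.oddCore H)) 2 := Cfsg.Agent.Lib.Cores.pPrimeCore_coprime 2
  have hinj : ∀ g ∈ (S : Subgroup H), f g = 1 → g = 1 := by
    intro g hg h1
    have h2 : g ∈ Cfsg.oddCore H := by rw [← hker]; exact h1
    obtain ⟨k, hk⟩ := S.isPGroup' ⟨g, hg⟩
    have h3 : g ^ 2 ^ k = 1 := congrArg Subtype.val hk
    have h4 : orderOf g ∣ 2 ^ k := orderOf_dvd_of_pow_eq_one h3
    have h5 : orderOf g ∣ Nat.card (Cfsg.oddCore H) := by
      have := orderOf_dvd_natCard (⟨g, h2⟩ : Cfsg.oddCore H)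
      rwa [Subgroup.orderOf_mk] at this
    have h6 : Nat.Coprime (Nat.card (Cfsg.oddCore H)) (2 ^ k) := Nat.Coprime.pow_right k hOodd
    exact orderOf_eq_one_iff.1 (Nat.eq_one_of_dvd_coprimes h6 h5 h4)
  have hcore : Cfsg.oddCore X = ⊥ := by
    let e : H ⧸ Cfsg.oddCore H ≃* X :=
      (QuotientGroup.quotientMulEquivOfEq hker.symm).trans (QuotientGroup.quotientKerEquivOfSurjective f hf)
    have h1 := Cfsg.Agent.Lib.Cores.map_equiv_pPrimeCore e 2
    have h2 : Cfsg.pPrimeCore 2 (H ⧸ Cfsg.oddCore H) = ⊥ := Cfsg.Agent.Lib.Cores.pPrimeCore_quotient_pPrimeCore 2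
    rw [h2, Subgroup.map_bot] at h1
    exact h1.symm
  have hS : ((S.mapSurjective hf : Sylow 2 X) : Subgroup X) = (S : Subgroup H).map f := Sylow.coe_mapSurjective _ _
  have hR := R.map f hinj
  have hz1 : f (τ 2 2 2) ≠ 1 := by
    intro h1
    have h2 := hinj _ (R.T_le (R.τ_mem _ _ _)) h1
    rw [R.one] at h2
    omega
  refine ⟨?_, D.xi.map f, ?_, hcore, ?_, ?_, ?_⟩
  · rw [hS]; exact hR
  · exact D.xio.of_dvd_nat (orderOf_map_dvd f ξ)
  · intro g
    have h1 := conj_or f hf hcore S (z := τ 2 2 2) (v := τ 1 1 1) D.zc (by rw [R.mul, R.one]; omega) hz1 R.v_sq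
      (R.T_le (R.τ_mem _ _ _)) D.iso g
    rw [← map_inv, R.v_inv] at h1
    exact h1
  · -- lifting of the normalizer of `P`
    intro n hn
    obtain ⟨n₁, rfl⟩ := hf n
    set P := (S : Subgroup H) ⊓ centralizer ({τ 1 1 1} : Set H) with hP
    have hPmap : ((S.mapSurjective hf : Sylow 2 X) : Subgroup X) ⊓ centralizer ({f (τ 1 1 1)} : Set X) = P.map f := by
      rw [hS]
      ext g
      rw [hR.mem_P]
      constructor
      · rintro ⟨a, b, c, hg⟩
        have key : ∀ y, y ∈ P → g = f y → g ∈ P.map f := fun y hy h1 => ⟨y, hy, h1.symm⟩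
        rcases hg with hg | hg | hg | hg
        · exact key _ ((R.mem_P _).2 ⟨a, b, c, Or.inl rfl⟩) hg
        · exact key (τ a b c * x1) ((R.mem_P _).2 ⟨a, b, c, by simp⟩) (by rw [hg, map_mul])
        · exact key (τ a b c * x2) ((R.mem_P _).2 ⟨a, b, c, by simp⟩) (by rw [hg, map_mul])
        · exact key (τ a b c * x3) ((R.mem_P _).2 ⟨a, b, c, by simp⟩) (by rw [hg, map_mul])
      · rintro ⟨y, hy, rfl⟩
        obtain ⟨a, b, c, hg⟩ := (R.mem_P y).1 hy
        refine ⟨a, b, c, ?_⟩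
        rcases hg with hg | hg | hg | hg <;> rw [hg] <;> simp
    rw [hPmap] at hn
    set N := (P.map f).comap f with hN
    have hPN : P ≤ N := le_comap_map _ _
    have hPp : IsPGroup 2 P := S.isPGroup'.to_le inf_le_left
    -- index of `P` in `N`
    have hidx : ¬ 2 ∣ P.relIndex N := by
      intro h2
      have hcard : P.relIndex N = Nat.card f.ker := by
        have e1 := Subgroup.relIndex_mul_index hPN
        have e2 := Subgroup.card_mul_index P
        have e3 := Subgroup.card_mul_index (P.map f)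
        have e4 : N.index = (P.map f).index := Subgroup.index_comap_of_surjective _ hf
        have e5 : Nat.card (P.map f) = Nat.card P := by
          refine (Nat.card_congr (Equiv.ofBijective (fun x : P => (⟨f x, mem_map_of_mem f x.2⟩ : P.map f)) ⟨?_, ?_⟩)).symm
          · intro x y hxy
            have h3 : f x = f y := congrArg Subtype.val hxy
            have h4 : f ((x : H) * (y : H)⁻¹) = 1 := by rw [map_mul, map_inv, h3, mul_inv_cancel]
            exact Subtype.ext (mul_inv_eq_one.1 (hinj _ (mem_inf.1 (mul_mem x.2 (inv_mem y.2))).1 h4))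
          · rintro ⟨_, x, hx, rfl⟩
            exact ⟨⟨x, hx⟩, rfl⟩
        have e6 : Nat.card H = Nat.card X * Nat.card f.ker := by
          rw [Subgroup.card_eq_card_quotient_mul_card_subgroup f.ker,
            Nat.card_congr (QuotientGroup.quotientKerEquivOfSurjective f hf).toEquiv]
        have hpos : 0 < (P.map f).index * Nat.card P :=
          Nat.mul_pos (Nat.pos_of_ne_zero Subgroup.index_ne_zero_of_finite) Nat.card_pos
        apply Nat.eq_of_mul_eq_mul_right hpos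
        rw [← mul_assoc, ← e4, e1, mul_comm _ (Nat.card P), e2, e6, ← e3, e5, e4]
        ring
      have h4 : 2 ∣ Nat.card (Cfsg.oddCore H) := by
        rw [← hker, ← hcard]; exact h2
      have h5 := hOodd
      rw [Nat.coprime_two_right] at h5
      rw [← Nat.not_even_iff_odd, even_iff_two_dvd] at h5
      exact h5 h4
    have hle : P.map (MulAut.conj n₁).toMonoidHom ≤ N := by
      rintro _ ⟨y, hy, rfl⟩
      rw [hN, mem_comap]
      change f (n₁ * y * n₁⁻¹) ∈ _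
      rw [map_mul, map_mul, map_inv]
      exact (mem_normalizer_iff.1 hn _).1 (mem_map_of_mem f hy)
    obtain ⟨u, hu, hule⟩ := exists_conj_le_in (p := 2) hPp hidx hle (hPp.map _)
    rw [map_conj_map_conj] at hule
    have hwt : ∀ y ∈ T, (u * n₁) * y * (u * n₁)⁻¹ ∈ (S : Subgroup H) := by
      intro y hy
      have hyP : y ∈ P := by
        obtain ⟨a, b, c, rfl⟩ := (R.mem y).1 hy
        exact (R.mem_P _).2 ⟨a, b, c, Or.inl rfl⟩
      exact (mem_inf.1 (hule ⟨y, hyP, rfl⟩)).1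
    have hNT : u * n₁ ∈ normalizer (T : Set H) := by
      rw [mem_normalizer_iff_map_conj]
      refine Subgroup.eq_of_le_of_card_ge ?_ (by rw [card_map_conj])
      rintro _ ⟨y, hy, rfl⟩
      exact D.wt _ hwt y hy
    obtain ⟨c, g, i, hc, hg, hk⟩ := D.az _ hNT
    obtain ⟨y, hy, hyu⟩ := hu
    have hyS : y ∈ (S : Subgroup H) := (mem_inf.1 hy).1
    -- `f n₁ = f(y)⁻¹ f(c g ξ^i)`
    have e1 : f n₁ = (f y)⁻¹ * f c * f y * ((f y)⁻¹ * f g) * f ξ ^ i := by
      have h1 : f (u * n₁) = f (c * g * ξ ^ i) := by rw [hk]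
      rw [map_mul, ← hyu, map_mul, map_mul, map_pow] at h1
      rw [← eq_inv_mul_iff_mul_eq] at h1
      rw [h1]; group
    refine ⟨(f y)⁻¹ * f c * f y, (f y)⁻¹ * f g, i, ?_, ?_, e1⟩
    · rintro _ ⟨t, ht, rfl⟩
      have hyT : y * t * y⁻¹ ∈ T := D.wt y (fun y' hy' => mul_mem (mul_mem hyS (R.T_le hy')) (inv_mem hyS)) t ht
      have h1 := congrArg f (hc _ hyT)
      simp only [map_mul, map_inv] at h1
      calc (f y)⁻¹ * f c * f y * f t = (f y)⁻¹ * (f c * (f y * f t * (f y)⁻¹)) * f y := by group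
        _ = (f y)⁻¹ * (f y * f t * (f y)⁻¹ * f c) * f y := by rw [h1]
        _ = _ := by group
    · rw [hS, ← map_inv, ← map_mul]
      exact mem_map_of_mem f (mul_mem (inv_mem hyS) hg)
  · rw [← map_inv, ← map_mul, ← map_mul, D.hx]

end In

end Cfsg.Agent.ONType.Cz
end

-- part: ONType/CzQ
section
/-!
# The Sylow 2-subgroup of `C_X(v)/⟨v⟩` has type `L₃(4)`
-/

set_option autoImplicit false

namespace Cfsg.Agent.ONType.Cz

open Subgroup Cfsg.Agent.TypeL3 Cfsg.Agent.TypeL3.Local Cfsg.Agent.Lib.FieldFour Cfsg.Agent.Lib.GoldschmidtFusion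
open Cfsg.Agent.SylowL.Lev Cfsg.Agent.SylowL.UT

/-- the image modulo `v = τ 1 1 1` of `T ⟨x1, x2, x3⟩` -/
structure RelQ {G : Type*} [Group G] (T P : Subgroup G) (τ : ℤ → ℤ → ℤ → G) (x1 x2 x3 : G) : Prop where
  mul : ∀ a b c a' b' c', τ a b c * τ a' b' c' = τ (a + a') (b + b') (c + c')
  one : ∀ a b c, τ a b c = 1 ↔ 4 ∣ a - b ∧ 4 ∣ a - c
  mem : ∀ g, g ∈ T ↔ ∃ a b c, g = τ a b c
  x1_sq : x1 * x1 = 1
  x2_sq : x2 * x2 = 1
  x3_sq : x3 * x3 = 1
  x12 : x1 * x2 = x3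
  x23 : x2 * x3 = x1
  x31 : x3 * x1 = x2
  x1_t : ∀ a b c, x1 * τ a b c = τ b a (-a - b - c) * x1
  x2_t : ∀ a b c, x2 * τ a b c = τ c (-a - b - c) a * x2
  x3_t : ∀ a b c, x3 * τ a b c = τ (-a - b - c) c b * x3
  P_mem : ∀ g, g ∈ P ↔ ∃ a b c, g = τ a b c ∨ g = τ a b c * x1 ∨ g = τ a b c * x2 ∨ g = τ a b c * x3

namespace RelQ

variable {G : Type*} [Group G] {T P : Subgroup G} {τ : ℤ → ℤ → ℤ → G} {x1 x2 x3 : G}

theorem τ_zero (R : RelQ T P τ x1 x2 x3) : τ 0 0 0 = 1 := (R.one 0 0 0).2 (by norm_num)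

theorem τ_inv (R : RelQ T P τ x1 x2 x3) (a b c : ℤ) : (τ a b c)⁻¹ = τ (-a) (-b) (-c) := by
  rw [inv_eq_iff_mul_eq_one, R.mul, R.one]
  simp

theorem τ_eq (R : RelQ T P τ x1 x2 x3) {a b c a' b' c' : ℤ} :
    τ a b c = τ a' b' c' ↔ 4 ∣ (a - a') - (b - b') ∧ 4 ∣ (a - a') - (c - c') := by
  rw [← mul_inv_eq_one, R.τ_inv, R.mul, R.one]
  simp only [sub_eq_add_neg]

theorem τ_mem (R : RelQ T P τ x1 x2 x3) (a b c : ℤ) : τ a b c ∈ T := (R.mem _).2 ⟨a, b, c, rfl⟩

theorem τ_comm (R : RelQ T P τ x1 x2 x3) (a b c a' b' c' : ℤ) :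
    τ a b c * τ a' b' c' = τ a' b' c' * τ a b c := by
  rw [R.mul, R.mul, add_comm a, add_comm b, add_comm c]

theorem T_le (R : RelQ T P τ x1 x2 x3) : T ≤ P := by
  intro g hg
  obtain ⟨a, b, c, rfl⟩ := (R.mem _).1 hg
  exact (R.P_mem _).2 ⟨a, b, c, Or.inl rfl⟩

theorem x1_mem (R : RelQ T P τ x1 x2 x3) : x1 ∈ P :=
  (R.P_mem _).2 ⟨0, 0, 0, Or.inr (Or.inl (by rw [R.τ_zero, one_mul]))⟩
theorem x2_mem (R : RelQ T P τ x1 x2 x3) : x2 ∈ P :=
  (R.P_mem _).2 ⟨0, 0, 0, Or.inr (Or.inr (Or.inl (by rw [R.τ_zero, one_mul])))⟩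
theorem x3_mem (R : RelQ T P τ x1 x2 x3) : x3 ∈ P :=
  (R.P_mem _).2 ⟨0, 0, 0, Or.inr (Or.inr (Or.inr (by rw [R.τ_zero, one_mul])))⟩

theorem x1_inv (R : RelQ T P τ x1 x2 x3) : x1⁻¹ = x1 := inv_eq_of_mul_eq_one_left R.x1_sq
theorem x2_inv (R : RelQ T P τ x1 x2 x3) : x2⁻¹ = x2 := inv_eq_of_mul_eq_one_left R.x2_sq
theorem x3_inv (R : RelQ T P τ x1 x2 x3) : x3⁻¹ = x3 := inv_eq_of_mul_eq_one_left R.x3_sq

theorem x21 (R : RelQ T P τ x1 x2 x3) : x2 * x1 = x3 := by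
  have h := congrArg (·⁻¹) R.x12
  simp only [mul_inv_rev] at h
  rwa [R.x1_inv, R.x2_inv, R.x3_inv] at h
theorem x32 (R : RelQ T P τ x1 x2 x3) : x3 * x2 = x1 := by
  have h := congrArg (·⁻¹) R.x23
  simp only [mul_inv_rev] at h
  rwa [R.x1_inv, R.x2_inv, R.x3_inv] at h
theorem x13 (R : RelQ T P τ x1 x2 x3) : x1 * x3 = x2 := by
  have h := congrArg (·⁻¹) R.x31
  simp only [mul_inv_rev] at h
  rwa [R.x1_inv, R.x2_inv, R.x3_inv] at h

theorem x3_notMem (R : RelQ T P τ x1 x2 x3) (a b c : ℤ) : τ a b c * x3 ∉ T := by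
  intro h
  have h0 : x3 ∈ T := by
    have := mul_mem (inv_mem (R.τ_mem a b c)) h
    rwa [inv_mul_cancel_left] at this
  obtain ⟨a', b', c', h'⟩ := (R.mem _).1 h0
  have h1 := R.x3_t 1 0 0
  rw [h', R.τ_comm, mul_left_inj, R.τ_eq] at h1
  omega

theorem x2_notMem (R : RelQ T P τ x1 x2 x3) (a b c : ℤ) : τ a b c * x2 ∉ T := by
  intro h
  have h0 : x2 ∈ T := by
    have := mul_mem (inv_mem (R.τ_mem a b c)) h
    rwa [inv_mul_cancel_left] at this
  obtain ⟨a', b', c', h'⟩ := (R.mem _).1 h0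
  have h1 := R.x2_t 1 0 0
  rw [h', R.τ_comm, mul_left_inj, R.τ_eq] at h1
  omega

theorem x1_notMem (R : RelQ T P τ x1 x2 x3) (a b c : ℤ) : τ a b c * x1 ∉ T := by
  intro h
  have h0 : x1 ∈ T := by
    have := mul_mem (inv_mem (R.τ_mem a b c)) h
    rwa [inv_mul_cancel_left] at this
  obtain ⟨a', b', c', h'⟩ := (R.mem _).1 h0
  have h1 := R.x1_t 1 0 0
  rw [h', R.τ_comm, mul_left_inj, R.τ_eq] at h1
  omega

/-- `T` is normal in `P` -/
theorem T_normal (R : RelQ T P τ x1 x2 x3) {g t : G} (hg : g ∈ P) (ht : t ∈ T) : g * t * g⁻¹ ∈ T := by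
  obtain ⟨a', b', c', rfl⟩ := (R.mem _).1 ht
  obtain ⟨a, b, c, h⟩ := (R.P_mem g).1 hg
  rcases h with rfl | rfl | rfl | rfl
  · exact mul_mem (mul_mem (R.τ_mem _ _ _) (R.τ_mem _ _ _)) (inv_mem (R.τ_mem _ _ _))
  · rw [show τ a b c * x1 * τ a' b' c' * (τ a b c * x1)⁻¹ = τ a b c * (x1 * τ a' b' c') * x1⁻¹ * (τ a b c)⁻¹ by group,
      R.x1_t, ← mul_assoc, mul_inv_cancel_right]
    exact mul_mem (mul_mem (R.τ_mem _ _ _) (R.τ_mem _ _ _)) (inv_mem (R.τ_mem _ _ _))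
  · rw [show τ a b c * x2 * τ a' b' c' * (τ a b c * x2)⁻¹ = τ a b c * (x2 * τ a' b' c') * x2⁻¹ * (τ a b c)⁻¹ by group,
      R.x2_t, ← mul_assoc, mul_inv_cancel_right]
    exact mul_mem (mul_mem (R.τ_mem _ _ _) (R.τ_mem _ _ _)) (inv_mem (R.τ_mem _ _ _))
  · rw [show τ a b c * x3 * τ a' b' c' * (τ a b c * x3)⁻¹ = τ a b c * (x3 * τ a' b' c') * x3⁻¹ * (τ a b c)⁻¹ by group,
      R.x3_t, ← mul_assoc, mul_inv_cancel_right]
    exact mul_mem (mul_mem (R.τ_mem _ _ _) (R.τ_mem _ _ _)) (inv_mem (R.τ_mem _ _ _))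

/-- `T` is self-centralising in `P` -/
theorem T_cent (R : RelQ T P τ x1 x2 x3) {g : G} (hg : g ∈ P) (hc : ∀ t ∈ T, g * t = t * g) : g ∈ T := by
  obtain ⟨a, b, c, h⟩ := (R.P_mem g).1 hg
  have h1 := hc _ (R.τ_mem 1 0 0)
  rcases h with rfl | rfl | rfl | rfl
  · exact R.τ_mem _ _ _
  · exfalso
    rw [mul_assoc, R.x1_t, ← mul_assoc, ← mul_assoc, R.mul, R.mul, mul_left_inj, R.τ_eq] at h1
    omega
  · exfalso
    rw [mul_assoc, R.x2_t, ← mul_assoc, ← mul_assoc, R.mul, R.mul, mul_left_inj, R.τ_eq] at h1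
    omega
  · exfalso
    rw [mul_assoc, R.x3_t, ← mul_assoc, ← mul_assoc, R.mul, R.mul, mul_left_inj, R.τ_eq] at h1
    omega

end RelQ

section coord

variable {G : Type*} [Group G]

def cX (x1 x2 x3 : G) : F4 → G
  | .o => 1
  | .i => x3
  | .w => x1
  | .v => x2

def cY (τ : ℤ → ℤ → ℤ → G) (x1 x2 x3 : G) : F4 → G
  | .o => 1
  | .i => τ 1 0 0 * x3
  | .w => τ 1 (-1) 0 * x1
  | .v => τ 1 0 (-1) * x2

def cZ (τ : ℤ → ℤ → ℤ → G) : F4 → G
  | .o => τ 0 0 0
  | .i => τ 2 0 0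
  | .w => τ 2 0 2
  | .v => τ 2 2 0

variable {T P : Subgroup G} {τ : ℤ → ℤ → ℤ → G} {x1 x2 x3 : G}

theorem cX_add (R : RelQ T P τ x1 x2 x3) (a b : F4) : cX x1 x2 x3 (a + b) = cX x1 x2 x3 a * cX x1 x2 x3 b := by
  have h1 := R.x1_sq
  have h2 := R.x2_sq
  have h3 := R.x3_sq
  have h12 := R.x12
  have h23 := R.x23
  have h31 := R.x31
  have h21 := R.x21
  have h32 := R.x32
  have h13 := R.x13
  cases a <;> cases b <;> change cX x1 x2 x3 (F4.add _ _) = _ <;> simp [F4.add, cX, h1, h2, h3, h12, h23, h31, h21, h32, h13]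

theorem cY_add (R : RelQ T P τ x1 x2 x3) (a b : F4) :
    cY τ x1 x2 x3 (a + b) = cY τ x1 x2 x3 a * cY τ x1 x2 x3 b := by
  have key : ∀ (p q r p' q' r' : ℤ) (x y : G), τ p q r * x * (τ p' q' r' * y) = τ p q r * (x * τ p' q' r') * y :=
    fun _ _ _ _ _ _ _ _ => by group
  cases a <;> cases b <;> change cY τ x1 x2 x3 (F4.add _ _) = _ <;> simp only [F4.add, cY, one_mul, mul_one]
  all_goals
    rw [key]
    simp only [R.x1_t, R.x2_t, R.x3_t]
    rw [← mul_assoc, R.mul, mul_assoc]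
    simp only [R.x1_sq, R.x2_sq, R.x3_sq, R.x12, R.x23, R.x31, R.x21, R.x32, R.x13, mul_one]
    first
      | (rw [mul_left_inj, R.τ_eq]; omega)
      | (rw [eq_comm, R.one]; omega)

theorem cZ_add (R : RelQ T P τ x1 x2 x3) (a b : F4) : cZ τ (a + b) = cZ τ a * cZ τ b := by
  cases a <;> cases b <;> change cZ τ (F4.add _ _) = _ <;> simp only [F4.add, cZ] <;> rw [R.mul, R.τ_eq] <;> omega

theorem cZ_cX (R : RelQ T P τ x1 x2 x3) (a b : F4) : cZ τ a * cX x1 x2 x3 b = cX x1 x2 x3 b * cZ τ a := by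
  cases a <;> cases b <;> simp only [cX, cZ, one_mul, mul_one, R.x1_t, R.x2_t, R.x3_t]
  all_goals (rw [mul_left_inj, R.τ_eq]; (clear * -; omega))

theorem cZ_cY (R : RelQ T P τ x1 x2 x3) (a b : F4) :
    cZ τ a * cY τ x1 x2 x3 b = cY τ x1 x2 x3 b * cZ τ a := by
  have key : ∀ (p q r p' q' r' : ℤ) (x : G), τ p q r * x * τ p' q' r' = τ p q r * (x * τ p' q' r') :=
    fun _ _ _ _ _ _ _ => by group
  cases a <;> cases b <;> simp only [cY, cZ, one_mul, mul_one]
  all_goals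
    rw [key]
    simp only [R.x1_t, R.x2_t, R.x3_t]
    rw [← mul_assoc, ← mul_assoc, mul_left_inj, R.mul, R.mul, R.τ_eq]
    (clear * -; omega)

/-- `x(a) y(b) = z(ab) y(b) x(a)` -/
theorem cXY (R : RelQ T P τ x1 x2 x3) (a b : F4) :
    cX x1 x2 x3 a * cY τ x1 x2 x3 b = cZ τ (a * b) * cY τ x1 x2 x3 b * cX x1 x2 x3 a := by
  have key : ∀ (p q r : ℤ) (x y : G), x * (τ p q r * y) = (x * τ p q r) * y := fun _ _ _ _ _ => by group
  cases a <;> cases b <;> change _ = cZ τ (F4.mul _ _) * _ * _ <;>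
    simp only [F4.mul, cY, cX, cZ, one_mul, mul_one, R.τ_zero]
  all_goals
    rw [key]
    simp only [R.x1_t, R.x2_t, R.x3_t]
    rw [mul_assoc, ← mul_assoc (τ _ _ _) (τ _ _ _), R.mul, mul_assoc]
    simp only [R.x1_sq, R.x2_sq, R.x3_sq, R.x12, R.x23, R.x31, R.x21, R.x32, R.x13, mul_one]
    first
      | (rw [mul_left_inj, R.τ_eq]; omega)
      | (rw [R.τ_eq]; omega)

theorem cZ_cZ (R : RelQ T P τ x1 x2 x3) (a b : F4) : cZ τ a * cZ τ b = cZ τ b * cZ τ a := by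
  rw [← cZ_add R, add_comm, cZ_add R]

/-- the element `y(b) x(a) z(c)` -/
def cF (τ : ℤ → ℤ → ℤ → G) (x1 x2 x3 : G) (a b c : F4) : G := cY τ x1 x2 x3 b * cX x1 x2 x3 a * cZ τ c

theorem cF_mul (R : RelQ T P τ x1 x2 x3) (a b c a' b' c' : F4) :
    cF τ x1 x2 x3 a b c * cF τ x1 x2 x3 a' b' c' = cF τ x1 x2 x3 (a + a') (b + b') (c + c' + a * b') := by
  unfold cF
  rw [cX_add R, cY_add R, cZ_add R, cZ_add R]
  have h1 := cXY R a b'
  have h2 := cZ_cX R
  have h3 := cZ_cY R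
  have h4 := cZ_cZ R
  set X := cX x1 x2 x3
  set Y := cY τ x1 x2 x3
  set Z := cZ τ
  calc Y b * X a * Z c * (Y b' * X a' * Z c') = Y b * X a * (Z c * Y b') * X a' * Z c' := by group
    _ = Y b * (X a * Y b') * (Z c * X a') * Z c' := by rw [h3]; group
    _ = Y b * (Z (a * b') * Y b' * X a) * (X a' * Z c) * Z c' := by rw [h1, h2 c a']
    _ = Y b * (Z (a * b') * Y b') * X a * X a' * Z c * Z c' := by group
    _ = Y b * Y b' * (Z (a * b') * X a) * X a' * Z c * Z c' := by rw [h3]; group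
    _ = Y b * Y b' * X a * (Z (a * b') * X a') * Z c * Z c' := by rw [h2 (a * b') a]; group
    _ = Y b * Y b' * (X a * X a') * (Z (a * b') * (Z c * Z c')) := by rw [h2 (a * b') a']; group
    _ = Y b * Y b' * (X a * X a') * (Z c * Z c' * Z (a * b')) := by rw [← mul_assoc (Z (a * b')), h4 (a * b') c, mul_assoc (Z c), h4 (a * b') c', mul_assoc (Z c)]

theorem cF_one (R : RelQ T P τ x1 x2 x3) {a b c : F4} (h : cF τ x1 x2 x3 a b c = 1) : a = 0 ∧ b = 0 ∧ c = 0 := by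
  have e1 : ∀ (p q r p' q' r' : ℤ) (x y : G), τ p q r * x * y * τ p' q' r' = 1 →
      x * y = τ (-p - p') (-q - q') (-r - r') := by
    intro p q r p' q' r' x y h
    have : x * y = (τ p q r)⁻¹ * (τ p' q' r')⁻¹ := by
      have h5 : τ p q r * x * y * τ p' q' r' = τ p q r * (x * y) * τ p' q' r' := by group
      rw [h5, mul_eq_one_iff_eq_inv] at h
      exact eq_inv_mul_iff_mul_eq.2 h
    rw [this, R.τ_inv, R.τ_inv, R.mul]
    congr 1 <;> ring
  have e2 : ∀ (p' q' r' : ℤ) (y : G), y * τ p' q' r' = 1 → y = τ (-p') (-q') (-r') := by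
    intro p' q' r' y h
    rw [mul_eq_one_iff_eq_inv, R.τ_inv] at h
    exact h
  have e3 : ∀ (p q r p' q' r' : ℤ) (x : G), τ p q r * x * τ p' q' r' = 1 →
      x = τ (-p - p') (-q - q') (-r - r') := by
    intro p q r p' q' r' x h
    have h6 := e1 p q r p' q' r' x 1 (by rw [mul_one]; exact h)
    rwa [mul_one] at h6
  have n1 : ∀ p q r, x1 ≠ τ p q r := fun p q r h => R.x1_notMem 0 0 0 (by
    rw [R.τ_zero, one_mul, h]; exact R.τ_mem _ _ _)
  have n2 : ∀ p q r, x2 ≠ τ p q r := fun p q r h => R.x2_notMem 0 0 0 (by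
    rw [R.τ_zero, one_mul, h]; exact R.τ_mem _ _ _)
  have n3 : ∀ p q r, x3 ≠ τ p q r := fun p q r h => R.x3_notMem 0 0 0 (by
    rw [R.τ_zero, one_mul, h]; exact R.τ_mem _ _ _)
  unfold cF at h
  cases a <;> cases b <;> simp only [cX, cY, one_mul, mul_one] at h <;>
    cases c <;> simp only [cZ] at h
  map_tacs [exact ⟨rfl, rfl, rfl⟩; (exfalso; rw [R.one] at h; omega); (exfalso; rw [R.one] at h; omega); (exfalso; rw [R.one] at h; omega);
   (exfalso; exact n3 _ _ _ (e3 _ _ _ _ _ _ _ h)); (exfalso; exact n3 _ _ _ (e3 _ _ _ _ _ _ _ h)); (exfalso; exact n3 _ _ _ (e3 _ _ _ _ _ _ _ h));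
   (exfalso; exact n3 _ _ _ (e3 _ _ _ _ _ _ _ h)); (exfalso; exact n1 _ _ _ (e3 _ _ _ _ _ _ _ h)); (exfalso; exact n1 _ _ _ (e3 _ _ _ _ _ _ _ h));
   (exfalso; exact n1 _ _ _ (e3 _ _ _ _ _ _ _ h)); (exfalso; exact n1 _ _ _ (e3 _ _ _ _ _ _ _ h)); (exfalso; exact n2 _ _ _ (e3 _ _ _ _ _ _ _ h));
   (exfalso; exact n2 _ _ _ (e3 _ _ _ _ _ _ _ h)); (exfalso; exact n2 _ _ _ (e3 _ _ _ _ _ _ _ h)); (exfalso; exact n2 _ _ _ (e3 _ _ _ _ _ _ _ h));
   (exfalso; exact n3 _ _ _ (e2 _ _ _ _ h)); (exfalso; exact n3 _ _ _ (e2 _ _ _ _ h)); (exfalso; exact n3 _ _ _ (e2 _ _ _ _ h));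
   (exfalso; exact n3 _ _ _ (e2 _ _ _ _ h));
   (
      (exfalso
       have h7 := e1 _ _ _ _ _ _ _ _ h
       simp only [R.x1_sq, R.x2_sq, R.x3_sq, R.x12, R.x23, R.x31, R.x21, R.x32, R.x13] at h7
       ((rw [eq_comm, R.one] at h7; (clear * - h7; omega)))));
   (
      (exfalso
       have h7 := e1 _ _ _ _ _ _ _ _ h
       simp only [R.x1_sq, R.x2_sq, R.x3_sq, R.x12, R.x23, R.x31, R.x21, R.x32, R.x13] at h7
       ((rw [eq_comm, R.one] at h7; (clear * - h7; omega)))));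
   (
      (exfalso
       have h7 := e1 _ _ _ _ _ _ _ _ h
       simp only [R.x1_sq, R.x2_sq, R.x3_sq, R.x12, R.x23, R.x31, R.x21, R.x32, R.x13] at h7
       ((rw [eq_comm, R.one] at h7; (clear * - h7; omega)))));
   (
      (exfalso
       have h7 := e1 _ _ _ _ _ _ _ _ h
       simp only [R.x1_sq, R.x2_sq, R.x3_sq, R.x12, R.x23, R.x31, R.x21, R.x32, R.x13] at h7
       ((rw [eq_comm, R.one] at h7; (clear * - h7; omega)))));
   (
      (exfalso
       have h7 := e1 _ _ _ _ _ _ _ _ h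
       simp only [R.x1_sq, R.x2_sq, R.x3_sq, R.x12, R.x23, R.x31, R.x21, R.x32, R.x13] at h7
       (exact n2 _ _ _ h7)));
   (
      (exfalso
       have h7 := e1 _ _ _ _ _ _ _ _ h
       simp only [R.x1_sq, R.x2_sq, R.x3_sq, R.x12, R.x23, R.x31, R.x21, R.x32, R.x13] at h7
       (exact n2 _ _ _ h7)));
   (
      (exfalso
       have h7 := e1 _ _ _ _ _ _ _ _ h
       simp only [R.x1_sq, R.x2_sq, R.x3_sq, R.x12, R.x23, R.x31, R.x21, R.x32, R.x13] at h7
       (exact n2 _ _ _ h7)));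
   (
      (exfalso
       have h7 := e1 _ _ _ _ _ _ _ _ h
       simp only [R.x1_sq, R.x2_sq, R.x3_sq, R.x12, R.x23, R.x31, R.x21, R.x32, R.x13] at h7
       (exact n2 _ _ _ h7)));
   (
      (exfalso
       have h7 := e1 _ _ _ _ _ _ _ _ h
       simp only [R.x1_sq, R.x2_sq, R.x3_sq, R.x12, R.x23, R.x31, R.x21, R.x32, R.x13] at h7
       (exact n1 _ _ _ h7)));
   (
      (exfalso
       have h7 := e1 _ _ _ _ _ _ _ _ h
       simp only [R.x1_sq, R.x2_sq, R.x3_sq, R.x12, R.x23, R.x31, R.x21, R.x32, R.x13] at h7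
       (exact n1 _ _ _ h7)));
   (
      (exfalso
       have h7 := e1 _ _ _ _ _ _ _ _ h
       simp only [R.x1_sq, R.x2_sq, R.x3_sq, R.x12, R.x23, R.x31, R.x21, R.x32, R.x13] at h7
       (exact n1 _ _ _ h7)));
   (
      (exfalso
       have h7 := e1 _ _ _ _ _ _ _ _ h
       simp only [R.x1_sq, R.x2_sq, R.x3_sq, R.x12, R.x23, R.x31, R.x21, R.x32, R.x13] at h7
       (exact n1 _ _ _ h7)));
   (exfalso; exact n1 _ _ _ (e2 _ _ _ _ h)); (exfalso; exact n1 _ _ _ (e2 _ _ _ _ h)); (exfalso; exact n1 _ _ _ (e2 _ _ _ _ h));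
   (exfalso; exact n1 _ _ _ (e2 _ _ _ _ h));
   (
      (exfalso
       have h7 := e1 _ _ _ _ _ _ _ _ h
       simp only [R.x1_sq, R.x2_sq, R.x3_sq, R.x12, R.x23, R.x31, R.x21, R.x32, R.x13] at h7
       (exact n2 _ _ _ h7)));
   (
      (exfalso
       have h7 := e1 _ _ _ _ _ _ _ _ h
       simp only [R.x1_sq, R.x2_sq, R.x3_sq, R.x12, R.x23, R.x31, R.x21, R.x32, R.x13] at h7
       (exact n2 _ _ _ h7)));
   (
      (exfalso
       have h7 := e1 _ _ _ _ _ _ _ _ h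
       simp only [R.x1_sq, R.x2_sq, R.x3_sq, R.x12, R.x23, R.x31, R.x21, R.x32, R.x13] at h7
       (exact n2 _ _ _ h7)));
   (
      (exfalso
       have h7 := e1 _ _ _ _ _ _ _ _ h
       simp only [R.x1_sq, R.x2_sq, R.x3_sq, R.x12, R.x23, R.x31, R.x21, R.x32, R.x13] at h7
       (exact n2 _ _ _ h7)));
   (
      (exfalso
       have h7 := e1 _ _ _ _ _ _ _ _ h
       simp only [R.x1_sq, R.x2_sq, R.x3_sq, R.x12, R.x23, R.x31, R.x21, R.x32, R.x13] at h7
       ((rw [eq_comm, R.one] at h7; (clear * - h7; omega)))));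
   (
      (exfalso
       have h7 := e1 _ _ _ _ _ _ _ _ h
       simp only [R.x1_sq, R.x2_sq, R.x3_sq, R.x12, R.x23, R.x31, R.x21, R.x32, R.x13] at h7
       ((rw [eq_comm, R.one] at h7; (clear * - h7; omega)))));
   (
      (exfalso
       have h7 := e1 _ _ _ _ _ _ _ _ h
       simp only [R.x1_sq, R.x2_sq, R.x3_sq, R.x12, R.x23, R.x31, R.x21, R.x32, R.x13] at h7
       ((rw [eq_comm, R.one] at h7; (clear * - h7; omega)))));
   (
      (exfalso
       have h7 := e1 _ _ _ _ _ _ _ _ h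
       simp only [R.x1_sq, R.x2_sq, R.x3_sq, R.x12, R.x23, R.x31, R.x21, R.x32, R.x13] at h7
       ((rw [eq_comm, R.one] at h7; (clear * - h7; omega)))));
   (
      (exfalso
       have h7 := e1 _ _ _ _ _ _ _ _ h
       simp only [R.x1_sq, R.x2_sq, R.x3_sq, R.x12, R.x23, R.x31, R.x21, R.x32, R.x13] at h7
       (exact n3 _ _ _ h7)));
   (
      (exfalso
       have h7 := e1 _ _ _ _ _ _ _ _ h
       simp only [R.x1_sq, R.x2_sq, R.x3_sq, R.x12, R.x23, R.x31, R.x21, R.x32, R.x13] at h7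
       (exact n3 _ _ _ h7)));
   (
      (exfalso
       have h7 := e1 _ _ _ _ _ _ _ _ h
       simp only [R.x1_sq, R.x2_sq, R.x3_sq, R.x12, R.x23, R.x31, R.x21, R.x32, R.x13] at h7
       (exact n3 _ _ _ h7)));
   (
      (exfalso
       have h7 := e1 _ _ _ _ _ _ _ _ h
       simp only [R.x1_sq, R.x2_sq, R.x3_sq, R.x12, R.x23, R.x31, R.x21, R.x32, R.x13] at h7
       (exact n3 _ _ _ h7)));
   (exfalso; exact n2 _ _ _ (e2 _ _ _ _ h)); (exfalso; exact n2 _ _ _ (e2 _ _ _ _ h)); (exfalso; exact n2 _ _ _ (e2 _ _ _ _ h));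
   (exfalso; exact n2 _ _ _ (e2 _ _ _ _ h));
   (
      (exfalso
       have h7 := e1 _ _ _ _ _ _ _ _ h
       simp only [R.x1_sq, R.x2_sq, R.x3_sq, R.x12, R.x23, R.x31, R.x21, R.x32, R.x13] at h7
       (exact n1 _ _ _ h7)));
   (
      (exfalso
       have h7 := e1 _ _ _ _ _ _ _ _ h
       simp only [R.x1_sq, R.x2_sq, R.x3_sq, R.x12, R.x23, R.x31, R.x21, R.x32, R.x13] at h7
       (exact n1 _ _ _ h7)));
   (
      (exfalso
       have h7 := e1 _ _ _ _ _ _ _ _ h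
       simp only [R.x1_sq, R.x2_sq, R.x3_sq, R.x12, R.x23, R.x31, R.x21, R.x32, R.x13] at h7
       (exact n1 _ _ _ h7)));
   (
      (exfalso
       have h7 := e1 _ _ _ _ _ _ _ _ h
       simp only [R.x1_sq, R.x2_sq, R.x3_sq, R.x12, R.x23, R.x31, R.x21, R.x32, R.x13] at h7
       (exact n1 _ _ _ h7)));
   (
      (exfalso
       have h7 := e1 _ _ _ _ _ _ _ _ h
       simp only [R.x1_sq, R.x2_sq, R.x3_sq, R.x12, R.x23, R.x31, R.x21, R.x32, R.x13] at h7
       (exact n3 _ _ _ h7)));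
   (
      (exfalso
       have h7 := e1 _ _ _ _ _ _ _ _ h
       simp only [R.x1_sq, R.x2_sq, R.x3_sq, R.x12, R.x23, R.x31, R.x21, R.x32, R.x13] at h7
       (exact n3 _ _ _ h7)));
   (
      (exfalso
       have h7 := e1 _ _ _ _ _ _ _ _ h
       simp only [R.x1_sq, R.x2_sq, R.x3_sq, R.x12, R.x23, R.x31, R.x21, R.x32, R.x13] at h7
       (exact n3 _ _ _ h7)));
   (
      (exfalso
       have h7 := e1 _ _ _ _ _ _ _ _ h
       simp only [R.x1_sq, R.x2_sq, R.x3_sq, R.x12, R.x23, R.x31, R.x21, R.x32, R.x13] at h7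
       (exact n3 _ _ _ h7)));
   (
      (exfalso
       have h7 := e1 _ _ _ _ _ _ _ _ h
       simp only [R.x1_sq, R.x2_sq, R.x3_sq, R.x12, R.x23, R.x31, R.x21, R.x32, R.x13] at h7
       ((rw [eq_comm, R.one] at h7; (clear * - h7; omega)))));
   (
      (exfalso
       have h7 := e1 _ _ _ _ _ _ _ _ h
       simp only [R.x1_sq, R.x2_sq, R.x3_sq, R.x12, R.x23, R.x31, R.x21, R.x32, R.x13] at h7
       ((rw [eq_comm, R.one] at h7; (clear * - h7; omega)))));
   (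
      (exfalso
       have h7 := e1 _ _ _ _ _ _ _ _ h
       simp only [R.x1_sq, R.x2_sq, R.x3_sq, R.x12, R.x23, R.x31, R.x21, R.x32, R.x13] at h7
       ((rw [eq_comm, R.one] at h7; (clear * - h7; omega)))));
   (
      (exfalso
       have h7 := e1 _ _ _ _ _ _ _ _ h
       simp only [R.x1_sq, R.x2_sq, R.x3_sq, R.x12, R.x23, R.x31, R.x21, R.x32, R.x13] at h7
       ((rw [eq_comm, R.one] at h7; (clear * - h7; omega)))))]

/-- every element of `P` is a `cF` -/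
theorem exists_cF (R : RelQ T P τ x1 x2 x3) {g : G} (hg : g ∈ P) : ∃ a b c, g = cF τ x1 x2 x3 a b c := by
  -- elements of `T`
  have hT : ∀ p q r : ℤ, ∃ a c, τ p q r = cF τ x1 x2 x3 a a c := by
    intro p q r
    have e0 : ∀ c, cF τ x1 x2 x3 .o .o c = cZ τ c := fun c => by simp only [cF, cX, cY, one_mul]
    have e1 : ∀ c, cF τ x1 x2 x3 .i .i c = τ 1 0 0 * cZ τ c := fun c => by
      simp only [cF, cX, cY]; rw [mul_assoc (τ 1 0 0), R.x3_sq, mul_one]
    have e2 : ∀ c, cF τ x1 x2 x3 .w .w c = τ 1 (-1) 0 * cZ τ c := fun c => by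
      simp only [cF, cX, cY]; rw [mul_assoc (τ _ _ _), R.x1_sq, mul_one]
    have e3 : ∀ c, cF τ x1 x2 x3 .v .v c = τ 1 0 (-1) * cZ τ c := fun c => by
      simp only [cF, cX, cY]; rw [mul_assoc (τ _ _ _), R.x2_sq, mul_one]
    have hcase : ∃ a c : F4, ∃ u v w u' v' w' : ℤ, cF τ x1 x2 x3 a a c = τ u v w * τ u' v' w' ∧
        4 ∣ (p - (u + u')) - (q - (v + v')) ∧ 4 ∣ (p - (u + u')) - (r - (w + w')) := by
      have hq : (q - p) % 4 = 0 ∨ (q - p) % 4 = 1 ∨ (q - p) % 4 = 2 ∨ (q - p) % 4 = 3 := by omega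
      have hr : (r - p) % 4 = 0 ∨ (r - p) % 4 = 1 ∨ (r - p) % 4 = 2 ∨ (r - p) % 4 = 3 := by omega
      rcases hq with hq | hq | hq | hq <;> rcases hr with hr | hr | hr | hr
      map_tacs [(exact ⟨.o, .o, 0, 0, 0, 0, 0, 0, by rw [e0, cZ, R.τ_zero, one_mul], by (clear * - hq; omega), by omega⟩);
       (exact ⟨.w, .i, 1, -1, 0, 2, 0, 0, by rw [e2, cZ], by omega, by omega⟩);
       (exact ⟨.o, .v, 0, 0, 0, 2, 2, 0, by rw [e0, cZ, R.τ_zero, one_mul], by (clear * - hq; omega), by omega⟩);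
       (exact ⟨.w, .w, 1, -1, 0, 2, 0, 2, by rw [e2, cZ], by omega, by omega⟩); (exact ⟨.v, .i, 1, 0, -1, 2, 0, 0, by rw [e3, cZ], by omega, by omega⟩);
       (exact ⟨.i, .i, 1, 0, 0, 2, 0, 0, by rw [e1, cZ], by (clear * - hq; omega), by omega⟩);
       (exact ⟨.v, .w, 1, 0, -1, 2, 0, 2, by rw [e3, cZ], by omega, by omega⟩);
       (exact ⟨.i, .w, 1, 0, 0, 2, 0, 2, by rw [e1, cZ], by (clear * - hq; omega), by omega⟩);
       (exact ⟨.o, .w, 0, 0, 0, 2, 0, 2, by rw [e0, cZ, R.τ_zero, one_mul], by (clear * - hq; omega), by omega⟩);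
       (exact ⟨.w, .v, 1, -1, 0, 2, 2, 0, by rw [e2, cZ], by omega, by omega⟩);
       (exact ⟨.o, .i, 0, 0, 0, 2, 0, 0, by rw [e0, cZ, R.τ_zero, one_mul], by (clear * - hq; omega), by omega⟩);
       (exact ⟨.w, .o, 1, -1, 0, 0, 0, 0, by rw [e2, cZ], by omega, by omega⟩); (exact ⟨.v, .v, 1, 0, -1, 2, 2, 0, by rw [e3, cZ], by omega, by omega⟩);
       (exact ⟨.i, .v, 1, 0, 0, 2, 2, 0, by rw [e1, cZ], by (clear * - hq; omega), by omega⟩);
       (exact ⟨.v, .o, 1, 0, -1, 0, 0, 0, by rw [e3, cZ], by omega, by omega⟩);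
       (exact ⟨.i, .o, 1, 0, 0, 0, 0, 0, by rw [e1, cZ], by (clear * - hq; omega), by omega⟩)]
    obtain ⟨a, c, u, v, w, u', v', w', h1, h2, h3⟩ := hcase
    refine ⟨a, c, ?_⟩
    rw [h1, R.mul, R.τ_eq]
    exact ⟨h2, h3⟩
  have hx : ∀ (a : F4) (p q r : ℤ), ∃ a' b' c', τ p q r * cX x1 x2 x3 a = cF τ x1 x2 x3 a' b' c' := by
    intro a p q r
    obtain ⟨a', c', h⟩ := hT p q r
    refine ⟨a' + a, a', c', ?_⟩
    have h1 : cX x1 x2 x3 a = cF τ x1 x2 x3 a 0 0 := by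
      unfold cF
      change _ = cY τ x1 x2 x3 .o * _ * cZ τ .o
      simp only [cY, cZ, one_mul]
      rw [R.τ_zero, mul_one]
    rw [h, h1, cF_mul R, add_zero, add_zero, mul_zero, add_zero]
  obtain ⟨p, q, r, h⟩ := (R.P_mem g).1 hg
  rcases h with h | h | h | h
  · obtain ⟨a, b, c, h'⟩ := hx .o p q r
    exact ⟨a, b, c, by rw [h, ← h', cX, mul_one]⟩
  · obtain ⟨a, b, c, h'⟩ := hx .w p q r
    exact ⟨a, b, c, by rw [h, ← h', cX]⟩
  · obtain ⟨a, b, c, h'⟩ := hx .v p q r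
    exact ⟨a, b, c, by rw [h, ← h', cX]⟩
  · obtain ⟨a, b, c, h'⟩ := hx .i p q r
    exact ⟨a, b, c, by rw [h, ← h', cX]⟩

theorem cX_mem (R : RelQ T P τ x1 x2 x3) (a : F4) : cX x1 x2 x3 a ∈ P := by
  cases a
  · exact one_mem _
  · exact R.x3_mem
  · exact R.x1_mem
  · exact R.x2_mem

theorem cY_mem (R : RelQ T P τ x1 x2 x3) (a : F4) : cY τ x1 x2 x3 a ∈ P := by
  cases a
  · exact one_mem _
  · exact mul_mem (R.T_le (R.τ_mem _ _ _)) R.x3_mem
  · exact mul_mem (R.T_le (R.τ_mem _ _ _)) R.x1_mem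
  · exact mul_mem (R.T_le (R.τ_mem _ _ _)) R.x2_mem

theorem cZ_mem (R : RelQ T P τ x1 x2 x3) (a : F4) : cZ τ a ∈ P := by
  cases a <;> exact R.T_le (R.τ_mem _ _ _)

theorem cF_mem (R : RelQ T P τ x1 x2 x3) (a b c : F4) : cF τ x1 x2 x3 a b c ∈ P :=
  mul_mem (mul_mem (cY_mem R _) (cX_mem R _)) (cZ_mem R _)

/-- a function of three coordinates with the multiplication of `UT₃(4)` gives the type `L₃(4)` -/
theorem isL3_of_mul {P : Subgroup G} (f : F4 → F4 → F4 → G)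
    (hmul : ∀ a b c a' b' c', f a b c * f a' b' c' = f (a + a') (b + b') (c + c' + a * b'))
    (hone : ∀ a b c, f a b c = 1 → a = 0 ∧ b = 0 ∧ c = 0) (hP : ∀ g, g ∈ P ↔ ∃ a b c, g = f a b c) :
    ∃ A B : Subgroup G, (∀ g, g ∈ A ↔ ∃ a c, g = f a 0 c) ∧ (∀ g, g ∈ B ↔ ∃ b c, g = f 0 b c) ∧
      (∀ g, g ∈ A ⊓ B ↔ ∃ c, g = f 0 0 c) ∧ IsL3 P A B 4 ∧
      LThreeCoord A B (fun a => f a 0 0) (fun b => f 0 b 0) (fun c => f 0 0 c) := by
  have hchar : CharP F4 2 := CharTwo.of_one_ne_zero_of_two_eq_zero one_ne_zero (by decide)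
  have h0 : f 0 0 0 = 1 := by
    have h := hmul 0 0 0 0 0 0
    rw [add_zero, mul_zero, add_zero] at h
    exact mul_eq_left.1 h
  let φ : UT 3 F4 →* G :=
    { toFun := fun g => f (N g 0 1) (N g 1 2) (N g 0 2)
      map_one' := by
        rw [N_one]
        exact h0
      map_mul' := by
        intro g h
        obtain ⟨a, b, c, rfl⟩ := exists_el g
        obtain ⟨a', b', c', rfl⟩ := exists_el h
        rw [el_mul, N_el, N_el, N_el]
        exact (hmul a b c a' b' c').symm }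
  have hφ : ∀ a b c, φ (el a b c) = f a b c := by
    intro a b c
    change f (N (el a b c) 0 1) (N (el a b c) 1 2) (N (el a b c) 0 2) = _
    rw [N_el]
    rfl
  have hker : ∀ x ∈ (⊤ : Subgroup (UT 3 F4)), φ x = 1 → x = 1 := by
    intro x _ hx
    obtain ⟨a, b, c, rfl⟩ := exists_el x
    rw [hφ] at hx
    obtain ⟨rfl, rfl, rfl⟩ := hone _ _ _ hx
    exact el_zero
  have hS : (⊤ : Subgroup (UT 3 F4)).map φ = P := by
    ext s
    rw [hP]
    constructor
    · rintro ⟨g, -, rfl⟩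
      obtain ⟨a, b, c, rfl⟩ := exists_el g
      exact ⟨a, b, c, hφ _ _ _⟩
    · rintro ⟨a, b, c, rfl⟩
      exact ⟨el a b c, mem_top _, hφ _ _ _⟩
  have h := (isL3_model (F := F4)).map φ hker
  rw [hS] at h
  have hA : ∀ g, g ∈ (A0 F4).map φ ↔ ∃ a c, g = f a 0 c := by
    intro g
    constructor
    · rintro ⟨_, ⟨a, c, rfl⟩, rfl⟩
      exact ⟨a, c, hφ _ _ _⟩
    · rintro ⟨a, c, rfl⟩
      exact ⟨el a 0 c, ⟨a, c, rfl⟩, hφ _ _ _⟩
  have hB : ∀ g, g ∈ (B0 F4).map φ ↔ ∃ a c, g = f 0 a c := by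
    intro g
    constructor
    · rintro ⟨_, ⟨a, c, rfl⟩, rfl⟩
      exact ⟨a, c, hφ _ _ _⟩
    · rintro ⟨a, c, rfl⟩
      exact ⟨el 0 a c, ⟨a, c, rfl⟩, hφ _ _ _⟩
  have hinj : ∀ {a b c a' b' c' : F4}, f a b c = f a' b' c' → a = a' ∧ b = b' ∧ c = c' := by
    intro a b c a' b' c' h1
    rw [← hφ, ← hφ] at h1
    have h2 : el a b c = el a' b' c' := by
      have h3 : φ (el a b c * (el a' b' c')⁻¹) = 1 := by rw [map_mul, map_inv, h1, mul_inv_cancel]
      exact mul_inv_eq_one.1 (hker _ (mem_top _) h3)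
    exact el_inj.1 h2
  refine ⟨_, _, hA, hB, ?_, h, ?_⟩
  · intro g
    rw [mem_inf, hA, hB]
    constructor
    · rintro ⟨⟨a, c, rfl⟩, ⟨b, d, h1⟩⟩
      obtain ⟨rfl, -, -⟩ := hinj h1
      exact ⟨c, rfl⟩
    · rintro ⟨c, rfl⟩
      exact ⟨⟨0, c, rfl⟩, ⟨0, c, rfl⟩⟩
  · refine ⟨?_, ?_, ?_, ?_, ?_, ?_⟩
    · intro a b
      rw [hmul]
      simp
    · intro a b
      rw [hmul]
      simp
    · intro a b
      rw [hmul]
      simp
    · intro g
      rw [hA]
      constructor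
      · rintro ⟨a, c, rfl⟩
        exact ⟨a, c, by rw [hmul]; simp⟩
      · rintro ⟨a, c, rfl⟩
        exact ⟨a, c, by rw [hmul]; simp⟩
    · intro g
      rw [hB]
      constructor
      · rintro ⟨a, c, rfl⟩
        exact ⟨a, c, by rw [hmul]; simp⟩
      · rintro ⟨a, c, rfl⟩
        exact ⟨a, c, by rw [hmul]; simp⟩
    · intro a b
      have hinv : ∀ a b c, (f a b c)⁻¹ = f (-a) (-b) (-c + a * b) := by
        intro a b c
        rw [inv_eq_iff_mul_eq_one, hmul, ← h0]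
        congr 1 <;> ring
      rw [hinv, hinv, hmul, hmul, hmul]
      congr 1 <;> ring

end coord

end Cfsg.Agent.ONType.Cz
end

-- part: ONType/CzConj
section
/-!
# Fusion of an element of `A ∖ Z` into `Z` is achieved in `N(A)`
-/

set_option autoImplicit false

namespace Cfsg.Agent.ONType.Cz

open Subgroup Cfsg.Agent.TypeL3 Cfsg.Agent.TypeL3.Local Cfsg.Agent.Lib.FieldFour Cfsg.Agent.Lib.GoldschmidtFusion

universe u

variable {Q : Type u} [Group Q] [Finite Q] {S : Sylow 2 Q} {A B : Subgroup Q} {q : ℕ}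

theorem exists_normalizer (h : IsL3 (S : Subgroup Q) A B q) {a z g : Q} (ha : a ∈ A) (hz : z ∈ A ⊓ B)
    (hg : g * a * g⁻¹ = z) : ∃ n ∈ normalizer (A : Set Q), n * a * n⁻¹ = z := by
  set C := centralizer ({z} : Set Q) with hC
  have hSC : (S : Subgroup Q) ≤ C := by
    intro s hs
    rw [hC, mem_centralizer_singleton_iff]
    exact (h.comm_Z hz hs).symm
  have hAC : A.map (MulAut.conj g).toMonoidHom ≤ C := by
    rintro _ ⟨b, hb, rfl⟩
    rw [hC, mem_centralizer_singleton_iff]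
    change g * b * g⁻¹ * z = z * (g * b * g⁻¹)
    rw [← hg]
    have := h.A_comm b hb a ha
    calc g * b * g⁻¹ * (g * a * g⁻¹) = g * (b * a) * g⁻¹ := by group
      _ = g * (a * b) * g⁻¹ := by rw [this]
      _ = _ := by group
  have hA2 : IsPGroup 2 A := S.isPGroup'.to_le h.A_le
  obtain ⟨c, hc, hle⟩ := exists_conj_le_in (p := 2) S.isPGroup' (sylow_not_dvd_relIndex S hSC) hAC (hA2.map _)
  rw [map_conj_map_conj] at hle
  have hsq : ∀ e ∈ A.map (MulAut.conj (c * g)).toMonoidHom, e * e = 1 := by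
    rintro _ ⟨b, hb, rfl⟩
    change c * g * b * (c * g)⁻¹ * (c * g * b * (c * g)⁻¹) = 1
    calc c * g * b * (c * g)⁻¹ * (c * g * b * (c * g)⁻¹) = c * g * (b * b) * (c * g)⁻¹ := by group
      _ = 1 := by rw [h.A_sq b hb]; group
  have hcz : c * z * c⁻¹ = z := by
    rw [hC, mem_centralizer_singleton_iff] at hc
    rw [hc, mul_inv_cancel_right]
  have hconj : c * g * a * (c * g)⁻¹ = z := by
    rw [show c * g * a * (c * g)⁻¹ = c * (g * a * g⁻¹) * c⁻¹ by group, hg, hcz]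
  rcases h.le_or_le hle hsq with h1 | h1
  · refine ⟨c * g, ?_, hconj⟩
    rw [mem_normalizer_iff_map_conj]
    exact Subgroup.eq_of_le_of_card_ge h1 (by rw [card_map_conj])
  · exfalso
    obtain ⟨b, hb, hb'⟩ := h.not_conj (c * g)
    exact hb' (h1 ⟨b, hb, rfl⟩)

theorem not_normalizer_le (h : IsL3 (S : Subgroup Q) A B q) {a z g : Q} (ha : a ∈ A) (haB : a ∉ B)
    (hz : z ∈ A ⊓ B) (hg : g * a * g⁻¹ = z) :
    ¬ normalizer (A : Set Q) ≤ normalizer ((A ⊓ B : Subgroup Q) : Set Q) := by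
  intro hle
  obtain ⟨n, hn, hnz⟩ := exists_normalizer h ha hz hg
  have h1 := inv_mem (hle hn)
  have h2 := conj_mem_of_mem_normalizer h1 hz
  rw [← hnz, inv_inv, show n⁻¹ * (n * a * n⁻¹) * n = a by group] at h2
  exact haB (mem_inf.1 h2).2

theorem not_normalizer_le' (h : IsL3 (S : Subgroup Q) A B q) {b z g : Q} (hb : b ∈ B) (hbA : b ∉ A)
    (hz : z ∈ A ⊓ B) (hg : g * b * g⁻¹ = z) :
    ¬ normalizer (B : Set Q) ≤ normalizer ((A ⊓ B : Subgroup Q) : Set Q) := by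
  rw [inf_comm] at hz ⊢
  exact not_normalizer_le h.symm hb hbA hz hg

variable {T : Subgroup Q} {τ : ℤ → ℤ → ℤ → Q} {x1 x2 x3 : Q}

/-- the subgroups `A`, `B` of a Sylow 2-subgroup with the relations `RelQ` -/
theorem exists_AB {P : Subgroup Q} (R : RelQ T P τ x1 x2 x3) : ∃ A B : Subgroup Q,
    (∀ g, g ∈ A ↔ ∃ a c, g = cX x1 x2 x3 a * cZ τ c) ∧ (∀ g, g ∈ B ↔ ∃ b c, g = cY τ x1 x2 x3 b * cZ τ c) ∧
      (∀ g, g ∈ A ⊓ B ↔ ∃ c, g = cZ τ c) ∧ IsL3 P A B 4 ∧
      ∃ x y z : F4 → Q, LThreeCoord A B x y z := by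
  have e0 : cZ τ 0 = 1 := R.τ_zero
  have hA : ∀ a c, cF τ x1 x2 x3 a 0 c = cX x1 x2 x3 a * cZ τ c := by
    intro a c
    unfold cF
    change cY τ x1 x2 x3 .o * _ * _ = _
    rw [cY, one_mul]
  have hB : ∀ b c, cF τ x1 x2 x3 0 b c = cY τ x1 x2 x3 b * cZ τ c := by
    intro b c
    unfold cF
    change _ * cX x1 x2 x3 .o * _ = _
    rw [cX, mul_one]
  have hZ : ∀ c, cF τ x1 x2 x3 0 0 c = cZ τ c := by
    intro c
    rw [hA]
    change cX x1 x2 x3 .o * _ = _
    rw [cX, one_mul]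
  obtain ⟨A, B, h1, h2, h3, h4, h5⟩ := isL3_of_mul (P := P) (cF τ x1 x2 x3) (cF_mul R)
    (fun a b c => cF_one R) (fun g => ⟨exists_cF R, fun ⟨a, b, c, h⟩ => h ▸ cF_mem R a b c⟩)
  refine ⟨A, B, ?_, ?_, ?_, h4, _, _, _, h5⟩
  · intro g
    rw [h1]
    simp only [hA]
  · intro g
    rw [h2]
    simp only [hB]
  · intro g
    rw [h3]
    simp only [hZ]

end Cfsg.Agent.ONType.Cz
end

-- part: ONType/CzX
section
/-!
# `Y = C_X(v)` and `Q = Y/⟨v⟩`
-/

set_option autoImplicit false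

namespace Cfsg.Agent.ONType.Cz

open Subgroup Cfsg.Agent.TypeL3 Cfsg.Agent.TypeL3.Local Cfsg.Agent.Lib.FieldFour Cfsg.Agent.Lib.GoldschmidtFusion

universe u

namespace XIn

variable {X : Type u} [Group X] [Finite X] {T : Subgroup X} {S : Sylow 2 X} {τ : ℤ → ℤ → ℤ → X}
  {x1 x2 x3 s ξ h : X}

theorem s_v (D : XIn T S τ x1 x2 x3 s ξ h) : s * τ 1 1 1 * s⁻¹ = (τ 1 1 1)⁻¹ := by
  rw [D.rel.s_t, mul_inv_cancel_right, D.rel.v_inv]

theorem v_ne (D : XIn T S τ x1 x2 x3 s ξ h) : (τ 1 1 1)⁻¹ ≠ τ 1 1 1 := by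
  rw [D.rel.v_inv, Ne, D.rel.τ_eq]
  omega

theorem normal (D : XIn T S τ x1 x2 x3 s ξ h) : (centralizer ({τ 1 1 1} : Set X)).Normal := by
  refine ⟨fun n hn g => ?_⟩
  rw [mem_centralizer_singleton_iff] at hn ⊢
  have h1 : n * (g⁻¹ * τ 1 1 1 * g) = (g⁻¹ * τ 1 1 1 * g) * n := by
    have h2 := D.vn g⁻¹
    rw [inv_inv, ← D.rel.v_inv] at h2
    rcases h2 with h2 | h2
    · rw [h2, hn]
    · rw [h2]
      exact (Commute.inv_right hn).eq
  calc g * n * g⁻¹ * τ 1 1 1 = g * (n * (g⁻¹ * τ 1 1 1 * g)) * g⁻¹ := by group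
    _ = τ 1 1 1 * (g * n * g⁻¹) := by rw [h1]; group

theorem s_notMem (D : XIn T S τ x1 x2 x3 s ξ h) : s ∉ centralizer ({τ 1 1 1} : Set X) := by
  intro h1
  rw [mem_centralizer_singleton_iff] at h1
  have h2 := D.s_v
  rw [h1, mul_inv_cancel_right] at h2
  exact D.v_ne h2.symm

theorem mem_or (D : XIn T S τ x1 x2 x3 s ξ h) (g : X) :
    g ∈ centralizer ({τ 1 1 1} : Set X) ∨ (g * τ 1 1 1 * g⁻¹ = (τ 1 1 1)⁻¹ ∧ s * g ∈ centralizer ({τ 1 1 1} : Set X)) := by
  rcases D.vn g with h1 | h1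
  · left
    rw [mem_centralizer_singleton_iff, ← mul_inv_eq_iff_eq_mul]
    exact h1
  · right
    rw [← D.rel.v_inv] at h1
    refine ⟨h1, ?_⟩
    rw [mem_centralizer_singleton_iff, ← mul_inv_eq_iff_eq_mul,
      show s * g * τ 1 1 1 * (s * g)⁻¹ = s * (g * τ 1 1 1 * g⁻¹) * s⁻¹ by group, h1]
    have := congrArg (·⁻¹) D.s_v
    simpa only [mul_assoc, _root_.mul_inv_rev, _root_.inv_inv] using this

theorem index (D : XIn T S τ x1 x2 x3 s ξ h) : (centralizer ({τ 1 1 1} : Set X)).index = 2 := by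
  rw [Subgroup.index_eq_two_iff]
  refine ⟨s, fun b => ?_⟩
  have hn := D.normal
  by_cases hb : b ∈ centralizer ({τ 1 1 1} : Set X)
  · refine Or.inr ⟨hb, fun h1 => D.s_notMem ?_⟩
    have := mul_mem (inv_mem hb) h1
    rwa [inv_mul_cancel_left] at this
  · refine Or.inl ⟨?_, hb⟩
    rcases D.mem_or b with h1 | ⟨-, h1⟩
    · exact absurd h1 hb
    · have h2 := hn.conj_mem _ h1 s
      rw [D.rel.s_inv, ← mul_assoc, D.rel.s_sq, one_mul] at h2
      exact h2

theorem xi_mem (D : XIn T S τ x1 x2 x3 s ξ h) : ξ ∈ centralizer ({τ 1 1 1} : Set X) := by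
  rw [mem_centralizer_singleton_iff, D.xi.ct, mul_left_inj, D.rel.τ_eq]
  omega

/-- an element of `C_X(v)` moving `x3` to `w` -/
theorem exists_h (D : XIn T S τ x1 x2 x3 s ξ h) :
    ∃ k ∈ centralizer ({τ 1 1 1} : Set X), k * x3 * k⁻¹ = τ 2 0 0 := by
  rcases D.mem_or h with h1 | ⟨-, h1⟩
  · exact ⟨h, h1, D.hx⟩
  · refine ⟨s * h, h1, ?_⟩
    rw [show s * h * x3 * (s * h)⁻¹ = s * (h * x3 * h⁻¹) * s⁻¹ by group, D.hx, D.rel.s_t, mul_inv_cancel_right,
      D.rel.τ_eq]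
    omega

/-- an element of `C_X(v)` moving `τ 1 0 0 * x3` to `w` -/
theorem exists_h' (D : XIn T S τ x1 x2 x3 s ξ h) :
    ∃ k ∈ centralizer ({τ 1 1 1} : Set X), k * (τ 1 0 0 * x3) * k⁻¹ = τ 2 0 0 := by
  obtain ⟨k, hk, hkx⟩ := D.exists_h
  have hn := D.normal
  refine ⟨s * k * s⁻¹, hn.conj_mem k hk s, ?_⟩
  have h1 : s⁻¹ * (τ 1 0 0 * x3) * s = x3 := by
    have h2 := D.rel.s_x3
    rw [show s⁻¹ * (τ 1 0 0 * x3) * s = s⁻¹ * (τ 1 0 0 * x3 * s) by group, ← h2, inv_mul_cancel_left]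
  rw [show s * k * s⁻¹ * (τ 1 0 0 * x3) * (s * k * s⁻¹)⁻¹ = s * (k * (s⁻¹ * (τ 1 0 0 * x3) * s) * k⁻¹) * s⁻¹ by group,
    h1, hkx, D.rel.s_t, mul_inv_cancel_right, D.rel.τ_eq]
  omega

theorem P_xi (D : XIn T S τ x1 x2 x3 s ξ h) : ξ ∈ normalizer
    (((S : Subgroup X) ⊓ centralizer ({τ 1 1 1} : Set X) : Subgroup X) : Set X) := by
  have R := D.rel
  rw [mem_normalizer_iff_map_conj]
  refine Subgroup.eq_of_le_of_card_ge ?_ (by rw [card_map_conj])
  rintro _ ⟨y, hy, rfl⟩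
  change ξ * y * ξ⁻¹ ∈ _
  have hyy := (R.mem_P y).1 hy
  rw [R.mem_P]
  obtain ⟨a, b, c, h1⟩ := hyy
  refine ⟨a, -a - b - c, b, ?_⟩
  rcases h1 with rfl | rfl | rfl | rfl
  · left
    rw [D.xi.ct, mul_inv_cancel_right]
  · right; right; left
    rw [← mul_assoc, D.xi.ct, ← D.xi.c1]
    group
  · right; right; right
    rw [← mul_assoc, D.xi.ct, ← D.xi.c2]
    group
  · right; left
    rw [← mul_assoc, D.xi.ct, ← D.xi.c3]
    group

/-- `ξ ^ 3` centralises `P` -/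
theorem xi_three (D : XIn T S τ x1 x2 x3 s ξ h) {g : X}
    (hg : g ∈ (S : Subgroup X) ⊓ centralizer ({τ 1 1 1} : Set X)) : ξ * ξ * ξ * g = g * (ξ * ξ * ξ) := by
  have R := D.rel
  have ht : ∀ a b c, ξ * ξ * ξ * τ a b c = τ a b c * (ξ * ξ * ξ) := by
    intro a b c
    rw [show ξ * ξ * ξ * τ a b c = ξ * (ξ * (ξ * τ a b c)) by group, D.xi.ct,
      show ξ * (ξ * (τ a (-a - b - c) b * ξ)) = ξ * (ξ * τ a (-a - b - c) b) * ξ by group, D.xi.ct, ← mul_assoc ξ, D.xi.ct]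
    rw [show τ a b c * (ξ * ξ * ξ) = τ a b c * ξ * ξ * ξ by group]
    congr 4 <;> ring
  have h1 : ξ * ξ * ξ * x1 = x1 * (ξ * ξ * ξ) := by
    rw [show ξ * ξ * ξ * x1 = ξ * (ξ * (ξ * x1 * ξ⁻¹) * ξ⁻¹) * ξ⁻¹ * (ξ * ξ * ξ) by group, D.xi.c1, D.xi.c2, D.xi.c3]
  have h2 : ξ * ξ * ξ * x2 = x2 * (ξ * ξ * ξ) := by
    rw [show ξ * ξ * ξ * x2 = ξ * (ξ * (ξ * x2 * ξ⁻¹) * ξ⁻¹) * ξ⁻¹ * (ξ * ξ * ξ) by group, D.xi.c2, D.xi.c3, D.xi.c1]
  have h3 : ξ * ξ * ξ * x3 = x3 * (ξ * ξ * ξ) := by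
    rw [show ξ * ξ * ξ * x3 = ξ * (ξ * (ξ * x3 * ξ⁻¹) * ξ⁻¹) * ξ⁻¹ * (ξ * ξ * ξ) by group, D.xi.c3, D.xi.c1, D.xi.c2]
  obtain ⟨a, b, c, h⟩ := (R.mem_P g).1 hg
  rcases h with rfl | rfl | rfl | rfl
  · exact ht _ _ _
  · rw [← mul_assoc, ht, mul_assoc, h1, ← mul_assoc]
  · rw [← mul_assoc, ht, mul_assoc, h2, ← mul_assoc]
  · rw [← mul_assoc, ht, mul_assoc, h3, ← mul_assoc]

/-- the Sylow 2-subgroup `P` of `Y` -/
theorem exists_sylow (D : XIn T S τ x1 x2 x3 s ξ h) : ∃ P : Sylow 2 (centralizer ({τ 1 1 1} : Set X)),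
    (P : Subgroup (centralizer ({τ 1 1 1} : Set X))) =
      ((S : Subgroup X) ⊓ centralizer ({τ 1 1 1} : Set X)).subgroupOf (centralizer ({τ 1 1 1} : Set X)) := by
  have hn := D.normal
  obtain ⟨P, hP⟩ := Cfsg.Agent.S0542.result 2 (centralizer ({τ 1 1 1} : Set X)) hn.isSubnormal S
  exact ⟨P, by rw [hP, Subgroup.inf_subgroupOf_right]⟩

end XIn

end Cfsg.Agent.ONType.Cz
end

-- part: ONType/CzY
section
/-!
# The quotient `Q = Y/⟨v⟩`
-/

set_option autoImplicit false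

namespace Cfsg.Agent.ONType.Cz

open Subgroup Cfsg.Agent.TypeL3 Cfsg.Agent.TypeL3.Local Cfsg.Agent.Lib.FieldFour Cfsg.Agent.Lib.GoldschmidtFusion

universe u

/-- `Q` with all its data; the hypotheses of `CzSimple.main` -/
structure QIn {Q : Type u} [Group Q] [Finite Q] (T : Subgroup Q) (P : Sylow 2 Q) (τ : ℤ → ℤ → ℤ → Q)
    (x1 x2 x3 ξ : Q) : Prop where
  rel : RelQ T (P : Subgroup Q) τ x1 x2 x3
  core : Cfsg.oddCore Q = ⊥
  hx : ∃ k : Q, k * x3 * k⁻¹ = τ 2 0 0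
  hy : ∃ k : Q, k * (τ 1 0 0 * x3) * k⁻¹ = τ 2 0 0
  xi : ξ ∈ normalizer ((P : Subgroup Q) : Set Q)
  xi3 : ∀ g ∈ (P : Subgroup Q), ξ * ξ * ξ * g = g * (ξ * ξ * ξ)
  xio : Odd (orderOf ξ)
  az : ∀ n ∈ normalizer ((P : Subgroup Q) : Set Q), ∃ c g, ∃ i : ℕ, (∀ t ∈ T, c * t = t * c) ∧
    g ∈ (P : Subgroup Q) ∧ n = c * g * ξ ^ i

/-- a homomorphism `Y → Q` with kernel `⟨v⟩` -/
theorem XIn.toQ {X : Type u} [Group X] [Finite X] {T : Subgroup X} {S : Sylow 2 X} {τ : ℤ → ℤ → ℤ → X}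
    {x1 x2 x3 s ξ h : X} (D : XIn T S τ x1 x2 x3 s ξ h) {Q : Type u} [Group Q] [Finite Q] {Y : Subgroup X}
    (hY : Y = centralizer ({τ 1 1 1} : Set X)) (p : Y →* Q) (hp : Function.Surjective p)
    (hker : ∀ y : Y, p y = 1 ↔ (y : X) ∈ zpowers (τ 1 1 1))
    (P : Sylow 2 Y) (hP : (P : Subgroup Y) = ((S : Subgroup X) ⊓ Y).subgroupOf Y)
    (t : ℤ → ℤ → ℤ → Y) (ht : ∀ a b c, (t a b c : X) = τ a b c)
    (y1 y2 y3 η : Y) (h1 : (y1 : X) = x1) (h2 : (y2 : X) = x2) (h3 : (y3 : X) = x3)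
    (hη : (η : X) = ξ) :
    QIn ((T.subgroupOf Y).map p) (P.mapSurjective hp) (fun a b c => p (t a b c))
      (p y1) (p y2) (p y3) (p η) := by
  have R := D.rel
  have hPc : ((P.mapSurjective hp : Sylow 2 Q) : Subgroup Q) = (P : Subgroup Y).map p := by rw [Sylow.coe_mapSurjective]
  have hmP : ∀ g, g ∈ (S : Subgroup X) ⊓ Y ↔ ∃ a b c, g = τ a b c ∨ g = τ a b c * x1 ∨ g = τ a b c * x2 ∨
      g = τ a b c * x3 := by
    intro g
    rw [hY]
    exact R.mem_P g
  have hDn : Y.Normal := hY ▸ D.normal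
  -- elements of `⟨v⟩`
  have hv : ∀ k : ℤ, τ 1 1 1 ^ k = τ k k k := by
    intro k
    induction k using Int.induction_on with
    | zero => rw [zpow_zero, R.τ_zero]
    | succ i ih => rw [zpow_add, ih, zpow_one, R.mul]
    | pred i ih => rw [zpow_sub, ih, zpow_one, R.τ_inv, R.mul, sub_eq_add_neg]
  have hvm : ∀ a b c, τ a b c ∈ zpowers (τ 1 1 1) ↔ 4 ∣ a - b ∧ 4 ∣ a - c := by
    intro a b c
    rw [mem_zpowers_iff]
    constructor
    · rintro ⟨k, hk⟩
      rw [hv, R.τ_eq] at hk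
      omega
    · intro h4
      refine ⟨a, ?_⟩
      rw [hv, R.τ_eq]
      omega
  have hvc : (⟨τ 1 1 1, by rw [hY, mem_centralizer_singleton_iff]⟩ : Y) ∈ center Y := by
    rw [mem_center_iff]
    intro g
    have hg : (g : X) ∈ centralizer ({τ 1 1 1} : Set X) := hY ▸ g.2
    exact Subtype.ext (mem_centralizer_singleton_iff.1 hg)
  have hkz : p.ker = zpowers (⟨τ 1 1 1, by rw [hY, mem_centralizer_singleton_iff]⟩ : Y) := by
    ext y
    rw [MonoidHom.mem_ker, hker, mem_zpowers_iff, mem_zpowers_iff]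
    constructor
    · rintro ⟨k, hk⟩
      exact ⟨k, Subtype.ext (by simpa using hk)⟩
    · rintro ⟨k, hk⟩
      exact ⟨k, by rw [← hk]; simp⟩
  refine ⟨?_, ?_, ?_, ?_, ?_, ?_, ?_, ?_⟩
  · -- the relations
    rw [hPc, hP]
    have e : ∀ {a b : Y}, (a : X) = b → p a = p b := fun h => by rw [Subtype.ext h]
    refine ⟨?_, ?_, ?_, ?_, ?_, ?_, ?_, ?_, ?_, ?_, ?_, ?_, ?_⟩
    · intro a b c a' b' c'
      rw [← map_mul]
      exact e (by rw [coe_mul, ht, ht, ht, R.mul])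
    · intro a b c
      rw [hker, ht, hvm]
    · intro g
      constructor
      · rintro ⟨y, hy, rfl⟩
        obtain ⟨a, b, c, h4⟩ := (R.mem _).1 (mem_subgroupOf.1 hy)
        exact ⟨a, b, c, e (by rw [h4, ht])⟩
      · rintro ⟨a, b, c, rfl⟩
        exact ⟨t a b c, mem_subgroupOf.2 (by rw [ht]; exact R.τ_mem _ _ _), rfl⟩
    · rw [← map_mul, ← map_one p]
      exact e (by rw [coe_mul, h1, R.x1_sq, coe_one])
    · rw [← map_mul, ← map_one p]
      exact e (by rw [coe_mul, h2, R.x2_sq, coe_one])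
    · rw [← map_mul, ← map_one p]
      exact e (by rw [coe_mul, h3, R.x3_sq, coe_one])
    · rw [← map_mul]
      exact e (by rw [coe_mul, h1, h2, h3, R.x12])
    · rw [← map_mul]
      exact e (by rw [coe_mul, h2, h3, h1, R.x23])
    · rw [← map_mul]
      exact e (by rw [coe_mul, h3, h1, h2, R.x31])
    · intro a b c
      rw [← map_mul, ← map_mul]
      exact e (by rw [coe_mul, coe_mul, h1, ht, ht, R.x1_t])
    · intro a b c
      rw [← map_mul, ← map_mul]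
      exact e (by rw [coe_mul, coe_mul, h2, ht, ht, R.x2_t])
    · intro a b c
      rw [← map_mul, ← map_mul]
      exact e (by rw [coe_mul, coe_mul, h3, ht, ht, R.x3_t])
    · intro g
      constructor
      · rintro ⟨y, hy, rfl⟩
        obtain ⟨a, b, c, h4⟩ := (hmP _).1 (mem_subgroupOf.1 hy)
        refine ⟨a, b, c, ?_⟩
        rcases h4 with h4 | h4 | h4 | h4
        · exact Or.inl (e (by rw [h4, ht]))
        · refine Or.inr (Or.inl ?_)
          rw [← map_mul]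
          exact e (by rw [h4, coe_mul, ht, h1])
        · refine Or.inr (Or.inr (Or.inl ?_))
          rw [← map_mul]
          exact e (by rw [h4, coe_mul, ht, h2])
        · refine Or.inr (Or.inr (Or.inr ?_))
          rw [← map_mul]
          exact e (by rw [h4, coe_mul, ht, h3])
      · rintro ⟨a, b, c, h4⟩
        have key : ∀ y : Y, (y : X) ∈ (S : Subgroup X) ⊓ Y → g = p y → g ∈ (((S : Subgroup X) ⊓ Y).subgroupOf Y).map p :=
          fun y hy h5 => ⟨y, hy, h5.symm⟩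
        rcases h4 with h4 | h4 | h4 | h4
        · exact key _ ((hmP _).2 ⟨a, b, c, Or.inl (ht a b c)⟩) h4
        · rw [← map_mul] at h4
          exact key _ ((hmP _).2 ⟨a, b, c, Or.inr (Or.inl (by rw [coe_mul, ht, h1]))⟩) h4
        · rw [← map_mul] at h4
          exact key _ ((hmP _).2 ⟨a, b, c, Or.inr (Or.inr (Or.inl (by rw [coe_mul, ht, h2])))⟩) h4
        · rw [← map_mul] at h4
          exact key _ ((hmP _).2 ⟨a, b, c, Or.inr (Or.inr (Or.inr (by rw [coe_mul, ht, h3])))⟩) h4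
  · -- the core
    have hn := hDn
    have hYO : Cfsg.oddCore Y = ⊥ := by
      have h4 := Cfsg.Agent.Lib.Cores.map_subtype_pPrimeCore (G := X) 2 (N := Y) hn
      have h5 : (Cfsg.pPrimeCore 2 X) = ⊥ := D.core
      rw [h5, inf_bot_eq] at h4
      exact (Subgroup.map_eq_bot_iff_of_injective _ Y.subtype_injective).mp h4
    have hZc : p.ker ≤ center Y := by rw [hkz, zpowers_le]; exact hvc
    have hZ2 : IsPGroup 2 p.ker := by
      rw [hkz]
      refine S.isPGroup'.of_injective ((Subgroup.inclusion (H := zpowers (τ 1 1 1)) (K := (S : Subgroup X)) ?_).comp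
        ?_) ?_
      · rw [zpowers_le]; exact R.T_le (R.τ_mem _ _ _)
      · exact {
          toFun := fun y => ⟨((y : Y) : X), by
            obtain ⟨k, hk⟩ := mem_zpowers_iff.1 y.2
            exact mem_zpowers_iff.2 ⟨k, by rw [← hk]; simp⟩⟩
          map_one' := rfl
          map_mul' := fun a b => rfl }
      · intro a b hab
        have h4 := congrArg Subtype.val hab
        exact Subtype.ext (Subtype.ext h4)
    have h6 := oddCore_quotient_central hYO p.ker hZc hZ2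
    have h7 := Cfsg.Agent.Lib.Cores.map_equiv_pPrimeCore (QuotientGroup.quotientKerEquivOfSurjective p hp) 2
    have h8 : Cfsg.pPrimeCore 2 (Y ⧸ p.ker) = ⊥ := h6
    rw [h8, Subgroup.map_bot] at h7
    exact h7.symm
  · obtain ⟨k, hk, hkx⟩ := D.exists_h
    refine ⟨p ⟨k, hY ▸ hk⟩, ?_⟩
    rw [← map_inv, ← map_mul, ← map_mul]
    congr 1
    exact Subtype.ext (by simp only [coe_mul, coe_inv, ht, h3]; exact hkx)
  · obtain ⟨k, hk, hkx⟩ := D.exists_h'
    refine ⟨p ⟨k, hY ▸ hk⟩, ?_⟩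
    rw [← map_inv, ← map_mul, ← map_mul, ← map_mul]
    congr 1
    exact Subtype.ext (by simp only [coe_mul, coe_inv, ht, h3]; exact hkx)
  · -- `ξ` normalises `P`
    rw [hPc, mem_normalizer_iff_map_conj]
    refine Subgroup.eq_of_le_of_card_ge ?_ (by rw [card_map_conj])
    rintro _ ⟨_, ⟨y, hy, rfl⟩, rfl⟩
    change p η * p y * (p η)⁻¹ ∈ _
    rw [← map_inv, ← map_mul, ← map_mul]
    refine mem_map_of_mem p ?_
    change _ ∈ (P : Subgroup Y) at hy
    rw [hP, mem_subgroupOf] at hy ⊢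
    simp only [coe_mul, coe_inv, hη]
    have h4 := D.P_xi
    rw [← hY] at h4
    exact (mem_normalizer_iff.1 h4 _).1 hy
  · intro g hg
    rw [hPc] at hg
    obtain ⟨y, hy, rfl⟩ := hg
    change _ ∈ (P : Subgroup Y) at hy
    rw [hP, mem_subgroupOf] at hy
    rw [← map_mul, ← map_mul, ← map_mul, ← map_mul]
    congr 1
    exact Subtype.ext (by simp only [coe_mul, hη]; exact D.xi_three (by rw [← hY]; exact hy))
  · have h4 : orderOf η = orderOf ξ := by rw [← hη, orderOf_coe]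
    exact (h4 ▸ D.xio).of_dvd_nat (orderOf_map_dvd p η)
  · intro n hn
    obtain ⟨n, rfl⟩ := hp n
    -- `n` normalises `P`
    have hnP : (n : X) ∈ normalizer (((S : Subgroup X) ⊓ Y : Subgroup X) : Set X) := by
      rw [mem_normalizer_iff_map_conj]
      refine Subgroup.eq_of_le_of_card_ge ?_ (by rw [card_map_conj])
      rintro _ ⟨y, hy, rfl⟩
      change (n : X) * y * (n : X)⁻¹ ∈ _
      have hyY : y ∈ Y := (mem_inf.1 hy).2
      have h4 : p ⟨y, hyY⟩ ∈ ((P.mapSurjective hp : Sylow 2 Q) : Subgroup Q) := by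
        rw [hPc]
        refine mem_map_of_mem p ?_
        change _ ∈ (P : Subgroup Y)
        rw [hP, mem_subgroupOf]
        exact hy
      have h5 := (mem_normalizer_iff.1 hn _).1 h4
      change _ ∈ ((P.mapSurjective hp : Sylow 2 Q) : Subgroup Q) at h5
      rw [← map_inv, ← map_mul, ← map_mul, hPc] at h5
      obtain ⟨y', hy', h6⟩ := h5
      change _ ∈ (P : Subgroup Y) at hy'
      rw [hP, mem_subgroupOf] at hy'
      have h7 : p (y'⁻¹ * (n * ⟨y, hyY⟩ * n⁻¹)) = 1 := by rw [map_mul, map_inv, h6, inv_mul_cancel]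
      rw [hker] at h7
      simp only [coe_mul, coe_inv] at h7
      have h8 : τ 1 1 1 ∈ (S : Subgroup X) ⊓ Y := (hmP _).2 ⟨1, 1, 1, Or.inl rfl⟩
      have h9 := (zpowers_le.2 h8) h7
      have h10 := mul_mem hy' h9
      rwa [mul_inv_cancel_left] at h10
    obtain ⟨c, g, i, hc, hg, hn'⟩ := D.az _ (by rw [← hY]; exact hnP)
    have hcY : c ∈ Y := by rw [hY]; exact mem_centralizer_singleton_iff.2 (hc _ (R.τ_mem 1 1 1))
    have hξY : ξ ∈ Y := by rw [hY]; exact D.xi_mem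
    have hgY : g ∈ Y := by
      have h4 : g = c⁻¹ * n * (ξ ^ i)⁻¹ := by rw [hn']; group
      rw [h4]
      exact mul_mem (mul_mem (inv_mem hcY) n.2) (inv_mem (pow_mem hξY i))
    refine ⟨p ⟨c, hcY⟩, p ⟨g, hgY⟩, i, ?_, ?_, ?_⟩
    · rintro _ ⟨y, hy, rfl⟩
      rw [← map_mul, ← map_mul]
      congr 1
      exact Subtype.ext (by simp only [coe_mul]; exact hc _ (mem_subgroupOf.1 hy))
    · rw [hPc]
      refine mem_map_of_mem p ?_
      change _ ∈ (P : Subgroup Y)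
      rw [hP, mem_subgroupOf]
      exact mem_inf.2 ⟨hg, hgY⟩
    · rw [← map_pow, ← map_mul, ← map_mul]
      congr 1
      exact Subtype.ext (by simp only [coe_mul, coe_pow, hη]; exact hn')

end Cfsg.Agent.ONType.Cz
end

-- part: ONType/CzLift
section
/-!
# Lifting normalizers of 2-subgroups modulo a normal subgroup of odd order
-/

set_option autoImplicit false

namespace Cfsg.Agent.ONType.Cz

open Subgroup Cfsg.Agent.Lib.GoldschmidtFusion

variable {H X : Type*} [Group H] [Finite H] [Group X] [Finite X]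

theorem eq_one_of_ker (f : H →* X) (hodd : Odd (Nat.card f.ker)) {W : Subgroup H} (hW : IsPGroup 2 W) {g : H}
    (hg : g ∈ W) (h1 : f g = 1) : g = 1 := by
  obtain ⟨k, hk⟩ := hW ⟨g, hg⟩
  have h3 : g ^ 2 ^ k = 1 := congrArg Subtype.val hk
  have h4 : orderOf g ∣ 2 ^ k := orderOf_dvd_of_pow_eq_one h3
  have h5 : orderOf g ∣ Nat.card f.ker := by
    have := orderOf_dvd_natCard (⟨g, MonoidHom.mem_ker.2 h1⟩ : f.ker)
    rwa [Subgroup.orderOf_mk] at this
  have h6 : Nat.Coprime (Nat.card f.ker) (2 ^ k) := Nat.Coprime.pow_right k (Nat.coprime_two_right.2 hodd)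
  exact orderOf_eq_one_iff.1 (Nat.eq_one_of_dvd_coprimes h6 h5 h4)

theorem inj_of_ker (f : H →* X) (hodd : Odd (Nat.card f.ker)) {W : Subgroup H} (hW : IsPGroup 2 W) {g g' : H}
    (hg : g ∈ W) (hg' : g' ∈ W) (h1 : f g = f g') : g = g' := by
  have h2 : f (g * g'⁻¹) = 1 := by rw [map_mul, map_inv, h1, mul_inv_cancel]
  exact mul_inv_eq_one.1 (eq_one_of_ker f hodd hW (mul_mem hg (inv_mem hg')) h2)

/-- `N_X(f(W)) = f(N_H(W))` -/
theorem exists_normalizer_lift (f : H →* X) (hf : Function.Surjective f) (hodd : Odd (Nat.card f.ker))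
    {P : Subgroup H} (hPp : IsPGroup 2 P) {n : X} (hn : n ∈ normalizer ((P.map f : Subgroup X) : Set X)) :
    ∃ n' ∈ normalizer (P : Set H), f n' = n := by
  obtain ⟨n₁, rfl⟩ := hf n
  set N := (P.map f).comap f with hN
  have hPN : P ≤ N := le_comap_map _ _
  have hidx : ¬ 2 ∣ P.relIndex N := by
    intro h2
    have hcard : P.relIndex N = Nat.card f.ker := by
      have e1 := Subgroup.relIndex_mul_index hPN
      have e2 := Subgroup.card_mul_index P
      have e3 := Subgroup.card_mul_index (P.map f)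
      have e4 : N.index = (P.map f).index := Subgroup.index_comap_of_surjective _ hf
      have e5 : Nat.card (P.map f) = Nat.card P := by
        refine (Nat.card_congr (Equiv.ofBijective (fun x : P => (⟨f x, mem_map_of_mem f x.2⟩ : P.map f)) ⟨?_, ?_⟩)).symm
        · intro x y hxy
          exact Subtype.ext (inj_of_ker f hodd hPp x.2 y.2 (congrArg Subtype.val hxy))
        · rintro ⟨_, x, hx, rfl⟩
          exact ⟨⟨x, hx⟩, rfl⟩
      have e6 : Nat.card H = Nat.card X * Nat.card f.ker := by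
        rw [Subgroup.card_eq_card_quotient_mul_card_subgroup f.ker,
          Nat.card_congr (QuotientGroup.quotientKerEquivOfSurjective f hf).toEquiv]
      have hpos : 0 < (P.map f).index * Nat.card P :=
        Nat.mul_pos (Nat.pos_of_ne_zero Subgroup.index_ne_zero_of_finite) Nat.card_pos
      apply Nat.eq_of_mul_eq_mul_right hpos
      rw [← mul_assoc, ← e4, e1, mul_comm _ (Nat.card P), e2, e6, ← e3, e5, e4]
      ring
    rw [hcard] at h2
    rw [← Nat.not_even_iff_odd, even_iff_two_dvd] at hodd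
    exact hodd h2
  have hle : P.map (MulAut.conj n₁).toMonoidHom ≤ N := by
    rintro _ ⟨y, hy, rfl⟩
    rw [hN, mem_comap]
    change f (n₁ * y * n₁⁻¹) ∈ _
    rw [map_mul, map_mul, map_inv]
    exact (mem_normalizer_iff.1 hn _).1 (mem_map_of_mem f hy)
  obtain ⟨u, hu, hule⟩ := exists_conj_le_in (p := 2) hPp hidx hle (hPp.map _)
  rw [map_conj_map_conj] at hule
  obtain ⟨y, hy, hyu⟩ := hu
  have h1 : u * n₁ ∈ normalizer (P : Set H) := by
    rw [mem_normalizer_iff_map_conj]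
    exact Subgroup.eq_of_le_of_card_ge hule (by rw [card_map_conj])
  refine ⟨y⁻¹ * (u * n₁), mul_mem (inv_mem (le_normalizer hy)) h1, ?_⟩
  rw [map_mul, map_inv, map_mul, hyu, inv_mul_cancel_left]

end Cfsg.Agent.ONType.Cz
end

-- part: ONType/CzOut
section
/-!
# Consequences in `X` of `Y/⟨v⟩ ≅ L₃(4)`
-/

set_option autoImplicit false

namespace Cfsg.Agent.ONType.Cz

open Subgroup Cfsg.Agent.TypeL3 Cfsg.Agent.TypeL3.Local Cfsg.Agent.Lib.FieldFour Cfsg.Agent.Lib.GoldschmidtFusion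
open scoped commutatorElement

universe u

/-- what is known about `Q` -/
structure QOut {Q : Type u} [Group Q] [Finite Q] (P : Sylow 2 Q) (A B : Subgroup Q) : Prop where
  simple : IsSimpleGroup Q
  psl : Nonempty (Q ≃* Matrix.ProjectiveSpecialLinearGroup (Fin 3) F4)
  isL3 : IsL3 (P : Subgroup Q) A B 4
  cent : ∀ z ∈ A ⊓ B, z ≠ 1 → centralizer ({z} : Set Q) ≤ (P : Subgroup Q)
  gen : closure ((normalizer (A : Set Q) : Set Q) ∪ (normalizer (B : Set Q) : Set Q)) = ⊤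

/-- what is used about `X = C_G(z)/O(C_G(z))` -/
structure XOut {X : Type u} [Group X] [Finite X] (S : Sylow 2 X) (τ : ℤ → ℤ → ℤ → X) (x3 s : X) (Y : Subgroup X) :
    Prop where
  idx : Y.index = 2
  normal : Y.Normal
  cyc : IsCyclic (center Y)
  card : Nat.card (center Y) = 4
  perf : commutator Y = ⊤
  psl : Nonempty (Y ⧸ center Y ≃* Matrix.ProjectiveSpecialLinearGroup (Fin 3) F4)
  cc : centralizer (Y : Set X) ≤ Y
  good : ∀ a b c : ℤ, τ (2 * a) (2 * b) (2 * c) ≠ 1 → τ (2 * a) (2 * b) (2 * c) ≠ τ 2 2 2 → ∀ w : X,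
    Odd (orderOf w) → w * τ (2 * a) (2 * b) (2 * c) = τ (2 * a) (2 * b) (2 * c) * w → w = 1
  par : ∃ W1 W2 : Subgroup X, W1 ≤ (S : Subgroup X) ∧ W2 ≤ (S : Subgroup X) ∧
    (∀ a b c : ℤ, τ (2 * a) (2 * b) (2 * c) ∈ W1 ∧ τ (2 * a) (2 * b) (2 * c) ∈ W2) ∧ x3 ∈ W1 ∧
    (∃ n ∈ normalizer (W1 : Set X), ∃ a b c : ℤ, n * x3 * n⁻¹ = τ (2 * a) (2 * b) (2 * c)) ∧
    closure ((normalizer (W1 : Set X) : Set X) ∪ (normalizer (W2 : Set X) : Set X) ∪ {s}) = ⊤

theorem closure_comap_eq_top {Y Q : Type*} [Group Y] [Group Q] (p : Y →* Q) (hp : Function.Surjective p)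
    (U : Set Q) (hU : closure U = ⊤) (V : Set Y) (hV : ∀ y, p y ∈ U → y ∈ V) (h1 : (1 : Q) ∈ U) :
    closure V = ⊤ := by
  rw [eq_top_iff]
  intro y _
  have h2 : closure U ≤ (closure V).map p := by
    rw [closure_le]
    intro u hu
    obtain ⟨y', rfl⟩ := hp u
    exact ⟨y', subset_closure (hV y' hu), rfl⟩
  have h3 : p y ∈ (closure V).map p := h2 (by rw [hU]; exact mem_top _)
  obtain ⟨y', hy', h4⟩ := h3
  have h5 : y'⁻¹ * y ∈ closure V := by
    refine subset_closure (hV _ ?_)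
    rw [map_mul, map_inv, h4, inv_mul_cancel]
    exact h1
  have := mul_mem hy' h5
  rwa [mul_inv_cancel_left] at this

section

variable {X : Type u} [Group X] [Finite X] {T : Subgroup X} {S : Sylow 2 X} {τ : ℤ → ℤ → ℤ → X}
  {x1 x2 x3 s ξ h : X}

theorem XIn.out (D : XIn T S τ x1 x2 x3 s ξ h) {Q : Type u} [Group Q] [Finite Q] {Y : Subgroup X}
    (hY : Y = centralizer ({τ 1 1 1} : Set X)) (p : Y →* Q) (hp : Function.Surjective p)
    (hker : ∀ y : Y, p y = 1 ↔ (y : X) ∈ zpowers (τ 1 1 1))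
    (P : Sylow 2 Y) (hP : (P : Subgroup Y) = ((S : Subgroup X) ⊓ Y).subgroupOf Y)
    (t : ℤ → ℤ → ℤ → Y) (ht : ∀ a b c, (t a b c : X) = τ a b c)
    (y1 y2 y3 η : Y) (h1 : (y1 : X) = x1) (h2 : (y2 : X) = x2) (h3 : (y3 : X) = x3)
    (hη : (η : X) = ξ) {A B : Subgroup Q}
    (hA : ∀ g, g ∈ A ↔ ∃ a c, g = cX (p y1) (p y2) (p y3) a * cZ (fun a b c => p (t a b c)) c)
    (hB : ∀ g, g ∈ B ↔ ∃ a c, g = cY (fun a b c => p (t a b c)) (p y1) (p y2) (p y3) a * cZ (fun a b c => p (t a b c)) c)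
    (hAB : ∀ g, g ∈ A ⊓ B ↔ ∃ c, g = cZ (fun a b c => p (t a b c)) c)
    (O : QOut (P.mapSurjective hp) A B) : XOut S τ x3 s Y := by
  have R := D.rel
  have hQ := D.toQ hY p hp hker P hP t ht y1 y2 y3 η h1 h2 h3 hη
  have RQ := hQ.rel
  have hsimple := O.simple
  have hPc : ((P.mapSurjective hp : Sylow 2 Q) : Subgroup Q) = (P : Subgroup Y).map p := by
    rw [Sylow.coe_mapSurjective]
  have hYn : Y.Normal := hY ▸ D.normal
  have hidx : Y.index = 2 := hY ▸ D.index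
  have hvY : τ 1 1 1 ∈ Y := by rw [hY, mem_centralizer_singleton_iff]
  have hkerZ : p.ker ≤ center Y := by
    intro y hy
    rw [mem_center_iff]
    intro g
    have hg : (g : X) ∈ centralizer ({τ 1 1 1} : Set X) := hY ▸ g.2
    obtain ⟨k, hk⟩ := mem_zpowers_iff.1 ((hker y).1 hy)
    refine Subtype.ext ?_
    rw [coe_mul, coe_mul, ← hk]
    have h4 : Commute (g : X) (τ 1 1 1) := mem_centralizer_singleton_iff.1 hg
    exact (h4.zpow_right k).eq
  -- `Q` is not commutative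
  have hnc : ¬ ∀ x y : Q, x * y = y * x := fun hc =>
    O.isL3.not_comm fun x _ y _ => hc x y
  have hcQ : center Q = ⊥ := by
    rcases hsimple.eq_bot_or_eq_top_of_normal (center Q) inferInstance with h4 | h4
    · exact h4
    · exfalso
      apply hnc
      intro x y
      have h5 : y ∈ center Q := by rw [h4]; exact mem_top _
      exact mem_center_iff.1 h5 x
  have hcenter : center Y = p.ker := by
    refine le_antisymm ?_ hkerZ
    intro y hy
    rw [MonoidHom.mem_ker, ← mem_bot, ← hcQ, mem_center_iff]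
    intro g
    obtain ⟨g, rfl⟩ := hp g
    rw [← map_mul, ← map_mul, mem_center_iff.1 hy g]
  have hkz : p.ker = zpowers (⟨τ 1 1 1, hvY⟩ : Y) := by
    ext y
    rw [MonoidHom.mem_ker, hker, mem_zpowers_iff, mem_zpowers_iff]
    constructor
    · rintro ⟨k, hk⟩
      exact ⟨k, Subtype.ext (by simpa using hk)⟩
    · rintro ⟨k, hk⟩
      exact ⟨k, by rw [← hk]; simp⟩
  have hord : orderOf (τ 1 1 1) = 4 := by
    have h4 : τ 1 1 1 ^ 2 = τ 2 2 2 := by rw [pow_two, R.v_sq]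
    have h5 : τ 1 1 1 ^ 4 = 1 := by
      rw [show 4 = 2 * 2 from rfl, pow_mul, h4, pow_two, R.mul, R.one]; omega
    have h6 : τ 1 1 1 ^ 2 ≠ 1 := by rw [h4, Ne, R.one]; omega
    exact orderOf_eq_prime_pow (p := 2) (n := 1) (by simpa only [_root_.pow_one, _root_.ne_eq] using h6) (by simpa using h5)
  have hcardc : Nat.card (center Y) = 4 := by
    rw [hcenter, hkz, Nat.card_zpowers]
    rw [Subgroup.orderOf_mk, hord]
  -- lifting of the subgroups of `Q`
  let L : Subgroup Q → Subgroup X := fun E => (E.comap p).map Y.subtype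
  have hL : ∀ (E : Subgroup Q) (x : X), x ∈ L E ↔ ∃ hx : x ∈ Y, p ⟨x, hx⟩ ∈ E := by
    intro E x
    constructor
    · rintro ⟨y, hy, rfl⟩
      exact ⟨y.2, hy⟩
    · rintro ⟨hx, hxE⟩
      exact ⟨⟨x, hx⟩, hxE, rfl⟩
  have hLS : ∀ E : Subgroup Q, E ≤ ((P.mapSurjective hp : Sylow 2 Q) : Subgroup Q) → L E ≤ (S : Subgroup X) := by
    intro E hE x hx
    obtain ⟨hxY, hxE⟩ := (hL E x).1 hx
    have h4 := hE hxE
    rw [hPc, hP] at h4
    obtain ⟨y, hy, h5⟩ := h4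
    have h6 : p (y⁻¹ * ⟨x, hxY⟩) = 1 := by rw [map_mul, map_inv, h5, inv_mul_cancel]
    rw [hker] at h6
    have h7 : τ 1 1 1 ∈ (S : Subgroup X) := R.T_le (R.τ_mem _ _ _)
    have h8 := (zpowers_le.2 h7) h6
    have h9 := mul_mem (mem_inf.1 (mem_subgroupOf.1 hy)).1 h8
    simpa only [_root_.Subgroup.coe_mul, _root_.InvMemClass.coe_inv, _root_.mul_inv_cancel_left] using h9
  have hLN : ∀ (E : Subgroup Q) (y : Y), p y ∈ normalizer (E : Set Q) → (y : X) ∈ normalizer (L E : Set X) := by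
    intro E y hy
    rw [mem_normalizer_iff_map_conj]
    refine Subgroup.eq_of_le_of_card_ge ?_ (by rw [card_map_conj])
    rintro _ ⟨x, hx, rfl⟩
    change (y : X) * x * (y : X)⁻¹ ∈ _
    obtain ⟨hxY, hxE⟩ := (hL E x).1 hx
    refine (hL E _).2 ⟨mul_mem (mul_mem y.2 hxY) (inv_mem y.2), ?_⟩
    have h4 := (mem_normalizer_iff.1 hy _).1 hxE
    rw [← map_inv, ← map_mul, ← map_mul] at h4
    exact h4
  -- elements of `A_T`
  have hZ : ∀ a b c : ℤ, τ (2 * a) (2 * b) (2 * c) ∈ Y := fun a b c => by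
    rw [← ht]; exact (t _ _ _).2
  have hZAB : ∀ a b c : ℤ, p (t (2 * a) (2 * b) (2 * c)) ∈ A ⊓ B := by
    intro a b c
    rw [hAB]
    have e := fun a b c a' b' c' => RQ.τ_eq (a := a) (b := b) (c := c) (a' := a') (b' := b') (c' := c')
    rcases Int.even_or_odd (a - b) with h4 | h4 <;> rcases Int.even_or_odd (a - c) with h5 | h5
    · exact ⟨.o, (e _ _ _ _ _ _).2 (by obtain ⟨m, hm⟩ := h4; obtain ⟨k, hk⟩ := h5; omega)⟩
    · exact ⟨.v, (e _ _ _ _ _ _).2 (by obtain ⟨m, hm⟩ := h4; obtain ⟨k, hk⟩ := h5; omega)⟩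
    · exact ⟨.w, (e _ _ _ _ _ _).2 (by obtain ⟨m, hm⟩ := h4; obtain ⟨k, hk⟩ := h5; omega)⟩
    · exact ⟨.i, (e _ _ _ _ _ _).2 (by obtain ⟨m, hm⟩ := h4; obtain ⟨k, hk⟩ := h5; omega)⟩
  refine ⟨hidx, hYn, ?_, hcardc, ?_, ?_, ?_, ?_, ?_⟩
  · rw [hcenter, hkz]; infer_instance
  · -- perfect
    have hQperf : commutator Q = ⊤ := by
      rcases hsimple.eq_bot_or_eq_top_of_normal (commutator Q) inferInstance with h4 | h4
      · exfalso
        apply hnc
        intro x y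
        have h5 : ⁅x, y⁆ ∈ commutator Q := commutator_mem_commutator (mem_top _) (mem_top _)
        rw [h4, mem_bot, commutatorElement_eq_one_iff_mul_comm] at h5
        exact h5
      · exact h4
    have hv : (⟨τ 1 1 1, hvY⟩ : Y) ∈ commutator Y := by
      have e1 : (⟨τ 1 1 1, hvY⟩ : Y) = ⁅y1, t 0 1 0⁆ * ⁅y3, t 1 0 2⁆ := by
        refine Subtype.ext ?_
        simp only [commutatorElement_def, coe_mul, coe_inv, h1, h3, ht]
        rw [R.x1_t, R.x3_t, mul_inv_cancel_right, mul_inv_cancel_right, R.τ_inv, R.τ_inv, R.mul, R.mul, R.mul, R.τ_eq]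
        omega
      rw [e1]
      exact mul_mem (commutator_mem_commutator (mem_top _) (mem_top _))
        (commutator_mem_commutator (mem_top _) (mem_top _))
    rw [eq_top_iff]
    intro y _
    have h4 : p y ∈ (commutator Y).map p := by
      rw [_root_.commutator_def, map_commutator, ← MonoidHom.range_eq_map, MonoidHom.range_eq_top.2 hp,
        ← _root_.commutator_def, hQperf]
      exact mem_top _
    obtain ⟨y', hy', h5⟩ := h4
    have h6 : y'⁻¹ * y ∈ p.ker := by rw [MonoidHom.mem_ker, map_mul, map_inv, h5, inv_mul_cancel]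
    rw [hkz] at h6
    have h7 := (zpowers_le.2 hv) h6
    have := mul_mem hy' h7
    rwa [mul_inv_cancel_left] at this
  · obtain ⟨e⟩ := O.psl
    exact ⟨(QuotientGroup.quotientMulEquivOfEq hcenter).trans
      ((QuotientGroup.quotientKerEquivOfSurjective p hp).trans e)⟩
  · intro g hg
    rw [hY, mem_centralizer_singleton_iff]
    exact (mem_centralizer_iff.1 hg _ hvY).symm
  · -- centralisers of the elements of `A_T`
    intro a b c hb1 hbz w hw hwc
    have hwY : w ∈ Y := by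
      have h4 : w ^ 2 ∈ Y := Subgroup.sq_mem_of_index_two hidx w
      obtain ⟨m, hm⟩ := hw
      have h5 : w * (w ^ 2) ^ m = 1 := by
        rw [← pow_mul, ← pow_succ', ← hm, pow_orderOf_eq_one]
      have h6 : w = ((w ^ 2) ^ m)⁻¹ := eq_inv_of_mul_eq_one_left h5
      rw [h6]
      exact inv_mem (pow_mem h4 m)
    have hpne : p (t (2 * a) (2 * b) (2 * c)) ≠ 1 := by
      intro h4
      have h5 := (RQ.one _ _ _).1 h4
      rw [Ne, R.one] at hb1
      rw [Ne, R.τ_eq] at hbz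
      omega
    have h4 : p ⟨w, hwY⟩ ∈ centralizer ({p (t (2 * a) (2 * b) (2 * c))} : Set Q) := by
      rw [mem_centralizer_singleton_iff, ← map_mul, ← map_mul]
      congr 1
      exact Subtype.ext (by rw [coe_mul, coe_mul, ht]; exact hwc)
    have h5 := O.cent _ (hZAB a b c) hpne h4
    -- odd order and 2-power order
    have h6 : w ∈ (S : Subgroup X) := hLS _ le_rfl ((hL _ _).2 ⟨hwY, h5⟩)
    obtain ⟨k, hk⟩ := S.isPGroup' ⟨w, h6⟩
    have h7 : w ^ 2 ^ k = 1 := congrArg Subtype.val hk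
    have h8 : orderOf w ∣ 2 ^ k := orderOf_dvd_of_pow_eq_one h7
    have h9 : Nat.Coprime (orderOf w) (2 ^ k) := Nat.Coprime.pow_right k (Nat.coprime_two_right.2 hw)
    exact orderOf_eq_one_iff.1 (Nat.eq_one_of_dvd_coprimes h9 dvd_rfl h8)
  · -- the parabolics
    have hx3A : p y3 ∈ A := by
      rw [hA]
      refine ⟨.i, .o, ?_⟩
      simp only [cX, cZ]
      rw [RQ.τ_zero, mul_one]
    refine ⟨L A, L B, hLS A O.isL3.A_le, hLS B O.isL3.B_le, ?_, ?_, ?_, ?_⟩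
    · intro a b c
      have h4 := mem_inf.1 (hZAB a b c)
      have h5 : (⟨τ (2 * a) (2 * b) (2 * c), hZ a b c⟩ : Y) = t (2 * a) (2 * b) (2 * c) := Subtype.ext (ht _ _ _).symm
      exact ⟨(hL _ _).2 ⟨hZ a b c, by rw [h5]; exact h4.1⟩, (hL _ _).2 ⟨hZ a b c, by rw [h5]; exact h4.2⟩⟩
    · have h5 : (⟨x3, h3 ▸ y3.2⟩ : Y) = y3 := Subtype.ext h3.symm
      exact (hL _ _).2 ⟨h3 ▸ y3.2, by rw [h5]; exact hx3A⟩
    · obtain ⟨k, hk⟩ := hQ.hx
      have hzm : p (t 2 0 0) ∈ A ⊓ B := by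
        have := hZAB 1 0 0
        simpa only [_root_.Subgroup.mem_inf, _root_.mul_one, _root_.MulZeroClass.mul_zero] using this
      obtain ⟨n, hn, hnz⟩ := exists_normalizer O.isL3 hx3A hzm hk
      obtain ⟨n, rfl⟩ := hp n
      refine ⟨n, hLN A n hn, ?_⟩
      -- `n x3 n⁻¹` is an involution in `τ 2 0 0 ⟨v⟩`
      rw [← map_inv, ← map_mul, ← map_mul] at hnz
      have h4 : p ((t 2 0 0)⁻¹ * (n * y3 * n⁻¹)) = 1 := by rw [map_mul, map_inv, hnz, inv_mul_cancel]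
      rw [hker] at h4
      simp only [coe_mul, coe_inv, ht, h3] at h4
      obtain ⟨m, hm⟩ := mem_zpowers_iff.1 h4
      have hvm : ∀ k : ℤ, τ 1 1 1 ^ k = τ k k k := by
        intro k
        induction k using Int.induction_on with
        | zero => rw [zpow_zero, R.τ_zero]
        | succ i ih => rw [zpow_add, ih, zpow_one, R.mul]
        | pred i ih => rw [zpow_sub, ih, zpow_one, R.τ_inv, R.mul, sub_eq_add_neg]
      rw [hvm, eq_inv_mul_iff_mul_eq, R.mul] at hm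
      have h5 : (n : X) * x3 * (n : X)⁻¹ * ((n : X) * x3 * (n : X)⁻¹) = 1 := by
        rw [show (n : X) * x3 * (n : X)⁻¹ * ((n : X) * x3 * (n : X)⁻¹) = n * (x3 * x3) * (n : X)⁻¹ by group, R.x3_sq]
        group
      rw [← hm, R.mul, R.one] at h5
      obtain ⟨j, hj⟩ : ∃ j, m = 2 * j := ⟨m / 2, by omega⟩
      exact ⟨1 + j, j, j, by rw [← hm, R.τ_eq]; (clear * - hj; omega)⟩
    · have hgen := closure_comap_eq_top p hp _ O.gen
        (V := {y : Y | (y : X) ∈ normalizer (L A : Set X) ∨ (y : X) ∈ normalizer (L B : Set X)}) (by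
          rintro y (hy | hy)
          · exact Or.inl (hLN A y hy)
          · exact Or.inr (hLN B y hy)) (Or.inl (one_mem _))
      set K := closure ((normalizer (L A : Set X) : Set X) ∪ (normalizer (L B : Set X) : Set X) ∪ {s}) with hK
      have hYK : Y ≤ K := by
        intro y hy
        have h4 : (⟨y, hy⟩ : Y) ∈ (K.comap Y.subtype) := by
          have h5 : closure {y : Y | (y : X) ∈ normalizer (L A : Set X) ∨ (y : X) ∈ normalizer (L B : Set X)} ≤
              K.comap Y.subtype := by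
            rw [closure_le]
            rintro y' (hy' | hy')
            · exact subset_closure (Or.inl (Or.inl hy'))
            · exact subset_closure (Or.inl (Or.inr hy'))
          rw [hgen] at h5
          exact h5 (mem_top _)
        exact h4
      rw [eq_top_iff]
      intro g _
      rcases D.mem_or g with h4 | ⟨-, h4⟩
      · exact hYK (hY ▸ h4)
      · have h5 : s * g ∈ K := hYK (hY ▸ h4)
        have h6 : s ∈ K := subset_closure (Or.inr rfl)
        have := mul_mem (inv_mem h6) h5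
        rwa [inv_mul_cancel_left] at this

end

end Cfsg.Agent.ONType.Cz
end

-- part: ONType/CzSimple
section
/-!
# The group `H/O(H)·4` of the O'Nan branch is `L₃(4)`

A finite group `Q` with `O(Q) = 1` and a Sylow 2-subgroup `S = AB` of type `L₃(q)`, in which `N(A)`, `N(B)` do not
normalise `A ∩ B`, has the local structure of `L₃(q)` (`localData`); no simplicity is assumed. With a small normaliser of
`S` and `q = 4` it is simple and so isomorphic to `L₃(4)`.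
-/

set_option autoImplicit false

namespace Cfsg.Agent.ONType.CzSimple

open Subgroup Cfsg.Agent.Lib.GoldschmidtFusion Cfsg.Agent.TypeL3 Cfsg.Agent.TypeL3.Local

universe u w

section general

variable {Q : Type u} [Group Q] [Finite Q] {S : Sylow 2 Q} {A B : Subgroup Q} {q : ℕ}

omit [Finite Q] in
theorem exists_Z (h : IsL3 (S : Subgroup Q) A B q) : ∃ z ∈ A ⊓ B, z ≠ 1 := by
  by_contra h0
  push Not at h0
  exact h.Z_ne_bot ((Subgroup.eq_bot_iff_forall _).2 h0)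

/-- every nontrivial normal subgroup contains the Sylow 2-subgroup -/
theorem sylow_le (h : IsL3 (S : Subgroup Q) A B q) (hO : Cfsg.oddCore Q = ⊥)
    (hNA : ¬ normalizer (A : Set Q) ≤ normalizer ((A ⊓ B : Subgroup Q) : Set Q))
    (hNB : ¬ normalizer (B : Set Q) ≤ normalizer ((A ⊓ B : Subgroup Q) : Set Q))
    {N : Subgroup Q} (hN : N.Normal) (hN1 : N ≠ ⊥) : (S : Subgroup Q) ≤ N := by
  have heven : 2 ∣ Nat.card N := by
    by_contra h2
    apply hN1
    rw [eq_bot_iff, ← hO]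
    refine Cfsg.Agent.Lib.Cores.le_pPrimeCore hN ?_
    rw [Nat.coprime_comm]
    exact (Nat.Prime.coprime_iff_not_dvd Nat.prime_two).2 h2
  obtain ⟨⟨t, htN⟩, ht⟩ := exists_prime_orderOf_dvd_card' (G := N) 2 heven
  rw [Subgroup.orderOf_mk] at ht
  have ht2 : t * t = 1 := by rw [← pow_two, ← ht]; exact pow_orderOf_eq_one t
  have ht1 : t ≠ 1 := by
    rintro rfl
    rw [orderOf_one] at ht
    omega
  obtain ⟨k, hk⟩ := h.exists_conj_Z hNA hNB ht2
  have hkN : k * t * k⁻¹ ∈ N := hN.conj_mem t htN k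
  have hk1 : k * t * k⁻¹ ≠ 1 := Back.conj_ne_one ht1
  set z := k * t * k⁻¹ with hz
  have hNB' : ¬ normalizer (B : Set Q) ≤ normalizer ((B ⊓ A : Subgroup Q) : Set Q) := by
    rw [inf_comm]; exact hNB
  rw [IsL3.sup_eq h.toIsAB]
  apply sup_le
  · intro a ha
    by_cases ha1 : a = 1
    · rw [ha1]; exact one_mem _
    obtain ⟨n, -, e⟩ := h.trans_A hNA (mem_inf.1 hk).1 hk1 ha ha1
    rw [← e]
    exact hN.conj_mem z hkN n
  · intro a ha
    by_cases ha1 : a = 1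
    · rw [ha1]; exact one_mem _
    obtain ⟨n, -, e⟩ := h.symm.trans_A hNB' (mem_inf.1 hk).2 hk1 ha ha1
    rw [← e]
    exact hN.conj_mem z hkN n

/-- `Q` is of characteristic 2 type -/
theorem characteristicTwoType (h1169 : H1169.{u}) (h1171 : H1171.{u}) (h1296 : H1296.{u})
    (h : IsL3 (S : Subgroup Q) A B q) (hq : 4 ≤ q) (hO : Cfsg.oddCore Q = ⊥)
    (hNA : ¬ normalizer (A : Set Q) ≤ normalizer ((A ⊓ B : Subgroup Q) : Set Q))
    (hNB : ¬ normalizer (B : Set Q) ≤ normalizer ((A ⊓ B : Subgroup Q) : Set Q)) :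
    Cfsg.IsCharacteristicTwoType Q := by
  have hcardA := h.four_lt_card hq
  have hle : Nat.card A ≤ Nat.card Q := Nat.card_le_card_of_injective _ A.subtype_injective
  obtain ⟨z, hz, hz1⟩ := exists_Z h
  have heven : Even (Nat.card Q) := by
    have h1 := orderOf_dvd_natCard z
    rw [orderOf_eq_two_of_sq (h.A_sq z (mem_inf.1 hz).1) hz1] at h1
    exact (even_iff_two_dvd).2 h1
  have hidx : ∀ N : Subgroup Q, N.Normal → N.index ≠ 2 := by
    intro N hN hind
    by_cases h2 : N = ⊥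
    · rw [h2, Subgroup.index_bot] at hind
      omega
    · have h3 := sylow_le h hO hNA hNB hN h2
      have h4 := Subgroup.index_dvd_of_le h3
      rw [hind] at h4
      exact S.not_dvd_index h4
  rcases h1296 Q heven hidx hO with h1 | h1 | h1
  · exfalso
    have hc : IsMulCommutative A := ⟨⟨fun x y => Subtype.ext (h.A_comm x x.2 y y.2)⟩⟩
    have := h1 A hc (fun a ha => by rw [pow_two]; exact h.A_sq a ha)
    omega
  · exfalso
    obtain ⟨t, ht, hcomp⟩ := h1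
    have ht2 : t * t = 1 := by rw [← pow_two, ← ht]; exact pow_orderOf_eq_one t
    obtain ⟨k, hk⟩ := h.exists_conj_Z hNA hNB ht2
    have h2 := h.map_conj k⁻¹
    have e : (S : Subgroup Q).map (MulAut.conj k⁻¹).toMonoidHom = ((k⁻¹ • S : Sylow 2 Q) : Subgroup Q) := rfl
    rw [e] at h2
    have ht1 : t ≠ 1 := by
      rintro rfl
      rw [orderOf_one] at ht
      omega
    refine h2.not_hasComponent h1169 h1171 ?_ ht1 hcomp
    rw [← Subgroup.map_inf _ _ _ (MulAut.conj k⁻¹).injective, mem_map_conj, inv_inv]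
    exact hk
  · exact h1

/-- `C(z) ≤ N(S)` -/
theorem centralizer_le (h1169 : H1169.{u}) (h1171 : H1171.{u}) (h1296 : H1296.{u})
    (h : IsL3 (S : Subgroup Q) A B q) (hq : 4 ≤ q) (hO : Cfsg.oddCore Q = ⊥)
    (hNA : ¬ normalizer (A : Set Q) ≤ normalizer ((A ⊓ B : Subgroup Q) : Set Q))
    (hNB : ¬ normalizer (B : Set Q) ≤ normalizer ((A ⊓ B : Subgroup Q) : Set Q)) {z : Q} (hz : z ∈ A ⊓ B)
    (hz1 : z ≠ 1) : centralizer {z} ≤ normalizer ((S : Subgroup Q) : Set Q) := by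
  have hz2 := h.A_sq z (mem_inf.1 hz).1
  have hchar := (characteristicTwoType h1169 h1171 h1296 h hq hO hNA hNB).2 (zpowers z) (by
    rw [IsPGroup.iff_card]
    exact ⟨1, by rw [Nat.card_zpowers, orderOf_eq_two_of_sq hz2 hz1, pow_one]⟩)
    (by rw [Ne, zpowers_eq_bot]; exact hz1)
  rw [IsL3.centralizer_eq_normalizer_zpowers hz2] at hchar
  set C := centralizer ({z} : Set Q) with hC
  have hSC : (S : Subgroup Q) ≤ C := h.le_centralizer hz
  let SC : Sylow 2 C := S.subtype hSC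
  have hAB : IsAB (SC : Subgroup C) (A.subgroupOf C) (B.subgroupOf C) := h.toIsAB.subgroupOf hSC
  have hcA : Cfsg.IsStronglyClosed (A.subgroupOf C) (SC : Subgroup C) := by
    apply hAB.stronglyClosed_A
    intro x hx
    rw [inf_comm]
    exact h.symm.normalizer_le_in_centralizer (inf_comm A B ▸ hz) hz1 hx
  have hcB : Cfsg.IsStronglyClosed (B.subgroupOf C) (SC : Subgroup C) := by
    apply hAB.stronglyClosed_B
    intro x hx
    exact h.normalizer_le_in_centralizer hz hz1 hx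
  have hOA := le_pCore_of_closed SC hcA hAB.A_comm hAB.A_sq hchar
  have hOB := le_pCore_of_closed SC hcB hAB.B_comm hAB.B_sq hchar
  have hn : (Cfsg.pCore 2 C).Normal := Cfsg.Agent.Lib.Cores.pCore_normal 2
  have hle : Cfsg.pCore 2 C ≤ (SC : Subgroup C) := Cfsg.Agent.Lib.Cores.pCore_le_sylow SC
  intro g hg
  rw [mem_normalizer_iff_map_conj]
  apply Subgroup.eq_of_le_of_card_ge _ (by rw [card_map_conj])
  rintro _ ⟨s, hs, rfl⟩
  obtain ⟨a, ha, b, hb, e⟩ := hAB.prod ⟨s, hSC hs⟩ (by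
    show (⟨s, hSC hs⟩ : C) ∈ (S : Subgroup Q).subgroupOf C
    rw [mem_subgroupOf]; exact hs)
  have h1 : (⟨s, hSC hs⟩ : C) ∈ Cfsg.pCore 2 C := by
    rw [← e]
    exact mul_mem (hOA ha) (hOB hb)
  have h2 := hle (hn.conj_mem _ h1 ⟨g, hg⟩)
  have h3 : (⟨g, hg⟩ * ⟨s, hSC hs⟩ * (⟨g, hg⟩ : C)⁻¹ : C) ∈ (S : Subgroup Q).subgroupOf C := h2
  rw [mem_subgroupOf] at h3
  exact h3

omit [Finite Q] in
/-- a 2-subgroup normalising `S` is contained in `S` -/
theorem le_sylow_of_le_normalizer {X : Subgroup Q} (hX : IsPGroup 2 X)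
    (hle : X ≤ normalizer ((S : Subgroup Q) : Set Q)) : X ≤ (S : Subgroup Q) := by
  have h1 : X ⊓ normalizer ((S : Subgroup Q) : Set Q) = X ⊓ (S : Subgroup Q) := hX.inf_normalizer_sylow S
  rw [inf_eq_left.2 hle] at h1
  exact inf_eq_left.1 h1.symm

theorem mem_normalizer_S (h1169 : H1169.{u}) (h1171 : H1171.{u}) (h1296 : H1296.{u})
    (h : IsL3 (S : Subgroup Q) A B q) (hq : 4 ≤ q) (hO : Cfsg.oddCore Q = ⊥)
    (hNA : ¬ normalizer (A : Set Q) ≤ normalizer ((A ⊓ B : Subgroup Q) : Set Q))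
    (hNB : ¬ normalizer (B : Set Q) ≤ normalizer ((A ⊓ B : Subgroup Q) : Set Q)) {g z : Q} (hz : z ∈ A ⊓ B)
    (hz1 : z ≠ 1) (hgz : g * z * g⁻¹ ∈ A ⊓ B) : g ∈ normalizer ((S : Subgroup Q) : Set Q) := by
  have h0 : g * z * g⁻¹ ≠ 1 := Back.conj_ne_one hz1
  have hle : (S : Subgroup Q).map (MulAut.conj g).toMonoidHom ≤ normalizer ((S : Subgroup Q) : Set Q) := by
    refine le_trans ?_ (centralizer_le h1169 h1171 h1296 h hq hO hNA hNB hgz h0)
    rintro _ ⟨s, hs, rfl⟩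
    rw [mem_centralizer_singleton_iff]
    show g * s * g⁻¹ * (g * z * g⁻¹) = g * z * g⁻¹ * (g * s * g⁻¹)
    have := h.comm_Z hz hs
    calc g * s * g⁻¹ * (g * z * g⁻¹) = g * (s * z) * g⁻¹ := by group
      _ = g * z * g⁻¹ * (g * s * g⁻¹) := by rw [← this]; group
  have hp : IsPGroup 2 ((S : Subgroup Q).map (MulAut.conj g).toMonoidHom : Subgroup Q) := S.isPGroup'.map _
  rw [mem_normalizer_iff_map_conj]
  exact Subgroup.eq_of_le_of_card_ge (le_sylow_of_le_normalizer hp hle) (by rw [card_map_conj])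

/-- the local data -/
theorem localData (h1169 : H1169.{u}) (h1171 : H1171.{u}) (h1296 : H1296.{u})
    (h : IsL3 (S : Subgroup Q) A B q) (hq : 4 ≤ q) (hO : Cfsg.oddCore Q = ⊥)
    (hNA : ¬ normalizer (A : Set Q) ≤ normalizer ((A ⊓ B : Subgroup Q) : Set Q))
    (hNB : ¬ normalizer (B : Set Q) ≤ normalizer ((A ⊓ B : Subgroup Q) : Set Q)) : LThreeLocal A B q := by
  have hNB' : ¬ normalizer (B : Set Q) ≤ normalizer ((B ⊓ A : Subgroup Q) : Set Q) := by
    rw [inf_comm]; exact hNB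
  refine
  { four_le := hq
    even_q := ?_
    A_comm := h.A_comm
    B_comm := h.B_comm
    A_sq := h.A_sq
    B_sq := h.B_sq
    card_A := h.card_A
    card_B := h.card_B
    card_Z := h.card_Z
    A_le := h.A_le.trans h.S_le_normalizer_B
    B_le := h.B_le.trans h.S_le_normalizer_A
    sylow := ⟨S, IsL3.sup_eq h.toIsAB⟩
    inv_mem := fun s hs h2 => h.inv s (by rw [IsL3.sup_eq h.toIsAB]; exact hs) h2
    trans_A := fun a ha ha1 b hb hb1 => h.trans_A hNA ha ha1 hb hb1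
    trans_B := fun a ha ha1 b hb hb1 => h.symm.trans_A hNB' ha ha1 hb hb1
    H1 := ?_
    H2 := ?_
    cent_Z := fun z hz hz1 => le_inf
      ((centralizer_le h1169 h1171 h1296 h hq hO hNA hNB hz hz1).trans h.normalizer_le_A)
      ((centralizer_le h1169 h1171 h1296 h hq hO hNA hNB hz hz1).trans h.normalizer_le_B)
    not_conj := h.not_conj }
  · obtain ⟨k, hk⟩ := IsPGroup.iff_card.1 (S.isPGroup'.to_le h.Z_le)
    rw [h.card_Z] at hk
    rcases Nat.eq_zero_or_pos k with h0 | h0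
    · rw [h0, pow_zero] at hk
      omega
    · rw [hk]
      exact (even_iff_two_dvd).2 (dvd_pow_self 2 h0.ne')
  · intro g _ hgB z hz hgz
    by_contra hz1
    exact hgB (h.normalizer_le_B (mem_normalizer_S h1169 h1171 h1296 h hq hO hNA hNB hz hz1 hgz))
  · intro g _ hgA z hz hgz
    by_contra hz1
    exact hgA (h.normalizer_le_A (mem_normalizer_S h1169 h1171 h1296 h hq hO hNA hNB hz hz1 hgz))

omit [Finite Q] in
theorem isL3_subgroupOf {S : Subgroup Q} (h : IsL3 S A B q) {C : Subgroup Q} (hSC : S ≤ C) :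
    IsL3 (S.subgroupOf C) (A.subgroupOf C) (B.subgroupOf C) q := by
  have hcard : ∀ X : Subgroup Q, X ≤ S → Nat.card (X.subgroupOf C) = Nat.card X := fun X hX =>
    Nat.card_congr (Subgroup.subgroupOfEquivOfLe (hX.trans hSC)).toEquiv
  exact
  { h.toIsAB.subgroupOf hSC with
    card_Z := (hcard _ h.Z_le).trans h.card_Z
    card_A := (hcard _ h.A_le).trans h.card_A
    card_B := (hcard _ h.B_le).trans h.card_B
    commA := by
      rintro ⟨a, haC⟩ ha haB ⟨z, hzC⟩ hz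
      obtain ⟨b, hb, e⟩ := h.commA a ha haB z hz
      exact ⟨⟨b, hSC (h.B_le hb)⟩, hb, Subtype.ext e⟩
    commB := by
      rintro ⟨a, haC⟩ ha haB ⟨z, hzC⟩ hz
      obtain ⟨b, hb, e⟩ := h.commB a ha haB z hz
      exact ⟨⟨b, hSC (h.A_le hb)⟩, hb, Subtype.ext e⟩ }

end general

section geometry

open Cfsg.Agent.TypeL3.Back

variable {Q : Type u} [Group Q] {A B : Subgroup Q} {q : ℕ}

theorem odd_pow_conj {c a : Q} {X : Subgroup Q} (hc : Odd (orderOf c)) (hca : c * a = a * c) (ha : a * a = 1)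
    (h : cj c X = cj a X) : cj c X = X := by
  have key : ∀ n : ℕ, cj (c ^ n) X = cj (a ^ n) X := by
    intro n
    induction n with
    | zero => simp
    | succ n ih =>
      have e : c * a ^ n = a ^ n * c := Commute.pow_right (show Commute c a from hca) n
      rw [pow_succ', ← cj_cj, ih, cj_cj, e, ← cj_cj, h, cj_cj, pow_succ]
  obtain ⟨k, hk⟩ := hc
  have h1 := key (orderOf c)
  rw [pow_orderOf_eq_one, cj_one, hk, pow_succ, pow_mul, pow_two, ha, one_pow, one_mul] at h1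
  rw [h, ← h1]

variable [Finite Q]

/-- an element of odd order centralising `A` and `B` fixes every point -/
theorem cj_pt_eq (D : LThreeLocal A B q) {c : Q} (hc : Odd (orderOf c)) (hA : ∀ a ∈ A, c * a = a * c)
    (hB : ∀ b ∈ B, c * b = b * c) {X : Subgroup Q} (hX : IsPt A X) : cj c X = X := by
  have fix : ∀ Y : Subgroup Q, (∀ a ∈ Y, c * a = a * c) → cj c Y = Y := by
    intro Y hY
    rw [← mem_normalizer_iff_cj]
    have h1 : c ∈ centralizer (Y : Set Q) := mem_centralizer_iff.2 fun a ha => (hY a ha).symm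
    exact (Subgroup.centralizer_le_normalizer (Y : Set Q)) h1
  have eA := fix A hA
  have eB := fix B hB
  have line : ∀ L, Fl A B A L → cj c L = L := by
    intro L hL
    by_cases hLB : L = B
    · rw [hLB]; exact eB
    have hL' : Fl A B A (cj c L) := by
      have := hL.cj c
      rwa [eA] at this
    have hne : cj c L ≠ B := by
      intro h1
      rw [← eB] at h1
      exact hLB (cj_inj.1 h1)
    obtain ⟨b, hb, e⟩ := trans_lines D (Fl.self A B) hL hL' hLB hne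
    exact odd_pow_conj hc (hB b hb) (D.B_sq b hb) e.symm
  by_cases hXA : X = A
  · rw [hXA]; exact eA
  obtain ⟨L, hL1, hL2⟩ := col D (IsPt.self A) hX
  have eL := line L hL1
  have hX' : Fl A B (cj c X) L := by
    have := hL2.cj c
    rwa [eL] at this
  have hne : cj c X ≠ A := by
    intro h1
    rw [← eA] at h1
    exact hXA (cj_inj.1 h1)
  obtain ⟨a, ha, e⟩ := trans_points D hL1 hL2 hX' hXA hne
  exact odd_pow_conj hc (hA a ha) (D.A_sq a ha) e.symm

/-- a nontrivial element moves some point -/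
theorem faithful {S : Sylow 2 Q} (h : IsL3 (S : Subgroup Q) A B q) (hO : Cfsg.oddCore Q = ⊥)
    (hNA : ¬ normalizer (A : Set Q) ≤ normalizer ((A ⊓ B : Subgroup Q) : Set Q))
    (hNB : ¬ normalizer (B : Set Q) ≤ normalizer ((A ⊓ B : Subgroup Q) : Set Q))
    (D : LThreeLocal A B q) {c : Q} (hc : ∀ X, IsPt A X → cj c X = X) : c = 1 := by
  by_contra hc1
  set R := (normalizer (A : Set Q)).normalCore with hR
  have hcR : c ∈ R := by
    intro g
    rw [mem_normalizer_iff_cj, ← cj_cj, ← cj_cj, hc _ ⟨g⁻¹, rfl⟩, cj_cj_inv]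
  have hR1 : R ≠ ⊥ := by
    intro h0
    rw [h0, mem_bot] at hcR
    exact hc1 hcR
  have hSR := sylow_le h hO hNA hNB (Subgroup.normalCore_normal _) hR1
  obtain ⟨X, hX, hXA⟩ : ∃ X, X ∈ {X : Subgroup Q | Fl A B X B} ∧ X ≠ A := by
    apply Set.exists_ne_of_one_lt_ncard
    rw [ncard_points D (IsPt.self B)]
    have := D.four_le
    omega
  have hX : Fl A B X B := hX
  obtain ⟨a, ha, haB⟩ := D.not_conj 1
  apply haB
  rw [one_mul, inv_one, mul_one]
  refine mem_line_of_norm D (Fl.self A B) hX (Ne.symm hXA) ha ?_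
  obtain ⟨g, rfl, -⟩ := hX
  rw [mem_normalizer_cj]
  have := hSR (h.A_le ha) g⁻¹
  rwa [inv_inv] at this

/-- an element of odd order centralising `S` is trivial -/
theorem odd_eq_one {S : Sylow 2 Q} (h : IsL3 (S : Subgroup Q) A B q) (hO : Cfsg.oddCore Q = ⊥)
    (hNA : ¬ normalizer (A : Set Q) ≤ normalizer ((A ⊓ B : Subgroup Q) : Set Q))
    (hNB : ¬ normalizer (B : Set Q) ≤ normalizer ((A ⊓ B : Subgroup Q) : Set Q))
    (D : LThreeLocal A B q) {c : Q} (hc : Odd (orderOf c)) (hcS : ∀ s ∈ (S : Subgroup Q), c * s = s * c) : c = 1 :=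
  faithful h hO hNA hNB D fun _ hX =>
    cj_pt_eq D hc (fun a ha => hcS a (h.A_le ha)) (fun b hb => hcS b (h.B_le hb)) hX

/-- the normalisers of a point and a line generate -/
theorem closure_eq_top (D : LThreeLocal A B q) :
    Subgroup.closure ((normalizer (A : Set Q) : Set Q) ∪ (normalizer (B : Set Q) : Set Q)) = ⊤ := by
  set P := Subgroup.closure ((normalizer (A : Set Q) : Set Q) ∪ (normalizer (B : Set Q) : Set Q)) with hP
  have hPA : normalizer (A : Set Q) ≤ P := fun x hx => Subgroup.subset_closure (Or.inl hx)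
  have hPB : normalizer (B : Set Q) ≤ P := fun x hx => Subgroup.subset_closure (Or.inr hx)
  rw [eq_top_iff]
  intro g _
  obtain ⟨L, ⟨k, hkA, hkB⟩, hL2⟩ := col D (IsPt.self A) (⟨g, rfl⟩ : IsPt A (cj g A))
  have hk : k ∈ P := hPA (mem_normalizer_iff_cj.2 hkA)
  have h3 := hL2.cj k⁻¹
  rw [← hkB, cj_inv_cj] at h3
  obtain ⟨m, hmA, hmB⟩ := h3
  have hm : m ∈ P := hPB (mem_normalizer_iff_cj.2 hmB)
  rw [cj_cj] at hmA
  have h4 : m⁻¹ * (k⁻¹ * g) ∈ normalizer (A : Set Q) := cj_eq_cj_iff.1 hmA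
  have h5 := mul_mem hk (mul_mem hm (hPA h4))
  have e : k * (m * (m⁻¹ * (k⁻¹ * g))) = g := by group
  rwa [e] at h5

end geometry

section main

variable {Q : Type u} [Group Q] [Finite Q] {S : Sylow 2 Q} {A B : Subgroup Q}

omit [Finite Q] in
theorem eq_one_of_sylow_of_odd {u : Q} (hu : u ∈ (S : Subgroup Q)) {k : ℕ} (hk : Odd k) (huk : u ^ k = 1) :
    u = 1 := by
  obtain ⟨j, hj⟩ := S.isPGroup' ⟨u, hu⟩
  have h2 : orderOf u ∣ 2 ^ j := orderOf_dvd_of_pow_eq_one (congrArg Subtype.val hj)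
  have h3 : orderOf u ∣ Nat.gcd k (2 ^ j) := Nat.dvd_gcd (orderOf_dvd_of_pow_eq_one huk) h2
  rw [Nat.Coprime.pow_right j (Nat.coprime_two_right.2 hk)] at h3
  exact orderOf_eq_one_iff.1 (Nat.dvd_one.1 h3)

/-- an element centralising `T` and normalising `S` lies in `S` -/
theorem mem_of_centralizes {q : ℕ} (h : IsL3 (S : Subgroup Q) A B q) (hO : Cfsg.oddCore Q = ⊥)
    (hNA : ¬ normalizer (A : Set Q) ≤ normalizer ((A ⊓ B : Subgroup Q) : Set Q))
    (hNB : ¬ normalizer (B : Set Q) ≤ normalizer ((A ⊓ B : Subgroup Q) : Set Q))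
    (D : LThreeLocal A B q) {T : Subgroup Q} (hTn : ∀ g ∈ (S : Subgroup Q), ∀ t ∈ T, g * t * g⁻¹ ∈ T)
    (hTc : ∀ s ∈ (S : Subgroup Q), (∀ t ∈ T, s * t = t * s) → s ∈ T)
    {c : Q} (hcT : ∀ t ∈ T, c * t = t * c) (hcN : c ∈ normalizer ((S : Subgroup Q) : Set Q)) :
    c ∈ (S : Subgroup Q) := by
  obtain ⟨a, m, hm, e⟩ := Nat.exists_eq_two_pow_mul_odd (orderOf_pos c).ne'
  set d := c ^ 2 ^ a with hd
  have hdo : orderOf d = m := by
    rw [hd, orderOf_pow_of_dvd (by positivity) (e ▸ dvd_mul_right _ _), e]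
    exact Nat.mul_div_cancel_left _ (by positivity)
  have hdT : ∀ t ∈ T, d * t = t * d := fun t ht => Commute.pow_left (show Commute c t from hcT t ht) _
  have hdN : d ∈ normalizer ((S : Subgroup Q) : Set Q) := pow_mem hcN _
  have hdS : ∀ s ∈ (S : Subgroup Q), d * s = s * d := by
    intro s hs
    set u := d * s * d⁻¹ * s⁻¹ with hu
    have huS : u ∈ (S : Subgroup Q) := mul_mem (conj_mem_of_mem_normalizer hdN hs) (inv_mem hs)
    have huT : u ∈ T := by
      apply hTc u huS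
      intro t ht
      have h1 : s⁻¹ * t * s ∈ T := by
        have := hTn s⁻¹ (inv_mem hs) t ht
        rwa [inv_inv] at this
      have h2 := hdT _ h1
      have h3 : d⁻¹ * (s⁻¹ * t * s) * d = s⁻¹ * t * s := by
        rw [mul_assoc, ← h2]; group
      have h4 := hdT t ht
      have h5 : u * t * u⁻¹ = t := by
        calc u * t * u⁻¹ = d * s * (d⁻¹ * (s⁻¹ * t * s) * d) * s⁻¹ * d⁻¹ := by rw [hu]; group
          _ = d * t * d⁻¹ := by rw [h3]; group
          _ = t := by rw [h4]; group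
      exact mul_inv_eq_iff_eq_mul.1 h5
    have hdu := hdT u huT
    have key : ∀ n : ℕ, d ^ n * s * (d ^ n)⁻¹ = u ^ n * s := by
      intro n
      induction n with
      | zero => simp
      | succ n ih =>
        have h1 : d * u ^ n = u ^ n * d := Commute.pow_right (show Commute d u from hdu) n
        calc d ^ (n + 1) * s * (d ^ (n + 1))⁻¹ = d * (d ^ n * s * (d ^ n)⁻¹) * d⁻¹ := by rw [pow_succ']; group
          _ = d * u ^ n * s * d⁻¹ := by rw [ih]; group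
          _ = u ^ n * (d * s * d⁻¹ * s⁻¹) * s := by rw [h1]; group
          _ = u ^ (n + 1) * s := by rw [← hu, pow_succ]
    have h1 := key m
    rw [← hdo, pow_orderOf_eq_one, one_mul, inv_one, mul_one] at h1
    have h2 : u ^ orderOf d = 1 := by
      have := congrArg (fun t => t * s⁻¹) h1
      simpa using this.symm
    have h3 : u = 1 := eq_one_of_sylow_of_odd huS (hdo ▸ hm) h2
    calc d * s = u * s * d := by rw [hu]; group
      _ = s * d := by rw [h3, one_mul]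
  have hd1 : d = 1 := odd_eq_one h hO hNA hNB D (hdo ▸ hm) hdS
  have hp : IsPGroup 2 (zpowers c) := by
    rw [IsPGroup.iff_card]
    refine ⟨a, ?_⟩
    rw [Nat.card_zpowers, e, ← hdo, hd1, orderOf_one, mul_one]
  exact le_sylow_of_le_normalizer hp (zpowers_le.2 hcN) (mem_zpowers c)

omit [Finite Q] in
theorem pow_three_cases {ξ : Q} (hξ : ξ * ξ * ξ = 1) (i : ℕ) : ξ ^ i = 1 ∨ ξ ^ i = ξ ∨ ξ ^ i = ξ * ξ := by
  have h3 : ξ ^ 3 = 1 := by rw [pow_succ, pow_two, hξ]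
  have h1 : ξ ^ i = ξ ^ (i % 3) := by
    conv_lhs => rw [← Nat.div_add_mod i 3]
    rw [pow_add, pow_mul, h3, one_pow, one_mul]
  rw [h1]
  have h4 : i % 3 < 3 := Nat.mod_lt _ (by norm_num)
  interval_cases i % 3
  · left; simp
  · right; left; simp
  · right; right; exact pow_two ξ

theorem main (h1169 : H1169.{u}) (h1171 : H1171.{u}) (h1296 : H1296.{u})
    (h : IsL3 (S : Subgroup Q) A B 4) {F : Type w} [Field F] [Fintype F] (hF : Fintype.card F = 4) {x y z : F → Q}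
    (hc : LThreeCoord A B x y z) (hO : Cfsg.oddCore Q = ⊥)
    (hNA : ¬ normalizer (A : Set Q) ≤ normalizer ((A ⊓ B : Subgroup Q) : Set Q))
    (hNB : ¬ normalizer (B : Set Q) ≤ normalizer ((A ⊓ B : Subgroup Q) : Set Q))
    {T : Subgroup Q} (hTn : ∀ g ∈ (S : Subgroup Q), ∀ t ∈ T, g * t * g⁻¹ ∈ T)
    (hTc : ∀ s ∈ (S : Subgroup Q), (∀ t ∈ T, s * t = t * s) → s ∈ T) (ξ : Q)
    (hξS : ξ ∈ normalizer ((S : Subgroup Q) : Set Q))
    (hξ3 : ∀ g ∈ (S : Subgroup Q), ξ * ξ * ξ * g = g * (ξ * ξ * ξ)) (hξo : Odd (orderOf ξ))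
    (hN : ∀ n ∈ normalizer ((S : Subgroup Q) : Set Q), ∃ c s, ∃ i : ℕ, (∀ t ∈ T, c * t = t * c) ∧
      s ∈ (S : Subgroup Q) ∧ n = c * s * ξ ^ i) :
    IsSimpleGroup Q ∧ Nonempty (Q ≃* Matrix.ProjectiveSpecialLinearGroup (Fin 3) F) ∧ LThreeLocal A B 4 ∧
      (∀ z ∈ A ⊓ B, z ≠ 1 → centralizer {z} ≤ (S : Subgroup Q)) ∧
      Subgroup.closure ((normalizer (A : Set Q) : Set Q) ∪ (normalizer (B : Set Q) : Set Q)) = ⊤ ∧
      ξ * ξ * ξ = 1 ∧ ∀ n ∈ normalizer ((S : Subgroup Q) : Set Q), ∃ s ∈ (S : Subgroup Q), ∃ i : ℕ, n = s * ξ ^ i := by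
  have D := localData h1169 h1171 h1296 h le_rfl hO hNA hNB
  have hξ : ξ * ξ * ξ = 1 := by
    apply odd_eq_one h hO hNA hNB D _ hξ3
    have e : ξ * ξ * ξ = ξ ^ 3 := by rw [pow_succ, pow_two]
    rw [e]
    exact Odd.of_dvd_nat hξo (orderOf_pow_dvd 3)
  have hN' : ∀ n ∈ normalizer ((S : Subgroup Q) : Set Q), ∃ s ∈ (S : Subgroup Q), ∃ i : ℕ, n = s * ξ ^ i := by
    intro n hn
    obtain ⟨c, s, i, hcT, hs, e⟩ := hN n hn
    have hcN : c ∈ normalizer ((S : Subgroup Q) : Set Q) := by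
      have h1 := mul_mem (mul_mem hn (inv_mem (pow_mem hξS i))) (inv_mem (le_normalizer hs))
      have h2 : n * (ξ ^ i)⁻¹ * s⁻¹ = c := by rw [e]; group
      rwa [h2] at h1
    exact ⟨c * s, mul_mem (mem_of_centralizes h hO hNA hNB D hTn hTc hcT hcN) hs, i, e⟩
  -- `ξ` does not centralise an element of `Z`
  have hZcard : ∀ z ∈ A ⊓ B, ∃ z' ∈ A ⊓ B, z' ≠ 1 ∧ z' ≠ z := by
    intro z hz
    by_contra hcon
    push Not at hcon
    have h1 : ((A ⊓ B : Subgroup Q) : Set Q) ⊆ {1, z} := by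
      intro t ht
      by_cases h2 : t = 1
      · exact Or.inl h2
      · exact Or.inr (hcon t ht h2)
    have h2 := Set.ncard_le_ncard h1 (Set.toFinite _)
    have h3 : ((A ⊓ B : Subgroup Q) : Set Q).ncard = 4 := h.card_Z
    have h4 := Set.ncard_insert_le (1 : Q) {z}
    rw [Set.ncard_singleton] at h4
    omega
  have hξξ : ξ * ξ * (ξ * ξ) = ξ := by
    calc ξ * ξ * (ξ * ξ) = ξ * ξ * ξ * ξ := by group
      _ = ξ := by rw [hξ, one_mul]
  have hξz : ∀ z ∈ A ⊓ B, z ≠ 1 → ξ ∉ centralizer ({z} : Set Q) := by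
    intro z hz hz1 hcz
    obtain ⟨z', hz', hz'1, hne⟩ := hZcard z hz
    obtain ⟨n, hn, e⟩ := h.trans_A hNA (mem_inf.1 hz).1 hz1 (mem_inf.1 hz').1 hz'1
    have h1 := mem_normalizer_S h1169 h1171 h1296 h le_rfl hO hNA hNB hz hz1 (by rw [e]; exact hz')
    obtain ⟨s, hs, i, rfl⟩ := hN' n h1
    apply hne
    have h2 : s * ξ ^ i ∈ centralizer ({z} : Set Q) := mul_mem (h.le_centralizer hz hs) (pow_mem hcz i)
    rw [mem_centralizer_singleton_iff] at h2
    rw [← e, h2, mul_inv_cancel_right]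
  have hsimple : IsSimpleGroup Q := by
    have hnt : Nontrivial Q := by
      obtain ⟨z, -, hz1⟩ := exists_Z h
      exact ⟨z, 1, hz1⟩
    refine ⟨fun N hNn => ?_⟩
    by_cases hN1 : N = ⊥
    · exact Or.inl hN1
    right
    have hSN := sylow_le h hO hNA hNB hNn hN1
    have htop : normalizer ((S : Subgroup Q) : Set Q) ⊔ N = ⊤ := Sylow.normalizer_sup_eq_top' S hSN
    have hfr : ∀ g : Q, ∃ m ∈ normalizer ((S : Subgroup Q) : Set Q), ∃ k ∈ N, m * k = g := by
      intro g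
      have h1 : g ∈ normalizer ((S : Subgroup Q) : Set Q) ⊔ N := by rw [htop]; exact mem_top g
      exact Subgroup.mem_sup_of_normal_right.1 h1
    have hNS := isL3_subgroupOf h hSN
    have hNN : ¬ normalizer (A.subgroupOf N : Set N) ≤
        normalizer ((A.subgroupOf N ⊓ B.subgroupOf N : Subgroup N) : Set N) := by
      intro hle
      apply hNA
      intro n hn
      obtain ⟨m, hm, k, hk, rfl⟩ := hfr n
      have hmA := h.normalizer_le_A hm
      have hmB := h.normalizer_le_B hm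
      have hmZ : m ∈ normalizer ((A ⊓ B : Subgroup Q) : Set Q) := by
        rw [Back.mem_normalizer_iff_cj, Back.cj_inf, Back.mem_normalizer_iff_cj.1 hmA,
          Back.mem_normalizer_iff_cj.1 hmB]
      have hkA : k ∈ normalizer (A : Set Q) := by
        have := mul_mem (inv_mem hmA) hn
        rwa [inv_mul_cancel_left] at this
      have h1 : (⟨k, hk⟩ : N) ∈ normalizer (A.subgroupOf N : Set N) :=
        (IsL3.coe_mem_normalizer_subgroupOf (h.A_le.trans hSN)).2 hkA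
      have h2 := (IsL3.coe_mem_normalizer_subgroupOf (Q := A ⊓ B) (h.Z_le.trans hSN)).1 (hle h1)
      exact mul_mem hmZ h2
    obtain ⟨z, hz, hz1⟩ := exists_Z h
    obtain ⟨z', hz', hz'1, hne⟩ := hZcard z hz
    let SN : Sylow 2 N := S.subtype hSN
    have hNS' : IsL3 (SN : Subgroup N) (A.subgroupOf N) (B.subgroupOf N) 4 := hNS
    obtain ⟨⟨n, hnN⟩, hn, e⟩ := hNS'.trans_A hNN (a := ⟨z, hSN (h.Z_le hz)⟩) (a' := ⟨z', hSN (h.Z_le hz')⟩)
      (mem_inf.1 hz).1 (fun h1 => hz1 (congrArg Subtype.val h1)) (mem_inf.1 hz').1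
      (fun h1 => hz'1 (congrArg Subtype.val h1))
    have e' : n * z * n⁻¹ = z' := congrArg Subtype.val e
    have h1 := mem_normalizer_S h1169 h1171 h1296 h le_rfl hO hNA hNB hz hz1 (by rw [e']; exact hz')
    obtain ⟨s, hs, i, rfl⟩ := hN' n h1
    have hξi : ξ ^ i ∈ N := by
      have := mul_mem (inv_mem (hSN hs)) hnN
      rwa [inv_mul_cancel_left] at this
    have hξN : ξ ∈ N := by
      rcases pow_three_cases hξ i with h2 | h2 | h2
      · exfalso
        apply hne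
        rw [h2, mul_one] at e'
        rw [← e', ← h.comm_Z hz hs, mul_inv_cancel_right]
      · rwa [h2] at hξi
      · rw [h2] at hξi
        have := mul_mem hξi hξi
        rwa [hξξ] at this
    rw [eq_top_iff, ← htop]
    refine sup_le ?_ le_rfl
    intro n hn
    obtain ⟨s, hs, i, rfl⟩ := hN' n hn
    exact mul_mem (hSN hs) (pow_mem hξN i)
  refine ⟨hsimple, Back.nonempty_psl hc D (by rw [Nat.card_eq_fintype_card, hF]), D, ?_, closure_eq_top D, hξ, hN'⟩
  intro z hz hz1 g hg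
  obtain ⟨s, hs, i, rfl⟩ := hN' g (centralizer_le h1169 h1171 h1296 h le_rfl hO hNA hNB hz hz1 hg)
  have hi : ξ ^ i ∈ centralizer ({z} : Set Q) := by
    have := mul_mem (inv_mem (h.le_centralizer hz hs)) hg
    rwa [inv_mul_cancel_left] at this
  rcases pow_three_cases hξ i with h2 | h2 | h2
  · rw [h2, mul_one]; exact hs
  · rw [h2] at hi
    exact absurd hi (hξz z hz hz1)
  · rw [h2] at hi
    have := mul_mem hi hi
    rw [hξξ] at this
    exact absurd this (hξz z hz hz1)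

end main

end Cfsg.Agent.ONType.CzSimple
end

-- part: ONType/CzMain
section
/-!
# `C_G(z)/O(C_G(z))` in a group of O'Nan type
-/

set_option autoImplicit false

namespace Cfsg.Agent.ONType.Cz

open Subgroup Cfsg.Agent.TypeL3 Cfsg.Agent.TypeL3.Local Cfsg.Agent.Lib.FieldFour Cfsg.Agent.Lib.GoldschmidtFusion

universe u

variable {X : Type u} [Group X] [Finite X] {T : Subgroup X} {S : Sylow 2 X} {τ : ℤ → ℤ → ℤ → X}
  {x1 x2 x3 s ξ h : X}

/-- `X = C_G(z)/O(C_G(z))` is of type `4.L₃(4).2` -/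
theorem XIn.xout (h1169 : H1169.{u}) (h1171 : H1171.{u}) (h1296 : H1296.{u}) (D : XIn T S τ x1 x2 x3 s ξ h) :
    XOut S τ x3 s (centralizer ({τ 1 1 1} : Set X)) := by
  have R := D.rel
  obtain ⟨Y, hY⟩ : ∃ Y : Subgroup X, Y = centralizer ({τ 1 1 1} : Set X) := ⟨_, rfl⟩
  rw [← hY]
  obtain ⟨P, hP⟩ : ∃ P : Sylow 2 Y, (P : Subgroup Y) = ((S : Subgroup X) ⊓ Y).subgroupOf Y := by
    subst hY
    exact D.exists_sylow
  have hvY : τ 1 1 1 ∈ Y := by rw [hY, mem_centralizer_singleton_iff]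
  have hmem : ∀ {g : X}, g ∈ (S : Subgroup X) ⊓ centralizer ({τ 1 1 1} : Set X) → g ∈ Y := fun hg =>
    hY ▸ (mem_inf.1 hg).2
  let t : ℤ → ℤ → ℤ → Y := fun a b c => ⟨τ a b c, hmem ((R.mem_P _).2 ⟨a, b, c, Or.inl rfl⟩)⟩
  have hz : ∀ x, τ 0 0 0 * x = x := fun x => by rw [R.τ_zero, one_mul]
  let y1 : Y := ⟨x1, hmem ((R.mem_P _).2 ⟨0, 0, 0, Or.inr (Or.inl (hz _).symm)⟩)⟩
  let y2 : Y := ⟨x2, hmem ((R.mem_P _).2 ⟨0, 0, 0, Or.inr (Or.inr (Or.inl (hz _).symm))⟩)⟩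
  let y3 : Y := ⟨x3, hmem ((R.mem_P _).2 ⟨0, 0, 0, Or.inr (Or.inr (Or.inr (hz _).symm))⟩)⟩
  let η : Y := ⟨ξ, hY ▸ D.xi_mem⟩
  let v : Y := ⟨τ 1 1 1, hvY⟩
  have hvc : ∀ g : Y, g * v = v * g := by
    intro g
    have hg : (g : X) ∈ centralizer ({τ 1 1 1} : Set X) := hY ▸ g.2
    exact Subtype.ext (mem_centralizer_singleton_iff.1 hg)
  have hZn : (zpowers v).Normal := ⟨fun n hn g => by
    obtain ⟨k, rfl⟩ := mem_zpowers_iff.1 hn
    have h1 : g * v ^ k * g⁻¹ = v ^ k := by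
      have h2 : Commute g v := hvc g
      rw [(h2.zpow_right k).eq, mul_inv_cancel_right]
    rw [h1]
    exact hn⟩
  let p : Y →* Y ⧸ zpowers v := QuotientGroup.mk' (zpowers v)
  have hp : Function.Surjective p := QuotientGroup.mk'_surjective _
  have hker : ∀ y : Y, p y = 1 ↔ (y : X) ∈ zpowers (τ 1 1 1) := by
    intro y
    have h1 : p y = 1 ↔ y ∈ zpowers v := QuotientGroup.eq_one_iff y
    rw [h1, mem_zpowers_iff, mem_zpowers_iff]
    constructor
    · rintro ⟨k, hk⟩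
      exact ⟨k, by rw [← hk]; simp [v]⟩
    · rintro ⟨k, hk⟩
      exact ⟨k, Subtype.ext (by simpa [v] using hk)⟩
  have hQ := D.toQ hY p hp hker P hP t (fun _ _ _ => rfl) y1 y2 y3 η rfl rfl rfl rfl
  obtain ⟨A, B, hA, hB, hAB, hL3, x, y, z, hc⟩ := exists_AB hQ.rel
  have RQ := hQ.rel
  have hx3A : p y3 ∈ A := (hA _).2 ⟨.i, .o, by simp only [cX, cZ]; rw [RQ.τ_zero, mul_one]⟩
  have hx3B : p y3 ∉ B := by
    intro hb
    have h1 := mem_inf.2 ⟨hx3A, hb⟩
    rw [hAB] at h1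
    obtain ⟨c, h2⟩ := h1
    refine RQ.x3_notMem 0 0 0 ?_
    rw [RQ.τ_zero, one_mul, h2]
    cases c <;> exact RQ.τ_mem _ _ _
  have hyB : p (t 1 0 0) * p y3 ∈ B := (hB _).2 ⟨.i, .o, by simp only [cY, cZ]; rw [RQ.τ_zero, mul_one]⟩
  have hyA : p (t 1 0 0) * p y3 ∉ A := by
    intro hb
    have h1 := mem_inf.2 ⟨hb, hyB⟩
    rw [hAB] at h1
    obtain ⟨c, h2⟩ := h1
    refine RQ.x3_notMem 1 0 0 ?_
    rw [h2]
    cases c <;> exact RQ.τ_mem _ _ _
  have hzm : p (t 2 0 0) ∈ A ⊓ B := (hAB _).2 ⟨.i, rfl⟩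
  obtain ⟨k, hk⟩ := hQ.hx
  obtain ⟨k', hk'⟩ := hQ.hy
  have hNA := not_normalizer_le hL3 hx3A hx3B hzm hk
  have hNB := not_normalizer_le' hL3 hyB hyA hzm hk'
  obtain ⟨m1, m2, -, m4, m5, -, -⟩ := CzSimple.main h1169 h1171 h1296 hL3 (F := F4) F4.card hc hQ.core hNA hNB
    (fun g hg t ht => RQ.T_normal hg ht) (fun s hs hc => RQ.T_cent hs hc) _ hQ.xi hQ.xi3 hQ.xio hQ.az
  exact D.out hY p hp hker P hP t (fun _ _ _ => rfl) y1 y2 y3 η rfl rfl rfl rfl hA hB hAB
    { simple := m1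
      psl := m2
      isL3 := hL3
      cent := m4
      gen := m5 }

end Cfsg.Agent.ONType.Cz
end

private theorem dce_08ca45c2864d : _root_.True := by
  try have : _root_.True := by simp only [_root_.Cfsg.Agent.Lib.FieldFour.F4.mul.eq_1]
  try have : _root_.True := by simp only [_root_.Cfsg.Agent.ONType.Cz.cZ.eq_1]
  try have : _root_.True := by simp only [_root_.Cfsg.Agent.Lib.FieldFour.F4.add.eq_10]
  try have : _root_.True := by simp only [_root_.Cfsg.Agent.ONType.Cz.cY.eq_4]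
  try have : _root_.True := by simp only [_root_.Cfsg.Agent.Lib.FieldFour.F4.mul.eq_10]
  try have : _root_.True := by simp only [_root_.Cfsg.Agent.ONType.Cz.cZ.eq_3]
  try have : _root_.True := by simp only [_root_.Cfsg.Agent.ONType.Cz.cY.eq_2]
  try have : _root_.True := by simp only [_root_.Cfsg.Agent.ONType.Cz.cF.eq_1]
  try have : _root_.True := by simp only [_root_.Cfsg.Agent.Lib.FieldFour.F4.add.eq_13]
  try have : _root_.True := by simp only [_root_.Cfsg.Agent.ONType.Cz.cX.eq_4]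
  try have : _root_.True := by simp only [_root_.Cfsg.Agent.Lib.FieldFour.F4.mul.eq_9]
  try have : _root_.True := by simp only [_root_.Cfsg.Agent.Lib.FieldFour.F4.mul.eq_7]
  try have : _root_.True := by simp only [_root_.Cfsg.Agent.Lib.FieldFour.F4.add.eq_12]
  try have : _root_.True := by simp only [_root_.Cfsg.Agent.Lib.FieldFour.F4.mul.eq_5]
  try have : _root_.True := by simp only [_root_.Cfsg.Agent.Lib.FieldFour.F4.add.eq_7]
  try have : _root_.True := by simp only [_root_.Cfsg.Agent.Lib.FieldFour.F4.add.eq_9]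
  try have : _root_.True := by simp only [_root_.Cfsg.Agent.ONType.Cz.cX.eq_1]
  try have : _root_.True := by simp only [_root_.Cfsg.Agent.ONType.Cz.cZ.eq_4]
  try have : _root_.True := by simp only [_root_.Cfsg.Agent.Lib.FieldFour.F4.mul.eq_6]
  try have : _root_.True := by simp only [_root_.Cfsg.Agent.ONType.Cz.cX.eq_2]
  try have : _root_.True := by simp only [_root_.Cfsg.Agent.Lib.FieldFour.F4.mul.eq_3]
  try have : _root_.True := by simp only [_root_.Cfsg.Agent.Lib.FieldFour.F4.add.eq_3]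
  try have : _root_.True := by simp only [_root_.Cfsg.Agent.ONType.Cz.cX.eq_3]
  try have : _root_.True := by simp only [_root_.Cfsg.Agent.Lib.FieldFour.F4.mul.eq_2]
  try have : _root_.True := by simp only [_root_.Cfsg.Agent.ONType.Cz.cZ.eq_2]
  try have : _root_.True := by simp only [_root_.Cfsg.Agent.Lib.FieldFour.F4.add.eq_2]
  try have : _root_.True := by simp only [_root_.Cfsg.Agent.Lib.FieldFour.F4.add.eq_5]
  try have : _root_.True := by simp only [_root_.Cfsg.Agent.ONType.Cz.cY.eq_1]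
  try have : _root_.True := by simp only [_root_.Cfsg.Agent.Lib.FieldFour.F4.add.eq_1]
  try have : _root_.True := by simp only [_root_.Cfsg.Agent.Lib.FieldFour.F4.mul.eq_4]
  try have : _root_.True := by simp only [_root_.Cfsg.Agent.Lib.FieldFour.F4.mul.eq_8]
  try have : _root_.True := by simp only [_root_.Cfsg.Agent.Lib.FieldFour.F4.add.eq_6]
  try have : _root_.True := by simp only [_root_.Cfsg.Agent.Lib.FieldFour.F4.add.eq_4]
  try have : _root_.True := by simp only [_root_.Cfsg.Agent.Lib.FieldFour.F4.add.eq_8]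
  try have : _root_.True := by simp only [_root_.Cfsg.Agent.ONType.Cz.cY.eq_3]
  try have : _root_.True := by simp only [_root_.Cfsg.Agent.Lib.FieldFour.F4.add.eq_11]
  exact _root_.True.intro
end

-- part: ONType/FusMain_mg
section
prune_inst 0x2200000000000020002000000000000040000010000400000610400000000040000c000000000000000000020000000000000000000000000000000020000000000000000000003002000000000000000000000000000000041000000000000
set_option linter.all false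
open scoped Cfsg.Agent.FastGrp

-- part: ONType/NThree
section
/-!
# O'Nan type groups: `n ≥ 3` is impossible
-/

set_option autoImplicit false
set_option linter.dupNamespace false

namespace Cfsg.Agent.ONType.NThree

open Subgroup
open Cfsg.Agent.ONType.Rel Cfsg.Agent.ONType.Span Cfsg.Agent.ONType.Sit Cfsg.Agent.ONType.Facts
open Cfsg.Agent.ONType.Control

variable {G : Type*} [Group G] {n : ℕ} {S : Sylow 2 G} {T O : Subgroup G} {τ : ℤ → ℤ → ℤ → G}
  {x1 x2 x3 s ξ h : G}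

/-- the action of an element `o * g` of `O S` on `T` -/
theorem act_og (H : Sit n S T O τ x1 x2 x3 s ξ) {o g : G} (ho : o ∈ O) (hg : g ∈ (S : Subgroup G)) :
    ∃ j : Fin 8, ∀ a b c, (o * g) * τ a b c * (o * g)⁻¹ = tp τ (M j a b c) := by
  obtain ⟨t, ht, j, rfl⟩ := (mem_S H.rel g).1 hg
  refine ⟨j, fun a b c => ?_⟩
  have e1 := conj_τ H.rel.toRel j ht a b c
  have e2 : o * tp τ (M j a b c) = tp τ (M j a b c) * o := H.O_le o ho _ (mem_τ H.rel.toRel _ _ _)
  calc (o * (t * W x1 x2 x3 s j)) * τ a b c * (o * (t * W x1 x2 x3 s j))⁻¹ =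
      o * ((t * W x1 x2 x3 s j) * τ a b c * (t * W x1 x2 x3 s j)⁻¹) * o⁻¹ := by group
    _ = tp τ (M j a b c) := by rw [e1, e2, mul_inv_cancel_right]

theorem ξ_conj (H : Sit n S T O τ x1 x2 x3 s ξ) (a b c : ℤ) :
    ξ * τ a b c * ξ⁻¹ = τ a (-a - b - c) b := by
  rw [H.ξτ, mul_inv_cancel_right]

theorem not_two {n : ℕ} (hn : 2 ≤ n) {x : ℤ} (hx : (2 : ℤ) ^ n ∣ x) (h4 : ¬ (4 : ℤ) ∣ x) : False :=
  h4 (four_dvd hn hx)

/-- an element of `N_G(T)` centralising `c = τ 1 (-1) (-1)` and `v = τ e' e' e'` acts on `T` as `1` or as `x3`. -/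
theorem fix_cv (H : Sit n S T O τ x1 x2 x3 s ξ) {k : G} (hk : k ∈ normalizer (T : Set G))
    (hc : k * τ 1 (-1) (-1) * k⁻¹ = τ 1 (-1) (-1))
    (hv : k * τ (2 ^ (n - 2)) (2 ^ (n - 2)) (2 ^ (n - 2)) * k⁻¹ = τ (2 ^ (n - 2)) (2 ^ (n - 2)) (2 ^ (n - 2))) :
    (∀ a b c, k * τ a b c * k⁻¹ = τ a b c) ∨ (∀ a b c, k * τ a b c * k⁻¹ = τ (-a - b - c) c b) := by
  have R := H.rel.toRel
  have hn := H.hn
  have hp : (2 : ℤ) ^ n = 4 * 2 ^ (n - 2) := by
    have : (2 : ℤ) ^ n = 2 ^ (n - 2 + 2) := by rw [Nat.sub_add_cancel hn]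
    rw [this, pow_add]; ring
  have hp1 : (2 : ℤ) ^ (n - 1) = 2 * 2 ^ (n - 2) := by
    have : (2 : ℤ) ^ (n - 1) = 2 ^ (n - 2 + 1) := by congr 1; omega
    rw [this, pow_add]; ring
  have hpos : (0 : ℤ) < 2 ^ (n - 2) := by positivity
  generalize hE : (2 : ℤ) ^ (n - 2) = E at hp hp1 hpos hv
  have hz : k * τ (2 ^ (n - 1)) (2 ^ (n - 1)) (2 ^ (n - 1)) =
      τ (2 ^ (n - 1)) (2 ^ (n - 1)) (2 ^ (n - 1)) * k := by
    have e : τ (2 ^ (n - 1)) (2 ^ (n - 1)) (2 ^ (n - 1)) = τ E E E * τ E E E := by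
      rw [R.mul, hp1, two_mul]
    have e' : k * (τ E E E * τ E E E) * k⁻¹ = τ E E E * τ E E E := by
      calc k * (τ E E E * τ E E E) * k⁻¹ = (k * τ E E E * k⁻¹) * (k * τ E E E * k⁻¹) := by group
        _ = _ := by rw [hv]
    rw [e]
    exact (mul_inv_eq_iff_eq_mul.1 e')
  obtain ⟨o, ho, g, hg, i, hi, rfl⟩ := exists_dec H hk hz
  obtain ⟨j, hj⟩ := act_og H ho hg
  have h2 : ¬ (4 * E ∣ -E - E) := by
    rintro ⟨q, hq⟩
    have : E * (-2) = E * (4 * q) := by rw [← mul_assoc, mul_comm E 4, ← hq]; ring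
    have := mul_left_cancel₀ hpos.ne' this
    omega
  have h2' : ¬ (4 * E ∣ E + E) := fun hd => h2 (by rw [← dvd_neg]; simpa only [add_comm, _root_.neg_sub, _root_.sub_neg_eq_add] using hd)
  -- the conjugate of `τ a b c`
  interval_cases i
  · -- `i = 0`
    rw [pow_zero, mul_one] at hc hv ⊢
    rw [hj, tp, τ_eq R] at hc hv
    rw [hp] at hv
    obtain ⟨hc1, hc2, hc3⟩ := hc
    obtain ⟨hv1, hv2, hv3⟩ := hv
    fin_cases j
    · left; intro a b c; rw [hj]; rfl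
    · exfalso; exact not_two hn hc1 (by simp only [M]; norm_num only [_root_.Fin.mk_one, _root_.Matrix.cons_val', _root_.Matrix.cons_val_fin_one, _root_.zero_sub, _root_.zero_add, _root_.Matrix.cons_val_one, _root_.Matrix.cons_val_zero, _root_.dvd_neg, _root_.not_false_eq_true])
    · exfalso; exact not_two hn hc1 (by simp only [M]; norm_num only [_root_.Matrix.cons_val', _root_.Matrix.cons_val_fin_one, _root_.zero_sub, _root_.zero_add, _root_.Matrix.cons_val_succ', _root_.Fin.mk_one, _root_.Matrix.cons_val_one, _root_.Matrix.cons_val_zero, _root_.dvd_neg, _root_.not_false_eq_true])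
    · right; intro a b c; rw [hj]; rfl
    · exfalso; exact h2 hv1
    · exfalso; exact h2 (by simpa only [M, _root_.Fin.reduceFinMk, _root_.Matrix.cons_val', _root_.Matrix.cons_val_fin_one, _root_.Fin.isValue, _root_.Matrix.cons_val, _root_.Matrix.cons_val_one, _root_.Matrix.cons_val_zero] using hv1)
    · exfalso; exact h2 (by simpa only [M, _root_.Fin.reduceFinMk, _root_.Matrix.cons_val', _root_.Matrix.cons_val_fin_one, _root_.Fin.isValue, _root_.Matrix.cons_val, _root_.Matrix.cons_val_one, _root_.Matrix.cons_val_zero] using hv1)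
    · exfalso; exact h2 (by simpa only [M, _root_.Fin.reduceFinMk, _root_.Matrix.cons_val', _root_.Matrix.cons_val_fin_one, _root_.Fin.isValue, _root_.Matrix.cons_val, _root_.Matrix.cons_val_one] using hv2)
  · -- `i = 1`
    exfalso
    have hj' : ∀ a b c, (o * g * ξ ^ 1) * τ a b c * (o * g * ξ ^ 1)⁻¹ = tp τ (M j a (-a - b - c) b) := by
      intro a b c
      rw [pow_one, ← hj, ← ξ_conj H]; group
    rw [hj', tp, τ_eq R] at hc hv
    rw [hp] at hv
    obtain ⟨hc1, hc2, hc3⟩ := hc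
    obtain ⟨hv1, hv2, hv3⟩ := hv
    fin_cases j
    · exact not_two hn hc2 (by simp only [M]; norm_num only [_root_.Fin.zero_eta, _root_.Matrix.cons_val', _root_.Matrix.cons_val_fin_one, _root_.Matrix.cons_val_zero, _root_.sub_neg_eq_add, _root_.not_false_eq_true])
    · exact not_two hn hc2 (by simp only [M]; norm_num only [_root_.Fin.mk_one, _root_.Matrix.cons_val', _root_.Matrix.cons_val_fin_one, _root_.Matrix.cons_val_one, _root_.Matrix.cons_val_zero, _root_.sub_neg_eq_add, _root_.not_false_eq_true])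
    · exact not_two hn hc1 (by simp only [M]; norm_num only [_root_.Matrix.cons_val', _root_.Matrix.cons_val_fin_one, _root_.Matrix.cons_val_succ', _root_.Fin.mk_one, _root_.Matrix.cons_val_one, _root_.Matrix.cons_val_zero, _root_.dvd_neg, _root_.not_false_eq_true])
    · exact not_two hn hc1 (by simp only [M]; norm_num only [_root_.Matrix.cons_val', _root_.Matrix.cons_val_fin_one, _root_.Matrix.cons_val_succ', _root_.Fin.mk_one, _root_.Matrix.cons_val_one, _root_.Matrix.cons_val_zero, _root_.dvd_neg, _root_.not_false_eq_true])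
    · exact h2 (by simpa only [M, _root_.Fin.reduceFinMk, _root_.Matrix.cons_val', _root_.Matrix.cons_val_fin_one, _root_.Fin.isValue, _root_.neg_sub, _root_.add_sub_cancel, _root_.sub_add_cancel, _root_.Matrix.cons_val, _root_.Matrix.cons_val_one, _root_.Matrix.cons_val_zero] using hv1)
    · exact h2 (by simpa only [M, _root_.Fin.reduceFinMk, _root_.Matrix.cons_val', _root_.Matrix.cons_val_fin_one, _root_.Fin.isValue, _root_.neg_sub, _root_.add_sub_cancel, _root_.sub_add_cancel, _root_.Matrix.cons_val, _root_.Matrix.cons_val_one, _root_.Matrix.cons_val_zero] using hv2)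
    · exact h2' (by simpa only [M, _root_.Fin.reduceFinMk, _root_.Matrix.cons_val', _root_.Matrix.cons_val_fin_one, _root_.Fin.isValue, _root_.neg_sub, _root_.add_sub_cancel, _root_.sub_add_cancel, _root_.Matrix.cons_val, _root_.Matrix.cons_val_one, _root_.Matrix.cons_val_zero, _root_.sub_sub_cancel_left, _root_.sub_neg_eq_add] using hv1)
    · exact h2 (by simpa only [M, _root_.Fin.reduceFinMk, _root_.Matrix.cons_val', _root_.Matrix.cons_val_fin_one, _root_.Fin.isValue, _root_.neg_sub, _root_.add_sub_cancel, _root_.sub_add_cancel, _root_.Matrix.cons_val, _root_.Matrix.cons_val_one] using hv3)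
  · -- `i = 2`
    exfalso
    have hj' : ∀ a b c, (o * g * ξ ^ 2) * τ a b c * (o * g * ξ ^ 2)⁻¹ =
        tp τ (M j a (-a - (-a - b - c) - b) (-a - b - c)) := by
      intro a b c
      rw [← hj, ← ξ_conj H, ← ξ_conj H, pow_two]; group
    rw [hj', tp, τ_eq R] at hc hv
    rw [hp] at hv
    obtain ⟨hc1, hc2, hc3⟩ := hc
    obtain ⟨hv1, hv2, hv3⟩ := hv
    fin_cases j
    · exact not_two hn hc3 (by simp only [M]; norm_num only [_root_.Fin.zero_eta, _root_.Matrix.cons_val', _root_.Matrix.cons_val_fin_one, _root_.zero_sub, _root_.zero_add, _root_.Matrix.cons_val_zero, _root_.sub_neg_eq_add, _root_.not_false_eq_true])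
    · exact not_two hn hc1 (by simp only [M]; norm_num only [_root_.Fin.mk_one, _root_.Matrix.cons_val', _root_.Matrix.cons_val_fin_one, _root_.zero_sub, _root_.zero_add, _root_.Matrix.cons_val_one, _root_.Matrix.cons_val_zero, _root_.dvd_neg, _root_.not_false_eq_true])
    · exact not_two hn hc3 (by simp only [M]; norm_num only [_root_.Matrix.cons_val', _root_.Matrix.cons_val_fin_one, _root_.zero_sub, _root_.zero_add, _root_.Matrix.cons_val_succ', _root_.Fin.mk_one, _root_.Matrix.cons_val_one, _root_.Matrix.cons_val_zero, _root_.sub_neg_eq_add, _root_.not_false_eq_true])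
    · exact not_two hn hc1 (by simp only [M]; norm_num only [_root_.Matrix.cons_val', _root_.Matrix.cons_val_fin_one, _root_.zero_sub, _root_.zero_add, _root_.Matrix.cons_val_succ', _root_.Fin.mk_one, _root_.Matrix.cons_val_one, _root_.Matrix.cons_val_zero, _root_.dvd_neg, _root_.not_false_eq_true])
    · exact h2 (by simpa only [M, _root_.Fin.reduceFinMk, _root_.Matrix.cons_val', _root_.Matrix.cons_val_fin_one, _root_.Fin.isValue, _root_.neg_sub, _root_.add_sub_cancel, _root_.sub_add_cancel, _root_.Matrix.cons_val, _root_.Matrix.cons_val_one, _root_.Matrix.cons_val_zero] using hv1)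
    · exact h2 (by simpa only [M, _root_.Fin.reduceFinMk, _root_.Matrix.cons_val', _root_.Matrix.cons_val_fin_one, _root_.Fin.isValue, _root_.neg_sub, _root_.add_sub_cancel, _root_.sub_add_cancel, _root_.Matrix.cons_val, _root_.Matrix.cons_val_one, _root_.Matrix.cons_val_zero] using hv2)
    · exact h2 (by simpa only [M, _root_.Fin.reduceFinMk, _root_.Matrix.cons_val', _root_.Matrix.cons_val_fin_one, _root_.Fin.isValue, _root_.neg_sub, _root_.add_sub_cancel, _root_.sub_add_cancel, _root_.Matrix.cons_val, _root_.Matrix.cons_val_one, _root_.Matrix.cons_val_zero] using hv3)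
    · exact h2' (by simpa only [M, _root_.Fin.reduceFinMk, _root_.Matrix.cons_val', _root_.Matrix.cons_val_fin_one, _root_.Fin.isValue, _root_.neg_sub, _root_.add_sub_cancel, _root_.sub_add_cancel, _root_.Matrix.cons_val, _root_.Matrix.cons_val_one, _root_.sub_sub_cancel_left, _root_.sub_neg_eq_add] using hv3)

/-- **`n ≥ 3` is impossible.** -/
theorem main [Finite G] (H : Sit n S T O τ x1 x2 x3 s ξ) (C : Conj n S T τ x3 h) (h3 : 3 ≤ n) : False := by
  have R := H.rel.toRel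
  have hn := H.hn
  have hn1 : 1 ≤ n := by omega
  have hp1 : (2 : ℤ) ^ (n - 1) = 2 * 2 ^ (n - 2) := by
    have : (2 : ℤ) ^ (n - 1) = 2 ^ (n - 2 + 1) := by congr 1; omega
    rw [this, pow_add]; ring
  have hp2 : (2 : ℤ) ^ (n - 2) = 2 * 2 ^ (n - 3) := by
    have : (2 : ℤ) ^ (n - 2) = 2 ^ (n - 3 + 1) := by congr 1; omega
    rw [this, pow_add]; ring
  have hp : (2 : ℤ) ^ n = 8 * 2 ^ (n - 3) := by
    have : (2 : ℤ) ^ n = 2 ^ (n - 3 + 3) := by rw [Nat.sub_add_cancel h3]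
    rw [this, pow_add]; ring
  have hx3S : x3 ∈ (S : Subgroup G) := W_mem_S H.rel 3
  have hx1S : x1 ∈ (S : Subgroup G) := W_mem_S H.rel 1
  have hcS : τ 1 (-1) (-1) ∈ (S : Subgroup G) := T_le_S H.rel (mem_τ R _ _ _)
  have hx3N : ∀ t ∈ T, x3 * t * x3 ∈ T := by
    intro t ht
    have := T_normal H.rel x3 hx3S t ht
    rwa [inv_eq_of_mul_eq_one_right R.x3x3] at this
  have hcx : τ 1 (-1) (-1) * x3 = x3 * τ 1 (-1) (-1) := by
    rw [R.x3τ]; norm_num
  have hx1x3 : x1 * x3 = x3 * x1 := by rw [x13 R, R.x31]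
  -- an element `r` inverting `c` is not mapped to `T` if `c` is mapped to `T x3`
  have key : ∀ r t : G, t ∈ T → h * τ 1 (-1) (-1) * h⁻¹ = t * x3 → r * τ 1 (-1) (-1) * r⁻¹ = τ (-1) 1 1 →
      h * r * h⁻¹ ∉ T := by
    intro r t ht hct hr hrT
    have e1 : h * (τ 1 (-1) (-1) * τ 1 (-1) (-1)) * h⁻¹ ∈ T := by
      have : h * (τ 1 (-1) (-1) * τ 1 (-1) (-1)) * h⁻¹ = t * (x3 * t * x3) := by
        calc h * (τ 1 (-1) (-1) * τ 1 (-1) (-1)) * h⁻¹ =
            (h * τ 1 (-1) (-1) * h⁻¹) * (h * τ 1 (-1) (-1) * h⁻¹) := by group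
          _ = t * (x3 * t * x3) := by rw [hct]; group
      rw [this]; exact mul_mem ht (hx3N t ht)
    have e2 := comm_T R _ e1 _ hrT
    have e3 : r * (τ 1 (-1) (-1) * τ 1 (-1) (-1)) * r⁻¹ = τ 1 (-1) (-1) * τ 1 (-1) (-1) := by
      have e4 : h * ((τ 1 (-1) (-1) * τ 1 (-1) (-1)) * r) * h⁻¹ = h * (r * (τ 1 (-1) (-1) * τ 1 (-1) (-1))) * h⁻¹ := by
        calc h * ((τ 1 (-1) (-1) * τ 1 (-1) (-1)) * r) * h⁻¹ =
            (h * (τ 1 (-1) (-1) * τ 1 (-1) (-1)) * h⁻¹) * (h * r * h⁻¹) := by group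
          _ = (h * r * h⁻¹) * (h * (τ 1 (-1) (-1) * τ 1 (-1) (-1)) * h⁻¹) := e2
          _ = _ := by group
      have e5 := mul_left_cancel (mul_right_cancel e4)
      rw [← e5, mul_inv_cancel_right]
    have e6 : r * (τ 1 (-1) (-1) * τ 1 (-1) (-1)) * r⁻¹ = τ (-1) 1 1 * τ (-1) 1 1 := by
      calc r * (τ 1 (-1) (-1) * τ 1 (-1) (-1)) * r⁻¹ = (r * τ 1 (-1) (-1) * r⁻¹) * (r * τ 1 (-1) (-1) * r⁻¹) := by
            group
        _ = _ := by rw [hr]
    rw [e3, R.mul, R.mul, τ_eq R] at e6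
    have h8 : (8 : ℤ) ∣ 2 ^ n := ⟨_, hp⟩
    have := h8.trans e6.1
    norm_num at this
  have hx1c : x1 * τ 1 (-1) (-1) * x1⁻¹ = τ (-1) 1 1 := by
    rw [R.x1τ, mul_inv_cancel_right]; norm_num
  -- `c` is mapped into `T`
  have hcT : h * τ 1 (-1) (-1) * h⁻¹ ∈ T := by
    obtain ⟨t, ht, hc | hc⟩ := C.hD _ hcS hcx
    · rw [hc]; exact ht
    · exfalso
      obtain ⟨t', ht', hc' | hc'⟩ := C.hD _ hx1S hx1x3
      · exact key x1 t ht hc hx1c (by rw [hc']; exact ht')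
      · refine key (τ 1 (-1) (-1) * x1) t ht hc ?_ ?_
        · calc τ 1 (-1) (-1) * x1 * τ 1 (-1) (-1) * (τ 1 (-1) (-1) * x1)⁻¹ =
              τ 1 (-1) (-1) * (x1 * τ 1 (-1) (-1) * x1⁻¹) * (τ 1 (-1) (-1))⁻¹ := by group
            _ = τ (-1) 1 1 := by
              rw [hx1c, comm_T R _ (mem_τ R _ _ _) _ (mem_τ R (-1) 1 1), mul_inv_cancel_right]
        · have : h * (τ 1 (-1) (-1) * x1) * h⁻¹ = t * (x3 * t' * x3) := by
            calc h * (τ 1 (-1) (-1) * x1) * h⁻¹ = (h * τ 1 (-1) (-1) * h⁻¹) * (h * x1 * h⁻¹) := by group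
              _ = _ := by rw [hc, hc']; group
          rw [this]; exact mul_mem ht (hx3N t' ht')
  have hvT : h * τ (2 ^ (n - 2)) (2 ^ (n - 2)) (2 ^ (n - 2)) * h⁻¹ ∈ T := by
    rcases C.hv with hv | hv
    · rw [hv]; exact mem_τ R _ _ _
    · rw [hv]; exact inv_mem (mem_τ R _ _ _)
  -- correct `h`
  obtain ⟨m, hm, hmX⟩ := _root_.Cfsg.Agent.ONType.Control.control H {τ 1 (-1) (-1), τ (2 ^ (n - 2)) (2 ^ (n - 2)) (2 ^ (n - 2))} (g := h)
    (by
      intro x hx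
      rcases hx with rfl | hx
      · exact mem_τ R _ _ _
      · rw [Set.mem_singleton_iff.1 hx]; exact mem_τ R _ _ _)
    (by
      intro x hx
      rcases hx with rfl | hx
      · exact hcT
      · rw [Set.mem_singleton_iff.1 hx]; exact hvT)
  have hmc := hmX _ (Set.mem_insert _ _)
  have hmv := hmX _ (Set.mem_insert_of_mem _ rfl)
  have hfix : ∀ x, m * x * m⁻¹ = h * x * h⁻¹ → (m⁻¹ * h) * x * (m⁻¹ * h)⁻¹ = x := by
    intro x hx
    calc (m⁻¹ * h) * x * (m⁻¹ * h)⁻¹ = m⁻¹ * (h * x * h⁻¹) * m := by group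
      _ = x := by rw [← hx]; group
  have hc' := hfix _ hmc
  have hv' := hfix _ hmv
  have hx' : (m⁻¹ * h) * x3 * (m⁻¹ * h)⁻¹ ∈ T := by
    have : (m⁻¹ * h) * x3 * (m⁻¹ * h)⁻¹ = m⁻¹ * τ (2 ^ (n - 1)) 0 0 * m⁻¹⁻¹ := by
      rw [← C.hx]; group
    rw [this]
    exact conj_mem (inv_mem hm) (mem_τ R _ _ _)
  generalize m⁻¹ * h = k at hc' hv' hx'
  have hx2 : (k * x3 * k⁻¹) * (k * x3 * k⁻¹) = 1 := by
    calc (k * x3 * k⁻¹) * (k * x3 * k⁻¹) = k * (x3 * x3) * k⁻¹ := by group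
      _ = 1 := by rw [R.x3x3]; group
  obtain ⟨i, j, l, -, -, -, hel⟩ := exists_el R hn1 hx' hx2
  -- `w = el 1 0 0` is fixed by `k`
  have hcn : ∀ a b : G, k * a * k⁻¹ = a → k * b * k⁻¹ = b → k * (a * b) * k⁻¹ = a * b := by
    intro a b ha hb
    calc k * (a * b) * k⁻¹ = (k * a * k⁻¹) * (k * b * k⁻¹) := by group
      _ = a * b := by rw [ha, hb]
  have hpow : ∀ (a : G) (r : ℕ), k * a * k⁻¹ = a → k * a ^ r * k⁻¹ = a ^ r := by
    intro a r ha
    induction r with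
    | zero => simp
    | succ r ih => rw [pow_succ]; exact hcn _ _ ih ha
  have hw : k * el n τ 1 0 0 * k⁻¹ = el n τ 1 0 0 := by
    have e : el n τ 1 0 0 = (τ 1 (-1) (-1)) ^ (2 ^ (n - 2)) * τ (2 ^ (n - 2)) (2 ^ (n - 2)) (2 ^ (n - 2)) := by
      rw [el_100, τ_pow R, R.mul]
      congr 1
      · push_cast; rw [hp1]; ring
      · push_cast; ring
      · push_cast; ring
    rw [e]
    exact hcn _ _ (hpow _ _ hc') hv'
  -- `u x3 u⁻¹ = w x3`
  have hu : τ (2 ^ (n - 2)) 0 0 * x3 * (τ (2 ^ (n - 2)) 0 0)⁻¹ = el n τ 1 0 0 * x3 := by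
    rw [τ_inv R, mul_assoc, R.x3τ, ← mul_assoc, R.mul, el_100, hp1]
    congr 2 <;> ring
  have hcomm : ∀ a b c : ℤ, τ (2 ^ (n - 2)) 0 0 * τ a b c * (τ (2 ^ (n - 2)) 0 0)⁻¹ = τ a b c := by
    intro a b c
    rw [τ_comm R, mul_inv_cancel_right]
  have hg : ∀ a b : G, k * a * k⁻¹ = b → (k * τ (2 ^ (n - 2)) 0 0 * k⁻¹) * b * (k * τ (2 ^ (n - 2)) 0 0 * k⁻¹)⁻¹ =
      k * (τ (2 ^ (n - 2)) 0 0 * a * (τ (2 ^ (n - 2)) 0 0)⁻¹) * k⁻¹ := by
    rintro a b rfl
    group
  have g1 := hg _ _ hc'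
  have g2 := hg _ _ hv'
  have g3 := hg _ _ hel
  rw [hcomm, hc'] at g1
  rw [hcomm, hv'] at g2
  have g3' : k * (el n τ 1 0 0 * x3) * k⁻¹ = el n τ 1 0 0 * el n τ i j l := by
    calc k * (el n τ 1 0 0 * x3) * k⁻¹ = (k * el n τ 1 0 0 * k⁻¹) * (k * x3 * k⁻¹) := by group
      _ = _ := by rw [hw, hel]
  rw [hu, g3'] at g3
  generalize k * τ (2 ^ (n - 2)) 0 0 * k⁻¹ = g at g1 g2 g3
  obtain ⟨m', hm', hmX'⟩ := _root_.Cfsg.Agent.ONType.Control.control H {τ 1 (-1) (-1), τ (2 ^ (n - 2)) (2 ^ (n - 2)) (2 ^ (n - 2)), el n τ i j l}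
    (g := g)
    (by
      intro x hx
      rcases hx with rfl | rfl | hx
      · exact mem_τ R _ _ _
      · exact mem_τ R _ _ _
      · rw [Set.mem_singleton_iff.1 hx]; exact mem_τ R _ _ _)
    (by
      intro x hx
      rcases hx with rfl | rfl | hx
      · rw [g1]; exact mem_τ R _ _ _
      · rw [g2]; exact mem_τ R _ _ _
      · rw [Set.mem_singleton_iff.1 hx, g3]; exact mul_mem (mem_τ R _ _ _) (mem_τ R _ _ _))
  have f1 := hmX' _ (Set.mem_insert _ _)
  have f2 := hmX' _ (Set.mem_insert_of_mem _ (Set.mem_insert _ _))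
  have f3 := hmX' _ (Set.mem_insert_of_mem _ (Set.mem_insert_of_mem _ rfl))
  rw [g1] at f1
  rw [g2] at f2
  rw [g3, el_mul R] at f3
  rcases fix_cv H hm' f1 f2 with hf | hf
  · have e : m' * el n τ i j l * m'⁻¹ = el n τ i j l := hf _ _ _
    rw [e, el_eq R hn1] at f3
    omega
  · have e : m' * el n τ i j l * m'⁻¹ = el n τ (-i - j - l) l j := by
      rw [show el n τ i j l = τ (2 ^ (n - 1) * i) (2 ^ (n - 1) * j) (2 ^ (n - 1) * l) from rfl, hf]
      unfold el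
      congr 1
      ring
    rw [e, el_eq R hn1] at f3
    omega

end Cfsg.Agent.ONType.NThree
end

-- part: ONType/Adj
section
/-!
# Subgroups: adjoining an element of order 2 modulo, lifting modulo a normal subgroup of odd order
-/

set_option autoImplicit false
set_option linter.unusedSectionVars false
set_option linter.unusedTactic false

namespace Cfsg.Agent.ONType.Adj

open Subgroup

section adj

variable {G : Type*} [Group G]

/-- `H ∪ H s` -/
def adj (H : Subgroup G) (s : G) (hs : s * s ∈ H) (hn : ∀ x ∈ H, s * x * s⁻¹ ∈ H) : Subgroup G where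
  carrier := {g | g ∈ H ∨ g * s ∈ H}
  one_mem' := Or.inl (one_mem _)
  mul_mem' := by
    rintro a b ha hb
    have hn' : ∀ x ∈ H, s⁻¹ * x * s ∈ H := by
      intro x hx
      have h1 := hn x hx
      have h2 : s⁻¹ * x * s = (s * s)⁻¹ * (s * x * s⁻¹) * (s * s) := by group
      rw [h2]
      exact mul_mem (mul_mem (inv_mem hs) h1) hs
    rcases ha with ha | ha
    · rcases hb with hb | hb
      · exact Or.inl (mul_mem ha hb)
      · right
        change a * b * s ∈ H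
        rw [mul_assoc]; exact mul_mem ha hb
    · rcases hb with hb | hb
      · right
        have h2 : a * b * s = (a * s) * (s⁻¹ * b * s) := by group
        change a * b * s ∈ H
        rw [h2]; exact mul_mem ha (hn' _ hb)
      · left
        have h2 : a * b = (a * s) * (s⁻¹ * (b * s) * s) * (s * s)⁻¹ := by group
        change a * b ∈ H
        rw [h2]; exact mul_mem (mul_mem ha (hn' _ hb)) (inv_mem hs)
  inv_mem' := by
    rintro a ha
    rcases ha with ha | ha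
    · exact Or.inl (inv_mem ha)
    · right
      have h2 : a⁻¹ * s = s * (a * s)⁻¹ * s⁻¹ * (s * s) := by group
      change a⁻¹ * s ∈ H
      rw [h2]; exact mul_mem (hn _ (inv_mem ha)) hs

variable {H : Subgroup G} {s : G} (hs : s * s ∈ H) (hn : ∀ x ∈ H, s * x * s⁻¹ ∈ H)

theorem le_adj : H ≤ adj H s hs hn := fun _ hx => Or.inl hx

theorem self_mem_adj : s ∈ adj H s hs hn := Or.inr hs

theorem card_adj (hsH : s ∉ H) : Nat.card (adj H s hs hn) = 2 * Nat.card H := by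
  have hidx : (H.subgroupOf (adj H s hs hn)).index = 2 := by
    rw [index_eq_two_iff]
    refine ⟨⟨s, self_mem_adj hs hn⟩, ?_⟩
    rintro ⟨b, hb⟩
    rw [mem_subgroupOf, mem_subgroupOf]
    rcases hb with hb | hb
    · right
      refine ⟨hb, fun h => hsH ?_⟩
      have h : b * s ∈ H := h
      exact (mul_mem_cancel_left hb).mp h
    · left
      refine ⟨hb, fun h => hsH ?_⟩
      have h : b ∈ H := h
      exact (mul_mem_cancel_left h).mp hb
  have h1 := (H.subgroupOf (adj H s hs hn)).card_mul_index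
  rw [hidx, Nat.card_congr (subgroupOfEquivOfLe (le_adj hs hn)).toEquiv] at h1
  omega

end adj

section lift

variable {N : Type*} [Group N] [Finite N] {O : Subgroup N} [O.Normal]

/-- a subgroup all of whose elements have odd order -/
theorem odd_card {O : Subgroup N} (hO : ∀ o ∈ O, Odd (orderOf o)) : Odd (Nat.card O) := by
  by_contra hcon
  rw [Nat.not_odd_iff_even, even_iff_two_dvd] at hcon
  obtain ⟨x, hx⟩ := exists_prime_orderOf_dvd_card' 2 hcon
  have := hO x x.2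
  rw [orderOf_coe, hx] at this
  exact absurd this (by decide)

theorem inter_odd {P : Subgroup N} (hP : IsPGroup 2 P) (hO : ∀ o ∈ O, Odd (orderOf o)) {x : N} (hx : x ∈ P)
    (hxO : x ∈ O) : x = 1 := by
  obtain ⟨k, hk⟩ := hP ⟨x, hx⟩
  have hk' : x ^ 2 ^ k = 1 := congrArg Subtype.val hk
  have h1 := hO x hxO
  have h2 := orderOf_dvd_of_pow_eq_one hk'
  obtain ⟨j, hj, e⟩ := (Nat.dvd_prime_pow Nat.prime_two).mp h2
  rcases Nat.eq_zero_or_pos j with rfl | hj0
  · rw [pow_zero] at e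
    exact orderOf_eq_one_iff.mp e
  · rw [e] at h1
    exfalso
    have : Even (2 ^ j) := (Nat.even_pow.mpr ⟨even_two, by omega⟩)
    exact (Nat.not_even_iff_odd.mpr h1) this

/-- the quotient map is injective on 2-subgroups -/
theorem inj_two {P : Subgroup N} (hP : IsPGroup 2 P) (hO : ∀ o ∈ O, Odd (orderOf o)) {x y : N} (hx : x ∈ P)
    (hy : y ∈ P) (h : (x : N ⧸ O) = (y : N ⧸ O)) : x = y := by
  rw [QuotientGroup.eq] at h
  have := inter_odd hP hO (mul_mem (inv_mem hx) hy) h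
  rw [inv_mul_eq_one] at this
  exact this

/-- lifting a 2-subgroup -/
theorem exists_lift (hO : ∀ o ∈ O, Odd (orderOf o)) {B : Subgroup (N ⧸ O)} (hB : IsPGroup 2 B) :
    ∃ P : Subgroup N, IsPGroup 2 P ∧ P.map (QuotientGroup.mk' O) = B ∧
      ∀ T : Subgroup N, T.Normal → IsPGroup 2 T → T.map (QuotientGroup.mk' O) ≤ B → T ≤ P := by
  classical
  set f := QuotientGroup.mk' O with hf
  set K := B.comap f with hK
  let Q : Sylow 2 K := default
  set! P := (Q : Subgroup K).map K.subtype with hP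
  have hPK : P ≤ K := map_subtype_le _
  have hP2 : IsPGroup 2 P := Q.isPGroup'.map _
  have hle : P.map f ≤ B := by
    rw [map_le_iff_le_comap]; exact hPK
  have hcardP : Nat.card (P.map f) = Nat.card P := by
    symm
    refine Nat.card_congr (Equiv.ofBijective (fun x : P => (⟨f x, mem_map_of_mem f x.2⟩ : P.map f)) ⟨?_, ?_⟩)
    · intro x y hxy
      apply Subtype.ext
      exact inj_two hP2 hO x.2 y.2 (congrArg Subtype.val hxy)
    · rintro ⟨_, x, hx, rfl⟩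
      exact ⟨⟨x, hx⟩, rfl⟩
  have hcardPQ : Nat.card P = Nat.card Q :=
    (Nat.card_congr ((Q : Subgroup K).equivMapOfInjective _ K.subtype_injective).toEquiv).symm
  -- the order of `K`
  have hcardK : Nat.card K = Nat.card B * Nat.card O := by
    have hsurj : Function.Surjective f := QuotientGroup.mk'_surjective O
    have h1 : K.index = B.index := index_comap_of_surjective B hsurj
    have h2 := K.card_mul_index
    have h3 := B.card_mul_index
    have h4 := O.card_mul_index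
    have h5 : O.index = Nat.card (N ⧸ O) := rfl
    have h6 : B.index ≠ 0 := index_ne_zero_of_finite
    rw [h1, ← h4, h5, ← h3] at h2
    have h7 : Nat.card K * B.index = (Nat.card B * Nat.card O) * B.index := by
      rw [h2]; ring
    exact Nat.eq_of_mul_eq_mul_right (Nat.pos_of_ne_zero h6) h7
  obtain ⟨m, hm⟩ := IsPGroup.iff_card.mp hB
  have hodd := odd_card hO
  have hQ : Nat.card Q = 2 ^ m := by
    have h0 : ¬ 2 ∣ Nat.card O := by
      intro h2
      exact (Nat.not_even_iff_odd.mpr hodd) (even_iff_two_dvd.mpr h2)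
    have h1 : Nat.card O ≠ 0 := Nat.card_pos.ne'
    rw [Q.card_eq_multiplicity, hcardK, hm, Nat.factorization_mul (by positivity) h1, Finsupp.add_apply,
      Nat.Prime.factorization_pow Nat.prime_two, Finsupp.single_eq_same, Nat.factorization_eq_zero_of_not_dvd h0, add_zero]
  refine ⟨P, hP2, eq_of_le_of_card_ge hle (by rw [hcardP, hcardPQ, hQ, hm]), ?_⟩
  intro T hT hT2 hTB
  have hTK : T ≤ K := by rw [hK, ← map_le_iff_le_comap]; exact hTB
  have hn : (T.subgroupOf K).Normal := inferInstance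
  have h2 : IsPGroup 2 (T.subgroupOf K) := hT2.comap_of_injective _ K.subtype_injective
  have h3 : IsPGroup 2 ((Q : Subgroup K) ⊔ T.subgroupOf K : Subgroup K) := Q.isPGroup'.to_sup_of_normal_right h2
  have h4 := Q.is_maximal' h3 le_sup_left
  intro t ht
  have h5 : (⟨t, hTK ht⟩ : K) ∈ (Q : Subgroup K) := by
    rw [← h4]
    exact mem_sup_right ht
  exact ⟨_, h5, rfl⟩

/-- two 2-subgroups with the same image are conjugate by an element of `O` -/
theorem exists_conj (hO : ∀ o ∈ O, Odd (orderOf o)) {R R' : Subgroup N} (hR : IsPGroup 2 R) (hR' : IsPGroup 2 R')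
    (hRR : R.map (QuotientGroup.mk' O) = R'.map (QuotientGroup.mk' O)) :
    ∃ o ∈ O, ∀ r ∈ R, o * r * o⁻¹ ∈ R' := by
  classical
  set f := QuotientGroup.mk' O with hf
  have hcardmap : ∀ P : Subgroup N, IsPGroup 2 P → Nat.card (P.map f) = Nat.card P := by
    intro P hP2
    symm
    refine Nat.card_congr (Equiv.ofBijective (fun x : P => (⟨f x, mem_map_of_mem f x.2⟩ : P.map f)) ⟨?_, ?_⟩)
    · intro x y hxy
      apply Subtype.ext
      exact inj_two hP2 hO x.2 y.2 (congrArg Subtype.val hxy)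
    · rintro ⟨_, x, hx, rfl⟩
      exact ⟨⟨x, hx⟩, rfl⟩
  set! K := (R.map f).comap f with hK
  have hcardK : Nat.card K = Nat.card R * Nat.card O := by
    have hsurj : Function.Surjective f := QuotientGroup.mk'_surjective O
    have h1 : K.index = (R.map f).index := index_comap_of_surjective _ hsurj
    have h2 := K.card_mul_index
    have h3 := (R.map f).card_mul_index
    have h4 := O.card_mul_index
    have h5 : O.index = Nat.card (N ⧸ O) := rfl
    have h6 : (R.map f).index ≠ 0 := index_ne_zero_of_finite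
    rw [h1, ← h4, h5, ← h3] at h2
    have h7 : Nat.card K * (R.map f).index = (Nat.card (R.map f) * Nat.card O) * (R.map f).index := by
      rw [h2]; ring
    have h8 := Nat.eq_of_mul_eq_mul_right (Nat.pos_of_ne_zero h6) h7
    rw [h8, hcardmap R hR]
  obtain ⟨m, hm⟩ := IsPGroup.iff_card.mp hR
  have hodd := odd_card hO
  have hcR' : Nat.card R' = Nat.card R := by rw [← hcardmap R hR, ← hcardmap R' hR', hRR]
  have hval : (Nat.card K).factorization 2 = m := by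
    have h0 : ¬ 2 ∣ Nat.card O := by
      intro h2
      exact (Nat.not_even_iff_odd.mpr hodd) (even_iff_two_dvd.mpr h2)
    have h1 : Nat.card O ≠ 0 := Nat.card_pos.ne'
    rw [hcardK, hm, Nat.factorization_mul (by positivity) h1, Finsupp.add_apply,
      Nat.Prime.factorization_pow Nat.prime_two, Finsupp.single_eq_same, Nat.factorization_eq_zero_of_not_dvd h0, add_zero]
  have hRK : R ≤ K := by rw [hK]; exact le_comap_map _ _
  have hR'K : R' ≤ K := by rw [hK, hRR]; exact le_comap_map _ _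
  let P : Sylow 2 K := Sylow.ofCard (R.subgroupOf K) (by
    rw [Nat.card_congr (subgroupOfEquivOfLe hRK).toEquiv, hval, hm])
  let P' : Sylow 2 K := Sylow.ofCard (R'.subgroupOf K) (by
    rw [Nat.card_congr (subgroupOfEquivOfLe hR'K).toEquiv, hval, hcR', hm])
  obtain ⟨g, hg⟩ := MulAction.exists_smul_eq K P P'
  have hgr : ∀ r (hr : r ∈ R), (g : N) * r * (g : N)⁻¹ ∈ R' := by
    intro r hr
    have h1 : g * ⟨r, hRK hr⟩ * g⁻¹ ∈ (g • P : Sylow 2 K) := by
      rw [← SetLike.mem_coe, Sylow.coe_smul]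
      exact Set.mem_image_of_mem _ (show (⟨r, hRK hr⟩ : K) ∈ R.subgroupOf K from hr)
    rw [hg] at h1
    exact h1
  -- `g = r' o`
  obtain ⟨r', hr', e⟩ : ∃ r' ∈ R', f r' = f g := by
    have : f g ∈ R.map f := g.2
    rw [hRR] at this
    obtain ⟨r', hr', e⟩ := this
    exact ⟨r', hr', e⟩
  refine ⟨r'⁻¹ * g, ?_, ?_⟩
  · have : ((r' : N) : N ⧸ O) = ((g : N) : N ⧸ O) := e
    rwa [QuotientGroup.eq] at this
  · intro r hr
    have h1 := hgr r hr
    have h2 : r'⁻¹ * ↑g * r * (r'⁻¹ * ↑g)⁻¹ = r'⁻¹ * (↑g * r * (↑g)⁻¹) * r' := by group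
    rw [h2]
    exact mul_mem (mul_mem (inv_mem hr') h1) hr'

/-- Frattini: an element which normalises the image of the 2-subgroup `R` -/
theorem exists_norm (hO : ∀ o ∈ O, Odd (orderOf o)) {R : Subgroup N} (hR : IsPGroup 2 R) {y : N}
    (hy : (R.map (MulAut.conj y).toMonoidHom).map (QuotientGroup.mk' O) = R.map (QuotientGroup.mk' O)) :
    ∃ o ∈ O, ∀ r ∈ R, (o * y) * r * (o * y)⁻¹ ∈ R := by
  obtain ⟨o, ho, h1⟩ := exists_conj hO (hR.map (MulAut.conj y).toMonoidHom) hR hy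
  refine ⟨o, ho, ?_⟩
  intro r hr
  have h2 := h1 (y * r * y⁻¹) ⟨r, hr, rfl⟩
  have h3 : o * y * r * (o * y)⁻¹ = o * (y * r * y⁻¹) * o⁻¹ := by group
  rw [h3]; exact h2

end lift

end Cfsg.Agent.ONType.Adj
end

-- part: ONType/SitLift
section
/-!
# O'Nan type groups: lifting the relations from `N/O` to `N`
-/

set_option autoImplicit false
set_option linter.unusedSectionVars false
set_option linter.unusedVariables false
set_option linter.unusedSimpArgs false
set_option linter.unusedTactic false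
set_option linter.unreachableTactic false

namespace Cfsg.Agent.ONType.SitLift

open Subgroup
open Cfsg.Agent.ONType.Rel Cfsg.Agent.ONType.Span Cfsg.Agent.ONType.ExtRel Cfsg.Agent.ONType.Adj

section

variable {G : Type*} [Group G]

theorem norm_adj {H : Subgroup G} {s : G} (hs : s * s ∈ H) (hn : ∀ x ∈ H, s * x * s⁻¹ ∈ H) {y : G}
    (h1 : ∀ x ∈ H, y * x * y⁻¹ ∈ H) (h2 : y * s * y⁻¹ ∈ adj H s hs hn) :
    ∀ x ∈ adj H s hs hn, y * x * y⁻¹ ∈ adj H s hs hn := by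
  rintro x (hx | hx)
  · exact Or.inl (h1 x hx)
  · have e : y * x * y⁻¹ = (y * (x * s) * y⁻¹) * (y * s * y⁻¹)⁻¹ := by group
    rw [e]
    exact mul_mem (le_adj hs hn (h1 _ hx)) (inv_mem h2)

variable {T : Subgroup G} {n : ℕ} {τ : ℤ → ℤ → ℤ → G} {x1 x2 x3 s : G} (R : _root_.Cfsg.Agent.ONType.Rel.Rel n T τ x1 x2 x3 s)
include R

theorem τ_mem (a b c : ℤ) : τ a b c ∈ T := (R.mem _).mpr ⟨a, b, c, rfl⟩

theorem x1x3 : x1 * x3 = x2 := by rw [← R.x12, ← mul_assoc, R.x1x1, one_mul]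

theorem x2x1 : x2 * x1 = x3 := by rw [← R.x23, ← mul_assoc, R.x2x2, one_mul]

theorem x3x2 : x3 * x2 = x1 := by rw [← R.x31, ← mul_assoc, R.x3x3, one_mul]

theorem not_mem {w : G} (hw : ∀ a b c, τ a b c ≠ w) : w ∉ T := by
  intro h
  obtain ⟨a, b, c, e⟩ := (R.mem _).mp h
  exact hw a b c e.symm

/-- `T⟨x3⟩`, `T⟨x1, x2, x3⟩`, `T⟨x1, x2, x3, s⟩` -/
theorem exists_groups [T.Normal] : ∃ B2 B3 : Subgroup G, B2 ≤ B3 ∧ Nat.card B3 = 8 * Nat.card T ∧
    (∀ g, g ∈ B2 ↔ ∃ a b c w, (w = 1 ∨ w = x1 ∨ w = x2 ∨ w = x3) ∧ g = τ a b c * w) ∧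
    (∀ g, g ∈ B3 ↔ ∃ a b c w, _root_.Cfsg.Agent.ONType.Rel.Rep x1 x2 x3 s w ∧ g = τ a b c * w) := by
  have hT : ∀ y : G, ∀ x ∈ T, y * x * y⁻¹ ∈ T := fun y x hx => Subgroup.Normal.conj_mem ‹_› x hx y
  have hone : (1 : G) ∈ T := one_mem _
  have i1 : x1⁻¹ = x1 := inv_eq_of_mul_eq_one_left R.x1x1
  have i2 : x2⁻¹ = x2 := inv_eq_of_mul_eq_one_left R.x2x2
  have i3 : x3⁻¹ = x3 := inv_eq_of_mul_eq_one_left R.x3x3
  have is : s⁻¹ = s := inv_eq_of_mul_eq_one_left R.ss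
  have e13 := x1x3 R
  have e21 := x2x1 R
  have e32 := x3x2 R
  -- `B1`
  have a1 : x3 * x3 ∈ T := by rw [R.x3x3]; exact hone
  have a2 := hT x3
  set! B1 := adj T x3 a1 a2 with hB1
  have mB1 : ∀ g, g ∈ B1 ↔ g ∈ T ∨ g * x3 ∈ T := fun g => Iff.rfl
  -- `B2`
  have b1 : x1 * x1 ∈ B1 := by rw [R.x1x1]; exact one_mem _
  have b2 : ∀ x ∈ B1, x1 * x * x1⁻¹ ∈ B1 := by
    apply norm_adj a1 a2 (hT x1)
    rw [i1, e13, e21]
    exact self_mem_adj a1 a2
  set! B2 := adj B1 x1 b1 b2 with hB2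
  have mB2 : ∀ g, g ∈ B2 ↔ (g ∈ T ∨ g * x3 ∈ T) ∨ (g * x1 ∈ T ∨ g * x1 * x3 ∈ T) := fun g => Iff.rfl
  have hTB2 : T ≤ B2 := fun t ht => (mB2 t).mpr (Or.inl (Or.inl ht))
  have hx1B2 : x1 ∈ B2 := self_mem_adj b1 b2
  have hx3B2 : x3 ∈ B2 := (mB2 _).mpr (Or.inl (Or.inr a1))
  have hx2B2 : x2 ∈ B2 := by rw [← R.x31]; exact mul_mem hx3B2 hx1B2
  have hsx3 : s * x3 * s⁻¹ = τ 1 0 0 * x3 := by rw [R.sx3]; group
  have hsx1 : s * x1 * s⁻¹ = τ 1 0 (-1) * x2 := by rw [R.sx1]; group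
  have c1 : s * s ∈ B2 := by rw [R.ss]; exact one_mem _
  have c2 : ∀ x ∈ B2, s * x * s⁻¹ ∈ B2 := by
    apply norm_adj b1 b2
    · apply norm_adj a1 a2 (hT s)
      rw [hsx3]
      exact mul_mem (le_adj a1 a2 (τ_mem R _ _ _)) (self_mem_adj a1 a2)
    · rw [hsx1]
      exact mul_mem (hTB2 (τ_mem R _ _ _)) hx2B2
  set! B3 := adj B2 s c1 c2 with hB3
  have mB3 : ∀ g, g ∈ B3 ↔ g ∈ B2 ∨ g * s ∈ B2 := fun g => Iff.rfl
  obtain ⟨k1, k2, k3, k4, k5, k6, k7⟩ := (⟨fun a b c => (R.cos a b c).1, fun a b c => (R.cos a b c).2.1,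
    fun a b c => (R.cos a b c).2.2.1, fun a b c => (R.cos a b c).2.2.2.1, fun a b c => (R.cos a b c).2.2.2.2.1,
    fun a b c => (R.cos a b c).2.2.2.2.2.1, fun a b c => (R.cos a b c).2.2.2.2.2.2⟩ :
    (∀ a b c, τ a b c ≠ x1) ∧ (∀ a b c, τ a b c ≠ x2) ∧ (∀ a b c, τ a b c ≠ x3) ∧ (∀ a b c, τ a b c ≠ s) ∧
    (∀ a b c, τ a b c ≠ x1 * s) ∧ (∀ a b c, τ a b c ≠ x2 * s) ∧ (∀ a b c, τ a b c ≠ x3 * s))
  have hB2mem : ∀ g, g ∈ B2 ↔ ∃ a b c w, (w = 1 ∨ w = x1 ∨ w = x2 ∨ w = x3) ∧ g = τ a b c * w := by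
    intro g
    constructor
    · intro hg
      rcases (mB2 g).mp hg with (h | h) | (h | h) <;> obtain ⟨a, b, c, e⟩ := (R.mem _).mp h
      · exact ⟨a, b, c, 1, Or.inl rfl, by rw [mul_one]; exact e⟩
      · exact ⟨a, b, c, x3, Or.inr (Or.inr (Or.inr rfl)), by rw [← e, mul_assoc, R.x3x3, mul_one]⟩
      · exact ⟨a, b, c, x1, Or.inr (Or.inl rfl), by rw [← e, mul_assoc, R.x1x1, mul_one]⟩
      · refine ⟨a, b, c, x2, Or.inr (Or.inr (Or.inl rfl)), ?_⟩
        rw [← e, mul_assoc, mul_assoc, e32, R.x1x1, mul_one]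
    · rintro ⟨a, b, c, w, hw, rfl⟩
      have h1 : τ a b c ∈ B2 := hTB2 (τ_mem R _ _ _)
      rcases hw with rfl | rfl | rfl | rfl
      · exact mul_mem h1 (one_mem _)
      · exact mul_mem h1 hx1B2
      · exact mul_mem h1 hx2B2
      · exact mul_mem h1 hx3B2
  have hsB3 : s ∈ B3 := self_mem_adj c1 c2
  refine ⟨B2, B3, le_adj c1 c2, ?_, hB2mem, ?_⟩
  · rw [hB3, card_adj, hB2, card_adj, hB1, card_adj]
    · ring
    · exact not_mem R k3
    · intro h
      rcases (mB1 _).mp h with h | h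
      · exact not_mem R k1 h
      · rw [e13] at h; exact not_mem R k2 h
    · -- `s ∉ B2`
      intro h
      obtain ⟨a, b, c, w, hw, e⟩ := (hB2mem s).mp h
      have e' : τ (-a) (-b) (-c) * s = w := by
        rw [e, ← mul_assoc, R.mul]
        have : τ (-a + a) (-b + b) (-c + c) = 1 := (R.one _ _ _).mpr ⟨by simp, by simp, by simp⟩
        rw [this, one_mul]
      have e2 : τ (-a) (-b) (-c) = w * s := by rw [← e', mul_assoc, R.ss, mul_one]
      rcases hw with rfl | rfl | rfl | rfl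
      · rw [one_mul] at e2; exact k4 _ _ _ e2
      · exact k5 _ _ _ e2
      · exact k6 _ _ _ e2
      · exact k7 _ _ _ e2
  · intro g
    constructor
    · intro hg
      rcases (mB3 g).mp hg with h | h <;> obtain ⟨a, b, c, w, hw, e⟩ := (hB2mem _).mp h
      · refine ⟨a, b, c, w, ?_, e⟩
        rcases hw with h | h | h | h
        · exact Or.inl h
        · exact Or.inr (Or.inl h)
        · exact Or.inr (Or.inr (Or.inl h))
        · exact Or.inr (Or.inr (Or.inr (Or.inl h)))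
      · refine ⟨a, b, c, w * s, ?_, ?_⟩
        · rcases hw with rfl | rfl | rfl | rfl
          · exact Or.inr (Or.inr (Or.inr (Or.inr (Or.inl (one_mul _)))))
          · exact Or.inr (Or.inr (Or.inr (Or.inr (Or.inr (Or.inl rfl)))))
          · exact Or.inr (Or.inr (Or.inr (Or.inr (Or.inr (Or.inr (Or.inl rfl))))))
          · exact Or.inr (Or.inr (Or.inr (Or.inr (Or.inr (Or.inr (Or.inr rfl))))))
        · rw [← mul_assoc, ← e, mul_assoc, R.ss, mul_one]
    · rintro ⟨a, b, c, w, hw, rfl⟩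
      have hle : B2 ≤ B3 := le_adj c1 c2
      have h1 : τ a b c ∈ B3 := hle (hTB2 (τ_mem R _ _ _))
      refine mul_mem h1 ?_
      rcases hw with rfl | rfl | rfl | rfl | rfl | rfl | rfl | rfl
      · exact one_mem _
      · exact hle hx1B2
      · exact hle hx2B2
      · exact hle hx3B2
      · exact hsB3
      · exact mul_mem (hle hx1B2) hsB3
      · exact mul_mem (hle hx2B2) hsB3
      · exact mul_mem (hle hx3B2) hsB3

end

/-- **Lifting.** -/
theorem exists_lift_rel {N : Type*} [Group N] [Finite N] {T O : Subgroup N} [T.Normal] [O.Normal] (hT : IsPGroup 2 T)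
    (hO : ∀ o ∈ O, Odd (orderOf o)) {n : ℕ} {τ' : ℤ → ℤ → ℤ → N ⧸ O} {x1' x2' x3' s' ξ' : N ⧸ O}
    (R : _root_.Cfsg.Agent.ONType.Rel.Rel n (T.map (QuotientGroup.mk' O)) τ' x1' x2' x3' s') (X : XiRel τ' x1' x2' x3' s' ξ') :
    ∃ (P : Subgroup N) (τ : ℤ → ℤ → ℤ → N) (x1 x2 x3 s ξ : N), IsPGroup 2 P ∧ Nat.card P = 8 * Nat.card T ∧
      RelS n T P τ x1 x2 x3 s ∧ Odd (orderOf ξ) ∧ (∀ a b c, ξ * τ a b c = τ a (-a - b - c) b * ξ) ∧
      ξ * x3 = x1 * ξ ∧ ξ * x1 = x2 * ξ ∧ ξ * x2 = x3 * ξ ∧ (∀ a b c, ((τ a b c : N) : N ⧸ O) = τ' a b c) := by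
  classical
  set f := QuotientGroup.mk' O with hf
  have hfsurj : Function.Surjective f := QuotientGroup.mk'_surjective O
  obtain ⟨B2, B3, hB23, hcard, hB2, hB3⟩ := exists_groups R
  have hTn : (T.map f).Normal := Subgroup.Normal.map ‹_› f hfsurj
  -- cards
  have hcT : Nat.card (T.map f) = Nat.card T := by
    symm
    refine Nat.card_congr (Equiv.ofBijective (fun x : T => (⟨f x, mem_map_of_mem f x.2⟩ : T.map f)) ⟨?_, ?_⟩)
    · intro x y hxy
      apply Subtype.ext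
      exact inj_two hT hO x.2 y.2 (congrArg Subtype.val hxy)
    · rintro ⟨_, x, hx, rfl⟩
      exact ⟨⟨x, hx⟩, rfl⟩
  obtain ⟨m, hm⟩ := IsPGroup.iff_card.mp hT
  have h2B3 : IsPGroup 2 B3 := by
    apply IsPGroup.of_card (n := m + 3)
    rw [hcard, hcT, hm, pow_add]; ring
  have hTB3 : T.map f ≤ B3 := by
    intro t ht
    obtain ⟨a, b, c, e⟩ := (R.mem t).mp ht
    exact (hB3 t).mpr ⟨a, b, c, 1, Or.inl rfl, by rw [mul_one]; exact e⟩
  obtain ⟨P, hP2, hPB, hPT⟩ := Adj.exists_lift hO h2B3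
  have hTP : T ≤ P := hPT T inferInstance hT hTB3
  have hinj : ∀ x ∈ P, ∀ y ∈ P, f x = f y → x = y := fun x hx y hy e => inj_two hP2 hO hx hy e
  have hcP : Nat.card P = 8 * Nat.card T := by
    rw [← hcT, ← hcard, ← hPB]
    refine Nat.card_congr (Equiv.ofBijective (fun x : P => (⟨f x, mem_map_of_mem f x.2⟩ : P.map f)) ⟨?_, ?_⟩)
    · intro x y hxy
      apply Subtype.ext
      exact hinj x x.2 y y.2 (congrArg Subtype.val hxy)
    · rintro ⟨_, x, hx, rfl⟩
      exact ⟨⟨x, hx⟩, rfl⟩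
  -- the section
  have hσ : ∀ y : N ⧸ O, ∃ x : N, y ∈ B3 → x ∈ P ∧ f x = y := by
    intro y
    by_cases hy : y ∈ B3
    · rw [← hPB] at hy
      obtain ⟨x, hx, e⟩ := hy
      exact ⟨x, fun _ => ⟨hx, e⟩⟩
    · exact ⟨1, fun h => absurd h hy⟩
  choose σ hσ using hσ
  have mτ : ∀ a b c, τ' a b c ∈ B3 := fun a b c => hTB3 (τ_mem R a b c)
  have hrep : ∀ w, _root_.Cfsg.Agent.ONType.Rel.Rep x1' x2' x3' s' w → w ∈ B3 := by
    intro w hw
    refine (hB3 w).mpr ⟨0, 0, 0, w, hw, ?_⟩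
    have : τ' 0 0 0 = 1 := (R.one _ _ _).mpr ⟨by simp, by simp, by simp⟩
    rw [this, one_mul]
  have mx1 : x1' ∈ B3 := hrep _ (Or.inr (Or.inl rfl))
  have mx2 : x2' ∈ B3 := hrep _ (Or.inr (Or.inr (Or.inl rfl)))
  have mx3 : x3' ∈ B3 := hrep _ (Or.inr (Or.inr (Or.inr (Or.inl rfl))))
  have ms : s' ∈ B3 := hrep _ (Or.inr (Or.inr (Or.inr (Or.inr (Or.inl rfl)))))
  have pτ : ∀ a b c, σ (τ' a b c) ∈ P := fun a b c => (hσ _ (mτ a b c)).1
  have fτ : ∀ a b c, f (σ (τ' a b c)) = τ' a b c := fun a b c => (hσ _ (mτ a b c)).2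
  obtain ⟨p1, f1⟩ := hσ _ mx1
  obtain ⟨p2, f2⟩ := hσ _ mx2
  obtain ⟨p3, f3⟩ := hσ _ mx3
  obtain ⟨ps, fs⟩ := hσ _ ms
  have hmem : ∀ g, g ∈ T ↔ ∃ a b c, g = σ (τ' a b c) := by
    intro g
    constructor
    · intro hg
      obtain ⟨a, b, c, e⟩ := (R.mem _).mp (mem_map_of_mem f hg)
      exact ⟨a, b, c, hinj _ (hTP hg) _ (pτ _ _ _) (by rw [fτ]; exact e)⟩
    · rintro ⟨a, b, c, rfl⟩
      have : τ' a b c ∈ T.map f := τ_mem R a b c
      obtain ⟨t, ht, e⟩ := this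
      have : σ (τ' a b c) = t := hinj _ (pτ _ _ _) _ (hTP ht) (by rw [fτ]; exact e.symm)
      rw [this]; exact ht
  have key : ∀ x ∈ P, ∀ y ∈ P, f x = f y → x = y := hinj
  have hRel : _root_.Cfsg.Agent.ONType.Rel.Rel n T (fun a b c => σ (τ' a b c)) (σ x1') (σ x2') (σ x3') (σ s') := by
    refine ⟨?_, ?_, hmem, ?_, ?_, ?_, ?_, ?_, ?_, ?_, ?_, ?_, ?_, ?_, ?_, ?_, ?_, ?_⟩
    · intro a b c a' b' c'
      exact key _ (mul_mem (pτ _ _ _) (pτ _ _ _)) _ (pτ _ _ _) (by rw [map_mul, fτ, fτ, fτ, R.mul])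
    · intro a b c
      rw [← R.one]
      constructor
      · intro e
        rw [← fτ a b c, e, map_one]
      · intro e
        exact key _ (pτ _ _ _) _ (one_mem _) (by rw [fτ, e, map_one])
    · exact key _ (mul_mem p1 p1) _ (one_mem _) (by rw [map_mul, f1, R.x1x1, map_one])
    · exact key _ (mul_mem p2 p2) _ (one_mem _) (by rw [map_mul, f2, R.x2x2, map_one])
    · exact key _ (mul_mem p3 p3) _ (one_mem _) (by rw [map_mul, f3, R.x3x3, map_one])
    · exact key _ (mul_mem p1 p2) _ p3 (by rw [map_mul, f1, f2, R.x12, f3])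
    · exact key _ (mul_mem p2 p3) _ p1 (by rw [map_mul, f2, f3, R.x23, f1])
    · exact key _ (mul_mem p3 p1) _ p2 (by rw [map_mul, f3, f1, R.x31, f2])
    · intro a b c
      exact key _ (mul_mem p1 (pτ _ _ _)) _ (mul_mem (pτ _ _ _) p1) (by rw [map_mul, map_mul, f1, fτ, fτ, R.x1τ])
    · intro a b c
      exact key _ (mul_mem p2 (pτ _ _ _)) _ (mul_mem (pτ _ _ _) p2) (by rw [map_mul, map_mul, f2, fτ, fτ, R.x2τ])
    · intro a b c
      exact key _ (mul_mem p3 (pτ _ _ _)) _ (mul_mem (pτ _ _ _) p3) (by rw [map_mul, map_mul, f3, fτ, fτ, R.x3τ])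
    · exact key _ (mul_mem ps ps) _ (one_mem _) (by rw [map_mul, fs, R.ss, map_one])
    · intro a b c
      exact key _ (mul_mem ps (pτ _ _ _)) _ (mul_mem (pτ _ _ _) ps) (by rw [map_mul, map_mul, fs, fτ, fτ, R.sτ])
    · exact key _ (mul_mem ps p1) _ (mul_mem (mul_mem (pτ _ _ _) p2) ps)
        (by rw [map_mul, map_mul, map_mul, fs, f1, f2, fτ, R.sx1])
    · exact key _ (mul_mem ps p2) _ (mul_mem (mul_mem (pτ _ _ _) p1) ps)
        (by rw [map_mul, map_mul, map_mul, fs, f1, f2, fτ, R.sx2])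
    · exact key _ (mul_mem ps p3) _ (mul_mem (mul_mem (pτ _ _ _) p3) ps)
        (by rw [map_mul, map_mul, map_mul, fs, f3, fτ, R.sx3])
    · intro a b c
      obtain ⟨k1, k2, k3, k4, k5, k6, k7⟩ := R.cos a b c
      refine ⟨fun e => k1 ?_, fun e => k2 ?_, fun e => k3 ?_, fun e => k4 ?_, fun e => k5 ?_, fun e => k6 ?_, fun e => k7 ?_⟩ <;>
      rw [← fτ a b c, e]
      · exact f1
      · exact f2
      · exact f3
      · exact fs
      · rw [map_mul, f1, fs]
      · rw [map_mul, f2, fs]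
      · rw [map_mul, f3, fs]
  have hRelS : RelS n T P (fun a b c => σ (τ' a b c)) (σ x1') (σ x2') (σ x3') (σ s') := by
    refine { hRel with memS := ?_ }
    intro g
    constructor
    · intro hg
      have : f g ∈ B3 := by rw [← hPB]; exact mem_map_of_mem f hg
      obtain ⟨a, b, c, w, hw, e⟩ := (hB3 _).mp this
      have hwB := hrep w hw
      refine ⟨a, b, c, σ w, ?_, ?_⟩
      · have m1 : σ 1 = 1 := key _ (hσ _ (one_mem _)).1 _ (one_mem _) (by rw [(hσ _ (one_mem _)).2, map_one])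
        have mm : ∀ u v, u ∈ B3 → v ∈ B3 → σ (u * v) = σ u * σ v := by
          intro u v hu hv
          exact key _ (hσ _ (mul_mem hu hv)).1 _ (mul_mem (hσ _ hu).1 (hσ _ hv).1)
            (by rw [map_mul, (hσ _ hu).2, (hσ _ hv).2, (hσ _ (mul_mem hu hv)).2])
        rcases hw with rfl | rfl | rfl | rfl | rfl | rfl | rfl | rfl
        · exact Or.inl m1
        · exact Or.inr (Or.inl rfl)
        · exact Or.inr (Or.inr (Or.inl rfl))
        · exact Or.inr (Or.inr (Or.inr (Or.inl rfl)))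
        · exact Or.inr (Or.inr (Or.inr (Or.inr (Or.inl rfl))))
        · exact Or.inr (Or.inr (Or.inr (Or.inr (Or.inr (Or.inl (mm _ _ mx1 ms))))))
        · exact Or.inr (Or.inr (Or.inr (Or.inr (Or.inr (Or.inr (Or.inl (mm _ _ mx2 ms)))))))
        · exact Or.inr (Or.inr (Or.inr (Or.inr (Or.inr (Or.inr (Or.inr (mm _ _ mx3 ms)))))))
      · exact key _ hg _ (mul_mem (pτ _ _ _) (hσ _ hwB).1) (by rw [map_mul, fτ, (hσ _ hwB).2]; exact e)
    · rintro ⟨a, b, c, w, hw, rfl⟩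
      refine mul_mem (pτ _ _ _) ?_
      rcases hw with rfl | rfl | rfl | rfl | rfl | rfl | rfl | rfl
      · exact one_mem _
      · exact p1
      · exact p2
      · exact p3
      · exact ps
      · exact mul_mem p1 ps
      · exact mul_mem p2 ps
      · exact mul_mem p3 ps
  -- the element `ξ`
  obtain ⟨y, hy⟩ := hfsurj ξ'
  set! Q := P ⊓ B2.comap f with hQ
  have hQP : Q ≤ P := inf_le_left
  have hQ2 : IsPGroup 2 Q := hP2.to_le hQP
  have hQmap : Q.map f = B2 := by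
    apply le_antisymm
    · rw [map_le_iff_le_comap]; exact inf_le_right
    · intro u hu
      obtain ⟨p, e⟩ := hσ u (hB23 hu)
      exact ⟨σ u, ⟨p, by change f (σ u) ∈ B2; rw [e]; exact hu⟩, e⟩
  have hy' : (Q.map (MulAut.conj y).toMonoidHom).map f = Q.map f := by
    rw [hQmap]
    have e1 : (Q.map (MulAut.conj y).toMonoidHom).map f = B2.map (MulAut.conj ξ').toMonoidHom := by
      rw [← hQmap, Subgroup.map_map, Subgroup.map_map]
      congr 1
      ext x
      simp only [MonoidHom.comp_apply, MulEquiv.coe_toMonoidHom, MulAut.conj_apply, map_mul, map_inv, hy]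
    rw [e1]
    apply eq_of_le_of_card_ge
    · rintro _ ⟨u, hu, rfl⟩
      have hτB2 : ∀ a b c, τ' a b c ∈ B2 := fun a b c => (hB2 _).mpr ⟨a, b, c, 1, Or.inl rfl, (mul_one _).symm⟩
      have hw : ∀ w, (w = 1 ∨ w = x1' ∨ w = x2' ∨ w = x3') → w ∈ B2 := by
        intro w hw
        refine (hB2 w).mpr ⟨0, 0, 0, w, hw, ?_⟩
        have : τ' 0 0 0 = 1 := (R.one _ _ _).mpr ⟨by simp, by simp, by simp⟩
        rw [this, one_mul]
      obtain ⟨a, b, c, w, hw', rfl⟩ := (hB2 u).mp hu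
      change ξ' * (τ' a b c * w) * ξ'⁻¹ ∈ B2
      have e2 : ξ' * (τ' a b c * w) * ξ'⁻¹ = (ξ' * τ' a b c * ξ'⁻¹) * (ξ' * w * ξ'⁻¹) := by group
      rw [e2]
      refine mul_mem ?_ ?_
      · rw [X.ξτ, mul_inv_cancel_right]; exact hτB2 _ _ _
      · rcases hw' with rfl | rfl | rfl | rfl
        · rw [mul_one, mul_inv_cancel]; exact one_mem _
        · rw [X.ξx1, mul_inv_cancel_right]; exact hw _ (Or.inr (Or.inr (Or.inl rfl)))
        · rw [X.ξx2, mul_inv_cancel_right]; exact hw _ (Or.inr (Or.inr (Or.inr rfl)))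
        · rw [X.ξx3, mul_inv_cancel_right]; exact hw _ (Or.inr (Or.inl rfl))
    · have : Nat.card (B2.map (MulAut.conj ξ').toMonoidHom) = Nat.card B2 :=
        (Nat.card_congr (B2.equivMapOfInjective _ (MulAut.conj ξ').injective).toEquiv).symm
      rw [this]
  obtain ⟨o, ho, hnorm⟩ := exists_norm hO hQ2 hy'
  have hfξ : f (o * y) = ξ' := by
    rw [map_mul, hy]
    have : f o = 1 := (QuotientGroup.eq_one_iff o).mpr ho
    rw [this, one_mul]
  have hTQ : ∀ a b c, σ (τ' a b c) ∈ Q := by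
    intro a b c
    refine ⟨pτ _ _ _, ?_⟩
    change f (σ (τ' a b c)) ∈ B2
    rw [fτ]
    exact (hB2 _).mpr ⟨a, b, c, 1, Or.inl rfl, (mul_one _).symm⟩
  have hxQ : ∀ w, (w = x1' ∨ w = x2' ∨ w = x3') → σ w ∈ Q := by
    intro w hw
    have hw2 : w ∈ B2 := by
      refine (hB2 w).mpr ⟨0, 0, 0, w, Or.inr hw, ?_⟩
      have : τ' 0 0 0 = 1 := (R.one _ _ _).mpr ⟨by simp, by simp, by simp⟩
      rw [this, one_mul]
    obtain ⟨p, e⟩ := hσ w (hB23 hw2)
    exact ⟨p, by change f (σ w) ∈ B2; rw [e]; exact hw2⟩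
  have trans : ∀ u ∈ Q, ∀ v ∈ Q, ξ' * f u = f v * ξ' → (o * y) * u = v * (o * y) := by
    intro u hu v hv e
    have h1 : (o * y) * u * (o * y)⁻¹ = v := by
      apply key _ (hQP (hnorm u hu)) _ (hQP hv)
      rw [map_mul, map_mul, map_inv, hfξ, e, mul_inv_cancel_right]
    rw [← h1]; group
  refine ⟨P, fun a b c => σ (τ' a b c), σ x1', σ x2', σ x3', σ s', o * y, hP2, hcP, hRelS, ?_, ?_, ?_, ?_, ?_, fτ⟩
  · -- odd order
    have h1 : (o * y) ^ 3 ∈ O := by
      rw [← QuotientGroup.eq_one_iff]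
      have : f ((o * y) ^ 3) = 1 := by
        rw [map_pow, hfξ, pow_succ, pow_two, X.ξξξ]
      exact this
    have h2 := hO _ h1
    have h3 : (o * y) ^ (3 * orderOf ((o * y) ^ 3)) = 1 := by
      rw [pow_mul, pow_orderOf_eq_one]
    have h4 := orderOf_dvd_of_pow_eq_one h3
    exact Odd.of_dvd_nat (Odd.mul (by decide) h2) h4
  · intro a b c
    apply trans _ (hTQ _ _ _) _ (hTQ _ _ _)
    rw [fτ, fτ, X.ξτ]
  · exact trans _ (hxQ _ (Or.inr (Or.inr rfl))) _ (hxQ _ (Or.inl rfl)) (by rw [f3, f1, X.ξx3])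
  · exact trans _ (hxQ _ (Or.inl rfl)) _ (hxQ _ (Or.inr (Or.inl rfl))) (by rw [f1, f2, X.ξx1])
  · exact trans _ (hxQ _ (Or.inr (Or.inl rfl))) _ (hxQ _ (Or.inr (Or.inr rfl))) (by rw [f2, f3, X.ξx2])

end Cfsg.Agent.ONType.SitLift
end

-- part: ONType/SitMain
section
/-!
# O'Nan type groups: `Frame → Sit`
-/

set_option autoImplicit false
set_option linter.unusedSectionVars false
set_option linter.unusedVariables false
set_option linter.unusedSimpArgs false
set_option linter.unusedTactic false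
set_option linter.unreachableTactic false

namespace Cfsg.Agent.ONType.SitMain

open Subgroup
open scoped IsMulCommutative
open Cfsg.Agent.ONType.Rel Cfsg.Agent.ONType.Span Cfsg.Agent.ONType.Ext Cfsg.Agent.ONType.ExtRel Cfsg.Agent.ONType.Adj
open Cfsg.Agent.ONType.Sit

section

variable {G : Type*} [Group G]

/-- an element of odd order with `x ^ 2 ^ k = 1` -/
theorem eq_one_of_odd {x : G} (h : Odd (orderOf x)) {k : ℕ} (hk : x ^ 2 ^ k = 1) : x = 1 := by
  have h2 := orderOf_dvd_of_pow_eq_one hk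
  obtain ⟨j, hj, e⟩ := (Nat.dvd_prime_pow Nat.prime_two).mp h2
  rcases Nat.eq_zero_or_pos j with rfl | hj0
  · rw [pow_zero] at e
    exact orderOf_eq_one_iff.mp e
  · rw [e] at h
    exfalso
    have : Even (2 ^ j) := (Nat.even_pow.mpr ⟨even_two, by omega⟩)
    exact (Nat.not_even_iff_odd.mpr h) this

theorem eq_one_of_sq {x : G} {m : ℕ} (hm : Odd m) {k : ℕ} (h : x ^ m = 1) (hk : x ^ 2 ^ k = 1) : x = 1 := by
  apply eq_one_of_odd (k := k) _ hk
  exact Odd.of_dvd_nat hm (orderOf_dvd_of_pow_eq_one h)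

/-- decomposition in a 2-part and an odd part -/
theorem exists_parts [Finite G] (g : G) : ∃ u v : G, g = u * v ∧ u ∈ zpowers g ∧ v ∈ zpowers g ∧ (∃ k, u ^ 2 ^ k = 1) ∧
    Odd (orderOf v) := by
  obtain ⟨k, m, hm, hkm⟩ := Nat.exists_eq_two_pow_mul_odd (n := orderOf g) (orderOf_pos g).ne'
  have hc : IsCoprime ((2 : ℤ) ^ k) (m : ℤ) := by
    apply IsCoprime.pow_left
    rw [Int.isCoprime_iff_gcd_eq_one]
    have := Nat.coprime_two_left.mpr hm
    exact_mod_cast this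
  obtain ⟨a, b, hab⟩ := hc
  refine ⟨g ^ (b * m), g ^ (a * 2 ^ k), ?_, ⟨_, rfl⟩, ⟨_, rfl⟩, ⟨k, ?_⟩, ?_⟩
  · rw [← zpow_add, add_comm, hab, zpow_one]
  · rw [← zpow_natCast, ← zpow_mul]
    have : b * (m : ℤ) * ((2 ^ k : ℕ) : ℤ) = (orderOf g : ℤ) * b := by rw [hkm]; push_cast; ring
    rw [this, zpow_mul, zpow_natCast, pow_orderOf_eq_one, one_zpow]
  · have h1 : (g ^ (a * 2 ^ k)) ^ m = 1 := by
      rw [← zpow_natCast, ← zpow_mul]
      have : a * 2 ^ k * (m : ℤ) = (orderOf g : ℤ) * a := by rw [hkm]; push_cast; ring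
      rw [this, zpow_mul, zpow_natCast, pow_orderOf_eq_one, one_zpow]
    exact Odd.of_dvd_nat hm (orderOf_dvd_of_pow_eq_one h1)

/-- an element of odd order which centralises `Ω₁(T)` centralises the abelian 2-group `T` -/
theorem odd_centralizes {T : Subgroup G} (hcomm : ∀ x ∈ T, ∀ y ∈ T, x * y = y * x) {g : G} (hodd : Odd (orderOf g))
    (hg : ∀ t ∈ T, g * t * g⁻¹ ∈ T) (hA : ∀ t ∈ T, t * t = 1 → g * t = t * g) (k : ℕ) :
    ∀ t ∈ T, t ^ 2 ^ k = 1 → g * t = t * g := by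
  induction k with
  | zero =>
    intro t ht h
    rw [pow_zero, pow_one] at h
    rw [h, mul_one, one_mul]
  | succ k ih =>
    intro t ht h
    have h1 : g * (t * t) = (t * t) * g := by
      apply ih _ (mul_mem ht ht)
      rw [← pow_two, ← pow_mul, ← pow_succ']
      exact h
    set! a := g * t * g⁻¹ * t⁻¹ with ha
    have haT : a ∈ T := mul_mem (hg t ht) (inv_mem ht)
    have h2 : a * a = 1 := by
      have e1 := hcomm (t⁻¹) (inv_mem ht) (g * t * g⁻¹) (hg t ht)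
      calc a * a = g * t * g⁻¹ * (t⁻¹ * (g * t * g⁻¹)) * t⁻¹ := by rw [ha]; group
        _ = g * (t * t) * g⁻¹ * (t * t)⁻¹ := by rw [e1]; group
        _ = 1 := by rw [h1]; group
    have h3 : g * a = a * g := hA a haT h2
    have h4 : g * t * g⁻¹ = a * t := by rw [ha]; group
    have h5 : ∀ j : ℕ, g ^ j * t * (g ^ j)⁻¹ = a ^ j * t := by
      intro j
      induction j with
      | zero => simp
      | succ j ihj =>
        have h6 : g * a ^ j * g⁻¹ = a ^ j := by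
          have : Commute g (a ^ j) := Commute.pow_right h3 j
          rw [this.eq]; group
        calc g ^ (j + 1) * t * (g ^ (j + 1))⁻¹ = g * (g ^ j * t * (g ^ j)⁻¹) * g⁻¹ := by rw [pow_succ']; group
          _ = (g * a ^ j * g⁻¹) * (g * t * g⁻¹) := by rw [ihj]; group
          _ = a ^ (j + 1) * t := by rw [h6, h4, pow_succ]; group
    have h6 := h5 (orderOf g)
    rw [pow_orderOf_eq_one, one_mul, inv_one, mul_one] at h6
    have h7 : a ^ orderOf g = 1 := mul_eq_right.mp h6.symm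
    have h8 : a = 1 := eq_one_of_sq (k := 1) hodd h7 (by rw [pow_one, pow_two]; exact h2)
    rw [h8, one_mul] at h4
    calc g * t = (g * t * g⁻¹) * g := by group
      _ = t * g := by rw [h4]

end

namespace Fr

variable {G : Type*} [Group G] [Finite G] {n : ℕ} {S : Sylow 2 G} {T : Subgroup G} (F : Frame n S T)
include F

theorem two : IsPGroup 2 T := S.isPGroup'.to_le F.le

theorem conj_mem {m t : G} (hm : m ∈ normalizer (T : Set G)) (ht : t ∈ T) : m * t * m⁻¹ ∈ T :=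
  (mem_normalizer_iff.mp hm t).mp ht

theorem T_le_N : T ≤ normalizer (T : Set G) := le_normalizer

/-- 2-elements of `N_G(T)` which centralise `Ω₁(T)` -/
theorem two_elem {u : G} (hu : u ∈ normalizer (T : Set G)) {k : ℕ} (hk : u ^ 2 ^ k = 1)
    (hA : ∀ t ∈ T, t * t = 1 → u * t = t * u) : u ∈ T := by
  set N := normalizer (T : Set G) with hN
  let S' : Sylow 2 N := S.subtype F.norm
  have h2 : IsPGroup 2 (zpowers (⟨u, hu⟩ : N)) := by
    rintro ⟨x, hx⟩
    obtain ⟨j, rfl⟩ := hx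
    refine ⟨k, ?_⟩
    apply Subtype.ext
    apply Subtype.ext
    change (u ^ j) ^ 2 ^ k = 1
    rw [← zpow_natCast, ← zpow_mul, mul_comm, zpow_mul, zpow_natCast, hk, one_zpow]
  obtain ⟨Q, hQ⟩ := h2.exists_le_sylow
  obtain ⟨m, hm⟩ := MulAction.exists_smul_eq N Q S'
  have h3 : m * ⟨u, hu⟩ * m⁻¹ ∈ S' := by
    rw [← hm, ← SetLike.mem_coe, Sylow.coe_smul]
    exact Set.mem_image_of_mem _ (hQ (mem_zpowers _))
  have h4 : (m : G) * u * (m : G)⁻¹ ∈ (S : Subgroup G) := h3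
  have h5 : (m : G) * u * (m : G)⁻¹ ∈ T := by
    apply F.self _ h4
    intro t ht ht2
    -- `m⁻¹ t m` is an involution of `T`
    have h6 : (m : G)⁻¹ * t * (m : G) ∈ T := by
      have := conj_mem F (inv_mem m.2) ht
      simpa using this
    have h7 : ((m : G)⁻¹ * t * (m : G)) * ((m : G)⁻¹ * t * (m : G)) = 1 := by
      calc ((m : G)⁻¹ * t * (m : G)) * ((m : G)⁻¹ * t * (m : G)) = (m : G)⁻¹ * (t * t) * (m : G) := by group
        _ = 1 := by rw [ht2]; group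
    have h8 := hA _ h6 h7
    calc (m : G) * u * (m : G)⁻¹ * t = (m : G) * (u * ((m : G)⁻¹ * t * (m : G))) * (m : G)⁻¹ := by group
      _ = t * ((m : G) * u * (m : G)⁻¹) := by rw [h8]; group
  have h6 := conj_mem F (inv_mem m.2) h5
  have e : (m : G)⁻¹ * ((m : G) * u * (m : G)⁻¹) * ((m : G)⁻¹)⁻¹ = u := by group
  rwa [e] at h6

/-- odd elements of `N_G(T)` which centralise `Ω₁(T)` -/
theorem odd_elem {v : G} (hv : v ∈ normalizer (T : Set G)) (hodd : Odd (orderOf v))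
    (hA : ∀ t ∈ T, t * t = 1 → v * t = t * v) : ∀ t ∈ T, v * t = t * v := by
  intro t ht
  exact odd_centralizes F.comm hodd (fun t ht => conj_mem F hv ht) hA n t ht (F.exp t ht)

/-- the group `O` of the elements of odd order of `C_G(T)` -/
theorem exists_O : ∃ O : Subgroup G, (∀ o ∈ O, ∀ t ∈ T, o * t = t * o) ∧ (∀ o ∈ O, Odd (orderOf o)) ∧
    (∀ g, (∀ t ∈ T, g * t = t * g) → Odd (orderOf g) → g ∈ O) := by
  set C := centralizer (T : Set G) with hC
  have hCN : C ≤ normalizer (T : Set G) := by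
    intro c hc
    rw [mem_normalizer_iff]
    have hc' := mem_centralizer_iff.mp hc
    intro t
    constructor
    · intro ht
      rw [← hc' t ht, mul_inv_cancel_right]; exact ht
    · intro ht
      have h1 := hc' _ ht
      have h2 : c * t * c⁻¹ = t := by
        have : c * t * c⁻¹ * c = c * (c * t * c⁻¹) := h1
        have h3 : c * t = c * (c * t * c⁻¹) := by rw [← this]; group
        exact (mul_left_cancel h3).symm
      rwa [h2] at ht
  have hTC : T ≤ C := by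
    intro t ht
    rw [mem_centralizer_iff]
    intro x hx
    exact F.comm x hx t ht
  have hT2 : IsPGroup 2 (T.subgroupOf C) := (two F).comap_of_injective _ C.subtype_injective
  have hTn : (T.subgroupOf C).Normal := normal_subgroupOf_of_le_normalizer hCN
  let Q : Sylow 2 C := default
  have hQ : (Q : Subgroup C) ≤ T.subgroupOf C := by
    rintro ⟨u, huC⟩ hu
    obtain ⟨k, hk⟩ := Q.isPGroup' ⟨⟨u, huC⟩, hu⟩
    have hk' : u ^ 2 ^ k = 1 := by
      have := congrArg (fun x : Q => ((x : C) : G)) hk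
      simpa only [_root_.SubmonoidClass.mk_pow, _root_.OneMemClass.coe_one] using this
    exact two_elem F (hCN huC) hk' (fun t ht _ => ((mem_centralizer_iff.mp huC) t ht).symm)
  have hQT : T.subgroupOf C = Q := Q.is_maximal' hT2 hQ
  have hidx : ¬ 2 ∣ (T.subgroupOf C).index := by
    rw [hQT]; exact Q.not_dvd_index
  have hcop : Nat.Coprime (Nat.card (T.subgroupOf C)) (T.subgroupOf C).index := by
    obtain ⟨m, hm⟩ := IsPGroup.iff_card.mp hT2
    rw [hm]
    apply Nat.Coprime.pow_left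
    rw [Nat.coprime_two_left, ← Nat.not_even_iff_odd, even_iff_two_dvd]
    exact hidx
  obtain ⟨H, hH⟩ := Subgroup.exists_right_complement'_of_coprime hcop
  have hcardH : Nat.card H = (T.subgroupOf C).index := hH.card_right
  have hHodd : Odd (Nat.card H) := by
    rw [hcardH, ← Nat.not_even_iff_odd, even_iff_two_dvd]; exact hidx
  have hHo : ∀ x ∈ H, Odd (orderOf x) := by
    intro x hx
    have h1 : orderOf (⟨x, hx⟩ : H) ∣ Nat.card H := _root_.orderOf_dvd_natCard _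
    rw [orderOf_mk] at h1
    exact Odd.of_dvd_nat hHodd h1
  refine ⟨H.map C.subtype, ?_, ?_, ?_⟩
  · rintro _ ⟨⟨x, hxC⟩, hx, rfl⟩ t ht
    exact ((mem_centralizer_iff.mp hxC) t ht).symm
  · rintro _ ⟨⟨x, hxC⟩, hx, rfl⟩
    have := hHo _ hx
    rwa [orderOf_mk] at this
  · intro g hg hodd
    have hgC : g ∈ C := by
      rw [mem_centralizer_iff]; intro t ht; exact (hg t ht).symm
    obtain ⟨⟨t, hh⟩, e⟩ := hH.2 ⟨g, hgC⟩
    have e' : ((t : C) : G) * ((hh : C) : G) = g := congrArg Subtype.val e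
    have htT : ((t : C) : G) ∈ T := t.2
    have hcm : Commute ((t : C) : G) ((hh : C) : G) := ((mem_centralizer_iff.mp (hh : C).2) _ htT)
    have h1 : ((t : C) : G) ^ (orderOf g * orderOf (hh : C)) = 1 := by
      have h2 : g ^ (orderOf g * orderOf (hh : C)) = 1 := by rw [pow_mul, pow_orderOf_eq_one, one_pow]
      rw [← e', hcm.mul_pow] at h2
      have h3 : ((hh : C) : G) ^ (orderOf (((t : C) : G) * ((hh : C) : G)) * orderOf (hh : C)) = 1 := by
        rw [mul_comm, pow_mul]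
        have : ((hh : C) : G) ^ orderOf (hh : C) = 1 := by
          have := pow_orderOf_eq_one (hh : C)
          exact congrArg Subtype.val this
        rw [this, one_pow]
      rw [e'] at h2 h3
      rw [h3, mul_one] at h2
      exact h2
    have h2 : Odd (orderOf g * orderOf (hh : C)) := hodd.mul (hHo _ hh.2)
    have h3 : ((t : C) : G) = 1 := eq_one_of_sq (k := n) h2 h1 (F.exp _ htT)
    rw [h3, one_mul] at e'
    exact ⟨hh, hh.2, e'⟩

theorem faithC {g : G} (hg : g ∈ normalizer (T : Set G)) (hA : ∀ t ∈ T, t * t = 1 → g * t = t * g) :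
    ∃ t ∈ T, ∃ o : G, (∀ t ∈ T, o * t = t * o) ∧ Odd (orderOf o) ∧ g = t * o := by
  obtain ⟨u, v, e, hu, hv, ⟨k, hk⟩, hodd⟩ := exists_parts g
  have hz : ∀ x ∈ zpowers g, x ∈ normalizer (T : Set G) := by
    intro x hx
    exact (zpowers_le.mpr hg) hx
  have hz2 : ∀ x ∈ zpowers g, ∀ t ∈ T, t * t = 1 → x * t = t * x := by
    rintro x ⟨j, rfl⟩ t ht ht2
    exact (Commute.zpow_left (hA t ht ht2) j)
  refine ⟨u, two_elem F (hz u hu) hk (hz2 u hu), v, odd_elem F (hz v hv) hodd (hz2 v hv), hodd, e⟩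

/-- the hypotheses of the extension theorem for `N_G(T)/O` -/
theorem hyp {O : Subgroup G} (hOC : ∀ o ∈ O, ∀ t ∈ T, o * t = t * o) (hOodd : ∀ o ∈ O, Odd (orderOf o))
    (hOall : ∀ g, (∀ t ∈ T, g * t = t * g) → Odd (orderOf g) → g ∈ O)
    [(O.subgroupOf (normalizer (T : Set G))).Normal]
    [((T.subgroupOf (normalizer (T : Set G))).map (QuotientGroup.mk' (O.subgroupOf (normalizer (T : Set G))))).Normal]
    [IsMulCommutative ((T.subgroupOf (normalizer (T : Set G))).map (QuotientGroup.mk' (O.subgroupOf (normalizer (T : Set G)))))] :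
    Hyp ((T.subgroupOf (normalizer (T : Set G))).map (QuotientGroup.mk' (O.subgroupOf (normalizer (T : Set G))))) n := by
  set N := normalizer (T : Set G) with hN
  set O' := O.subgroupOf N with hO'
  set T' := T.subgroupOf N with hT'
  set f := QuotientGroup.mk' O' with hf
  have hfsurj : Function.Surjective f := QuotientGroup.mk'_surjective O'
  have hTN : T ≤ N := T_le_N F
  have hO'odd : ∀ o ∈ O', Odd (orderOf o) := by
    rintro ⟨o, hoN⟩ ho
    rw [orderOf_mk]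
    exact hOodd o ho
  have hT'2 : IsPGroup 2 T' := (two F).comap_of_injective _ N.subtype_injective
  have hinj : ∀ {P : Subgroup N}, IsPGroup 2 P → ∀ x ∈ P, ∀ y ∈ P, f x = f y → x = y :=
    fun hP x hx y hy e => inj_two hP hO'odd hx hy e
  have hinjT := hinj hT'2
  have hker : ∀ x : N, f x = 1 → (x : G) ∈ O := fun x hx => (QuotientGroup.eq_one_iff x).mp hx
  -- lifting of elements of `T̄`
  have hlift : ∀ a ∈ T'.map f, a * a = 1 → ∃ a' : N, (a' : G) ∈ T ∧ (a' : G) * (a' : G) = 1 ∧ f a' = a := by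
    rintro _ ⟨a, ha, rfl⟩ h2
    refine ⟨a, ha, ?_, rfl⟩
    have : a * a = 1 := hinjT _ (mul_mem ha ha) _ (one_mem _) (by rw [map_mul, map_one]; exact h2)
    exact congrArg Subtype.val this
  have hcT : Nat.card (T'.map f) = Nat.card T := by
    symm
    rw [← Nat.card_congr (subgroupOfEquivOfLe hTN).toEquiv]
    refine Nat.card_congr (Equiv.ofBijective (fun x : T' => (⟨f x, mem_map_of_mem f x.2⟩ : T'.map f)) ⟨?_, ?_⟩)
    · intro x y hxy
      apply Subtype.ext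
      exact hinjT _ x.2 _ y.2 (congrArg Subtype.val hxy)
    · rintro ⟨_, x, hx, rfl⟩
      exact ⟨⟨x, hx⟩, rfl⟩
  have hn := F.hn
  refine
    { hn := by omega
      card := by rw [hcT, F.card]
      exp := ?_
      eight := ?_
      faith := ?_
      full := ?_
      inv := ?_
      no16 := ?_ }
  · rintro _ ⟨t, ht, rfl⟩
    rw [← map_pow]
    have : t ^ 2 ^ n = 1 := Subtype.ext (F.exp _ ht)
    rw [this, map_one]
  · -- involutions
    refine le_trans ?_ F.eight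
    choose g hg1 hg2 hg3 using hlift
    refine Nat.card_le_card_of_injective
      (fun x : {t // t ∈ T'.map f ∧ t * t = 1} => (⟨(g x.1 x.2.1 x.2.2 : G), hg1 _ _ _, hg2 _ _ _⟩ :
        {t : G // t ∈ T ∧ t * t = 1})) ?_
    intro x y hxy
    have h1 : (g x.1 x.2.1 x.2.2 : G) = (g y.1 y.2.1 y.2.2 : G) :=
      congrArg (fun w : {t : G // t ∈ T ∧ t * t = 1} => (w : G)) hxy
    have h2 : g x.1 x.2.1 x.2.2 = g y.1 y.2.1 y.2.2 := Subtype.ext h1
    apply Subtype.ext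
    rw [← hg3 x.1 x.2.1 x.2.2, ← hg3 y.1 y.2.1 y.2.2, h2]
  · -- faithful
    intro g' hg'
    obtain ⟨g, rfl⟩ := hfsurj g'
    have hA : ∀ t ∈ T, t * t = 1 → (g : G) * t = t * (g : G) := by
      intro t ht ht2
      have h1 : f ⟨t, hTN ht⟩ ∈ T'.map f := mem_map_of_mem f (show (⟨t, hTN ht⟩ : N) ∈ T' from ht)
      have h2 : f ⟨t, hTN ht⟩ * f ⟨t, hTN ht⟩ = 1 := by
        rw [← map_mul]
        have : (⟨t, hTN ht⟩ : N) * ⟨t, hTN ht⟩ = 1 := Subtype.ext ht2
        rw [this, map_one]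
      have h3 := hg' _ h1 h2
      have h4 : f (g * ⟨t, hTN ht⟩ * g⁻¹) = f ⟨t, hTN ht⟩ := by
        rw [map_mul, map_mul, h3, map_inv, mul_inv_cancel_right]
      have h5 : g * ⟨t, hTN ht⟩ * g⁻¹ = ⟨t, hTN ht⟩ := by
        apply hinjT _ _ _ _ h4
        · exact conj_mem F g.2 ht
        · exact ht
      have h6 : (g : G) * t * (g : G)⁻¹ = t := congrArg Subtype.val h5
      calc (g : G) * t = ((g : G) * t * (g : G)⁻¹) * (g : G) := by group
        _ = t * (g : G) := by rw [h6]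
    obtain ⟨t, ht, o, ho, hodd, e⟩ := faithC F g.2 hA
    have hoO : o ∈ O := hOall o ho hodd
    have hoN : o ∈ N := by
      have : o = t⁻¹ * (g : G) := by rw [e]; group
      rw [this]; exact mul_mem (inv_mem (hTN ht)) g.2
    have e' : g = ⟨t, hTN ht⟩ * ⟨o, hoN⟩ := Subtype.ext e
    rw [e', map_mul]
    have : f ⟨o, hoN⟩ = 1 := (QuotientGroup.eq_one_iff _).mpr hoO
    rw [this, mul_one]
    exact mem_map_of_mem f (show (⟨t, hTN ht⟩ : N) ∈ T' from ht)
  · -- full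
    intro a b c a' b' c' ha ha2 hb hb2 hc hc2 ha' ha2' hb' hb2' hc' hc2' hI hI'
    obtain ⟨A, A1, A2, rfl⟩ := hlift a ha ha2
    obtain ⟨B, B1, B2, rfl⟩ := hlift b hb hb2
    obtain ⟨C, C1, C2, rfl⟩ := hlift c hc hc2
    obtain ⟨A', A1', A2', rfl⟩ := hlift a' ha' ha2'
    obtain ⟨B', B1', B2', rfl⟩ := hlift b' hb' hb2'
    obtain ⟨C', C1', C2', rfl⟩ := hlift c' hc' hc2'
    have hInd : ∀ A B C : N, Indep (f A) (f B) (f C) → Indep (A : G) (B : G) (C : G) := by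
      rintro A B C ⟨i1, i2, i3, i4, i5, i6, i7⟩
      have v1 : ∀ X : N, (X : G) = 1 → f X = 1 := by
        intro X hX
        have : X = 1 := Subtype.ext hX
        rw [this, map_one]
      have v2 : ∀ X Y : N, (X : G) = (Y : G) → f X = f Y := by
        intro X Y hX
        have : X = Y := Subtype.ext hX
        rw [this]
      refine ⟨fun e => i1 (v1 _ e), fun e => i2 (v1 _ e), fun e => i3 (v2 _ _ e), fun e => i4 (v1 _ e), fun e => i5 (v2 _ _ e),
        fun e => i6 (v2 _ _ e), fun e => i7 ?_⟩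
      rw [← map_mul]; exact v2 _ (A * B) e
    obtain ⟨g, hg, e1, e2, e3⟩ := F.full A B C A' B' C' A1 A2 B1 B2 C1 C2 A1' A2' B1' B2' C1' C2' (hInd _ _ _ hI) (hInd _ _ _ hI')
    refine ⟨f ⟨g, hg⟩, ?_, ?_, ?_⟩
    · rw [← map_inv, ← map_mul, ← map_mul]
      congr 1
      exact Subtype.ext e1
    · rw [← map_inv, ← map_mul, ← map_mul]
      congr 1
      exact Subtype.ext e2
    · rw [← map_inv, ← map_mul, ← map_mul]
      congr 1
      exact Subtype.ext e3
  · -- an involution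
    obtain ⟨y, hyS, hyT, hyy⟩ := F.inv
    have hyN : y ∈ N := F.norm hyS
    refine ⟨f ⟨y, hyN⟩, ?_, ?_⟩
    · rintro ⟨t, ht, e⟩
      apply hyT
      have hS2 : IsPGroup 2 ((S : Subgroup G).subgroupOf N) := S.isPGroup'.comap_of_injective _ N.subtype_injective
      have : t = ⟨y, hyN⟩ := hinj hS2 _ (F.le ht) _ hyS e
      have h1 : (t : G) = y := congrArg Subtype.val this
      rw [← h1]; exact ht
    · rw [← map_mul]
      have : (⟨y, hyN⟩ : N) * ⟨y, hyN⟩ = 1 := Subtype.ext hyy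
      rw [this, map_one]
  · -- no elementary abelian subgroup of order 16
    intro E hE
    have hE2 : IsPGroup 2 E := by
      rintro ⟨x, hx⟩
      exact ⟨1, Subtype.ext (by rw [pow_one]; change x ^ 2 = 1; rw [pow_two]; exact hE x hx)⟩
    obtain ⟨P, hP2, hPE, -⟩ := Adj.exists_lift hO'odd hE2
    have hPsq : ∀ x ∈ P, x * x = 1 := by
      intro x hx
      apply hinj hP2 _ (mul_mem hx hx) _ (one_mem _)
      rw [map_mul, map_one]
      exact hE _ (by rw [← hPE]; exact mem_map_of_mem f hx)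
    have h1 : Nat.card (P.map N.subtype) ≤ 8 := by
      apply F.no16
      rintro _ ⟨x, hx, rfl⟩
      have := hPsq x hx
      exact congrArg Subtype.val this
    have h2 : Nat.card (P.map N.subtype) = Nat.card P :=
      (Nat.card_congr (P.equivMapOfInjective _ N.subtype_injective).toEquiv).symm
    have h3 : Nat.card E ≤ Nat.card P := by
      rw [← hPE]
      exact Nat.card_le_card_of_surjective (fun x : P => (⟨f x, mem_map_of_mem f x.2⟩ : P.map f)) (by
        rintro ⟨_, x, hx, rfl⟩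
        exact ⟨⟨x, hx⟩, rfl⟩)
    omega

/-- **`Frame → Sit`** -/
theorem exists_sit : ∃ (S' : Sylow 2 G) (O : Subgroup G) (τ : ℤ → ℤ → ℤ → G) (x1 x2 x3 s ξ : G),
    Sit n S' T O τ x1 x2 x3 s ξ := by
  obtain ⟨O, hOC, hOodd, hOall⟩ := exists_O F
  set! N := normalizer (T : Set G) with hN
  have hTN : T ≤ N := T_le_N F
  have hON : ∀ m ∈ N, ∀ o ∈ O, m * o * m⁻¹ ∈ O := by
    intro m hm o ho
    apply hOall
    · intro t ht
      have h1 : m⁻¹ * t * m ∈ T := by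
        have := conj_mem F (inv_mem hm) ht
        simpa using this
      have h2 := hOC o ho _ h1
      calc m * o * m⁻¹ * t = m * (o * (m⁻¹ * t * m)) * m⁻¹ := by group
        _ = t * (m * o * m⁻¹) := by rw [h2]; group
    · have h1 := hOodd o ho
      have h2 : orderOf (m * o * m⁻¹) = orderOf o := by
        have := (MulAut.conj m).toMonoidHom
        exact orderOf_injective (MulAut.conj m).toMonoidHom (MulAut.conj m).injective o
      rw [h2]; exact h1
  have hNO : N ≤ normalizer (O : Set G) := by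
    intro m hm
    rw [mem_normalizer_iff]
    intro o
    constructor
    · intro ho; exact hON m hm o ho
    · intro ho
      have := hON _ (inv_mem hm) _ ho
      have e : m⁻¹ * (m * o * m⁻¹) * m⁻¹⁻¹ = o := by group
      rwa [e] at this
  haveI i1 : (O.subgroupOf N).Normal := normal_subgroupOf_of_le_normalizer hNO
  haveI i2 : (T.subgroupOf N).Normal := normal_subgroupOf_of_le_normalizer le_rfl
  haveI i3 : ((T.subgroupOf N).map (QuotientGroup.mk' (O.subgroupOf N))).Normal :=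
    Subgroup.Normal.map i2 _ (QuotientGroup.mk'_surjective _)
  haveI i4 : IsMulCommutative ((T.subgroupOf N).map (QuotientGroup.mk' (O.subgroupOf N))) := by
    refine ⟨⟨?_⟩⟩
    rintro ⟨_, x, hx, rfl⟩ ⟨_, y, hy, rfl⟩
    apply Subtype.ext
    change QuotientGroup.mk' (O.subgroupOf N) x * QuotientGroup.mk' (O.subgroupOf N) y =
      QuotientGroup.mk' (O.subgroupOf N) y * QuotientGroup.mk' (O.subgroupOf N) x
    rw [← map_mul, ← map_mul]
    congr 1
    exact Subtype.ext (F.comm _ hx _ hy)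
  have hH := hyp F hOC hOodd hOall
  have hO'odd : ∀ o ∈ O.subgroupOf N, Odd (orderOf o) := by
    rintro ⟨o, hoN⟩ ho
    rw [orderOf_mk]
    exact hOodd o ho
  have hT'2 : IsPGroup 2 (T.subgroupOf N) := (two F).comap_of_injective _ N.subtype_injective
  -- a non-trivial element of `Ω₁`
  obtain ⟨z, hz, hz1⟩ : ∃ z ∈ om ((T.subgroupOf N).map (QuotientGroup.mk' (O.subgroupOf N))), z ≠ 1 := by
    by_contra hcon
    push Not at hcon
    have h1 := hH.card_om_eq
    have h2 : om ((T.subgroupOf N).map (QuotientGroup.mk' (O.subgroupOf N))) = ⊥ := by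
      rw [eq_bot_iff]; intro x hx; rw [mem_bot]; exact hcon x hx
    rw [h2, card_bot] at h1
    omega
  obtain ⟨τ', x1', x2', x3', s', ξ', R, X, -⟩ := exists_rel hH hz hz1
  obtain ⟨P, τ, x1, x2, x3, s, ξ, hP2, hcP, RS, hξ, k1, k2, k3, k4, -⟩ := SitLift.exists_lift_rel hT'2 hO'odd R X
  have hcard : Nat.card (P.map N.subtype) = 8 * 8 ^ n := by
    rw [(Nat.card_congr (P.equivMapOfInjective _ N.subtype_injective).toEquiv).symm, hcP,
      Nat.card_congr (subgroupOfEquivOfLe hTN).toEquiv, F.card]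
  let S' : Sylow 2 G := Sylow.ofCard (P.map N.subtype) (by
    rw [hcard, ← F.cardS]; exact S.card_eq_multiplicity)
  have hS' : (S' : Subgroup G) = P.map N.subtype := rfl
  have cc : ∀ x y : N, x = y → (x : G) = (y : G) := fun x y e => by rw [e]
  have hRel : _root_.Cfsg.Agent.ONType.Rel.Rel n T (fun a b c => ((τ a b c : N) : G)) x1 x2 x3 s := by
    refine ⟨?_, ?_, ?_, cc _ _ RS.x1x1, cc _ _ RS.x2x2, cc _ _ RS.x3x3, cc _ _ RS.x12, cc _ _ RS.x23, cc _ _ RS.x31,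
      fun a b c => cc _ _ (RS.x1τ a b c), fun a b c => cc _ _ (RS.x2τ a b c), fun a b c => cc _ _ (RS.x3τ a b c),
      cc _ _ RS.ss, fun a b c => cc _ _ (RS.sτ a b c), cc _ _ RS.sx1, cc _ _ RS.sx2, cc _ _ RS.sx3, ?_⟩
    · intro a b c a' b' c'
      exact cc _ _ (RS.mul a b c a' b' c')
    · intro a b c
      rw [← RS.one]
      constructor
      · intro e; exact Subtype.ext e
      · intro e; exact cc _ _ e
    · intro g
      constructor
      · intro hg
        obtain ⟨a, b, c, e⟩ := (RS.mem ⟨g, hTN hg⟩).mp hg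
        exact ⟨a, b, c, cc _ _ e⟩
      · rintro ⟨a, b, c, rfl⟩
        exact (RS.mem (τ a b c)).mpr ⟨a, b, c, rfl⟩
    · intro a b c
      obtain ⟨c1, c2, c3, c4, c5, c6, c7⟩ := RS.cos a b c
      exact ⟨fun e => c1 (Subtype.ext e), fun e => c2 (Subtype.ext e), fun e => c3 (Subtype.ext e),
        fun e => c4 (Subtype.ext e), fun e => c5 (Subtype.ext e), fun e => c6 (Subtype.ext e), fun e => c7 (Subtype.ext e)⟩
  have hRelS : RelS n T (S' : Subgroup G) (fun a b c => ((τ a b c : N) : G)) x1 x2 x3 s := by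
    refine { hRel with memS := ?_ }
    intro g
    rw [hS']
    constructor
    · rintro ⟨g', hg', rfl⟩
      obtain ⟨a, b, c, w, hw, e⟩ := (RS.memS g').mp hg'
      refine ⟨a, b, c, w, ?_, cc _ _ e⟩
      rcases hw with rfl | rfl | rfl | rfl | rfl | rfl | rfl | rfl
      · exact Or.inl rfl
      · exact Or.inr (Or.inl rfl)
      · exact Or.inr (Or.inr (Or.inl rfl))
      · exact Or.inr (Or.inr (Or.inr (Or.inl rfl)))
      · exact Or.inr (Or.inr (Or.inr (Or.inr (Or.inl rfl))))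
      · exact Or.inr (Or.inr (Or.inr (Or.inr (Or.inr (Or.inl rfl)))))
      · exact Or.inr (Or.inr (Or.inr (Or.inr (Or.inr (Or.inr (Or.inl rfl))))))
      · exact Or.inr (Or.inr (Or.inr (Or.inr (Or.inr (Or.inr (Or.inr rfl))))))
    · rintro ⟨a, b, c, w, hw, rfl⟩
      have key : ∀ w : N, _root_.Cfsg.Agent.ONType.Rel.Rep x1 x2 x3 s w → ((τ a b c : N) : G) * (w : G) ∈ P.map N.subtype := by
        intro w hw
        exact ⟨τ a b c * w, (RS.memS _).mpr ⟨a, b, c, w, hw, rfl⟩, rfl⟩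
      rcases hw with rfl | rfl | rfl | rfl | rfl | rfl | rfl | rfl
      · exact key 1 (Or.inl rfl)
      · exact key x1 (Or.inr (Or.inl rfl))
      · exact key x2 (Or.inr (Or.inr (Or.inl rfl)))
      · exact key x3 (Or.inr (Or.inr (Or.inr (Or.inl rfl))))
      · exact key s (Or.inr (Or.inr (Or.inr (Or.inr (Or.inl rfl)))))
      · exact key (x1 * s) (Or.inr (Or.inr (Or.inr (Or.inr (Or.inr (Or.inl rfl))))))
      · exact key (x2 * s) (Or.inr (Or.inr (Or.inr (Or.inr (Or.inr (Or.inr (Or.inl rfl)))))))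
      · exact key (x3 * s) (Or.inr (Or.inr (Or.inr (Or.inr (Or.inr (Or.inr (Or.inr rfl)))))))
  refine ⟨S', O, fun a b c => ((τ a b c : N) : G), x1, x2, x3, s, ξ, ?_⟩
  refine
    { hn := F.hn
      rel := hRelS
      oddξ := by rwa [← orderOf_mk (ξ : G) ξ.2]
      ξτ := fun a b c => cc _ _ (k1 a b c)
      ξx3 := cc _ _ k2
      ξx1 := cc _ _ k3
      ξx2 := cc _ _ k4
      O_le := hOC
      O_odd := hOodd
      O_norm := hNO
      faith := ?_
      full := F.full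
      no16 := F.no16 }
  intro g hg hA
  obtain ⟨t, ht, o, ho, hodd, e⟩ := faithC F hg hA
  exact ⟨t, ht, o, hOall o ho hodd, e⟩

end Fr

end Cfsg.Agent.ONType.SitMain
end

-- part: ONType/FusMain
section
/-!
# O'Nan type groups: `Frame` + (`Ω₁(T)` is not strongly closed) gives `n = 2`, `Sit` and `Conj`
-/

set_option autoImplicit false
set_option linter.dupNamespace false

namespace Cfsg.Agent.ONType.FusMain

open Subgroup
open scoped Pointwise
open Cfsg.Agent.ONType.Rel Cfsg.Agent.ONType.Span Cfsg.Agent.ONType.Sit Cfsg.Agent.ONType.Facts Cfsg.Agent.ONType.Control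

variable {G : Type*} [Group G] [Finite G] {n : ℕ}

theorem fus {S : Sylow 2 G} {T O : Subgroup G} {τ : ℤ → ℤ → ℤ → G} {x1 x2 x3 s ξ : G}
    (h : Sit n S T O τ x1 x2 x3 s ξ)
    (hns : ∃ a ∈ T, a * a = 1 ∧ a ≠ 1 ∧ ∃ g : G, g * a * g⁻¹ ∈ (S : Subgroup G) ∧ g * a * g⁻¹ ∉ T) :
    n = 2 ∧ ∃ k : G, Conj n S T τ x3 k := by
  have hn := h.hn
  obtain ⟨a, ha, haa, ha1, g, hgS, hgT⟩ := hns
  have hgg : (g * a * g⁻¹) * (g * a * g⁻¹) = 1 := by
    calc (g * a * g⁻¹) * (g * a * g⁻¹) = g * (a * a) * g⁻¹ := by group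
      _ = 1 := by rw [haa]; group
  obtain ⟨m, -, hm⟩ := exists_conj_x3 h hgS hgT hgg
  obtain ⟨m', -, hm'⟩ := trans_one h ha ha1 haa
  have hfus : ∃ k : G, k * x3 * k⁻¹ = τ (2 ^ (n - 1)) (2 ^ (n - 1)) (2 ^ (n - 1)) := by
    refine ⟨m' * g⁻¹ * m⁻¹, ?_⟩
    rw [← el_111 n τ, ← hm', ← hm]
    group
  obtain ⟨k, hk⟩ := Fus.exists_conj h hfus
  refine ⟨?_, k, hk⟩
  by_contra hne
  exact NThree.main h hk (by omega)

/-- **Frame, `Ω₁(T)` not strongly closed** -/
theorem main {S : Sylow 2 G} {T : Subgroup G} (F : Frame n S T)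
    (hns : ∃ a ∈ T, a * a = 1 ∧ a ≠ 1 ∧ ∃ g : G, g * a * g⁻¹ ∈ (S : Subgroup G) ∧ g * a * g⁻¹ ∉ T) :
    n = 2 ∧ ∃ (S' : Sylow 2 G) (O : Subgroup G) (τ : ℤ → ℤ → ℤ → G) (x1 x2 x3 s ξ k : G),
      Sit 2 S' T O τ x1 x2 x3 s ξ ∧ Conj 2 S' T τ x3 k := by
  obtain ⟨S', O, τ, x1, x2, x3, s, ξ, h⟩ := SitMain.Fr.exists_sit F
  -- `S` and `S'` are conjugate in `N_G(T)`
  have hS'N := S_le_normalizer h.rel
  obtain ⟨m, hm, hmS⟩ := Fus.exists_conj_into hS'N S.isPGroup' F.norm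
  obtain ⟨a, ha, haa, ha1, g, hgS, hgT⟩ := hns
  have h1 := fus h ⟨a, ha, haa, ha1, m * g, by
    have := hmS _ hgS
    have e : m * g * a * (m * g)⁻¹ = m * (g * a * g⁻¹) * m⁻¹ := by group
    rw [e]; exact this, by
    intro hcon
    apply hgT
    have e : g * a * g⁻¹ = m⁻¹ * (m * g * a * (m * g)⁻¹) * m := by group
    rw [e]
    exact conj_mem' hm hcon⟩
  obtain ⟨rfl, k, hk⟩ := h1
  exact ⟨rfl, S', O, τ, x1, x2, x3, s, ξ, k, h, hk⟩

end Cfsg.Agent.ONType.FusMain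
end

-- part: ONType/Core
section
set_option autoImplicit false

/-!
# Groups of O'Nan type: the cores of the centralisers of involutions

`A` is a normal elementary abelian subgroup of order 8 of the Sylow 2-subgroup `S`, `z ∈ A`, and
`C_G(z) / O(C_G(z))` looks like `4.L₃(4).2`.  The subgroup `W_A` generated by the `O(C_G(a))` is the
largest `A`-invariant subgroup of odd order, so that `W_A = W_{gAg⁻¹}` as soon as `gAg⁻¹ ≤ N(A)`.
The solvability of the groups of odd order is a hypothesis here.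
-/

namespace Cfsg.Agent.ONType.Core

open Cfsg
open Cfsg.Agent.Dichotomy
open Cfsg.Agent.Dichotomy.Elem
open Cfsg.Agent.Dichotomy.Functor

variable {G : Type*} [Group G]

/-- The input of the killing of the core in a group of O'Nan type. -/
structure Input (S : Sylow 2 G) (A : Subgroup G) (z : G) : Prop where
  z_mem : z ∈ A
  z_ne : z ≠ 1
  elem : IsElementaryAbelian 2 A
  card : Nat.card A = 8
  norm : (S : Subgroup G) ≤ Subgroup.normalizer (A : Set G)
  trans : ∀ a ∈ A, a ≠ 1 → ∃ n ∈ Subgroup.normalizer (A : Set G), n * a * n⁻¹ = z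
  good : ∀ b ∈ A, b ≠ 1 → b ≠ z → ∀ w : G, Odd (orderOf w) → w * z = z * w → w * b = b * w →
    w ∈ centralizerPPrimeCore 2 z
  fus : ∀ y ∈ (S : Subgroup G), y * y = 1 →
    ∃ g : G, (∀ a ∈ A, g * a * g⁻¹ ∈ Subgroup.normalizer (A : Set G)) ∧ g⁻¹ * y * g ∈ A

theorem mem_cent {x w : G} : w ∈ Subgroup.centralizer ({x} : Set G) ↔ w * x = x * w :=
  Subgroup.mem_centralizer_singleton_iff

theorem odd_of_mem {H : Subgroup G} [Finite H] (hH : Odd (Nat.card H)) {w : G} (hw : w ∈ H) :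
    Odd (orderOf w) := by
  have h1 : orderOf (⟨w, hw⟩ : H) ∣ Nat.card H := orderOf_dvd_natCard _
  rw [Subgroup.orderOf_mk] at h1
  exact Odd.of_dvd_nat hH h1

theorem orderOf_conj (g w : G) : orderOf (g * w * g⁻¹) = orderOf w :=
  orderOf_injective (MulAut.conj g).toMonoidHom (MulAut.conj g).injective w

theorem mem_normalizer_conj {A : Subgroup G} {n : G} (hn : n ∈ Subgroup.normalizer (A : Set G))
    {a : G} (ha : a ∈ A) : n * a * n⁻¹ ∈ A :=
  (Subgroup.mem_normalizer_iff.1 hn a).1 ha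

theorem mem_normalizer_conj' {A : Subgroup G} {n : G}
    (hn : n ∈ Subgroup.normalizer (A : Set G)) {a : G} (ha : a ∈ A) : n⁻¹ * a * n ∈ A := by
  have := mem_normalizer_conj (inv_mem hn) ha
  rwa [inv_inv] at this

theorem map_eq_of_mem_normalizer {A : Subgroup G} {n : G}
    (hn : n ∈ Subgroup.normalizer (A : Set G)) : A.map (MulAut.conj n).toMonoidHom = A := by
  apply le_antisymm
  · rintro _ ⟨a, ha, rfl⟩
    exact mem_normalizer_conj hn ha
  · intro a ha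
    exact ⟨n⁻¹ * a * n, mem_normalizer_conj' hn ha, by simp only [mul_assoc, _root_.MulEquiv.toMonoidHom_eq_coe, _root_.mul_assoc, _root_.MonoidHom.coe_coe, _root_.MulAut.conj_apply, _root_.mul_inv_cancel_left, _root_.mul_inv_cancel, _root_.mul_one]⟩

theorem th_card [Finite G] (x : G) : Odd (Nat.card ↥(centralizerPPrimeCore 2 x)) := by
  have := th_odd x
  rwa [← even_iff_two_dvd, Nat.not_even_iff_odd] at this

/-- a noncyclic elementary abelian 2-group of order 4 acting on a group of odd order -/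
theorem le_of_four [Finite G] {E D H : Subgroup G} (hE : IsElementaryAbelian 2 E)
    (hE4 : 4 ≤ Nat.card E) (hED : E ≤ Subgroup.normalizer (D : Set G)) (hD : Odd (Nat.card D))
    (h : ∀ a ∈ E, a ≠ 1 → D ⊓ Subgroup.centralizer {a} ≤ H) : D ≤ H := by
  haveI := hE.1
  have hncyc : ¬ IsCyclic E := by
    intro hcyc
    obtain ⟨g, hg⟩ := IsCyclic.exists_generator (α := E)
    have h3 : orderOf g = Nat.card E := orderOf_eq_card_of_forall_mem_zpowers hg
    have h4 : g ^ 2 = 1 := by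
      ext
      simpa only [_root_.SubmonoidClass.coe_pow, _root_.OneMemClass.coe_one] using hE.2 g g.2
    have h5 : orderOf g ≤ 2 := orderOf_le_of_pow_eq_one (by norm_num) h4
    omega
  have hcop : (Nat.card E).Coprime (Nat.card D) := by
    obtain ⟨n, hn⟩ := (IsPGroup.iff_card (p := 2)).1 (isPGroup_of_elem hE)
    rw [hn]
    exact Nat.Coprime.pow_left n (Nat.coprime_two_left.2 hD)
  rw [← S0058.result E D hncyc hED hcop]
  refine iSup₂_le ?_
  rintro a ⟨ha, ha1⟩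
  exact h a ha ha1

namespace Input

variable [Finite G] {S : Sylow 2 G} {A : Subgroup G} {z : G}

theorem big (h : Input S A z) : Big A := ⟨h.elem, by rw [h.card]; norm_num⟩

/-- the condition `good` for all pairs of elements of `A` -/
theorem good' (h : Input S A z) {a b : G} (ha : a ∈ A) (hb : b ∈ A) (ha1 : a ≠ 1) (hb1 : b ≠ 1)
    (hab : b ≠ a) {w : G} (hw : Odd (orderOf w)) (hwa : w * a = a * w) (hwb : w * b = b * w) :
    w ∈ centralizerPPrimeCore 2 a := by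
  obtain ⟨n, hn, hna⟩ := h.trans a ha ha1
  have h1 : n * w * n⁻¹ ∈ centralizerPPrimeCore 2 z := by
    refine h.good (n * b * n⁻¹) (mem_normalizer_conj hn hb) ?_ ?_ _ ?_ ?_ ?_
    · intro h0
      apply hb1
      have := congrArg (fun v => n⁻¹ * v * n) h0
      simpa [mul_assoc] using this
    · rw [← hna]
      intro h0
      apply hab
      have := congrArg (fun v => n⁻¹ * v * n) h0
      simpa [mul_assoc] using this
    · rwa [orderOf_conj]
    · rw [← hna]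
      have := congrArg (fun v => n * v * n⁻¹) hwa
      simpa only [mul_assoc, _root_.inv_mul_cancel_left, _root_.mul_right_inj] using this
    · have := congrArg (fun v => n * v * n⁻¹) hwb
      simpa only [mul_assoc, _root_.inv_mul_cancel_left, _root_.mul_right_inj] using this
  rw [← hna, th_conj] at h1
  obtain ⟨v, hv, hvw⟩ := h1
  have h2 : n * v * n⁻¹ = n * w * n⁻¹ := hvw
  have h3 : v = w := by simpa only [_root_.mul_left_inj, _root_.mul_right_inj] using h2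
  rwa [← h3]

/-- the signalizer functor on `A` is complete -/
theorem complete (h : Input S A z)
    (hsolv : ∀ a ∈ A, a ≠ 1 → Group.IsSolvable ↥(centralizerPPrimeCore 2 a)) :
    Odd (Nat.card ↥(W A)) ∧
      ∀ a ∈ A, a ≠ 1 → W A ⊓ Subgroup.centralizer {a} = centralizerPPrimeCore 2 a := by
  have h1 := SignalizersComponents.SolFunctorTwo.solvable_signalizer_functor_two A
    (elem_comm h.elem) h.elem.2 h.big.2 (fun a => centralizerPPrimeCore 2 a)
    (fun a _ _ => th_le a) (fun a _ _ => th_odd a)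
    (by
      intro a ha ha1 b hb x hx
      have h2 : b * a * b⁻¹ = a := by rw [elem_comm h.elem b hb a ha, mul_inv_cancel_right]
      have h3 := th_conj a b
      rw [h2] at h3
      rw [h3]
      exact ⟨x, hx, rfl⟩)
    hsolv
    (by
      intro a ha ha1 b hb hb1
      by_cases hab : a = b
      · subst hab; exact inf_le_left
      · rintro w ⟨hw1, hw2⟩
        exact h.good' hb ha hb1 ha1 hab (odd_of_mem (th_card a) hw1) (mem_cent.1 hw2)
          (mem_cent.1 (th_le a hw1)))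
  refine ⟨?_, h1.2.1⟩
  have h2 := h1.1
  rwa [← even_iff_two_dvd, Nat.not_even_iff_odd] at h2

omit [Finite G] in
theorem exists_notMem_of_card (h : Input S A z) {E : Subgroup G} (hE : Nat.card E = 4) :
    ∃ c ∈ A, c ∉ E := by
  by_contra hcon
  push Not at hcon
  have h1 : A ≤ E := hcon
  haveI : Finite E := Nat.finite_of_card_ne_zero (by rw [hE]; norm_num)
  have h2 := Subgroup.card_le_of_le h1
  rw [h.card, hE] at h2
  omega

omit [Finite G] in
/-- there is a four-subgroup of `A` avoiding `a` -/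
theorem exists_four (h : Input S A z) {a : G} (ha : a ∈ A) (ha1 : a ≠ 1) :
    ∃ E ≤ A, IsElementaryAbelian 2 E ∧ Nat.card E = 4 ∧ a ∉ E := by
  have hsq : ∀ x ∈ A, x * x = 1 := fun x hx => elem_sq h.elem hx
  have hcomm := elem_comm h.elem
  obtain ⟨b, hb, hb1, hba⟩ : ∃ b ∈ A, b ≠ 1 ∧ b ≠ a := by
    by_contra hcon
    push Not at hcon
    have h1 : A ≤ Subgroup.zpowers a := by
      intro x hx
      by_cases hx1 : x = 1
      · rw [hx1]; exact one_mem _
      · rw [hcon x hx hx1]; exact Subgroup.mem_zpowers a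
    have hoa : orderOf a = 2 := orderOf_two (hsq a ha) ha1
    have hca : Nat.card (Subgroup.zpowers a) = 2 := by rw [Nat.card_zpowers, hoa]
    haveI : Finite (Subgroup.zpowers a) := Nat.finite_of_card_ne_zero (by rw [hca]; norm_num)
    have h2 := Subgroup.card_le_of_le h1
    rw [h.card, hca] at h2
    omega
  have hab4 := card_four (hsq a ha) (hsq b hb) (hcomm a ha b hb) ha1 hb1 hba.symm
  obtain ⟨c, hc, hcE⟩ := h.exists_notMem_of_card hab4
  rw [mem_four_iff (hsq a ha) (hsq b hb) (hcomm a ha b hb)] at hcE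
  push Not at hcE
  obtain ⟨hc1, hca, hcb, hcab⟩ := hcE
  refine ⟨four b c, four_le hb hc, elem_four (hsq b hb) (hsq c hc) (hcomm b hb c hc),
    card_four (hsq b hb) (hsq c hc) (hcomm b hb c hc) hb1 hc1 hcb.symm, ?_⟩
  rw [mem_four_iff (hsq b hb) (hsq c hc) (hcomm b hb c hc)]
  push Not
  refine ⟨ha1, hba.symm, hca.symm, ?_⟩
  intro h0
  apply hcab
  rw [h0, hcomm b hb c hc, mul_assoc, hsq b hb, mul_one]

/-- every `A`-invariant subgroup of odd order is contained in `W_A` -/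
theorem le_W (h : Input S A z) {D : Subgroup G} (hD : Odd (Nat.card D))
    (hAD : A ≤ Subgroup.normalizer (D : Set G)) : D ≤ W A := by
  refine le_of_four h.elem (by rw [h.card]; norm_num) hAD hD ?_
  intro a ha ha1
  refine le_trans ?_ (Functor.le_W A ha ha1)
  obtain ⟨E, hEA, hE, hE4, haE⟩ := h.exists_four ha ha1
  have hDa : Odd (Nat.card ↥(D ⊓ Subgroup.centralizer ({a} : Set G))) :=
    Odd.of_dvd_nat hD (Subgroup.card_dvd_of_le inf_le_left)
  refine le_of_four hE hE4.ge ?_ hDa ?_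
  · intro b hb
    have hb1 : b ∈ Subgroup.normalizer (D : Set G) := hAD (hEA hb)
    have hb2 : b ∈ Subgroup.centralizer ({a} : Set G) :=
      mem_cent.2 (elem_comm h.elem b (hEA hb) a ha)
    rw [Subgroup.mem_normalizer_iff]
    intro x
    have key : x ∈ Subgroup.centralizer ({a} : Set G) ↔
        b * x * b⁻¹ ∈ Subgroup.centralizer ({a} : Set G) := by
      constructor
      · intro hx
        exact mul_mem (mul_mem hb2 hx) (inv_mem hb2)
      · intro hx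
        have := mul_mem (mul_mem (inv_mem hb2) hx) hb2
        simpa [mul_assoc] using this
    constructor
    · rintro ⟨h1, h2⟩
      exact ⟨(Subgroup.mem_normalizer_iff.1 hb1 x).1 h1, key.1 h2⟩
    · rintro ⟨h1, h2⟩
      exact ⟨(Subgroup.mem_normalizer_iff.1 hb1 x).2 h1, key.2 h2⟩
  · rintro b hb hb1 w ⟨⟨hwD, hwa⟩, hwb⟩
    have hba : b ≠ a := fun h0 => haE (h0 ▸ hb)
    exact h.good' ha (hEA hb) ha1 hb1 hba (odd_of_mem hD hwD) (mem_cent.1 hwa) (mem_cent.1 hwb)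

/-- the normaliser of `A` normalises `W_A` -/
theorem normalizer_le {n : G} (hn : n ∈ Subgroup.normalizer (A : Set G)) :
    n ∈ Subgroup.normalizer (W A : Set G) := by
  have h1 := W_conj A n
  rw [map_eq_of_mem_normalizer hn] at h1
  exact mem_normalizer_of_map_eq h1

/-- if `gAg⁻¹ ≤ N(A)` then `g` normalises `W_A` -/
theorem mem_normalizer_W (h : Input S A z)
    (hsolv : ∀ a ∈ A, a ≠ 1 → Group.IsSolvable ↥(centralizerPPrimeCore 2 a)) {g : G}
    (hg : ∀ a ∈ A, g * a * g⁻¹ ∈ Subgroup.normalizer (A : Set G)) :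
    g ∈ Subgroup.normalizer (W A : Set G) := by
  obtain ⟨hodd, -⟩ := h.complete hsolv
  -- `A` normalises `g⁻¹ W_A g`
  have h1 : (W A).map (MulAut.conj g⁻¹).toMonoidHom ≤ W A := by
    refine h.le_W ?_ ?_
    · rw [Subgroup.card_map_of_injective (MulAut.conj g⁻¹).injective]
      exact hodd
    · intro a ha
      have h2 : g * a * g⁻¹ ∈ Subgroup.normalizer (W A : Set G) := normalizer_le (hg a ha)
      have h3 := map_eq_of_mem_normalizer h2
      refine mem_normalizer_of_map_eq ?_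
      rw [Subgroup.map_map]
      have h4 : (MulAut.conj a).toMonoidHom.comp (MulAut.conj g⁻¹).toMonoidHom =
          ((MulAut.conj g⁻¹).toMonoidHom).comp (MulAut.conj (g * a * g⁻¹)).toMonoidHom := by
        ext x
        simp [mul_assoc]
      rw [h4, ← Subgroup.map_map, h3]
  have h5 : (W A).map (MulAut.conj g⁻¹).toMonoidHom = W A := by
    refine Subgroup.eq_of_le_of_card_ge h1 ?_
    rw [Subgroup.card_map_of_injective (MulAut.conj g⁻¹).injective]
  have h6 := mem_normalizer_of_map_eq h5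
  have := inv_mem h6
  rwa [inv_inv] at this

end Input

end Cfsg.Agent.ONType.Core
end

-- part: ONType/CoreMain
section
set_option autoImplicit false

/-!
# Groups of O'Nan type: the cores of the centralisers of involutions are trivial
-/

namespace Cfsg.Agent.ONType.CoreMain

open Cfsg
open Cfsg.Agent.Dichotomy
open Cfsg.Agent.Dichotomy.Elem
open Cfsg.Agent.Dichotomy.Functor
open Cfsg.Agent.ONType.Core

variable {G : Type*} [Group G] [Finite G] {S : Sylow 2 G} {A : Subgroup G} {z : G}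

/-- `C_{W_A}(y) = O(C_G(y))` for all the involutions `y` of `S` -/
theorem cent_W (h : Input S A z)
    (hsolv : ∀ a ∈ A, a ≠ 1 → Group.IsSolvable ↥(centralizerPPrimeCore 2 a))
    {y : G} (hy : y ∈ (S : Subgroup G)) (hy2 : y * y = 1) (hy1 : y ≠ 1) :
    W A ⊓ Subgroup.centralizer {y} = centralizerPPrimeCore 2 y := by
  obtain ⟨g, hg, hga⟩ := h.fus y hy hy2
  have hgW := h.mem_normalizer_W hsolv hg
  have ha1 : g⁻¹ * y * g ≠ 1 := by
    intro h0
    apply hy1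
    have := congrArg (fun v => g * v * g⁻¹) h0
    simpa only [mul_assoc, _root_.mul_inv_cancel_left, _root_.mul_inv_cancel, _root_.mul_one] using this
  have hya : g * (g⁻¹ * y * g) * g⁻¹ = y := by group
  have h1 := (h.complete hsolv).2 _ hga ha1
  have h2 : (W A ⊓ Subgroup.centralizer {g⁻¹ * y * g}).map (MulAut.conj g).toMonoidHom =
      (centralizerPPrimeCore 2 (g⁻¹ * y * g)).map (MulAut.conj g).toMonoidHom := by rw [h1]
  rw [Subgroup.map_inf _ _ _ (MulAut.conj g).injective, Core.map_eq_of_mem_normalizer hgW,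
    CoreTools.centralizer_conj, ← th_conj, hya] at h2
  exact h2

/-- every involution is conjugate into `S` -/
theorem exists_conj_mem (S : Sylow 2 G) {P : Subgroup G} (hP : IsPGroup 2 P) :
    ∃ g : G, ∀ x ∈ P, g * x * g⁻¹ ∈ (S : Subgroup G) := by
  obtain ⟨Q, hQ⟩ := hP.exists_le_sylow
  obtain ⟨g, hg⟩ := MulAction.exists_smul_eq G Q S
  refine ⟨g, ?_⟩
  intro x hx
  rw [← hg]
  exact ⟨x, hQ hx, rfl⟩

/-- **The cores of the centralisers of the involutions are trivial**, if `C_G(z)` is generated by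
`O(C_G(z))` and elements `g` with `gAg⁻¹ ≤ N(A)`. -/
theorem core_eq_bot (h : Input S A z)
    (hsolv : ∀ a ∈ A, a ≠ 1 → Group.IsSolvable ↥(centralizerPPrimeCore 2 a))
    (hgen : Subgroup.centralizer ({z} : Set G) ≤
      Subgroup.closure ({w | w ∈ centralizerPPrimeCore 2 z} ∪
        {g | ∀ a ∈ A, g * a * g⁻¹ ∈ Subgroup.normalizer (A : Set G)}))
    (hO : oddCore G = ⊥)
    (hSE : ∀ H : Subgroup G, IsStronglyEmbedded H → (oddCore ↥H).map H.subtype ≤ oddCore G)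
    {t : G} (ht : orderOf t = 2) : centralizerPPrimeCore 2 t = ⊥ := by
  obtain ⟨hodd, hcomp⟩ := h.complete hsolv
  obtain ⟨H, hH⟩ : ∃ H, H = Subgroup.normalizer (W A : Set G) := ⟨_, rfl⟩
  have hz2 : z * z = 1 := elem_sq h.elem h.z_mem
  have hoz : orderOf z = 2 := orderOf_two hz2 h.z_ne
  have hWH : W A ≤ H := by rw [hH]; exact Subgroup.le_normalizer
  have hAH : ∀ n ∈ Subgroup.normalizer (A : Set G), n ∈ H := by
    intro n hn
    rw [hH]
    exact Input.normalizer_le hn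
  have hSH : (S : Subgroup G) ≤ H := fun s hs => hAH s (h.norm hs)
  have hgH : ∀ g : G, (∀ a ∈ A, g * a * g⁻¹ ∈ Subgroup.normalizer (A : Set G)) → g ∈ H := by
    intro g hg
    rw [hH]
    exact h.mem_normalizer_W hsolv hg
  have hCH : Subgroup.centralizer ({z} : Set G) ≤ H := by
    refine hgen.trans ((Subgroup.closure_le H).2 ?_)
    rintro g (hg | hg)
    · exact hWH (Functor.le_W A h.z_mem h.z_ne hg)
    · exact hgH g hg
  -- involutions of `H` are conjugate in `H` to `z`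
  have hconjS : ∀ y ∈ (S : Subgroup G), orderOf y = 2 → ∃ k ∈ H, k * y * k⁻¹ = z := by
    intro y hy hoy
    obtain ⟨g, hg, hga⟩ := h.fus y hy (sq_of_orderOf hoy)
    have ha1 : g⁻¹ * y * g ≠ 1 := by
      intro h0
      apply ne_one_of_orderOf hoy
      have := congrArg (fun v => g * v * g⁻¹) h0
      simpa only [mul_assoc, _root_.mul_inv_cancel_left, _root_.mul_inv_cancel, _root_.mul_one] using this
    obtain ⟨n, hn, hnz⟩ := h.trans _ hga ha1
    refine ⟨n * g⁻¹, mul_mem (hAH n hn) (inv_mem (hgH g hg)), ?_⟩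
    rw [← hnz]
    group
  have hmaxH : SignalizersComponents.RelSylow.IsMaxP 2 H (S : Subgroup G) :=
    ⟨S.2, hSH, fun R' h1 _ h3 => (S.3 h1 h3).le⟩
  have hconjH : ∀ y ∈ H, orderOf y = 2 → ∃ k ∈ H, k * y * k⁻¹ = z := by
    intro y hy hoy
    have hyP : IsPGroup 2 (Subgroup.zpowers y) := by
      refine IsPGroup.of_card (n := 1) ?_
      rw [Nat.card_zpowers, hoy, pow_one]
    obtain ⟨k, hk, hle⟩ := hmaxH.exists_conj_le hyP (by rwa [Subgroup.zpowers_le])
    have h1 : k * y * k⁻¹ ∈ (S : Subgroup G) := hle ⟨y, Subgroup.mem_zpowers y, rfl⟩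
    obtain ⟨k', hk', hkz⟩ := hconjS _ h1 (by rw [orderOf_conj, hoy])
    refine ⟨k' * k, mul_mem hk' hk, ?_⟩
    rw [← hkz]
    group
  have hfus : ∀ s g : G, orderOf s = 2 → s ∈ H → g * s * g⁻¹ ∈ H → g ∈ H := by
    intro s g hs hsH hgH'
    obtain ⟨k, hk, hkz⟩ := hconjH s hsH hs
    obtain ⟨l, hl, hlz⟩ := hconjH _ hgH' (by rw [orderOf_conj, hs])
    have h1 : (l * g * k⁻¹) ∈ Subgroup.centralizer ({z} : Set G) := by
      rw [mem_cent]
      calc l * g * k⁻¹ * z = l * g * k⁻¹ * (k * s * k⁻¹) := by rw [hkz]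
        _ = l * (g * s * g⁻¹) * l⁻¹ * (l * g * k⁻¹) := by group
        _ = z * (l * g * k⁻¹) := by rw [hlz]
    have h4 := mul_mem (mul_mem (inv_mem hl) (hCH h1)) hk
    have h5 : l⁻¹ * (l * g * k⁻¹) * k = g := by group
    rwa [h5] at h4
  have hWcop : (Nat.card ↥(W A)).Coprime 2 := Nat.coprime_two_right.2 hodd
  have hWbot : W A = ⊥ := by
    by_cases hHt : H = ⊤
    · have hn : (W A).Normal := Subgroup.normalizer_eq_top_iff.1 (hH ▸ hHt)
      have h3 : W A ≤ oddCore G := Lib.Cores.le_pPrimeCore hn hWcop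
      rw [hO] at h3
      exact le_bot_iff.1 h3
    · have hse : IsStronglyEmbedded H := by
        refine ⟨hHt, ?_, ?_⟩
        · rw [even_iff_two_dvd]
          have h3 : orderOf (⟨z, hCH (mem_cent.2 rfl)⟩ : H) = 2 := by
            rw [← Subgroup.orderOf_coe]; exact hoz
          rw [← h3]
          exact orderOf_dvd_natCard _
        · intro g hg
          by_contra hodd'
          rw [Nat.not_odd_iff_even, even_iff_two_dvd] at hodd'
          obtain ⟨u, hu⟩ := exists_prime_orderOf_dvd_card' 2 hodd'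
          have hu' : orderOf (u : G) = 2 := by rw [Subgroup.orderOf_coe, hu]
          have h3 := u.2.1
          obtain ⟨v, hv, hvu⟩ := u.2.2
          have hvu' : g * v * g⁻¹ = (u : G) := hvu
          apply hg
          refine hfus v g ?_ hv ?_
          · rw [← orderOf_conj g v, hvu', hu']
          · rw [hvu']; exact h3
      have h3 := hSE _ hse
      rw [hO] at h3
      have hn : ((W A).subgroupOf H).Normal := by
        rw [Subgroup.normal_subgroupOf_iff_le_normalizer hWH, hH]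
      have h4 : (W A).subgroupOf H ≤ oddCore H := by
        refine Lib.Cores.le_pPrimeCore hn ?_
        rwa [Nat.card_congr (Subgroup.subgroupOfEquivOfLe hWH).toEquiv]
      have h5 := (Subgroup.map_mono (f := H.subtype) h4).trans h3
      rw [Subgroup.subgroupOf_map_subtype, inf_eq_left.mpr hWH] at h5
      exact le_bot_iff.1 h5
  -- conclusion
  have htP : IsPGroup 2 (Subgroup.zpowers t) := by
    refine IsPGroup.of_card (n := 1) ?_
    rw [Nat.card_zpowers, ht, pow_one]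
  obtain ⟨g, hg⟩ := exists_conj_mem S htP
  have hgt := hg t (Subgroup.mem_zpowers t)
  have hog : orderOf (g * t * g⁻¹) = 2 := by rw [orderOf_conj, ht]
  have h4 := cent_W h hsolv hgt (sq_of_orderOf hog) (ne_one_of_orderOf hog)
  rw [hWbot, bot_inf_eq, th_conj] at h4
  exact (Subgroup.map_eq_bot_iff_of_injective _ (MulAut.conj g).injective).1 h4.symm

end Cfsg.Agent.ONType.CoreMain
end

-- part: ONType/CzG
section
/-!
# From `G` to `H = C_G(z)` and `X = H/O(H)`; the input of the core theorem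
-/

set_option autoImplicit false

namespace Cfsg.Agent.ONType.Cz

open Subgroup Cfsg.Agent.TypeL3 Cfsg.Agent.TypeL3.Local Cfsg.Agent.Lib.FieldFour Cfsg.Agent.Lib.GoldschmidtFusion

universe u

/-- the situation in `G`, `n = 2`, with all the fusion facts which are used -/
structure GIn {G : Type*} [Group G] [Finite G] (T : Subgroup G) (S : Sylow 2 G) (τ : ℤ → ℤ → ℤ → G)
    (x1 x2 x3 s ξ h : G) : Prop where
  rel : Rel 4 T (S : Subgroup G) τ x1 x2 x3 s
  xi : RelXi τ x1 x2 x3 ξ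
  xio : Odd (orderOf ξ)
  hx : h * x3 * h⁻¹ = τ 2 0 0
  hz : h * τ 2 2 2 = τ 2 2 2 * h
  hv : h * τ 1 1 1 * h⁻¹ = τ 1 1 1 ∨ h * τ 1 1 1 * h⁻¹ = τ (-1) (-1) (-1)
  wt : ∀ g, (∀ y ∈ T, g * y * g⁻¹ ∈ (S : Subgroup G)) → ∀ y ∈ T, g * y * g⁻¹ ∈ T
  tc : ∀ g, g * τ 1 1 1 * g⁻¹ ∈ T → ∃ k ∈ normalizer (T : Set G), k * τ 1 1 1 * k⁻¹ = g * τ 1 1 1 * g⁻¹
  az : ∀ k ∈ normalizer (T : Set G), k * τ 2 2 2 = τ 2 2 2 * k →
    ∃ c g, ∃ i : ℕ, (∀ y ∈ T, c * y = y * c) ∧ g ∈ (S : Subgroup G) ∧ k = c * g * ξ ^ i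
  inv : ∀ y ∈ (S : Subgroup G), y ∉ T → y * y = 1 → ∃ n ∈ normalizer (T : Set G), n * y * n⁻¹ = x3
  tr : ∀ a ∈ T, a * a = 1 → a ≠ 1 → ∃ n ∈ normalizer (T : Set G), n * a * n⁻¹ = τ 2 2 2

/-- `Rel` in a subgroup containing `S` -/
theorem Rel.sub {G : Type*} [Group G] {q : ℤ} {T S : Subgroup G} {τ : ℤ → ℤ → ℤ → G} {x1 x2 x3 s : G}
    (R : Rel q T S τ x1 x2 x3 s) {H : Subgroup G} (hS : S ≤ H) :
    Rel q (T.subgroupOf H) (S.subgroupOf H) (fun a b c => ⟨τ a b c, hS (R.T_le (R.τ_mem a b c))⟩)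
      ⟨x1, hS R.x1_mem⟩ ⟨x2, hS R.x2_mem⟩ ⟨x3, hS R.x3_mem⟩ ⟨s, hS R.s_mem⟩ where
  mul := fun a b c a' b' c' => Subtype.ext (R.mul _ _ _ _ _ _)
  one := fun a b c => by
    rw [← R.one]
    exact ⟨fun h => congrArg Subtype.val h, fun h => Subtype.ext h⟩
  mem := fun g => by
    rw [mem_subgroupOf, R.mem]
    exact ⟨fun ⟨a, b, c, h⟩ => ⟨a, b, c, Subtype.ext h⟩, fun ⟨a, b, c, h⟩ => ⟨a, b, c, congrArg Subtype.val h⟩⟩
  x1_sq := Subtype.ext R.x1_sq
  x2_sq := Subtype.ext R.x2_sq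
  x3_sq := Subtype.ext R.x3_sq
  x12 := Subtype.ext R.x12
  x23 := Subtype.ext R.x23
  x31 := Subtype.ext R.x31
  x1_t := fun a b c => Subtype.ext (R.x1_t a b c)
  x2_t := fun a b c => Subtype.ext (R.x2_t a b c)
  x3_t := fun a b c => Subtype.ext (R.x3_t a b c)
  s_sq := Subtype.ext R.s_sq
  s_t := fun a b c => Subtype.ext (R.s_t a b c)
  s_x3 := Subtype.ext R.s_x3
  s_x1 := Subtype.ext R.s_x1
  s_x2 := Subtype.ext R.s_x2
  S_mem := fun g => by
    rw [mem_subgroupOf]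
    constructor
    · intro hg
      obtain ⟨a, b, c, h⟩ := R.S_cases hg
      have key : ∀ (w : G) (hw : w ∈ H), (g : G) = τ a b c * w → g = ⟨τ a b c, hS (R.T_le (R.τ_mem a b c))⟩ * ⟨w, hw⟩ :=
        fun w hw h => Subtype.ext h
      rcases h with h | h | h | h | h | h | h | h
      · exact ⟨a, b, c, 1, Or.inl rfl, key 1 (one_mem _) (by rw [h, mul_one])⟩
      · exact ⟨a, b, c, _, Or.inr (Or.inl rfl), key _ _ h⟩
      · exact ⟨a, b, c, _, Or.inr (Or.inr (Or.inl rfl)), key _ _ h⟩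
      · exact ⟨a, b, c, _, Or.inr (Or.inr (Or.inr (Or.inl rfl))), key _ _ h⟩
      · exact ⟨a, b, c, _, Or.inr (Or.inr (Or.inr (Or.inr (Or.inl rfl)))), key _ _ h⟩
      · exact ⟨a, b, c, _, Or.inr (Or.inr (Or.inr (Or.inr (Or.inr (Or.inl rfl))))), key _ _ h⟩
      · exact ⟨a, b, c, _, Or.inr (Or.inr (Or.inr (Or.inr (Or.inr (Or.inr (Or.inl rfl)))))), key _ _ h⟩
      · exact ⟨a, b, c, _, Or.inr (Or.inr (Or.inr (Or.inr (Or.inr (Or.inr (Or.inr rfl)))))), key _ _ h⟩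
    · rintro ⟨a, b, c, w, hw, rfl⟩
      refine (R.S_mem _).2 ⟨a, b, c, w, ?_, rfl⟩
      rcases hw with rfl | rfl | rfl | rfl | rfl | rfl | rfl | rfl <;> simp only [_root_.OneMemClass.coe_one, _root_.true_or, _root_.left_eq_mul, _root_.or_true, _root_.right_eq_mul, _root_.MulMemClass.mk_mul_mk, _root_.mul_eq_left, _root_.mul_eq_right, _root_.mul_left_inj]

theorem mem_normalizer_subgroupOf {G : Type*} [Group G] {T H : Subgroup G} (hT : T ≤ H) {k : H} :
    k ∈ normalizer ((T.subgroupOf H : Subgroup H) : Set H) ↔ (k : G) ∈ normalizer (T : Set G) := by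
  rw [mem_normalizer_iff, mem_normalizer_iff]
  constructor
  · intro h1 g
    constructor
    · intro hg
      exact (h1 ⟨g, hT hg⟩).1 hg
    · intro hg
      have hgH : g ∈ H := by
        have h2 := mul_mem (mul_mem (inv_mem k.2) (hT hg)) k.2
        rwa [show (k : G)⁻¹ * (k * g * (k : G)⁻¹) * k = g by group] at h2
      exact (h1 ⟨g, hgH⟩).2 hg
  · intro h1 g
    exact h1 g

variable {G : Type u} [Group G] [Finite G] {T : Subgroup G} {S : Sylow 2 G} {τ : ℤ → ℤ → ℤ → G}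
  {x1 x2 x3 s ξ h : G}

namespace GIn

theorem S_z (D : GIn T S τ x1 x2 x3 s ξ h) {g : G} (hg : g ∈ (S : Subgroup G)) : g * τ 2 2 2 = τ 2 2 2 * g := by
  have R := D.rel
  have h1 : x1 * τ 2 2 2 = τ 2 2 2 * x1 := by rw [R.x1_t, mul_left_inj, R.τ_eq]; omega
  have h2 : x2 * τ 2 2 2 = τ 2 2 2 * x2 := by rw [R.x2_t, mul_left_inj, R.τ_eq]; omega
  have h3 : x3 * τ 2 2 2 = τ 2 2 2 * x3 := by rw [R.x3_t, mul_left_inj, R.τ_eq]; omega
  have h4 : s * τ 2 2 2 = τ 2 2 2 * s := by rw [R.s_t, mul_left_inj, R.τ_eq]; omega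
  obtain ⟨a, b, c, hg⟩ := R.S_cases hg
  have ht := R.τ_comm a b c 2 2 2
  have c0 : Commute (τ a b c) (τ 2 2 2) := ht
  have c1 : Commute x1 (τ 2 2 2) := h1
  have c2 : Commute x2 (τ 2 2 2) := h2
  have c3 : Commute x3 (τ 2 2 2) := h3
  have c4 : Commute s (τ 2 2 2) := h4
  rcases hg with rfl | rfl | rfl | rfl | rfl | rfl | rfl | rfl
  · exact ht
  · exact (c0.mul_left c1).eq
  · exact (c0.mul_left c2).eq
  · exact (c0.mul_left c3).eq
  · exact (c0.mul_left c4).eq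
  · exact (c0.mul_left (c1.mul_left c4)).eq
  · exact (c0.mul_left (c2.mul_left c4)).eq
  · exact (c0.mul_left (c3.mul_left c4)).eq

theorem S_le (D : GIn T S τ x1 x2 x3 s ξ h) : (S : Subgroup G) ≤ centralizer ({τ 2 2 2} : Set G) := fun _ hg =>
  mem_centralizer_singleton_iff.2 (D.S_z hg)

theorem xi_mem (D : GIn T S τ x1 x2 x3 s ξ h) : ξ ∈ centralizer ({τ 2 2 2} : Set G) := by
  rw [mem_centralizer_singleton_iff, D.xi.ct, mul_left_inj, D.rel.τ_eq]
  omega

theorem xi_v (D : GIn T S τ x1 x2 x3 s ξ h) : Commute ξ (τ 1 1 1) := by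
  change ξ * _ = _ * ξ
  rw [D.xi.ct, mul_left_inj, D.rel.τ_eq]
  omega

theorem S_v (D : GIn T S τ x1 x2 x3 s ξ h) {g : G} (hg : g ∈ (S : Subgroup G)) :
    g * τ 1 1 1 * g⁻¹ = τ 1 1 1 ∨ g * τ 1 1 1 * g⁻¹ = τ (-1) (-1) (-1) := by
  have R := D.rel
  have c1 : Commute x1 (τ 1 1 1) := by change _ = _; rw [R.x1_t, mul_left_inj, R.τ_eq]; omega
  have c2 : Commute x2 (τ 1 1 1) := by change _ = _; rw [R.x2_t, mul_left_inj, R.τ_eq]; omega
  have c3 : Commute x3 (τ 1 1 1) := by change _ = _; rw [R.x3_t, mul_left_inj, R.τ_eq]; omega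
  have h4 : s * τ 1 1 1 * s⁻¹ = τ (-1) (-1) (-1) := by rw [R.s_t, mul_inv_cancel_right]
  obtain ⟨a, b, c, hg⟩ := R.S_cases hg
  have c0 : Commute (τ a b c) (τ 1 1 1) := R.τ_comm a b c 1 1 1
  have e : ∀ x, Commute x (τ 1 1 1) → x * τ 1 1 1 * x⁻¹ = τ 1 1 1 := fun x hx => by
    rw [hx.eq, mul_inv_cancel_right]
  have e' : ∀ x, Commute x (τ 1 1 1) → x * s * τ 1 1 1 * (x * s)⁻¹ = τ (-1) (-1) (-1) := fun x hx => by
    rw [show x * s * τ 1 1 1 * (x * s)⁻¹ = x * (s * τ 1 1 1 * s⁻¹) * x⁻¹ by group, h4, ← R.v_inv, hx.inv_right.eq,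
      mul_inv_cancel_right]
  rcases hg with rfl | rfl | rfl | rfl | rfl | rfl | rfl | rfl
  · exact Or.inl (e _ c0)
  · exact Or.inl (e _ (c0.mul_left c1))
  · exact Or.inl (e _ (c0.mul_left c2))
  · exact Or.inl (e _ (c0.mul_left c3))
  · exact Or.inr (e' _ c0)
  · rw [← mul_assoc]; exact Or.inr (e' _ (c0.mul_left c1))
  · rw [← mul_assoc]; exact Or.inr (e' _ (c0.mul_left c2))
  · rw [← mul_assoc]; exact Or.inr (e' _ (c0.mul_left c3))

/-- `v` is fused in `T` only to `v⁻¹` by `C_G(z)` -/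
theorem fus (D : GIn T S τ x1 x2 x3 s ξ h) {g : G} (hgz : g * τ 2 2 2 = τ 2 2 2 * g) (hg : g * τ 1 1 1 * g⁻¹ ∈ T) :
    g * τ 1 1 1 * g⁻¹ = τ 1 1 1 ∨ g * τ 1 1 1 * g⁻¹ = τ (-1) (-1) (-1) := by
  have R := D.rel
  obtain ⟨k, hk, hkv⟩ := D.tc g hg
  have hkz : k * τ 2 2 2 = τ 2 2 2 * k := by
    have e1 : k * τ 2 2 2 * k⁻¹ = (k * τ 1 1 1 * k⁻¹) * (k * τ 1 1 1 * k⁻¹) := by rw [← R.v_sq]; group
    have e2 : g * τ 2 2 2 * g⁻¹ = (g * τ 1 1 1 * g⁻¹) * (g * τ 1 1 1 * g⁻¹) := by rw [← R.v_sq]; group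
    rw [hkv, ← e2, hgz, mul_inv_cancel_right, mul_inv_eq_iff_eq_mul] at e1
    exact e1
  obtain ⟨c, g', i, hc, hg', hkk⟩ := D.az k hk hkz
  rw [← hkv]
  have h1 : ξ ^ i * τ 1 1 1 * (ξ ^ i)⁻¹ = τ 1 1 1 := by
    rw [(D.xi_v.pow_left i).eq, mul_inv_cancel_right]
  have h2 : k * τ 1 1 1 * k⁻¹ = c * (g' * τ 1 1 1 * g'⁻¹) * c⁻¹ := by
    rw [hkk, show c * g' * ξ ^ i * τ 1 1 1 * (c * g' * ξ ^ i)⁻¹ = c * (g' * (ξ ^ i * τ 1 1 1 * (ξ ^ i)⁻¹) * g'⁻¹) * c⁻¹ by
      group, h1]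
  rw [h2]
  rcases D.S_v hg' with h3 | h3
  · left
    rw [h3, hc _ (R.τ_mem _ _ _), mul_inv_cancel_right]
  · right
    rw [h3, hc _ (R.τ_mem _ _ _), mul_inv_cancel_right]

/-- the input for `H = C_G(z)` -/
theorem toIn (D : GIn T S τ x1 x2 x3 s ξ h) {H : Subgroup G} (hH : H = centralizer ({τ 2 2 2} : Set G))
    (hS : (S : Subgroup G) ≤ H) :
    In (T.subgroupOf H) (S.subtype hS) (fun a b c => (⟨τ a b c, hS (D.rel.T_le (D.rel.τ_mem a b c))⟩ : H))
      ⟨x1, hS D.rel.x1_mem⟩ ⟨x2, hS D.rel.x2_mem⟩ ⟨x3, hS D.rel.x3_mem⟩ ⟨s, hS D.rel.s_mem⟩ ⟨ξ, hH ▸ D.xi_mem⟩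
      ⟨h, hH ▸ mem_centralizer_singleton_iff.2 D.hz⟩ where
  rel := by
    rw [Sylow.coe_subtype]
    exact D.rel.sub hS
  xi := ⟨fun a b c => Subtype.ext (D.xi.ct a b c), Subtype.ext D.xi.c3, Subtype.ext D.xi.c1, Subtype.ext D.xi.c2⟩
  xio := by
    rw [Subgroup.orderOf_mk]
    exact D.xio
  zc := by
    intro g
    have hg : (g : G) ∈ centralizer ({τ 2 2 2} : Set G) := hH ▸ g.2
    exact Subtype.ext (mem_centralizer_singleton_iff.1 hg)
  fus := by
    intro g hg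
    have hg' : (g : G) ∈ centralizer ({τ 2 2 2} : Set G) := hH ▸ g.2
    rcases D.fus (mem_centralizer_singleton_iff.1 hg') hg with h1 | h1
    · exact Or.inl (Subtype.ext h1)
    · exact Or.inr (Subtype.ext h1)
  wt := by
    intro g hg y hy
    refine D.wt g (fun y' hy' => ?_) y hy
    have h1 := hg ⟨y', hS (D.rel.T_le hy')⟩ hy'
    rw [Sylow.coe_subtype] at h1
    exact h1
  az := by
    intro k hk
    have h1 := (mem_normalizer_subgroupOf (D.rel.T_le.trans hS)).1 hk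
    have hk' : (k : G) ∈ centralizer ({τ 2 2 2} : Set G) := hH ▸ k.2
    obtain ⟨c, g, i, hc, hg, e⟩ := D.az k h1 (mem_centralizer_singleton_iff.1 hk')
    have hcH : c ∈ H := hH ▸ mem_centralizer_singleton_iff.2 (hc _ (D.rel.τ_mem _ _ _))
    refine ⟨⟨c, hcH⟩, ⟨g, hS hg⟩, i, fun y hy => Subtype.ext (hc y hy), ?_, Subtype.ext e⟩
    rw [Sylow.coe_subtype]
    exact hg
  hx := Subtype.ext D.hx
  hv := by
    rcases D.hv with h1 | h1
    · exact Or.inl (Subtype.ext h1)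
    · exact Or.inr (Subtype.ext h1)

end GIn

end Cfsg.Agent.ONType.Cz
end

-- part: ONType/CzGlue
section
/-!
# The input of the core theorem
-/

set_option autoImplicit false

namespace Cfsg.Agent.ONType.Cz

open Subgroup Cfsg.Agent.TypeL3 Cfsg.Agent.TypeL3.Local Cfsg.Agent.Lib.FieldFour Cfsg.Agent.Lib.GoldschmidtFusion

universe u

/-- lifting of the normalizer of a subgroup of a Sylow 2-subgroup -/
theorem lift_par {H X : Type*} [Group H] [Finite H] [Group X] [Finite X] (f : H →* X) (hf : Function.Surjective f)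
    (hodd : Odd (Nat.card f.ker)) {S : Subgroup H} (hS : IsPGroup 2 S) {W : Subgroup X} (hW : W ≤ S.map f) {n : X}
    (hn : n ∈ normalizer (W : Set X)) :
    ∃ n' : H, f n' = n ∧ ∀ w ∈ S, f w ∈ W → n' * w * n'⁻¹ ∈ S ∧ f (n' * w * n'⁻¹) ∈ W := by
  set! P := S ⊓ W.comap f with hP
  have hPW : P.map f = W := by
    ext x
    constructor
    · rintro ⟨y, hy, rfl⟩
      exact (mem_inf.1 hy).2
    · intro hx
      obtain ⟨y, hy, rfl⟩ := hW hx
      exact ⟨y, mem_inf.2 ⟨hy, hx⟩, rfl⟩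
  obtain ⟨n', hn', hf'⟩ := exists_normalizer_lift f hf hodd (P := P) (hS.to_le inf_le_left) (n := n)
    (by rw [hPW]; exact hn)
  refine ⟨n', hf', fun w hw hwW => ?_⟩
  exact mem_inf.1 ((mem_normalizer_iff.1 hn' w).1 (mem_inf.2 ⟨hw, hwW⟩))

/-- `Ω₁(T)` -/
def Rel.A {G : Type*} [Group G] {T S : Subgroup G} {τ : ℤ → ℤ → ℤ → G} {x1 x2 x3 s : G}
    (R : Rel 4 T S τ x1 x2 x3 s) : Subgroup G where
  carrier := {g | ∃ a b c : ℤ, g = τ (2 * a) (2 * b) (2 * c)}
  one_mem' := ⟨0, 0, 0, by simp [R.τ_zero]⟩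
  mul_mem' := by
    rintro _ _ ⟨a, b, c, rfl⟩ ⟨a', b', c', rfl⟩
    exact ⟨a + a', b + b', c + c', by rw [R.mul]; congr 1 <;> ring⟩
  inv_mem' := by
    rintro _ ⟨a, b, c, rfl⟩
    exact ⟨-a, -b, -c, by rw [R.τ_inv]; congr 1 <;> ring⟩

namespace Rel

variable {G : Type*} [Group G] {T S : Subgroup G} {τ : ℤ → ℤ → ℤ → G} {x1 x2 x3 s : G}

theorem mem_A (R : Rel 4 T S τ x1 x2 x3 s) {g : G} : g ∈ R.A ↔ ∃ a b c : ℤ, g = τ (2 * a) (2 * b) (2 * c) := Iff.rfl

theorem A_le_T (R : Rel 4 T S τ x1 x2 x3 s) : R.A ≤ T := by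
  rintro _ ⟨a, b, c, rfl⟩
  exact R.τ_mem _ _ _

theorem mem_A_iff (R : Rel 4 T S τ x1 x2 x3 s) {g : G} : g ∈ R.A ↔ g ∈ T ∧ g * g = 1 := by
  constructor
  · rintro ⟨a, b, c, rfl⟩
    refine ⟨R.τ_mem _ _ _, ?_⟩
    rw [R.mul, R.one]
    omega
  · rintro ⟨hg, h2⟩
    obtain ⟨a, b, c, rfl⟩ := (R.mem g).1 hg
    rw [R.mul, R.one] at h2
    obtain ⟨a', ha⟩ : ∃ a', a = 2 * a' := ⟨a / 2, by omega⟩
    obtain ⟨b', hb⟩ : ∃ b', b = 2 * b' := ⟨b / 2, by omega⟩
    obtain ⟨c', hc⟩ : ∃ c', c = 2 * c' := ⟨c / 2, by omega⟩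
    exact ⟨a', b', c', by rw [ha, hb, hc]⟩

theorem elem_A (R : Rel 4 T S τ x1 x2 x3 s) : Cfsg.IsElementaryAbelian 2 R.A := by
  refine ⟨⟨⟨fun a b => Subtype.ext (R.T_comm (R.A_le_T a.2) (R.A_le_T b.2))⟩⟩, ?_⟩
  intro a ha
  rw [pow_two]
  exact (R.mem_A_iff.1 ha).2

theorem card_A (R : Rel 4 T S τ x1 x2 x3 s) : Nat.card R.A = 8 := by
  let f : Fin 2 × Fin 2 × Fin 2 → R.A := fun p =>
    ⟨τ (2 * (p.1 : ℕ)) (2 * (p.2.1 : ℕ)) (2 * (p.2.2 : ℕ)), ⟨(p.1 : ℕ), (p.2.1 : ℕ), (p.2.2 : ℕ), rfl⟩⟩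
  have hf : Function.Bijective f := by
    constructor
    · rintro ⟨i, j, k⟩ ⟨i', j', k'⟩ h
      have h1 := congrArg Subtype.val h
      change τ (2 * (i : ℕ)) (2 * (j : ℕ)) (2 * (k : ℕ)) = τ (2 * (i' : ℕ)) (2 * (j' : ℕ)) (2 * (k' : ℕ)) at h1
      rw [R.τ_eq] at h1
      have := i.2
      have := j.2
      have := k.2
      have := i'.2
      have := j'.2
      have := k'.2
      refine Prod.ext (Fin.ext ?_) (Prod.ext (Fin.ext ?_) (Fin.ext ?_)) <;> simp only <;> omega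
    · rintro ⟨_, a, b, c, rfl⟩
      have e : ∀ x : ℤ, ∃ i : Fin 2, (4 : ℤ) ∣ 2 * ((i : ℕ) : ℤ) - 2 * x := by
        intro x
        rcases Int.emod_two_eq_zero_or_one x with h | h
        · exact ⟨0, by simp only [_root_.Fin.isValue, _root_.Fin.coe_ofNat_eq_mod, _root_.Nat.zero_mod, _root_.CharP.cast_eq_zero, _root_.MulZeroClass.mul_zero, _root_.zero_sub, _root_.dvd_neg]; omega⟩
        · exact ⟨1, by simp; omega⟩
      obtain ⟨i, hi⟩ := e a
      obtain ⟨j, hj⟩ := e b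
      obtain ⟨k, hk⟩ := e c
      exact ⟨(i, j, k), Subtype.ext (R.τ_eq.2 ⟨hi, hj, hk⟩)⟩
  rw [← Nat.card_congr (Equiv.ofBijective f hf), Nat.card_prod, Nat.card_prod]
  simp

end Rel

variable {G : Type u} [Group G] [Finite G] {T : Subgroup G} {S : Sylow 2 G} {τ : ℤ → ℤ → ℤ → G}
  {x1 x2 x3 s ξ h : G}

namespace GIn

theorem T_norm (D : GIn T S τ x1 x2 x3 s ξ h) {g : G} (hg : g ∈ (S : Subgroup G)) : g ∈ normalizer (T : Set G) := by
  rw [mem_normalizer_iff_map_conj]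
  refine Subgroup.eq_of_le_of_card_ge ?_ (by rw [card_map_conj])
  rintro _ ⟨y, hy, rfl⟩
  exact D.wt g (fun y' hy' => mul_mem (mul_mem hg (D.rel.T_le hy')) (inv_mem hg)) y hy

theorem A_norm (D : GIn T S τ x1 x2 x3 s ξ h) {g : G} (hg : g ∈ normalizer (T : Set G)) :
    g ∈ normalizer (D.rel.A : Set G) := by
  rw [mem_normalizer_iff_map_conj]
  refine Subgroup.eq_of_le_of_card_ge ?_ (by rw [card_map_conj])
  rintro _ ⟨y, hy, rfl⟩
  change g * y * g⁻¹ ∈ _
  obtain ⟨h1, h2⟩ := D.rel.mem_A_iff.1 hy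
  refine D.rel.mem_A_iff.2 ⟨(mem_normalizer_iff.1 hg y).1 h1, ?_⟩
  rw [show g * y * g⁻¹ * (g * y * g⁻¹) = g * (y * y) * g⁻¹ by group, h2]
  group

/-- the data of `X` in terms of `G` -/
theorem exists_data (h1169 : H1169.{u}) (h1171 : H1171.{u}) (h1296 : H1296.{u}) (D : GIn T S τ x1 x2 x3 s ξ h) :
    (∀ b ∈ D.rel.A, b ≠ 1 → b ≠ τ 2 2 2 → ∀ w : G, Odd (orderOf w) → w * τ 2 2 2 = τ 2 2 2 * w → w * b = b * w →
      w ∈ Cfsg.centralizerPPrimeCore 2 (τ 2 2 2)) ∧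
    (∃ g : G, (∀ a ∈ D.rel.A, g * a * g⁻¹ ∈ normalizer (D.rel.A : Set G)) ∧ g⁻¹ * x3 * g ∈ D.rel.A) ∧
    centralizer ({τ 2 2 2} : Set G) ≤
      _root_.Subgroup.closure ({w | w ∈ Cfsg.centralizerPPrimeCore 2 (τ 2 2 2)} ∪
        {g | ∀ a ∈ D.rel.A, g * a * g⁻¹ ∈ normalizer (D.rel.A : Set G)}) := by
  have R := D.rel
  set H := centralizer ({τ 2 2 2} : Set G) with hH
  have hS : (S : Subgroup G) ≤ H := D.S_le
  have DI := D.toIn hH hS
  have hOn : (Cfsg.oddCore H).Normal := Cfsg.Agent.Lib.Cores.pPrimeCore_normal 2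
  let f : H →* H ⧸ Cfsg.oddCore H := QuotientGroup.mk' (Cfsg.oddCore H)
  have hf : Function.Surjective f := QuotientGroup.mk'_surjective _
  have hker : f.ker = Cfsg.oddCore H := QuotientGroup.ker_mk' _
  have hodd : Odd (Nat.card f.ker) := by
    rw [hker]
    exact Nat.coprime_two_right.1 (Cfsg.Agent.Lib.Cores.pPrimeCore_coprime 2)
  have DX := DI.toX f hf hker
  have RX := DX.rel
  have XO := DX.xout h1169 h1171 h1296
  have hS2 : IsPGroup 2 ((S : Subgroup G).subgroupOf H) := (S.isPGroup').comap_subtype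
  have hSX : (((S.subtype hS).mapSurjective hf : Sylow 2 (H ⧸ Cfsg.oddCore H)) : Subgroup (H ⧸ Cfsg.oddCore H)) =
      ((S : Subgroup G).subgroupOf H).map f := by
    rw [Sylow.coe_mapSurjective, Sylow.coe_subtype]
  have hτ : ∀ a b c, τ a b c ∈ H := fun a b c => hS (R.T_le (R.τ_mem a b c))
  have hSA : ∀ {g : G}, g ∈ (S : Subgroup G) → g ∈ normalizer (R.A : Set G) := fun hg => D.A_norm (D.T_norm hg)
  -- lifting
  obtain ⟨W1, W2, hW1, hW2, hAW, hx3W, ⟨n, hn, a0, b0, c0, hna⟩, hgen⟩ := XO.par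
  rw [hSX] at hW1 hW2
  have lift : ∀ {W : Subgroup (H ⧸ Cfsg.oddCore H)}, W ≤ ((S : Subgroup G).subgroupOf H).map f →
      (∀ a b c : ℤ, f ⟨τ (2 * a) (2 * b) (2 * c), hτ _ _ _⟩ ∈ W) → ∀ {n : H ⧸ Cfsg.oddCore H},
      n ∈ normalizer (W : Set (H ⧸ Cfsg.oddCore H)) → ∃ n' : H, f n' = n ∧
        (∀ w ∈ (S : Subgroup G).subgroupOf H, f w ∈ W → n' * w * n'⁻¹ ∈ (S : Subgroup G).subgroupOf H ∧
          f (n' * w * n'⁻¹) ∈ W) ∧ ∀ a ∈ R.A, (n' : G) * a * (n' : G)⁻¹ ∈ normalizer (R.A : Set G) := by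
    intro W hW hA n hn
    obtain ⟨n', h1, h2⟩ := lift_par f hf hodd hS2 hW hn
    refine ⟨n', h1, h2, ?_⟩
    rintro _ ⟨a, b, c, rfl⟩
    have h3 := (h2 ⟨τ (2 * a) (2 * b) (2 * c), hτ _ _ _⟩ (mem_subgroupOf.2 (R.T_le (R.τ_mem _ _ _))) (hA a b c)).1
    exact hSA (mem_subgroupOf.1 h3)
  refine ⟨?_, ?_, ?_⟩
  · rintro _ ⟨a, b, c, rfl⟩ hb1 hbz w hw hwz hwb
    have hwH : w ∈ H := mem_centralizer_singleton_iff.2 hwz
    have h1 : f ⟨w, hwH⟩ = 1 := by
      refine XO.good a b c ?_ ?_ (f ⟨w, hwH⟩) ?_ ?_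
      · rw [Ne, RX.one]
        rw [Ne, R.one] at hb1
        exact hb1
      · rw [Ne, RX.τ_eq]
        rw [Ne, R.τ_eq] at hbz
        exact hbz
      · have h2 : Odd (orderOf (⟨w, hwH⟩ : H)) := by rw [Subgroup.orderOf_mk]; exact hw
        exact h2.of_dvd_nat (orderOf_map_dvd f _)
      · rw [← map_mul, ← map_mul]
        congr 1
        exact Subtype.ext hwb
    have h2 : (⟨w, hwH⟩ : H) ∈ Cfsg.oddCore H := by rw [← hker]; exact h1
    exact ⟨_, h2, rfl⟩
  · obtain ⟨n', h1, h2, h3⟩ := lift hW1 (fun a b c => (hAW a b c).1) hn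
    have h4 := h2 ⟨x3, hS R.x3_mem⟩ (mem_subgroupOf.2 R.x3_mem) hx3W
    -- `n' x3 n'⁻¹ ∈ A`
    have h5 : n' * ⟨x3, hS R.x3_mem⟩ * n'⁻¹ = ⟨τ (2 * a0) (2 * b0) (2 * c0), hτ _ _ _⟩ := by
      refine inj_of_ker f hodd hS2 h4.1 (mem_subgroupOf.2 (R.T_le (R.τ_mem _ _ _))) ?_
      rw [map_mul, map_mul, map_inv, h1]
      exact hna
    have h6 : (n' : G) * x3 * (n' : G)⁻¹ = τ (2 * a0) (2 * b0) (2 * c0) := congrArg Subtype.val h5
    refine ⟨(n' : G)⁻¹, ?_, ?_⟩
    · -- the inverse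
      -- `n'⁻¹` itself has the property
      intro a ha
      obtain ⟨a, b, c, rfl⟩ := ha
      have h7 : n'⁻¹ * ⟨τ (2 * a) (2 * b) (2 * c), hτ _ _ _⟩ * n'⁻¹⁻¹ ∈ (S : Subgroup G).subgroupOf H ⊓ W1.comap f := by
        have hN : n' ∈ normalizer (((S : Subgroup G).subgroupOf H ⊓ W1.comap f : Subgroup H) : Set H) := by
          rw [mem_normalizer_iff_map_conj]
          refine Subgroup.eq_of_le_of_card_ge ?_ (by rw [card_map_conj])
          rintro _ ⟨y, hy, rfl⟩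
          obtain ⟨hy1, hy2⟩ := mem_inf.1 hy
          exact mem_inf.2 (h2 y hy1 hy2)
        exact (mem_normalizer_iff.1 (inv_mem hN) _).1 (mem_inf.2 ⟨mem_subgroupOf.2 (R.T_le (R.τ_mem _ _ _)),
          (hAW a b c).1⟩)
      exact hSA (mem_subgroupOf.1 (mem_inf.1 h7).1)
    · rw [inv_inv, h6]
      exact ⟨a0, b0, c0, rfl⟩
  · -- generation
    intro g hg
    set! K := _root_.Subgroup.closure ({w | w ∈ Cfsg.centralizerPPrimeCore 2 (τ 2 2 2)} ∪
        {g | ∀ a ∈ R.A, g * a * g⁻¹ ∈ normalizer (R.A : Set G)}) with hK; rewrite [← hK]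
    have h1 : (⊤ : Subgroup (H ⧸ Cfsg.oddCore H)) ≤ (K.subgroupOf H).map f := by
      rw [← hgen, closure_le]
      rintro x ((hx | hx) | hx)
      · obtain ⟨n', e, -, h3⟩ := lift hW1 (fun a b c => (hAW a b c).1) hx
        exact ⟨n', mem_subgroupOf.2 (_root_.Subgroup.subset_closure (Or.inr h3)), e⟩
      · obtain ⟨n', e, -, h3⟩ := lift hW2 (fun a b c => (hAW a b c).2) hx
        exact ⟨n', mem_subgroupOf.2 (_root_.Subgroup.subset_closure (Or.inr h3)), e⟩
      · refine ⟨⟨s, hS R.s_mem⟩, mem_subgroupOf.2 (_root_.Subgroup.subset_closure (Or.inr ?_)), hx.symm⟩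
        intro a ha
        have h2 : s * a * s⁻¹ ∈ R.A := (mem_normalizer_iff.1 (hSA R.s_mem) a).1 ha
        exact le_normalizer h2
    obtain ⟨y, hy, hye⟩ := h1 (mem_top (f ⟨g, hg⟩))
    have h2 : y⁻¹ * ⟨g, hg⟩ ∈ Cfsg.oddCore H := by
      rw [← hker, MonoidHom.mem_ker, map_mul, map_inv, hye, inv_mul_cancel]
    have h3 : (y : G)⁻¹ * g ∈ K := _root_.Subgroup.subset_closure (Or.inl ⟨_, h2, rfl⟩)
    have := mul_mem (mem_subgroupOf.1 hy) h3
    rwa [mul_inv_cancel_left] at this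

/-- the input of the core theorem -/
theorem input (h1169 : H1169.{u}) (h1171 : H1171.{u}) (h1296 : H1296.{u}) (D : GIn T S τ x1 x2 x3 s ξ h) :
    Core.Input S D.rel.A (τ 2 2 2) := by
  have R := D.rel
  obtain ⟨hgood, ⟨g, hg, hgx⟩, -⟩ := D.exists_data h1169 h1171 h1296
  exact
  { z_mem := ⟨1, 1, 1, by norm_num⟩
    z_ne := by rw [Ne, R.one]; omega
    elem := R.elem_A
    card := R.card_A
    norm := fun g hg => D.A_norm (D.T_norm hg)
    trans := by
      intro a ha ha1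
      obtain ⟨h1, h2⟩ := R.mem_A_iff.1 ha
      obtain ⟨n, hn, e⟩ := D.tr a h1 h2 ha1
      exact ⟨n, D.A_norm hn, e⟩
    good := hgood
    fus := by
      intro y hy hy2
      by_cases hyT : y ∈ T
      · refine ⟨1, fun a ha => ?_, ?_⟩
        · rw [one_mul, inv_one, mul_one]
          exact le_normalizer ha
        · rw [inv_one, one_mul, mul_one]
          exact R.mem_A_iff.2 ⟨hyT, hy2⟩
      · obtain ⟨n, hn, hnx⟩ := D.inv y hy hyT hy2
        refine ⟨n⁻¹ * g, fun a ha => ?_, ?_⟩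
        · rw [show n⁻¹ * g * a * (n⁻¹ * g)⁻¹ = n⁻¹ * (g * a * g⁻¹) * n⁻¹⁻¹ by group]
          have h1 := inv_mem (D.A_norm hn)
          exact mul_mem (mul_mem h1 (hg a ha)) (inv_mem h1)
        · rw [show (n⁻¹ * g)⁻¹ * y * (n⁻¹ * g) = g⁻¹ * (n * y * n⁻¹) * g by group, hnx]
          exact hgx }

end GIn

end Cfsg.Agent.ONType.Cz
end

-- part: ONType/ControlB
section
/-!
# O'Nan type groups: control of fusion in `T`

From the situation `Sit`: `T` is weakly closed, `N_G(T)` controls fusion in `T`, the elements of `N_G(T) ∩ C(z)`, the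
involutions of `S ∖ T`.
-/

set_option autoImplicit false
set_option linter.dupNamespace false
set_option linter.unusedSectionVars false

namespace Cfsg.Agent.ONType.ControlB

open Subgroup
open Cfsg.Agent.ONType.Rel Cfsg.Agent.ONType.Span Cfsg.Agent.ONType.Sit

/-! ### The elementary abelian group `Ω₁(T)` in coordinates -/

abbrev V := ZMod 2 × ZMod 2 × ZMod 2

/-- the elements of `Ω₁(T)` -/
def al {G : Type*} (n : ℕ) (τ : ℤ → ℤ → ℤ → G) (v : V) : G :=
  τ (2 ^ (n - 1) * (v.1.val : ℤ)) (2 ^ (n - 1) * (v.2.1.val : ℤ)) (2 ^ (n - 1) * (v.2.2.val : ℤ))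

/-- the action of the representatives on `Ω₁(T)` -/
def act : Fin 8 → V → V
  | 0, v => v
  | 1, v => (v.2.1, v.1, v.1 + v.2.1 + v.2.2)
  | 2, v => (v.2.2, v.1 + v.2.1 + v.2.2, v.1)
  | 3, v => (v.1 + v.2.1 + v.2.2, v.2.2, v.2.1)
  | 4, v => (v.1, v.2.2, v.2.1)
  | 5, v => (v.2.2, v.1, v.1 + v.2.1 + v.2.2)
  | 6, v => (v.2.1, v.1 + v.2.1 + v.2.2, v.1)
  | 7, v => (v.1 + v.2.1 + v.2.2, v.2.1, v.2.2)

/-- the representatives of the cosets of `T` in `S` -/
def rep {G : Type*} [Group G] (x1 x2 x3 s : G) : Fin 8 → G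
  | 0 => 1
  | 1 => x1
  | 2 => x2
  | 3 => x3
  | 4 => s
  | 5 => x1 * s
  | 6 => x2 * s
  | 7 => x3 * s

/-- the action of `ξ` -/
def axi (v : V) : V := (v.1, v.1 + v.2.1 + v.2.2, v.2.1)

def vz : V := (1, 1, 1)
def v3 : V := (1, 0, 0)
def v1 : V := (1, 1, 0)

/-- independent vectors -/
def IndV (a b c : V) : Prop := a ≠ 0 ∧ b ≠ 0 ∧ b ≠ a ∧ c ≠ 0 ∧ c ≠ a ∧ c ≠ b ∧ c ≠ a + b

instance (a b c : V) : Decidable (IndV a b c) := by unfold IndV; infer_instance

/-- the action of the powers of `ξ` -/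
def axin : Fin 3 → V → V
  | 0, v => v
  | 1, v => axi v
  | 2, v => axi (axi v)

def AzH (p q : V) : Prop := p ≠ 0 ∧ p ≠ vz ∧ q ≠ 0 ∧ q ≠ vz ∧ q ≠ p ∧ q ≠ p + vz

instance (p q : V) : Decidable (AzH p q) := by unfold AzH; infer_instance

def AzC (p q : V) : Prop := ∃ w : Fin 8, ∃ i : Fin 3, act w (axin i v3) = p ∧ act w (axin i v1) = q

instance (p q : V) : Decidable (AzC p q) := by unfold AzC; infer_instance

theorem dec_az : ∀ p q : V, AzH p q → AzC p q := by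
  decide +kernel

theorem dec_inv : ∀ w : Fin 8, w ≠ 0 → (∀ v : V, act w (act w v) = v) →
    ∃ a b c : V, IndV a b c ∧ act w a = a ∧ act w b = b ∧ act w c = a + c := by
  decide +kernel

theorem dec_ind : ∀ v : V, v ≠ 0 → ∃ b c : V, IndV v b c := by
  decide +kernel

theorem dec_basis : ∀ v : V, v = 0 ∨ v = vz ∨ v = v3 ∨ v = v1 ∨ v = vz + v3 ∨ v = vz + v1 ∨ v = v3 + v1 ∨
    v = vz + (v3 + v1) := by
  decide

theorem act_vz : ∀ (w : Fin 8) (i : Fin 3), act w (axin i vz) = vz := by decide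
theorem act2 : ∀ v : V, act 2 v = act 3 (act 1 v) := by decide
theorem act5 : ∀ v : V, act 5 v = act 1 (act 4 v) := by decide
theorem act6 : ∀ v : V, act 6 v = act 2 (act 4 v) := by decide
theorem act7 : ∀ v : V, act 7 v = act 3 (act 4 v) := by decide
theorem eq_of_add : ∀ u v : V, u + v = 0 → u = v := by decide +kernel
theorem add_self : ∀ u : V, u + u = 0 := by decide

section Rel

variable {G : Type*} [Group G] {n : ℕ} {T : Subgroup G} {τ : ℤ → ℤ → ℤ → G} {x1 x2 x3 s : G}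

theorem inv (R : _root_.Cfsg.Agent.ONType.Rel.Rel n T τ x1 x2 x3 s) (a b c : ℤ) : (τ a b c)⁻¹ = τ (-a) (-b) (-c) := by
  rw [inv_eq_iff_mul_eq_one, R.mul]
  have : τ (a + -a) (b + -b) (c + -c) = τ 0 0 0 := by congr 1 <;> ring
  rw [this, R.one]
  exact ⟨dvd_zero _, dvd_zero _, dvd_zero _⟩

theorem cong (R : _root_.Cfsg.Agent.ONType.Rel.Rel n T τ x1 x2 x3 s) {a b c a' b' c' : ℤ} : τ a b c = τ a' b' c' ↔
    (2 : ℤ) ^ n ∣ a - a' ∧ (2 : ℤ) ^ n ∣ b - b' ∧ (2 : ℤ) ^ n ∣ c - c' := by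
  rw [← R.one, ← mul_inv_eq_one, inv R, R.mul]
  simp only [sub_eq_add_neg]

theorem two_e (hn : 1 ≤ n) : (2 : ℤ) ^ n = 2 ^ (n - 1) * 2 := by
  obtain ⟨m, rfl⟩ : ∃ m, n = m + 1 := ⟨n - 1, by omega⟩
  rw [Nat.add_sub_cancel, pow_succ]

theorem dvd_aux (hn : 1 ≤ n) (i : ℤ) : (2 : ℤ) ^ n ∣ 2 ^ (n - 1) * i ↔ 2 ∣ i := by
  rw [two_e hn]
  exact mul_dvd_mul_iff_left (by positivity)

theorem al_eq (R : _root_.Cfsg.Agent.ONType.Rel.Rel n T τ x1 x2 x3 s) (hn : 1 ≤ n) (i j k : ℤ) :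
    τ (2 ^ (n - 1) * i) (2 ^ (n - 1) * j) (2 ^ (n - 1) * k) = al n τ ((i : ZMod 2), (j : ZMod 2), (k : ZMod 2)) := by
  have key : ∀ i : ℤ, (2 : ℤ) ^ n ∣ 2 ^ (n - 1) * i - 2 ^ (n - 1) * (((i : ZMod 2).val : ℕ) : ℤ) := by
    intro i
    rw [← mul_sub, dvd_aux hn, ZMod.val_intCast]
    exact ⟨i / 2, by have := Int.emod_add_mul_ediv i 2; push_cast; linarith only [this]⟩
  rw [al, cong R]
  exact ⟨key i, key j, key k⟩

theorem cast_val (a : ZMod 2) : (((a.val : ℕ) : ℤ) : ZMod 2) = a := by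
  rw [Int.cast_natCast, ZMod.natCast_zmod_val]

theorem cast3 (a b c : ZMod 2) : ((-(a.val : ℤ) - b.val - c.val : ℤ) : ZMod 2) = a + b + c := by
  revert a b c; decide

theorem cast1 (a : ZMod 2) : ((-(a.val : ℤ) : ℤ) : ZMod 2) = a := by
  revert a; decide

theorem al_add (R : _root_.Cfsg.Agent.ONType.Rel.Rel n T τ x1 x2 x3 s) (hn : 1 ≤ n) (u v : V) : al n τ (u + v) = al n τ u * al n τ v := by
  have h : al n τ u * al n τ v = τ (2 ^ (n - 1) * ((u.1.val : ℤ) + v.1.val))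
      (2 ^ (n - 1) * ((u.2.1.val : ℤ) + v.2.1.val)) (2 ^ (n - 1) * ((u.2.2.val : ℤ) + v.2.2.val)) := by
    rw [al, al, R.mul]
    congr 1 <;> ring
  rw [h, al_eq R hn]
  simp only [Int.cast_add, cast_val]
  rfl

theorem al_one (R : _root_.Cfsg.Agent.ONType.Rel.Rel n T τ x1 x2 x3 s) (hn : 1 ≤ n) (v : V) : al n τ v = 1 ↔ v = 0 := by
  have key : ∀ a : ZMod 2, (2 : ℤ) ∣ (a.val : ℤ) ↔ a = 0 := by decide
  rw [al, R.one, dvd_aux hn, dvd_aux hn, dvd_aux hn, key, key, key, Prod.ext_iff, Prod.ext_iff]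
  rfl

theorem al_sq (R : _root_.Cfsg.Agent.ONType.Rel.Rel n T τ x1 x2 x3 s) (hn : 1 ≤ n) (v : V) : al n τ v * al n τ v = 1 := by
  rw [← al_add R hn, al_one R hn]
  exact add_self v

theorem al_inj (R : _root_.Cfsg.Agent.ONType.Rel.Rel n T τ x1 x2 x3 s) (hn : 1 ≤ n) {u v : V} : al n τ u = al n τ v ↔ u = v := by
  constructor
  · intro h
    have h1 : al n τ (u + v) = 1 := by rw [al_add R hn, h, al_sq R hn]
    rw [al_one R hn] at h1
    exact eq_of_add _ _ h1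
  · rintro rfl; rfl

theorem al_mem (R : _root_.Cfsg.Agent.ONType.Rel.Rel n T τ x1 x2 x3 s) (v : V) : al n τ v ∈ T := (R.mem _).2 ⟨_, _, _, rfl⟩

theorem exists_al (R : _root_.Cfsg.Agent.ONType.Rel.Rel n T τ x1 x2 x3 s) (hn : 1 ≤ n) {t : G} (ht : t ∈ T) (h2 : t * t = 1) :
    ∃ v, t = al n τ v := by
  obtain ⟨a, b, c, rfl⟩ := (R.mem t).1 ht
  rw [R.mul, R.one] at h2
  have key : ∀ a : ℤ, (2 : ℤ) ^ n ∣ a + a → ∃ i, a = 2 ^ (n - 1) * i := by
    intro a h
    rw [two_e hn, ← two_mul, mul_comm (2 : ℤ) a] at h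
    obtain ⟨i, hi⟩ := (mul_dvd_mul_iff_right (by norm_num : (2 : ℤ) ≠ 0)).1 h
    exact ⟨i, hi⟩
  obtain ⟨i, rfl⟩ := key a h2.1
  obtain ⟨j, rfl⟩ := key b h2.2.1
  obtain ⟨k, rfl⟩ := key c h2.2.2
  exact ⟨_, al_eq R hn i j k⟩

theorem x1_al (R : _root_.Cfsg.Agent.ONType.Rel.Rel n T τ x1 x2 x3 s) (hn : 1 ≤ n) (v : V) : x1 * al n τ v = al n τ (act 1 v) * x1 := by
  have h : al n τ (act 1 v) = τ (2 ^ (n - 1) * (v.2.1.val : ℤ)) (2 ^ (n - 1) * (v.1.val : ℤ))
      (2 ^ (n - 1) * (-(v.1.val : ℤ) - v.2.1.val - v.2.2.val)) := by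
    rw [al_eq R hn]
    simp only [cast3, cast_val]
    rfl
  rw [h, al, R.x1τ]
  congr 2; ring

theorem x3_al (R : _root_.Cfsg.Agent.ONType.Rel.Rel n T τ x1 x2 x3 s) (hn : 1 ≤ n) (v : V) : x3 * al n τ v = al n τ (act 3 v) * x3 := by
  have h : al n τ (act 3 v) = τ (2 ^ (n - 1) * (-(v.1.val : ℤ) - v.2.1.val - v.2.2.val))
      (2 ^ (n - 1) * (v.2.2.val : ℤ)) (2 ^ (n - 1) * (v.2.1.val : ℤ)) := by
    rw [al_eq R hn]
    simp only [cast3, cast_val]
    rfl
  rw [h, al, R.x3τ]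
  congr 2; ring

theorem s_al (R : _root_.Cfsg.Agent.ONType.Rel.Rel n T τ x1 x2 x3 s) (hn : 1 ≤ n) (v : V) : s * al n τ v = al n τ (act 4 v) * s := by
  have h : al n τ (act 4 v) = τ (2 ^ (n - 1) * (-(v.1.val : ℤ)))
      (2 ^ (n - 1) * (-(v.2.2.val : ℤ))) (2 ^ (n - 1) * (-(v.2.1.val : ℤ))) := by
    rw [al_eq R hn]
    simp only [cast1]
    rfl
  rw [h, al, R.sτ]
  congr 2 <;> ring

theorem ξ_al (R : _root_.Cfsg.Agent.ONType.Rel.Rel n T τ x1 x2 x3 s) (hn : 1 ≤ n) {ξ : G} (hξ : ∀ a b c, ξ * τ a b c = τ a (-a - b - c) b * ξ)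
    (v : V) : ξ * al n τ v = al n τ (axi v) * ξ := by
  have h : al n τ (axi v) = τ (2 ^ (n - 1) * (v.1.val : ℤ)) (2 ^ (n - 1) * (-(v.1.val : ℤ) - v.2.1.val - v.2.2.val))
      (2 ^ (n - 1) * (v.2.1.val : ℤ)) := by
    rw [al_eq R hn]
    simp only [cast3, cast_val]
    rfl
  rw [h, al, hξ]
  congr 2; ring

theorem rep_al (R : _root_.Cfsg.Agent.ONType.Rel.Rel n T τ x1 x2 x3 s) (hn : 1 ≤ n) (w : Fin 8) (v : V) :
    rep x1 x2 x3 s w * al n τ v = al n τ (act w v) * rep x1 x2 x3 s w := by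
  have h1 := x1_al R hn
  have h3 := x3_al R hn
  have hs := s_al R hn
  have h2 : ∀ v, x2 * al n τ v = al n τ (act 2 v) * x2 := by
    intro v
    rw [← R.x31, mul_assoc, h1, ← mul_assoc, h3, mul_assoc, act2]
  have comp : ∀ (x : G) (f : V → V), (∀ v, x * al n τ v = al n τ (f v) * x) →
      x * s * al n τ v = al n τ (f (act 4 v)) * (x * s) := by
    intro x f hx
    rw [mul_assoc, hs, ← mul_assoc, hx, mul_assoc]
  fin_cases w
  · show 1 * al n τ v = al n τ v * 1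
    rw [one_mul, mul_one]
  · exact h1 v
  · exact h2 v
  · exact h3 v
  · exact hs v
  · rw [show al n τ (act ((fun i => i) ⟨5, by decide⟩) v) = al n τ (act 1 (act 4 v)) from
      congrArg _ (act5 v)]
    exact comp x1 _ h1
  · rw [show al n τ (act ((fun i => i) ⟨6, by decide⟩) v) = al n τ (act 2 (act 4 v)) from
      congrArg _ (act6 v)]
    exact comp x2 _ h2
  · rw [show al n τ (act ((fun i => i) ⟨7, by decide⟩) v) = al n τ (act 3 (act 4 v)) from
      congrArg _ (act7 v)]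
    exact comp x3 _ h3

theorem al_vz (n : ℕ) (τ : ℤ → ℤ → ℤ → G) : al n τ vz = τ (2 ^ (n - 1)) (2 ^ (n - 1)) (2 ^ (n - 1)) := by
  have h : (((1 : ZMod 2).val : ℕ) : ℤ) = 1 := by decide
  show τ _ _ _ = _
  simp only [vz, h, mul_one]

theorem indep_al (R : _root_.Cfsg.Agent.ONType.Rel.Rel n T τ x1 x2 x3 s) (hn : 1 ≤ n) {a b c : V} (h : IndV a b c) :
    Indep (al n τ a) (al n τ b) (al n τ c) := by
  obtain ⟨h1, h2, h3, h4, h5, h6, h7⟩ := h
  rw [Indep, ← al_add R hn]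
  simp only [ne_eq, al_one R hn, al_inj R hn]
  exact ⟨h1, h2, h3, h4, h5, h6, h7⟩

theorem exists_rep {w : G} (hw : Rel.Rep x1 x2 x3 s w) : ∃ i : Fin 8, w = rep x1 x2 x3 s i := by
  rcases hw with h | h | h | h | h | h | h | h
  · exact ⟨0, h⟩
  · exact ⟨1, h⟩
  · exact ⟨2, h⟩
  · exact ⟨3, h⟩
  · exact ⟨4, h⟩
  · exact ⟨5, h⟩
  · exact ⟨6, h⟩
  · exact ⟨7, h⟩

theorem rep_Rep (i : Fin 8) : Rel.Rep x1 x2 x3 s (rep x1 x2 x3 s i) := by
  unfold Rel.Rep
  (revert i; simp only [rep, _root_.Fin.forall_fin_succ, _root_.true_or, Fin.isValue, _root_.Fin.succ_zero_eq_one, _root_.left_eq_mul, _root_.or_true, _root_.Fin.succ_one_eq_two, Fin.reduceSucc, _root_.right_eq_mul, _root_.mul_eq_left, _root_.mul_eq_right, _root_.mul_left_inj, _root_.IsEmpty.forall_iff, _root_.and_self])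

theorem T_comm (R : _root_.Cfsg.Agent.ONType.Rel.Rel n T τ x1 x2 x3 s) {x y : G} (hx : x ∈ T) (hy : y ∈ T) : x * y = y * x := by
  obtain ⟨a, b, c, rfl⟩ := (R.mem x).1 hx
  obtain ⟨a', b', c', rfl⟩ := (R.mem y).1 hy
  rw [R.mul, R.mul, add_comm a, add_comm b, add_comm c]

theorem mem_normalizer_of [Finite G] {X : Subgroup G} {g : G} (h : ∀ x ∈ X, g * x * g⁻¹ ∈ X) :
    g ∈ normalizer (X : Set G) := by
  rw [Cfsg.Agent.Lib.GoldschmidtFusion.mem_normalizer_iff_map_conj]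
  refine Subgroup.eq_of_le_of_card_ge ?_ (by rw [Cfsg.Agent.Lib.GoldschmidtFusion.card_map_conj])
  rintro _ ⟨x, hx, rfl⟩
  exact h x hx

theorem conj_mem {X : Subgroup G} {g x : G} (hg : g ∈ normalizer (X : Set G)) (hx : x ∈ X) : g * x * g⁻¹ ∈ X :=
  (Subgroup.mem_normalizer_iff.1 hg x).1 hx

end Rel

section Sit

variable {G : Type*} [Group G] {n : ℕ} {S : Sylow 2 G} {T O : Subgroup G} {τ : ℤ → ℤ → ℤ → G}
  {x1 x2 x3 s ξ : G} (H : Sit n S T O τ x1 x2 x3 s ξ)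

include H

theorem hn1 : 1 ≤ n := le_trans (by norm_num) H.hn

theorem T_le_S : T ≤ (S : Subgroup G) := by
  intro t ht
  obtain ⟨a, b, c, rfl⟩ := (H.rel.mem t).1 ht
  exact (H.rel.memS _).2 ⟨a, b, c, 1, Or.inl rfl, (mul_one _).symm⟩

theorem mem_S {g : G} : g ∈ (S : Subgroup G) ↔ ∃ t ∈ T, ∃ w : Fin 8, g = t * rep x1 x2 x3 s w := by
  rw [H.rel.memS]
  constructor
  · rintro ⟨a, b, c, w, hw, rfl⟩
    obtain ⟨i, rfl⟩ := exists_rep hw
    exact ⟨_, (H.rel.mem _).2 ⟨a, b, c, rfl⟩, i, rfl⟩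
  · rintro ⟨t, ht, i, rfl⟩
    obtain ⟨a, b, c, rfl⟩ := (H.rel.mem t).1 ht
    exact ⟨a, b, c, _, rep_Rep i, rfl⟩

theorem rep_mem (w : Fin 8) : rep x1 x2 x3 s w ∈ (S : Subgroup G) :=
  (mem_S H).2 ⟨1, one_mem _, w, (one_mul _).symm⟩

theorem x3_mem : x3 ∈ (S : Subgroup G) := rep_mem H 3

theorem s_mem : s ∈ (S : Subgroup G) := rep_mem H 4

variable [Finite G]

theorem S_le_N : (S : Subgroup G) ≤ normalizer (T : Set G) := by
  have key : ∀ g : G, (∀ a b c, ∃ a' b' c', g * τ a b c = τ a' b' c' * g) → g ∈ normalizer (T : Set G) := by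
    intro g hg
    apply mem_normalizer_of
    intro x hx
    obtain ⟨a, b, c, rfl⟩ := (H.rel.mem x).1 hx
    obtain ⟨a', b', c', e⟩ := hg a b c
    rw [e, mul_inv_cancel_right]
    exact (H.rel.mem _).2 ⟨_, _, _, rfl⟩
  have k1 : x1 ∈ normalizer (T : Set G) := key x1 fun a b c => ⟨_, _, _, H.rel.x1τ a b c⟩
  have k2 : x2 ∈ normalizer (T : Set G) := key x2 fun a b c => ⟨_, _, _, H.rel.x2τ a b c⟩
  have k3 : x3 ∈ normalizer (T : Set G) := key x3 fun a b c => ⟨_, _, _, H.rel.x3τ a b c⟩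
  have ks : s ∈ normalizer (T : Set G) := key s fun a b c => ⟨_, _, _, H.rel.sτ a b c⟩
  intro g hg
  obtain ⟨a, b, c, w, hw, rfl⟩ := (H.rel.memS g).1 hg
  refine mul_mem (le_normalizer ((H.rel.mem _).2 ⟨_, _, _, rfl⟩)) ?_
  rcases hw with rfl | rfl | rfl | rfl | rfl | rfl | rfl | rfl
  · exact one_mem _
  · exact k1
  · exact k2
  · exact k3
  · exact ks
  · exact mul_mem k1 ks
  · exact mul_mem k2 ks
  · exact mul_mem k3 ks

theorem ξ_mem_N : ξ ∈ normalizer (T : Set G) := by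
  apply mem_normalizer_of
  intro x hx
  obtain ⟨a, b, c, rfl⟩ := (H.rel.mem x).1 hx
  rw [H.ξτ, mul_inv_cancel_right]
  exact (H.rel.mem _).2 ⟨_, _, _, rfl⟩

omit [Finite G] in
theorem eq_one_of_odd {u : G} (hu : u ∈ (S : Subgroup G)) (ho : Odd (orderOf u)) : u = 1 := by
  obtain ⟨j, hj⟩ := S.isPGroup' ⟨u, hu⟩
  have h2 : orderOf u ∣ 2 ^ j := orderOf_dvd_of_pow_eq_one (congrArg Subtype.val hj)
  have h3 : orderOf u ∣ Nat.gcd (orderOf u) (2 ^ j) := Nat.dvd_gcd dvd_rfl h2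
  rw [Nat.Coprime.pow_right j (Nat.coprime_two_right.2 ho)] at h3
  exact orderOf_eq_one_iff.1 (Nat.dvd_one.1 h3)

omit [Finite G] in
/-- an element of `N_G(T)` acts on `Ω₁(T)` -/
theorem exists_map {k : G} (hk : k ∈ normalizer (T : Set G)) (v : V) : ∃ u, k * al n τ v * k⁻¹ = al n τ u := by
  apply exists_al H.rel.toRel (hn1 H) (conj_mem hk (al_mem H.rel.toRel v))
  have := al_sq H.rel.toRel (hn1 H) v
  calc k * al n τ v * k⁻¹ * (k * al n τ v * k⁻¹) = k * (al n τ v * al n τ v) * k⁻¹ := by group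
    _ = 1 := by rw [this]; group

omit [Finite G] in
/-- an element of `N_G(T)` which centralises a basis of `Ω₁(T)` is in `T O` -/
theorem faith' {k : G} (hk : k ∈ normalizer (T : Set G)) (h1 : k * al n τ vz = al n τ vz * k)
    (h2 : k * al n τ v3 = al n τ v3 * k) (h3 : k * al n τ v1 = al n τ v1 * k) : ∃ t ∈ T, ∃ o ∈ O, k = t * o := by
  apply H.faith k hk
  intro t ht ht2
  obtain ⟨v, rfl⟩ := exists_al H.rel.toRel (hn1 H) ht ht2
  have key : ∀ u v, k * al n τ u = al n τ u * k → k * al n τ v = al n τ v * k →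
      k * al n τ (u + v) = al n τ (u + v) * k := by
    intro u v hu hv
    rw [al_add H.rel.toRel (hn1 H), ← mul_assoc, hu, mul_assoc, hv, mul_assoc]
  rcases dec_basis v with rfl | rfl | rfl | rfl | rfl | rfl | rfl | rfl
  · rw [(al_one H.rel.toRel (hn1 H) 0).2 rfl, one_mul, mul_one]
  · exact h1
  · exact h2
  · exact h3
  · exact key _ _ h1 h2
  · exact key _ _ h1 h3
  · exact key _ _ h2 h3
  · exact key _ _ h1 (key _ _ h2 h3)

omit [Finite G] in
theorem axin_al (i : Fin 3) (v : V) : ξ ^ (i : ℕ) * al n τ v = al n τ (axin i v) * ξ ^ (i : ℕ) := by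
  have h := ξ_al H.rel.toRel (hn1 H) H.ξτ
  fin_cases i
  · show ξ ^ 0 * _ = _ * ξ ^ 0
    rw [pow_zero, one_mul, mul_one]
    rfl
  · show ξ ^ 1 * _ = _ * ξ ^ 1
    rw [pow_one]
    exact h v
  · show ξ ^ 2 * _ = _ * ξ ^ 2
    rw [pow_two, mul_assoc, h, ← mul_assoc, h, mul_assoc]
    rfl

/-- **(AZ)** the elements of `N_G(T) ∩ C(z)` -/
theorem az {k : G} (hk : k ∈ normalizer (T : Set G))
    (hkz : k * τ (2 ^ (n - 1)) (2 ^ (n - 1)) (2 ^ (n - 1)) = τ (2 ^ (n - 1)) (2 ^ (n - 1)) (2 ^ (n - 1)) * k) :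
    ∃ o ∈ O, ∃ g ∈ (S : Subgroup G), ∃ i : ℕ, i < 3 ∧ k = o * g * ξ ^ i := by
  have R := H.rel.toRel
  have hn := hn1 H
  rw [← al_vz n τ] at hkz
  obtain ⟨p, hp⟩ := exists_map H hk v3
  obtain ⟨q, hq⟩ := exists_map H hk v1
  have hp' : k * al n τ v3 = al n τ p * k := by rw [← hp]; group
  have hq' : k * al n τ v1 = al n τ q * k := by rw [← hq]; group
  have inj : ∀ {u u' v v' : V}, k * al n τ u = al n τ u' * k → k * al n τ v = al n τ v' * k → u' = v' → u = v := by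
    rintro u u' v _ h1 h2 rfl
    rw [← al_inj R hn]
    exact mul_left_cancel (h1.trans h2.symm)
  have h0 : k * al n τ 0 = al n τ 0 * k := by
    rw [(al_one R hn 0).2 rfl, one_mul, mul_one]
  have h3z : k * al n τ (v3 + vz) = al n τ (p + vz) * k := by
    rw [al_add R hn, al_add R hn, ← mul_assoc, hp', mul_assoc, hkz, mul_assoc]
  have hAz : AzH p q := by
    refine ⟨fun h => ?_, fun h => ?_, fun h => ?_, fun h => ?_, fun h => ?_, fun h => ?_⟩
    · exact absurd (inj hp' h0 h) (by decide)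
    · exact absurd (inj hp' hkz h) (by decide)
    · exact absurd (inj hq' h0 h) (by decide)
    · exact absurd (inj hq' hkz h) (by decide)
    · exact absurd (inj hq' hp' h) (by decide)
    · exact absurd (inj hq' h3z h) (by decide)
  obtain ⟨w, i, e3, e1⟩ := dec_az p q hAz
  set! g := rep x1 x2 x3 s w * ξ ^ (i : ℕ) with hg
  have hgal : ∀ v, g * al n τ v = al n τ (act w (axin i v)) * g := by
    intro v
    rw [hg, mul_assoc, axin_al H, ← mul_assoc, rep_al R hn, mul_assoc]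
  have hgN : g ∈ normalizer (T : Set G) := mul_mem (S_le_N H (rep_mem H w)) (pow_mem (ξ_mem_N H) _)
  have key : ∀ u v, k * al n τ u = al n τ v * k → g * al n τ u = al n τ v * g →
      g⁻¹ * k * al n τ u = al n τ u * (g⁻¹ * k) := by
    intro u v h1 h2
    calc g⁻¹ * k * al n τ u = g⁻¹ * (k * al n τ u) := by group
      _ = g⁻¹ * (al n τ v * g) * g⁻¹ * k := by rw [h1]; group
      _ = al n τ u * (g⁻¹ * k) := by rw [← h2]; group
  obtain ⟨t, ht, o, ho, e⟩ := faith' H (mul_mem (inv_mem hgN) hk)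
    (key _ _ hkz (by rw [hgal, act_vz])) (key _ _ hp' (by rw [hgal, e3])) (key _ _ hq' (by rw [hgal, e1]))
  have hO := H.O_norm hgN
  have ht' : g * t * g⁻¹ ∈ T := conj_mem hgN ht
  have ho' : g * o * g⁻¹ ∈ O := conj_mem hO ho
  refine ⟨g * o * g⁻¹, ho', g * t * g⁻¹ * rep x1 x2 x3 s w, mul_mem (T_le_S H ht') (rep_mem H w), i, i.2, ?_⟩
  have h1 := H.O_le _ ho' _ ht'
  calc k = g * (g⁻¹ * k) := by group
    _ = (g * t * g⁻¹) * (g * o * g⁻¹) * g := by rw [e]; group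
    _ = (g * o * g⁻¹) * (g * t * g⁻¹) * g := by rw [h1]
    _ = _ := by rw [hg]; group

omit [Finite G] in
theorem eq_one_of_mem_of_mem {u : G} (hT : u ∈ T) (hO : u ∈ O) : u = 1 :=
  eq_one_of_odd H (T_le_S H hT) (H.O_odd u hO)

/-- the involutions in `T x₃` -/
theorem conj_Tx3 {t : G} (ht : t ∈ T) (h2 : t * x3 * (t * x3) = 1) :
    ∃ m ∈ normalizer (T : Set G), m * (t * x3) * m⁻¹ = x3 := by
  have R := H.rel.toRel
  have h22 : (2 : ℤ) ∣ 2 ^ n := dvd_pow_self 2 (by have := hn1 H; omega)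
  have hx3' : x3⁻¹ = x3 := inv_eq_of_mul_eq_one_left R.x3x3
  have hs' : s⁻¹ = s := inv_eq_of_mul_eq_one_left R.ss
  have sq : ∀ a b c : ℤ, τ a b c * x3 * (τ a b c * x3) = 1 → (2 : ℤ) ^ n ∣ b + c := by
    intro a b c h
    have h1 : τ a b c * x3 * (τ a b c * x3) = τ (a + (-a - b - c)) (b + c) (c + b) := by
      calc τ a b c * x3 * (τ a b c * x3) = τ a b c * (x3 * τ a b c) * x3 := by group
        _ = τ a b c * τ (-a - b - c) c b * (x3 * x3) := by rw [R.x3τ]; group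
        _ = _ := by rw [R.x3x3, R.mul, mul_one]
    rw [h1, R.one] at h
    exact h.2.1
  -- the case `a ≡ b`
  have even : ∀ a b c : ℤ, (2 : ℤ) ^ n ∣ b + c → (2 : ℤ) ∣ a - b →
      ∃ m ∈ normalizer (T : Set G), m * (τ a b c * x3) * m⁻¹ = x3 := by
    rintro a b c hbc ⟨p, hp⟩
    refine ⟨τ (-p) (-b) 0, le_normalizer ((R.mem _).2 ⟨_, _, _, rfl⟩), ?_⟩
    rw [inv R]
    have h1 : τ (-p) (-b) 0 * (τ a b c * x3) * τ (- -p) (- -b) (-0) =
        τ (-p + a + (- -p * -1 - - -b - -0)) (-b + b + -0) (0 + c + - -b) * x3 := by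
      calc τ (-p) (-b) 0 * (τ a b c * x3) * τ (- -p) (- -b) (-0) =
          τ (-p) (-b) 0 * τ a b c * (x3 * τ (- -p) (- -b) (-0)) := by group
        _ = τ (-p) (-b) 0 * τ a b c * τ (-(- -p) - - -b - -0) (-0) (- -b) * x3 := by rw [R.x3τ]; group
        _ = _ := by rw [R.mul, R.mul]; congr 2; ring
    rw [h1]
    have h3 : τ (-p + a + (- -p * -1 - - -b - -0)) (-b + b + -0) (0 + c + - -b) = 1 := by
      rw [R.one]
      refine ⟨⟨0, by linear_combination hp⟩, ⟨0, by ring⟩, ?_⟩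
      have : 0 + c + - -b = b + c := by ring
      rw [this]; exact hbc
    rw [h3, one_mul]
  obtain ⟨a, b, c, rfl⟩ := (R.mem t).1 ht
  have hbc := sq a b c h2
  by_cases hab : (2 : ℤ) ∣ a - b
  · exact even a b c hbc hab
  · have h4 : (2 : ℤ) ∣ b + c := h22.trans hbc
    obtain ⟨m, hm, e⟩ := even (1 - a) (-c) (-b) (by
      have : -c + -b = -(b + c) := by ring
      rw [this]; exact (dvd_neg).2 hbc) (by omega)
    refine ⟨m * s, mul_mem hm (S_le_N H (s_mem H)), ?_⟩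
    have h5 : s * (τ a b c * x3) * s⁻¹ = τ (1 - a) (-c) (-b) * x3 := by
      calc s * (τ a b c * x3) * s⁻¹ = s * τ a b c * (x3 * s⁻¹) := by group
        _ = τ (-a) (-c) (-b) * (s * x3) * s⁻¹ := by rw [R.sτ]; group
        _ = τ (-a) (-c) (-b) * τ 1 0 0 * x3 * (s * s⁻¹) := by rw [R.sx3]; group
        _ = _ := by rw [R.mul, mul_inv_cancel, mul_one]; congr 2 <;> ring
    calc m * s * (τ a b c * x3) * (m * s)⁻¹ = m * (s * (τ a b c * x3) * s⁻¹) * m⁻¹ := by group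
      _ = x3 := by rw [h5, e]

/-- **(INV)** every involution of `S ∖ T` is conjugate to `x₃` in `N_G(T)` -/
theorem inv_conj {y : G} (hy : y ∈ (S : Subgroup G)) (hyT : y ∉ T) (h2 : y * y = 1) :
    ∃ m ∈ normalizer (T : Set G), m * y * m⁻¹ = x3 := by
  have R := H.rel.toRel
  have hn := hn1 H
  obtain ⟨t0, ht0, w, rfl⟩ := (mem_S H).1 hy
  have hw0 : w ≠ 0 := by
    rintro rfl
    exact hyT (by simpa [rep] using ht0)
  have hyal : ∀ v, t0 * rep x1 x2 x3 s w * al n τ v = al n τ (act w v) * (t0 * rep x1 x2 x3 s w) := by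
    intro v
    rw [mul_assoc, rep_al R hn, ← mul_assoc, T_comm R ht0 (al_mem R _), mul_assoc]
  set y := t0 * rep x1 x2 x3 s w with hydef
  have hinv : ∀ v, act w (act w v) = v := by
    intro v
    rw [← al_inj R hn]
    have h1 : y * y * al n τ v = al n τ (act w (act w v)) * (y * y) := by
      rw [mul_assoc, hyal, ← mul_assoc, hyal, mul_assoc]
    rw [h2, one_mul, mul_one] at h1
    exact h1.symm
  obtain ⟨a, b, c, hI, ha, hb, hc⟩ := dec_inv w hw0 hinv
  have hI0 : IndV vz v3 v1 := by decide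
  obtain ⟨m, hm, ea, eb, ec⟩ := H.full (al n τ a) (al n τ b) (al n τ c) (al n τ vz) (al n τ v3) (al n τ v1)
    (al_mem R _) (al_sq R hn _) (al_mem R _) (al_sq R hn _) (al_mem R _) (al_sq R hn _)
    (al_mem R _) (al_sq R hn _) (al_mem R _) (al_sq R hn _) (al_mem R _) (al_sq R hn _)
    (indep_al R hn hI) (indep_al R hn hI0)
  set! y' := m * y * m⁻¹ with hy'
  have hyN : y ∈ normalizer (T : Set G) := S_le_N H hy
  have hy'N : y' ∈ normalizer (T : Set G) := mul_mem (mul_mem hm hyN) (inv_mem hm)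
  have hx3N : x3 ∈ normalizer (T : Set G) := S_le_N H (x3_mem H)
  have ey : ∀ u u' v v' : V, m * al n τ u * m⁻¹ = al n τ u' → act w u = v → m * al n τ v * m⁻¹ = al n τ v' →
      y' * al n τ u' = al n τ v' * y' := by
    intro u u' v v' h1 h3 h4
    rw [← h1, ← h4]
    calc y' * (m * al n τ u * m⁻¹) = m * (y * al n τ u) * m⁻¹ := by rw [hy']; group
      _ = m * al n τ v * m⁻¹ * y' := by rw [hyal, h3, hy']; group
  have e1 := ey a vz a vz ea ha ea
  have e2 := ey b v3 b v3 eb hb eb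
  have e3 := ey c v1 (a + c) (vz + v1) ec hc (by
    rw [al_add R hn, al_add R hn, ← ea, ← ec]; group)
  have f : ∀ v, x3 * al n τ v = al n τ (act 3 v) * x3 := rep_al R hn 3
  obtain ⟨t, ht, o, ho, e⟩ := faith' H (mul_mem hy'N hx3N)
    (by rw [mul_assoc, f, show act 3 vz = vz by decide, ← mul_assoc, e1, mul_assoc])
    (by rw [mul_assoc, f, show act 3 v3 = v3 by decide, ← mul_assoc, e2, mul_assoc])
    (by rw [mul_assoc, f, show act 3 v1 = vz + v1 by decide, al_add R hn, ← mul_assoc, ← mul_assoc, e1,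
          mul_assoc (al n τ vz), e3, ← mul_assoc, ← al_add R hn, show vz + (vz + v1) = v1 by decide, mul_assoc])
  have e' : y' = t * o * x3 := by rw [← e, mul_assoc, R.x3x3, mul_one]
  have hx3' : x3⁻¹ = x3 := inv_eq_of_mul_eq_one_left R.x3x3
  have hy'2 : y' * y' = 1 := by
    calc y' * y' = m * (y * y) * m⁻¹ := by rw [hy']; group
      _ = 1 := by rw [h2]; group
  have ht' : x3 * t * x3⁻¹ ∈ T := conj_mem hx3N ht
  have ho' : x3 * o * x3⁻¹ ∈ O := conj_mem (H.O_norm hx3N) ho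
  have hoT := H.O_le o ho
  have key : (t * (x3 * t * x3⁻¹)) * (o * (x3 * o * x3⁻¹)) = 1 := by
    have h3 := hoT _ ht'
    calc (t * (x3 * t * x3⁻¹)) * (o * (x3 * o * x3⁻¹)) = t * ((x3 * t * x3⁻¹) * o) * (x3 * o * x3⁻¹) := by group
      _ = t * o * x3 * (t * o * x3⁻¹) := by rw [← h3]; group
      _ = y' * y' := by rw [hx3', e']
      _ = 1 := hy'2
  have hT1 : t * (x3 * t * x3⁻¹) ∈ T := mul_mem ht ht'
  have hO1 : o * (x3 * o * x3⁻¹) ∈ O := mul_mem ho ho'
  have hO2 : o * (x3 * o * x3⁻¹) = 1 := by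
    apply eq_one_of_mem_of_mem H _ hO1
    rw [← inv_eq_of_mul_eq_one_right key]
    exact inv_mem hT1
  obtain ⟨r, hr⟩ := H.O_odd o ho
  set! u := o ^ (r + 1) with hu
  have huu : u * u = o := by
    rw [hu, ← pow_add]
    have : r + 1 + (r + 1) = orderOf o + 1 := by omega
    rw [this, pow_succ, pow_orderOf_eq_one, one_mul]
  have hu3 : x3 * u * x3⁻¹ = u⁻¹ := by
    have h3 : x3 * o * x3⁻¹ = o⁻¹ := (inv_eq_of_mul_eq_one_right hO2).symm
    rw [hu, ← conj_pow, h3, inv_pow]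
  have huO : u ∈ O := pow_mem ho _
  have huT := H.O_le u huO t ht
  have huN : u ∈ normalizer (T : Set G) := by
    apply mem_normalizer_of
    intro x hx
    rw [H.O_le u huO x hx, mul_inv_cancel_right]
    exact hx
  have h6 : u⁻¹ * y' * u = t * x3 := by
    have h7 : x3 * u = u⁻¹ * x3 := by rw [← hu3]; group
    have h8 : u⁻¹ * t = t * u⁻¹ := by
      calc u⁻¹ * t = u⁻¹ * (t * u) * u⁻¹ := by group
        _ = t * u⁻¹ := by rw [← huT]; group
    calc u⁻¹ * y' * u = u⁻¹ * t * o * (x3 * u) := by rw [e']; group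
      _ = t * (u⁻¹ * (u * u) * u⁻¹) * x3 := by rw [h7, h8, huu]; group
      _ = t * x3 := by group
  have h9 : t * x3 * (t * x3) = 1 := by
    rw [← h6]
    calc u⁻¹ * y' * u * (u⁻¹ * y' * u) = u⁻¹ * (y' * y') * u := by group
      _ = 1 := by rw [hy'2]; group
  obtain ⟨m', hm', e''⟩ := conj_Tx3 H ht h9
  refine ⟨m' * u⁻¹ * m, mul_mem (mul_mem hm' (inv_mem huN)) hm, ?_⟩
  calc m' * u⁻¹ * m * y * (m' * u⁻¹ * m)⁻¹ = m' * (u⁻¹ * y' * u) * m'⁻¹ := by rw [hy']; group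
    _ = x3 := by rw [h6, e'']

omit [Finite G] in
/-- **(TR)** `N_G(T)` is transitive on the involutions of `T` -/
theorem trans {a b : G} (ha : a ∈ T) (ha2 : a * a = 1) (ha1 : a ≠ 1) (hb : b ∈ T) (hb2 : b * b = 1) (hb1 : b ≠ 1) :
    ∃ m ∈ normalizer (T : Set G), m * a * m⁻¹ = b := by
  have R := H.rel.toRel
  have hn := hn1 H
  obtain ⟨u, rfl⟩ := exists_al R hn ha ha2
  obtain ⟨v, rfl⟩ := exists_al R hn hb hb2
  obtain ⟨u2, u3, hu⟩ := dec_ind u (fun h => ha1 ((al_one R hn u).2 h))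
  obtain ⟨w2, w3, hv⟩ := dec_ind v (fun h => hb1 ((al_one R hn v).2 h))
  obtain ⟨m, hm, e, -, -⟩ := H.full (al n τ u) (al n τ u2) (al n τ u3) (al n τ v) (al n τ w2) (al n τ w3)
    (al_mem R _) (al_sq R hn _) (al_mem R _) (al_sq R hn _) (al_mem R _) (al_sq R hn _)
    (al_mem R _) (al_sq R hn _) (al_mem R _) (al_sq R hn _) (al_mem R _) (al_sq R hn _)
    (indep_al R hn hu) (indep_al R hn hv)
  exact ⟨m, hm, e⟩

/-- **(WT)** `T` is weakly closed in `S` -/
theorem weak (hF4 : ∀ X : Subgroup G, X ≤ (S : Subgroup G) → (∀ x ∈ X, ∀ y ∈ X, x * y = y * x) →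
      Nat.card X = Nat.card T → X = T) {g : G} (hg : ∀ y ∈ T, g * y * g⁻¹ ∈ (S : Subgroup G)) :
    g ∈ normalizer (T : Set G) := by
  rw [Cfsg.Agent.Lib.GoldschmidtFusion.mem_normalizer_iff_map_conj]
  apply hF4
  · rintro _ ⟨x, hx, rfl⟩
    exact hg x hx
  · rintro _ ⟨x, hx, rfl⟩ _ ⟨y, hy, rfl⟩
    rw [← map_mul, ← map_mul, T_comm H.rel.toRel hx hy]
  · exact Cfsg.Agent.Lib.GoldschmidtFusion.card_map_conj _ _

theorem weak' (hF4 : ∀ X : Subgroup G, X ≤ (S : Subgroup G) → (∀ x ∈ X, ∀ y ∈ X, x * y = y * x) →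
      Nat.card X = Nat.card T → X = T) {P : Subgroup G} (hP : IsPGroup 2 P) {g h : G}
    (hg : ∀ y ∈ T, g * y * g⁻¹ ∈ P) (hh : ∀ y ∈ T, h * y * h⁻¹ ∈ P) :
    h⁻¹ * g ∈ normalizer (T : Set G) := by
  obtain ⟨P', hP'⟩ := hP.exists_le_sylow
  obtain ⟨k, hk⟩ := MulAction.exists_smul_eq G P' S
  have hkS : ∀ x ∈ P, k * x * k⁻¹ ∈ (S : Subgroup G) := by
    intro x hx
    rw [← hk]
    exact ⟨x, hP' hx, rfl⟩
  have h1 : k * g ∈ normalizer (T : Set G) := by
    apply weak H hF4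
    intro y hy
    have := hkS _ (hg y hy)
    have e : k * (g * y * g⁻¹) * k⁻¹ = k * g * y * (k * g)⁻¹ := by group
    rwa [e] at this
  have h2 : k * h ∈ normalizer (T : Set G) := by
    apply weak H hF4
    intro y hy
    have := hkS _ (hh y hy)
    have e : k * (h * y * h⁻¹) * k⁻¹ = k * h * y * (k * h)⁻¹ := by group
    rwa [e] at this
  have h3 := mul_mem (inv_mem h2) h1
  have e : (k * h)⁻¹ * (k * g) = h⁻¹ * g := by group
  rwa [e] at h3

/-- **(TC)** `N_G(T)` controls fusion in `T` -/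
theorem control (hF4 : ∀ X : Subgroup G, X ≤ (S : Subgroup G) → (∀ x ∈ X, ∀ y ∈ X, x * y = y * x) →
      Nat.card X = Nat.card T → X = T) {X : Set G} (hX : ∀ x ∈ X, x ∈ T) {g : G} (hg : ∀ x ∈ X, g * x * g⁻¹ ∈ T) :
    ∃ m ∈ normalizer (T : Set G), ∀ x ∈ X, m * x * m⁻¹ = g * x * g⁻¹ := by
  have R := H.rel.toRel
  set! C := centralizer ((fun x => g * x * g⁻¹) '' X) with hC
  have hTC : T ≤ C := by
    intro t ht
    rw [hC, mem_centralizer_iff]
    rintro _ ⟨x, hx, rfl⟩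
    exact T_comm R (hg x hx) ht
  have hTgC : T.map (MulAut.conj g).toMonoidHom ≤ C := by
    rintro _ ⟨t, ht, rfl⟩
    rw [hC, mem_centralizer_iff]
    rintro _ ⟨x, hx, rfl⟩
    show g * x * g⁻¹ * (g * t * g⁻¹) = g * t * g⁻¹ * (g * x * g⁻¹)
    have := T_comm R (hX x hx) ht
    calc g * x * g⁻¹ * (g * t * g⁻¹) = g * (x * t) * g⁻¹ := by group
      _ = g * t * g⁻¹ * (g * x * g⁻¹) := by rw [this]; group
  have hT2 : IsPGroup 2 T := S.isPGroup'.to_le (T_le_S H)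
  obtain ⟨P, hTP, hPC, hP, hidx⟩ := Cfsg.Agent.Lib.GoldschmidtFusion.exists_sylow_in (p := 2) hTC hT2
  obtain ⟨c, hc, hle⟩ := Cfsg.Agent.Lib.GoldschmidtFusion.exists_conj_le_in (p := 2) hP hidx hTgC (hT2.map _)
  have h1 : (1 : G)⁻¹ * (c * g) ∈ normalizer (T : Set G) := by
    apply weak' H hF4 hP
    · intro y hy
      have := hle ⟨_, ⟨y, hy, rfl⟩, rfl⟩
      have e : (MulAut.conj c).toMonoidHom ((MulAut.conj g).toMonoidHom y) = c * g * y * (c * g)⁻¹ := by
        show c * (g * y * g⁻¹) * c⁻¹ = _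
        group
      rwa [e] at this
    · intro y hy
      rw [one_mul, inv_one, mul_one]
      exact hTP hy
  rw [inv_one, one_mul] at h1
  refine ⟨c * g, h1, fun x hx => ?_⟩
  have h2 : g * x * g⁻¹ * c = c * (g * x * g⁻¹) := mem_centralizer_iff.1 hc _ ⟨x, hx, rfl⟩
  calc c * g * x * (c * g)⁻¹ = c * (g * x * g⁻¹) * c⁻¹ := by group
    _ = g * x * g⁻¹ := by rw [← h2]; group

end Sit

end Cfsg.Agent.ONType.ControlB
end

-- part: ONType/CzSit
section
/-!
# From `Sit` and `Conj` (`n = 2`) to `GIn`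
-/

set_option autoImplicit false

namespace Cfsg.Agent.ONType.Cz

open Subgroup Cfsg.Agent.ONType.Sit

variable {G : Type*} [Group G] {T S : Subgroup G} {τ : ℤ → ℤ → ℤ → G} {x1 x2 x3 s : G}

theorem rel_of_relS (R : Cfsg.Agent.ONType.Rel.RelS 2 T S τ x1 x2 x3 s) : Rel 4 T S τ x1 x2 x3 s where
  mul := R.mul
  one := fun a b c => by
    rw [R.one]
    norm_num only []
  mem := R.mem
  x1_sq := R.x1x1
  x2_sq := R.x2x2
  x3_sq := R.x3x3
  x12 := R.x12
  x23 := R.x23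
  x31 := R.x31
  x1_t := R.x1τ
  x2_t := R.x2τ
  x3_t := R.x3τ
  s_sq := R.ss
  s_t := R.sτ
  s_x3 := R.sx3
  s_x1 := R.sx1
  s_x2 := R.sx2
  S_mem := fun g => by
    rw [R.memS]
    rfl

theorem gIn_of_sit [Finite G] {S : Sylow 2 G} {O : Subgroup G} {ξ h : G} (H : Sit 2 S T O τ x1 x2 x3 s ξ)
    (C : Conj 2 S T τ x3 h) : GIn T S τ x1 x2 x3 s ξ h := by
  have R := rel_of_relS H.rel
  have hF4 : ∀ X : Subgroup G, X ≤ (S : Subgroup G) → (∀ x ∈ X, ∀ y ∈ X, x * y = y * x) →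
      Nat.card X = Nat.card T → X = T := by
    intro X hX hc hcard
    exact Facts.eq_T_of_comm le_rfl H.rel hX hc (hcard.trans (Facts.card_T H.rel.toRel))
  have e1 : (2 : ℤ) ^ (2 - 1) = 2 := by norm_num
  have e2 : (2 : ℤ) ^ (2 - 2) = 1 := by norm_num
  have hz := C.hz
  have hx := C.hx
  have hv := C.hv
  rw [e1] at hz hx
  rw [e2, R.τ_inv] at hv
  exact
  { rel := R
    xi :=
    { ct := H.ξτ
      c3 := by rw [H.ξx3, mul_inv_cancel_right]
      c1 := by rw [H.ξx1, mul_inv_cancel_right]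
      c2 := by rw [H.ξx2, mul_inv_cancel_right] }
    xio := H.oddξ
    hx := hx
    hz := hz
    hv := hv
    wt := fun g hg y hy => (mem_normalizer_iff.1 (ControlB.weak H hF4 hg) y).1 hy
    tc := by
      intro g hg
      obtain ⟨m, hm, e⟩ := ControlB.control H hF4 (X := {τ 1 1 1}) (g := g)
        (by rintro x rfl; exact R.τ_mem _ _ _) (by rintro x rfl; exact hg)
      exact ⟨m, hm, e _ rfl⟩
    az := by
      intro k hk hkz
      obtain ⟨o, ho, g, hg, i, -, e⟩ := ControlB.az H hk (by rw [e1]; exact hkz)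
      exact ⟨o, g, i, H.O_le o ho, hg, e⟩
    inv := fun y hy hyT h2 => ControlB.inv_conj H hy hyT h2
    tr := by
      intro a ha ha2 ha1
      exact ControlB.trans H ha ha2 ha1 (R.τ_mem 2 2 2) (by rw [R.mul, R.one]; omega) (by rw [Ne, R.one]; omega) }

end Cfsg.Agent.ONType.Cz
end

private theorem dce_64106ac37ee9 : _root_.True := by
  try have : _root_.True := by simp only [_root_.Cfsg.Agent.ONType.ControlB.vz.eq_1]
  try have : _root_.True := by simp only [_root_.Cfsg.Agent.ONType.ControlB.rep.eq_4]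
  try have : _root_.True := by simp only [_root_.Cfsg.Agent.ONType.ControlB.rep.eq_8]
  try have : _root_.True := by simp only [_root_.Cfsg.Agent.ONType.Span.Indep.eq_1]
  try have : _root_.True := by simp only [_root_.Cfsg.Agent.ONType.ControlB.rep.eq_1]
  try have : _root_.True := by simp only [_root_.Cfsg.Agent.ONType.ControlB.al.eq_1]
  try have : _root_.True := by simp only [_root_.Cfsg.Agent.ONType.ControlB.rep.eq_2]
  try have : _root_.True := by simp only [_root_.Cfsg.Agent.ONType.ControlB.rep.eq_3]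
  try have : _root_.True := by simp only [_root_.Cfsg.Agent.ONType.ControlB.rep.eq_6]
  try have : _root_.True := by simp only [_root_.Cfsg.Agent.ONType.ControlB.rep.eq_5]
  try have : _root_.True := by simp only [_root_.Cfsg.Agent.ONType.ControlB.rep.eq_7]
  try have : _root_.True := by simp only [_root_.Cfsg.Agent.ONType.ControlB.v3.eq_1]
  exact _root_.True.intro
end
end
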